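import Groth.Prelude.Def_CohCx
import Mathlib.Algebra.Homology.QuasiIso
import Mathlib.CategoryTheory.Sites.LocallyBijective

/-!
# Homology of sections versus homology sheaves

For a covering class `B` of objects of a small site and a morphism of complexes of abelian sheaves `φ : K ⟶ L`:
if `H^m(K(U)) → H^m(L(U))` is an isomorphism for all `U ∈ B`, then `H^m(K) → H^m(L)` is an isomorphism.
-/

set_option autoImplicit false

universe u

open CategoryTheory CategoryTheory.Limits Opposite

namespace Groth.Agent.CohtopB.SectHomology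

variable {C : Type u} [SmallCategory C]

/-- A class of objects `B` of a site is covering if every object has a covering family by members of `B`. -/
abbrev IsCovering (J : GrothendieckTopology C) (B : Set C) : Prop :=
  ∀ U : C, ∃ (ι : Type u) (Y : ι → C) (f : ∀ i, Y i ⟶ U), Sieve.ofArrows Y f ∈ J U ∧ ∀ i, Y i ∈ B

/-- A morphism of presheaves of abelian groups that is bijective on the members of a covering class is in `J.W`
(becomes an isomorphism after sheafification). -/
lemma W_of_bijective {J : GrothendieckTopology C} {B : Set C} (hB : IsCovering J B)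
    {P Q : Cᵒᵖ ⥤ AddCommGrpCat.{u}} (φ : P ⟶ Q)
    (h : ∀ U ∈ B, Function.Bijective (φ.app (op U))) : J.W φ := by
  rw [J.W_iff_isLocallyBijective]
  constructor
  · constructor
    intro X x y hxy
    obtain ⟨ι, Y, f, hf, hY⟩ := hB X.unop
    refine J.superset_covering ?_ hf
    rw [Sieve.ofArrows, Sieve.generate_le_iff, Presieve.ofArrows_le_iff]
    intro i
    change P.map (f i).op x = P.map (f i).op y
    apply (h (Y i) (hY i)).1
    have e1 := NatTrans.naturality_apply φ (f i).op x
    have e2 := NatTrans.naturality_apply φ (f i).op y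
    rw [e1, e2, hxy]
  · constructor
    intro U s
    obtain ⟨ι, Y, f, hf, hY⟩ := hB U
    refine J.superset_covering ?_ hf
    rw [Sieve.ofArrows, Sieve.generate_le_iff, Presieve.ofArrows_le_iff]
    intro i
    obtain ⟨t, ht⟩ := (h (Y i) (hY i)).2 (Q.map (f i).op s)
    exact ⟨t, ht⟩

/-- Version for presheaves with values in `AddCommGrpCat`: isomorphic on the members of `B`. -/
lemma W_of_isIso {J : GrothendieckTopology C} {B : Set C} (hB : IsCovering J B)
    {P Q : Cᵒᵖ ⥤ AddCommGrpCat.{u}} (φ : P ⟶ Q)
    (h : ∀ U ∈ B, IsIso (φ.app (op U))) : J.W φ :=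
  W_of_bijective hB φ fun U hU => by
    have := h U hU
    exact ConcreteCategory.bijective_of_isIso (φ.app (op U))

section functor

variable {A A' : Type*} [Category* A] [Category* A'] [Abelian A] [Abelian A']

omit [Abelian A] in
lemma isIso_iff_of_fac {X Y X' Y' : A} {a : X ⟶ Y} {b : X' ⟶ Y'} (e₁ : X ≅ X') (e₂ : Y ≅ Y')
    (h : a ≫ e₂.hom = e₁.hom ≫ b) : IsIso a ↔ IsIso b := by
  constructor
  · intro _
    have : b = e₁.inv ≫ a ≫ e₂.hom := by simp [h]
    rw [this]; infer_instance
  · intro _
    have : a = e₁.hom ≫ b ≫ e₂.inv := by simp [← reassoc_of% h]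
    rw [this]; infer_instance

/-- For a homology-preserving functor, `F (H^m(ψ))` is an isomorphism iff `H^m(F ψ)` is. -/
lemma isIso_map_homologyMap_iff (F : A ⥤ A') [F.PreservesZeroMorphisms] [F.PreservesHomology]
    {K L : CochainComplex A ℤ} (ψ : K ⟶ L) (m : ℤ) :
    IsIso (HomologicalComplex.homologyMap ((F.mapHomologicalComplex _).map ψ) m) ↔
      IsIso (F.map (HomologicalComplex.homologyMap ψ m)) :=
  isIso_iff_of_fac ((K.sc m).mapHomologyIso F) ((L.sc m).mapHomologyIso F)
    (ShortComplex.mapHomologyIso_hom_naturality (F := F)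
      ((HomologicalComplex.shortComplexFunctor A _ m).map ψ))

end functor

section sheaf

variable (J : GrothendieckTopology C)

instance : (sheafToPresheaf J AddCommGrpCat.{u}).Additive where

/-- `a ∘ i ≅ 𝟭` for the sheafification. -/
noncomputable def sheafifyIso :
    sheafToPresheaf J AddCommGrpCat.{u} ⋙ presheafToSheaf J AddCommGrpCat.{u} ≅ 𝟭 _ :=
  asIso (sheafificationAdjunction J AddCommGrpCat.{u}).counit

instance : (sheafToPresheaf J AddCommGrpCat.{u} ⋙ presheafToSheaf J AddCommGrpCat.{u}).IsEquivalence :=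
  Functor.isEquivalence_of_iso (sheafifyIso J).symm

/-- The homology of the underlying complex of presheaves. -/
noncomputable abbrev preHomology (K : CochainComplex (Sheaf J AddCommGrpCat.{u}) ℤ) (m : ℤ) :
    Cᵒᵖ ⥤ AddCommGrpCat.{u} :=
  (((sheafToPresheaf J AddCommGrpCat.{u}).mapHomologicalComplex _).obj K).homology m

/-- The map induced on the homology of the underlying complexes of presheaves. -/
noncomputable abbrev preHomologyMap {K L : CochainComplex (Sheaf J AddCommGrpCat.{u}) ℤ} (φ : K ⟶ L) (m : ℤ) :
    preHomology J K m ⟶ preHomology J L m :=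
  HomologicalComplex.homologyMap (((sheafToPresheaf J AddCommGrpCat.{u}).mapHomologicalComplex _).map φ) m

/-- `H^m(φ)` is an isomorphism of sheaves iff the map of presheaves `U ↦ H^m(K(U)) → H^m(L(U))` is in `J.W`. -/
theorem isIso_homologyMap_iff_W {K L : CochainComplex (Sheaf J AddCommGrpCat.{u}) ℤ} (φ : K ⟶ L) (m : ℤ) :
    IsIso (HomologicalComplex.homologyMap φ m) ↔ J.W (preHomologyMap J φ m) := by
  have e1 : IsIso (HomologicalComplex.homologyMap φ m) ↔
      IsIso ((sheafToPresheaf J AddCommGrpCat.{u} ⋙ presheafToSheaf J AddCommGrpCat.{u}).map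
        (HomologicalComplex.homologyMap φ m)) :=
    (isIso_iff_of_reflects_iso _ _).symm
  rw [e1, ← isIso_map_homologyMap_iff, J.W_iff, ← isIso_map_homologyMap_iff]
  rfl

/-- The homology of sections is the value of the homology presheaf; naturally. -/
theorem isIso_preHomologyMap_app_iff {K L : CochainComplex (Sheaf J AddCommGrpCat.{u}) ℤ} (φ : K ⟶ L) (m : ℤ)
    (U : C) : IsIso (HomologicalComplex.homologyMap ((CohCx.sectCx J U).map φ) m) ↔
      IsIso ((preHomologyMap J φ m).app (op U)) :=
  isIso_map_homologyMap_iff ((evaluation Cᵒᵖ AddCommGrpCat.{u}).obj (op U))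
    (((sheafToPresheaf J AddCommGrpCat.{u}).mapHomologicalComplex _).map φ) m

/-- If `H^m(K(U)) → H^m(L(U))` is an isomorphism for all `U` in a covering class then `H^m(K) → H^m(L)` is an
isomorphism of sheaves. -/
theorem isIso_homologyMap_of_sections {B : Set C} (hB : IsCovering J B)
    {K L : CochainComplex (Sheaf J AddCommGrpCat.{u}) ℤ} (φ : K ⟶ L) (m : ℤ)
    (h : ∀ U ∈ B, IsIso (HomologicalComplex.homologyMap ((CohCx.sectCx J U).map φ) m)) :
    IsIso (HomologicalComplex.homologyMap φ m) := by
  rw [isIso_homologyMap_iff_W]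
  exact W_of_isIso hB _ fun U hU => (isIso_preHomologyMap_app_iff J φ m U).1 (h U hU)

end sheaf

end Groth.Agent.CohtopB.SectHomology
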