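import Groth.Agent.CohtopB.OpSeqHom
import Groth.Agent.CohtopB.SectHomology
import Groth.Agent.CohtopB.FreeSheafHom
import Groth.Agent.CohtopA.DimShift

/-!
# Families of sheaves acyclic on a covering class: products and inverse limits

`Acyc B F` : `H^(p+1)(U, F) = 0` for `U ∈ B`.  Products of `B`-acyclic sheaves are `B`-acyclic; the limit of an
inverse system of `B`-acyclic sheaves whose sections over `U ∈ B` have vanishing `R¹lim` is `B`-acyclic.
-/

set_option autoImplicit false

universe u v w

open CategoryTheory CategoryTheory.Limits Opposite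

namespace Groth.Agent.CohtopB.AcycFamily

open SectHomology FreeSheafHom OpSeqHom
open Groth.Agent.CohtopA.DimShift

section abelian

variable {A : Type u} [Category.{v} A] [Abelian A]

/-- The product of a family of short complexes. -/
noncomputable abbrev prodSC {ι : Type w} [HasProductsOfShape ι A] (S : ι → ShortComplex A) : ShortComplex A :=
  ShortComplex.mk (Limits.Pi.map fun i => (S i).f) (Limits.Pi.map fun i => (S i).g) (by
    apply Limits.Pi.hom_ext
    intro i
    simp)

/-- The product of short exact sequences is left exact. -/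
lemma prodSC_exact {ι : Type w} [HasProductsOfShape ι A] (S : ι → ShortComplex A)
    (hS : ∀ i, (S i).ShortExact) : (prodSC S).Exact := by
  have : ∀ i, Mono (S i).f := fun i => (hS i).mono_f
  refine ShortComplex.exact_of_f_is_kernel _ (KernelFork.IsLimit.ofι' _ _ (fun {Z} k hk =>
    ⟨Pi.lift fun i => (hS i).exact.lift (k ≫ Pi.π _ i) ?_, ?_⟩))
  · have := congrArg (· ≫ Pi.π _ i) hk
    simpa using this
  · apply Limits.Pi.hom_ext
    intro i
    simp

lemma mono_piMap {ι : Type w} [HasProductsOfShape ι A] {F G : ι → A} (f : ∀ i, F i ⟶ G i) [∀ i, Mono (f i)] :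
    Mono (Limits.Pi.map f) := inferInstance

end abelian

variable {C : Type u} [SmallCategory C] {J : GrothendieckTopology C}

/-- Acyclicity on a class of objects, in terms of `Ext` out of free sheaves. -/
def Acyc (B : Set C) (F : Sheaf J AddCommGrpCat.{u}) : Prop :=
  ∀ U ∈ B, ∀ (p : ℕ) (x : Abelian.Ext (CohCx.freeSheaf J U) F (p + 1)), x = 0

lemma acyc_iff (B : Set C) (F : Sheaf J AddCommGrpCat.{u}) :
    Acyc B F ↔ ∀ U ∈ B, ∀ p : ℕ, Subsingleton (CohSite.HU F (p + 1) U) := by
  have key : ∀ (U : C) (p : ℕ), (∀ x : Abelian.Ext (CohCx.freeSheaf J U) F (p + 1), x = 0) ↔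
      Subsingleton (Abelian.Ext (CohCx.freeSheaf J U) F (p + 1)) := fun U p =>
    ⟨fun h => subsingleton_of_forall_eq 0 h, fun h x => Subsingleton.elim x 0⟩
  exact forall_congr' fun U => forall_congr' fun _ => forall_congr' fun p => key U p

/-- A morphism of abelian sheaves through which all maps from the free sheaves on members of a covering class lift
is locally surjective. -/
lemma isLocSurj_of_lift {B : Set C} (hB : IsCovering J B) {F G : Sheaf J AddCommGrpCat.{u}} (f : F ⟶ G)
    (h : ∀ U ∈ B, ∀ s : CohCx.freeSheaf J U ⟶ G, ∃ t : CohCx.freeSheaf J U ⟶ F, t ≫ f = s) :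
    Presheaf.IsLocallySurjective J f.hom := by
  constructor
  intro U s
  obtain ⟨ι, Y, g, hg, hY⟩ := hB U
  refine J.superset_covering ?_ hg
  rw [Sieve.ofArrows, Sieve.generate_le_iff, Presieve.ofArrows_le_iff]
  intro i
  obtain ⟨t, ht⟩ := h (Y i) (hY i) (homMk (G.obj.map (g i).op s))
  have e : (f.hom.app (op (Y i))).hom ((t.hom.app (op (Y i))).hom (gen J (Y i))) = G.obj.map (g i).op s := by
    rw [← homMk_app_gen (G.obj.map (g i).op s), ← ht]
    rfl
  exact ⟨_, e⟩

/-- A morphism of abelian sheaves through which all maps from the free sheaves on members of a covering class lift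
is an epimorphism. -/
lemma epi_of_lift {B : Set C} (hB : IsCovering J B) {F G : Sheaf J AddCommGrpCat.{u}} (f : F ⟶ G)
    (h : ∀ U ∈ B, ∀ s : CohCx.freeSheaf J U ⟶ G, ∃ t : CohCx.freeSheaf J U ⟶ F, t ≫ f = s) : Epi f := by
  have : Sheaf.IsLocallySurjective f := isLocSurj_of_lift hB f h
  exact (Sheaf.isLocallySurjective_iff_epi' AddCommGrpCat.{u} f).1 this

/-- Surjectivity on sections over `U` in terms of maps from the free sheaf. -/
lemma exists_lift_iff_surjective {F G : Sheaf J AddCommGrpCat.{u}} (f : F ⟶ G) (U : C) :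
    (∀ s : CohCx.freeSheaf J U ⟶ G, ∃ t : CohCx.freeSheaf J U ⟶ F, t ≫ f = s) ↔
      Function.Surjective (f.hom.app (op U)) := by
  constructor
  · intro h s
    obtain ⟨t, ht⟩ := h (homMk s)
    refine ⟨(t.hom.app (op U)).hom (gen J U), ?_⟩
    rw [← homMk_app_gen s, ← ht]
    rfl
  · intro h s
    obtain ⟨x, hx⟩ := h ((s.hom.app (op U)).hom (gen J U))
    refine ⟨homMk x, hom_ext ?_⟩
    refine Eq.trans ?_ hx
    change (f.hom.app (op U)).hom (((homMk x).hom.app (op U)).hom (gen J U)) = _
    rw [homMk_app_gen]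

/-- The cokernel of an embedding of an acyclic sheaf into an injective sheaf is acyclic. -/
lemma acyc_of_shortExact {B : Set C} {S : ShortComplex (Sheaf J AddCommGrpCat.{u})} (hS : S.ShortExact)
    (h1 : Acyc B S.X₁) (h2 : Acyc B S.X₂) : Acyc B S.X₃ :=
  fun U hU p x => ext_eq_zero_of_left hS _ (p + 1) (h1 U hU (p + 1)) (h2 U hU p) x

lemma acyc_of_injective (B : Set C) (I : Sheaf J AddCommGrpCat.{u}) [Injective I] : Acyc B I :=
  fun _ _ _ x => Abelian.Ext.eq_zero_of_injective x

/-- The product of short exact sequences with `B`-acyclic first terms is short exact, for a covering class `B`, and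
maps from the free sheaves on members of `B` lift. -/
theorem prodSC_shortExact {B : Set C} (hB : IsCovering J B) {ι : Type w}
    [HasProductsOfShape ι (Sheaf J AddCommGrpCat.{u})]
    (S : ι → ShortComplex (Sheaf J AddCommGrpCat.{u})) (hS : ∀ i, (S i).ShortExact)
    (h : ∀ i, Acyc B (S i).X₁) :
    (prodSC S).ShortExact ∧ ∀ U ∈ B, ∀ s : CohCx.freeSheaf J U ⟶ (prodSC S).X₃,
      ∃ t : CohCx.freeSheaf J U ⟶ (prodSC S).X₂, t ≫ (prodSC S).g = s := by
  have hlift : ∀ U ∈ B, ∀ s : CohCx.freeSheaf J U ⟶ (prodSC S).X₃,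
      ∃ t : CohCx.freeSheaf J U ⟶ (prodSC S).X₂, t ≫ (prodSC S).g = s := by
    intro U hU s
    choose t ht using fun k => exists_lift_of_ext_one (hS k) (CohCx.freeSheaf J U) (h k U hU 0) (s ≫ Pi.π _ k)
    refine ⟨Pi.lift t, ?_⟩
    apply Limits.Pi.hom_ext
    intro k
    simp [← ht k]
  have hm : ∀ k, Mono (S k).f := fun k => (hS k).mono_f
  have h1 : Mono (prodSC S).f := mono_piMap fun k => (S k).f
  have h2 : Epi (prodSC S).g := epi_of_lift hB _ hlift
  have h3 := prodSC_exact _ hS
  exact ⟨{ exact := h3, mono_f := h1, epi_g := h2 }, hlift⟩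

/-- Products of `B`-acyclic sheaves are `B`-acyclic, for a covering class `B`. -/
theorem acyc_prod {B : Set C} (hB : IsCovering J B) {ι : Type w}
    [HasProductsOfShape ι (Sheaf J AddCommGrpCat.{u})] (F : ι → Sheaf J AddCommGrpCat.{u})
    (h : ∀ i, Acyc B (F i)) : Acyc B (∏ᶜ F) := by
  intro U hU p
  induction p generalizing F with
  | zero =>
    choose I Q i q w hI hS using fun k => exists_shortExact_injective (F k)
    obtain ⟨hSE, hlift⟩ := prodSC_shortExact hB _ hS h
    have hinj : Injective (∏ᶜ I) := inferInstance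
    exact ext_one_eq_zero_of_lift hSE _ (acyc_of_injective B (∏ᶜ I) U hU 0) (hlift U hU)
  | succ p ih =>
    choose I Q i q w hI hS using fun k => exists_shortExact_injective (F k)
    obtain ⟨hSE, -⟩ := prodSC_shortExact hB _ hS h
    have hinj : Injective (∏ᶜ I) := inferInstance
    exact ext_succ_eq_zero_of_succ hSE _ (p + 1) (acyc_of_injective B (∏ᶜ I) U hU (p + 1))
      (ih Q fun k => acyc_of_shortExact (hS k) (h k) (acyc_of_injective B (I k)))

section limit

variable (F : ℕ → Sheaf J AddCommGrpCat.{u}) (t : ∀ n, F (n + 1) ⟶ F n)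

/-- Surjectivity of `id - shift` on sections over `U` from vanishing of `R¹lim`. -/
lemma exists_lift_oneSubShift {U : C}
    (h : CohCx.LimOneIsZero (fun n => (F n).obj.obj (op U)) (fun n => ((t n).hom.app (op U)).hom))
    (s : CohCx.freeSheaf J U ⟶ ∏ᶜ F) : ∃ r : CohCx.freeSheaf J U ⟶ ∏ᶜ F, r ≫ oneSubShift F t = s := by
  obtain ⟨y, hy⟩ := h (fun n => homEquivSections U (F n) (s ≫ Pi.π F n))
  refine ⟨Pi.lift fun n => homMk (y n), ?_⟩
  apply Limits.Pi.hom_ext
  intro n
  rw [Category.assoc, oneSubShift_π, Preadditive.comp_sub, Pi.lift_π, Pi.lift_π_assoc]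
  apply (homEquivSections U (F n)).injective
  rw [← congrFun hy n, map_sub]
  congr 1
  · exact homMk_app_gen _
  · change ((t n).hom.app (op U)).hom (((homMk (y (n + 1))).hom.app (op U)).hom (gen J U)) = _
    rw [homMk_app_gen]

/-- `0 ⟶ lim F ⟶ ∏ F ⟶ ∏ F ⟶ 0` is exact if `R¹lim` vanishes on sections over a covering class. -/
lemma limSeq_shortExact_of_limOne {B : Set C} (hB : IsCovering J B)
    (h : ∀ U ∈ B, CohCx.LimOneIsZero (fun n => (F n).obj.obj (op U)) (fun n => ((t n).hom.app (op U)).hom)) :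
    (limSeq F t).ShortExact :=
  limSeq_shortExact F t (epi_of_lift hB _ fun U hU => exists_lift_oneSubShift F t (h U hU))

/-- The limit of an inverse system of `B`-acyclic sheaves with vanishing `R¹lim` on sections over `B` is `B`-acyclic. -/
theorem acyc_limit {B : Set C} (hB : IsCovering J B) (h1 : ∀ n, Acyc B (F n))
    (h2 : ∀ U ∈ B, CohCx.LimOneIsZero (fun n => (F n).obj.obj (op U)) (fun n => ((t n).hom.app (op U)).hom)) :
    Acyc B (limit (CohCx.opSequence F t)) := by
  have hS := limSeq_shortExact_of_limOne F t hB h2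
  have hP : Acyc B (∏ᶜ F) := acyc_prod hB F h1
  intro U hU p
  cases p with
  | zero => exact ext_one_eq_zero_of_lift hS _ (hP U hU 0) (exists_lift_oneSubShift F t (h2 U hU))
  | succ p => exact ext_succ_eq_zero_of_succ hS _ (p + 1) (hP U hU (p + 1)) (hP U hU p)

end limit

end Groth.Agent.CohtopB.AcycFamily
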