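import Mathlib.Algebra.Homology.GrothendieckAbelian
import Mathlib.Algebra.Homology.HomotopyCategory.Acyclic
import Mathlib.CategoryTheory.Abelian.GrothendieckAxioms.Colim
import Mathlib.CategoryTheory.Abelian.FunctorCategory

/-!
Colimits (of an exact shape) of acyclic complexes are acyclic; the inclusion of the target in the
mapping cone of a morphism from an acyclic complex is a quasi-isomorphism.
-/

set_option autoImplicit false

universe w v u

open CategoryTheory CategoryTheory.Limits

namespace Groth.Agent.CohtopB.AcyclicCoprod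

variable {A : Type u} [Category.{v} A] [Abelian A]

/-- Exactness in a functor category can be checked objectwise. -/
lemma exact_of_app {J : Type*} [Category* J] (S : ShortComplex (J ⥤ A))
    (h : ∀ j, (S.map ((evaluation J A).obj j)).Exact) : S.Exact := by
  rw [ShortComplex.exact_iff_isZero_homology]
  rw [Functor.isZero_iff]
  intro j
  have := (S.mapHomologyIso ((evaluation J A).obj j)).symm
  exact ((ShortComplex.exact_iff_isZero_homology _).1 (h j)).of_iso this

/-- A colimit (of a shape for which colimits are exact) of complexes exact in degree `n` is exact in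
degree `n`. -/
lemma exactAt_of_isColimit {J : Type*} [Category* J] [HasColimitsOfShape J A]
    [HasExactColimitsOfShape J A]
    {ι : Type*} {c' : ComplexShape ι}
    (F : J ⥤ HomologicalComplex A c') (c : Cocone F) (hc : IsColimit c) (n : ι)
    (h : ∀ j, (F.obj j).ExactAt n) : c.pt.ExactAt n := by
  let S : ShortComplex (J ⥤ A) :=
    { X₁ := F ⋙ HomologicalComplex.eval A _ (c'.prev n)
      X₂ := F ⋙ HomologicalComplex.eval A _ n
      X₃ := F ⋙ HomologicalComplex.eval A _ (c'.next n)
      f := Functor.whiskerLeft F (HomologicalComplex.dNatTrans A _ _ _)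
      g := Functor.whiskerLeft F (HomologicalComplex.dNatTrans A _ _ _)
      zero := by ext j; exact (F.obj j).d_comp_d _ _ _ }
  have hS : S.Exact := exact_of_app S (fun j => h j)
  have := colim.exact_mapShortComplex (S := S) hS
    (c₁ := (HomologicalComplex.eval A _ (c'.prev n)).mapCocone c) (isColimitOfPreserves _ hc)
    (c₂ := (HomologicalComplex.eval A _ n).mapCocone c) (isColimitOfPreserves _ hc)
    (c₃ := (HomologicalComplex.eval A _ (c'.next n)).mapCocone c) (isColimitOfPreserves _ hc)
    (c.pt.d _ _) (c.pt.d _ _) (fun j => (c.ι.app j).comm _ _)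
    (fun j => (c.ι.app j).comm _ _)
  exact this

/-- Small coproducts of acyclic complexes are acyclic (AB4). -/
lemma acyclic_sigma {J : Type*} [HasCoproductsOfShape J A] [HasExactColimitsOfShape (Discrete J) A]
    {ι : Type*} {c' : ComplexShape ι} (K : J → HomologicalComplex A c')
    (h : ∀ j, (K j).Acyclic) : (∐ K).Acyclic := fun n =>
  exactAt_of_isColimit (Discrete.functor K) _ (colimit.isColimit _) n (fun j => h j.as n)

/-- If `P` is acyclic and `σ : P ⟶ M`, then `M ⟶ mappingCone σ` is a quasi-isomorphism. -/
lemma quasiIso_inr {P M : CochainComplex A ℤ} (σ : P ⟶ M) (hP : P.Acyclic) :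
    QuasiIso (CochainComplex.mappingCone.inr σ) := by
  rw [← HomologicalComplex.mem_quasiIso_iff, ← HomotopyCategory.quotient_map_mem_quasiIso_iff,
    HomotopyCategory.quasiIso_eq_trW_subcategoryAcyclic]
  exact ObjectProperty.trW.mk' _ (HomotopyCategory.mappingCone_triangleh_distinguished σ)
    ((HomotopyCategory.quotient_obj_mem_subcategoryAcyclic_iff_acyclic _).2 hP)

/-- If `Q` is acyclic, then the projection `mappingCocone (σ : P ⟶ Q) ⟶ P` is a quasi-isomorphism. -/
lemma mono_inr {P M : CochainComplex A ℤ} (σ : P ⟶ M) (n : ℤ) :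
    Mono ((CochainComplex.mappingCone.inr σ).f n) :=
  mono_of_mono_fac (CochainComplex.mappingCone.inr_f_snd_v σ n)

end Groth.Agent.CohtopB.AcyclicCoprod
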