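import Mathlib.CategoryTheory.Sites.Spaces
import Mathlib.Topology.Category.TopCat.Opens

/-!
# A basis of opens covers every open
-/

set_option autoImplicit false

universe u

open CategoryTheory TopologicalSpace

namespace Groth.Agent.CohtopB.BasisCover

/-- Members of a basis of the topology cover every open (in the site of opens). -/
theorem isCovering_of_isBasis {X : TopCat.{u}} {B : Set (Opens X)} (hB : Opens.IsBasis B) (U : Opens X) :
    ∃ (ι : Type u) (Y : ι → Opens X) (f : ∀ i, Y i ⟶ U),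
      Sieve.ofArrows Y f ∈ Opens.grothendieckTopology X U ∧ ∀ i, Y i ∈ B := by
  refine ⟨{V : Opens X // V ∈ B ∧ V ≤ U}, fun V => V.1, fun V => homOfLE V.2.2, ?_, fun V => V.2.1⟩
  intro x hx
  obtain ⟨V, hV, hxV, hVU⟩ := Opens.isBasis_iff_nbhd.1 hB hx
  exact ⟨V, homOfLE hVU, ⟨_, 𝟙 _, homOfLE hVU, ⟨(⟨V, hV, hVU⟩ : {V : Opens X // V ∈ B ∧ V ≤ U})⟩, rfl⟩, hxV⟩

end Groth.Agent.CohtopB.BasisCover
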