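import Mathlib.CategoryTheory.Triangulated.Yoneda
import Mathlib.CategoryTheory.Triangulated.Triangulated
import Mathlib.CategoryTheory.Limits.Shapes.Products
import Mathlib.CategoryTheory.Limits.Shapes.Opposites.Products
import Mathlib.CategoryTheory.Limits.Preserves.Shapes.Products
import Mathlib.Algebra.Category.Grp.Limits
import Mathlib.Algebra.Homology.ShortComplex.Ab
import Mathlib.CategoryTheory.Preadditive.Yoneda.Limits
import Mathlib.CategoryTheory.Triangulated.Opposite.Functor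
import Mathlib.CategoryTheory.Adjunction.PartialAdjoint
import Mathlib.CategoryTheory.Limits.Preserves.Opposites

/-!
# Brown representability for perfectly generated triangulated categories (core argument)
-/

set_option autoImplicit false

universe w v u

open CategoryTheory CategoryTheory.Limits Opposite

namespace Groth.Agent.CohtopB.BrownCore

section Pb

variable {D : Type u} [Category.{v} D] (H : Dᵒᵖ ⥤ AddCommGrpCat.{w})

/-- Contravariant action of a morphism on elements. -/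
def pb {X Y : D} (f : X ⟶ Y) : H.obj (op Y) →+ H.obj (op X) := (H.map f.op).hom

@[simp] lemma pb_id {X : D} (a : H.obj (op X)) : pb H (𝟙 X) a = a := by
  simp [pb]

@[simp] lemma pb_comp {X Y Z : D} (f : X ⟶ Y) (g : Y ⟶ Z) (a : H.obj (op Z)) :
    pb H (f ≫ g) a = pb H f (pb H g a) := by
  simp [pb]

variable [Preadditive D] [H.Additive]

lemma pb_add_left {X Y : D} (f g : X ⟶ Y) (a : H.obj (op Y)) :
    pb H (f + g) a = pb H f a + pb H g a := by
  simp [pb]

@[simp] lemma pb_zero_left {X Y : D} (a : H.obj (op Y)) :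
    pb H (0 : X ⟶ Y) a = 0 := by
  simp [pb]

lemma pb_neg_left {X Y : D} (f : X ⟶ Y) (a : H.obj (op Y)) :
    pb H (-f) a = - pb H f a := by
  simp [pb]

lemma pb_sub_left {X Y : D} (f g : X ⟶ Y) (a : H.obj (op Y)) :
    pb H (f - g) a = pb H f a - pb H g a := by
  simp [pb]

end Pb

section Coprod

variable {D : Type u} [Category.{v} D] (H : Dᵒᵖ ⥤ AddCommGrpCat.{w})

/-- `H` sends a coproduct to a product: elements of `H (c.pt)` are families. -/
lemma exists_unique_cofan {κ : Type*} {X : κ → D} (c : Cofan X) (hc : IsColimit c)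
    [PreservesLimitsOfShape (Discrete κ) H] (a : ∀ k, H.obj (op (X k))) :
    ∃ b : H.obj (op c.pt), (∀ k, pb H (c.inj k) b = a k) ∧
      ∀ b' : H.obj (op c.pt), (∀ k, pb H (c.inj k) b' = a k) → b' = b := by
  let F := H ⋙ forget AddCommGrpCat.{w}
  have hlim : IsLimit (Fan.mk (F.obj (op c.pt)) fun k => F.map (c.inj k).op) :=
    isLimitFanMkObjOfIsLimit F (fun k => op (X k)) (fun k => (c.inj k).op)
      (Cofan.IsColimit.op hc)
  let l : PUnit.{w+1} ⟶ F.obj (op c.pt) := Fan.IsLimit.lift hlim (fun k => ↾(fun _ => a k))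
  have hl : ∀ k, l ≫ F.map (c.inj k).op = ↾(fun _ => a k) := fun k => Fan.IsLimit.fac hlim _ k
  refine ⟨l PUnit.unit, fun k => ?_, fun b' hb' => ?_⟩
  · exact ConcreteCategory.congr_hom (hl k) PUnit.unit
  · have : (↾(fun (_ : PUnit.{w+1}) => b') : PUnit.{w+1} ⟶ F.obj (op c.pt)) = l := by
      apply Fan.IsLimit.hom_ext hlim
      intro k
      ext x
      refine (hb' k).trans ?_
      exact (ConcreteCategory.congr_hom (hl k) PUnit.unit).symm
    exact ConcreteCategory.congr_hom this PUnit.unit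

/-- `H` turns `κ`-indexed coproducts into products (elementwise formulation). -/
class CoprodToProd (κ : Type*) : Prop where
  bij : ∀ (X : κ → D) (c : Cofan X) (_ : IsColimit c),
    Function.Bijective (fun (b : H.obj (op c.pt)) (k : κ) => pb H (c.inj k) b)

instance (κ : Type*) [PreservesLimitsOfShape (Discrete κ) H] : CoprodToProd H κ where
  bij X c hc := by
    constructor
    · intro b b' h
      obtain ⟨d, -, hd⟩ := exists_unique_cofan H c hc (fun k => pb H (c.inj k) b)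
      rw [hd b (fun _ => rfl), hd b' (fun k => (congrFun h k).symm)]
    · intro a
      obtain ⟨b, hb, -⟩ := exists_unique_cofan H c hc a
      exact ⟨b, funext hb⟩

lemma CoprodToProd.of_equiv {κ κ' : Type*} (e : κ ≃ κ') [CoprodToProd H κ] :
    CoprodToProd H κ' where
  bij X c hc := by
    let c' : Cofan (fun k => X (e k)) := Cofan.mk c.pt (fun k => c.inj (e k))
    have hc' : IsColimit c' := Cofan.IsColimit.mk c'
      (fun s => Cofan.IsColimit.desc hc (fun k => eqToHom (by simp) ≫ s.inj (e.symm k)))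
      (fun s k => by
        change c.inj (e k) ≫ _ = _
        rw [Cofan.IsColimit.fac]
        have : ∀ k' (h : e k' = e k) (h' : X (e k) = X (e k')),
            eqToHom h' ≫ s.inj k' = s.inj k := by
          intro k' h h'
          obtain rfl := e.injective h
          simp
        exact this _ (by simp) _)
      (fun s m hm => by
        apply Cofan.IsColimit.hom_ext hc
        intro k
        obtain ⟨k, rfl⟩ := e.surjective k
        rw [Cofan.IsColimit.fac]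
        have : ∀ k' (h : e k' = e k) (h' : X (e k) = X (e k')),
            eqToHom h' ≫ s.inj k' = s.inj k := by
          intro k' h h'
          obtain rfl := e.injective h
          simp
        rw [this _ (by simp) _]
        exact hm k)
    have h := CoprodToProd.bij (H := H) (fun k => X (e k)) c' hc'
    constructor
    · intro b b' hbb'
      exact h.1 (funext fun k => congrFun hbb' (e k))
    · intro a
      obtain ⟨b, hb⟩ := h.2 (fun k => a (e k))
      refine ⟨b, funext fun k => ?_⟩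
      obtain ⟨k, rfl⟩ := e.surjective k
      exact congrFun hb k

lemma cofan_ext {κ : Type*} {X : κ → D} (c : Cofan X) (hc : IsColimit c)
    [CoprodToProd H κ] {b b' : H.obj (op c.pt)}
    (h : ∀ k, pb H (c.inj k) b = pb H (c.inj k) b') : b = b' :=
  (CoprodToProd.bij X c hc).1 (funext h)

lemma exists_coprod {κ : Type*} (X : κ → D) [HasCoproduct X]
    [CoprodToProd H κ] (a : ∀ k, H.obj (op (X k))) :
    ∃ b : H.obj (op (∐ X)), (∀ k, pb H (Sigma.ι X k) b = a k) := by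
  obtain ⟨b, hb⟩ := (CoprodToProd.bij (H := H) X _ (coproductIsCoproduct X)).2 a
  exact ⟨b, fun k => congrFun hb k⟩

lemma coprod_ext {κ : Type*} (X : κ → D) [HasCoproduct X]
    [CoprodToProd H κ] {b b' : H.obj (op (∐ X))}
    (h : ∀ k, pb H (Sigma.ι X k) b = pb H (Sigma.ι X k) b') : b = b' :=
  cofan_ext H _ (coproductIsCoproduct X) h

instance (κ : Type*) [Preadditive D] (Y : D) : CoprodToProd (preadditiveYoneda.obj Y) κ where
  bij X c hc := by
    constructor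
    · intro b b' h
      exact Cofan.IsColimit.hom_ext hc b b' (fun k => congrFun h k)
    · intro a
      exact ⟨Cofan.IsColimit.desc hc a, funext fun k => Cofan.IsColimit.fac hc a k⟩

lemma coprodToProd_comp (κ : Type*) {D' : Type*} [Category* D'] (F : D ⥤ D')
    (G : D'ᵒᵖ ⥤ AddCommGrpCat.{w}) [CoprodToProd G κ]
    [PreservesColimitsOfShape (Discrete κ) F] : CoprodToProd (F.op ⋙ G) κ where
  bij X c hc := by
    have h := CoprodToProd.bij (H := G) (fun k => F.obj (X k))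
      (Cofan.mk (F.obj c.pt) (fun k => F.map (c.inj k)))
      (isColimitCofanMkObjOfIsColimit F X _ (IsColimit.ofIsoColimit hc (Cofan.ext (Iso.refl _))))
    exact h

end Coprod

section Triang

variable {D : Type u} [Category.{v} D] [Preadditive D] [HasZeroObject D] [HasShift D ℤ]
  [∀ n : ℤ, (shiftFunctor D n).Additive] [Pretriangulated D]

open Pretriangulated

/-- A morphism into a coproduct killed by the coproduct of the second maps of distinguished
triangles factors through the coproduct of the first maps. -/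
lemma coprod_factor {κ : Type*} {K A B : κ → D} (m₁ : ∀ k, K k ⟶ A k) (m₂ : ∀ k, A k ⟶ B k)
    (m₃ : ∀ k, B k ⟶ (K k)⟦(1 : ℤ)⟧)
    (hT : ∀ k, Triangle.mk (m₁ k) (m₂ k) (m₃ k) ∈ distTriang D)
    [HasCoproduct K] [HasCoproduct A] [HasCoproduct B]
    {C : D} (f : C ⟶ ∐ A) (hf : f ≫ Limits.Sigma.map m₂ = 0) :
    ∃ g : C ⟶ ∐ K, g ≫ Limits.Sigma.map m₁ = f := by
  obtain ⟨Z, p, q, hZ⟩ := distinguished_cocone_triangle (Limits.Sigma.map m₁)
  have key : ∀ k, ∃ ψ : B k ⟶ Z, m₂ k ≫ ψ = Sigma.ι A k ≫ p := by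
    intro k
    obtain ⟨c, hc, -⟩ := complete_distinguished_triangle_morphism _ _ (hT k) hZ
      (Sigma.ι K k) (Sigma.ι A k) (Sigma.ι_map m₁ k).symm
    exact ⟨c, hc⟩
  choose ψ hψ using key
  have hp : p = Limits.Sigma.map m₂ ≫ Sigma.desc ψ := by
    ext k
    simp [hψ]
  have hfp : f ≫ p = 0 := by rw [hp, ← Category.assoc, hf, zero_comp]
  obtain ⟨g, hg⟩ := Triangle.coyoneda_exact₂ _ hZ f hfp
  exact ⟨g, hg.symm⟩

end Triang

section HExact

open Pretriangulated Pretriangulated.Opposite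

variable {D : Type u} [Category.{v} D] [Preadditive D] [HasZeroObject D] [HasShift D ℤ]
  [∀ n : ℤ, (shiftFunctor D n).Additive] [Pretriangulated D]
  (H : Dᵒᵖ ⥤ AddCommGrpCat.{w}) [H.IsHomological]

lemma H_exact₂ (T : Triangle D) (hT : T ∈ distTriang D) (x : H.obj (op T.obj₂))
    (hx : pb H T.mor₁ x = 0) : ∃ y : H.obj (op T.obj₃), pb H T.mor₂ y = x := by
  have h := H.map_distinguished_op_exact T hT
  rw [ShortComplex.ab_exact_iff] at h
  exact h x hx

lemma H_exact₃ (T : Triangle D) (hT : T ∈ distTriang D) (x : H.obj (op T.obj₃))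
    (hx : pb H T.mor₂ x = 0) : ∃ y : H.obj (op (T.obj₁⟦(1 : ℤ)⟧)), pb H T.mor₃ y = x :=
  H_exact₂ H T.rotate (rot_of_distTriang _ hT) x hx

lemma H_exact₁ (T : Triangle D) (hT : T ∈ distTriang D) (x : H.obj (op (T.obj₁⟦(1 : ℤ)⟧)))
    (hx : pb H T.mor₃ x = 0) :
    ∃ y : H.obj (op (T.obj₂⟦(1 : ℤ)⟧)), pb H (T.mor₁⟦(1 : ℤ)⟧') y = x := by
  obtain ⟨y, hy⟩ : ∃ y : H.obj (op (T.obj₂⟦(1 : ℤ)⟧)), pb H (-(T.mor₁⟦(1 : ℤ)⟧')) y = x :=
    H_exact₂ H T.rotate.rotate (rot_of_distTriang _ (rot_of_distTriang _ hT)) x hx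
  exact ⟨-y, by rw [← hy, map_neg, pb_neg_left]⟩

end HExact

section Tower

variable {D : Type u} [Category.{v} D]

/-- The composite transition maps `X 0 ⟶ X n` of a tower. -/
def tp (X : ℕ → D) (t : ∀ n, X n ⟶ X (n + 1)) : ∀ n, X 0 ⟶ X n
  | 0 => 𝟙 _
  | n + 1 => tp X t n ≫ t n

variable (X : ℕ → D) (t : ∀ n, X n ⟶ X (n + 1))

@[simp] lemma tp_zero : tp X t 0 = 𝟙 _ := rfl

lemma tp_succ (n : ℕ) : tp X t (n + 1) = tp X t n ≫ t n := rfl

variable [HasColimitsOfShape (Discrete ℕ) D]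

/-- The shift endomorphism of `∐ X`. -/
noncomputable def sh : ∐ X ⟶ ∐ X := Sigma.desc (fun n => t n ≫ Sigma.ι X (n + 1))

/-- The shift endomorphism of `∐ (fun _ => Y)`. -/
noncomputable def csh (Y : D) : (∐ fun _ : ℕ => Y) ⟶ ∐ fun _ : ℕ => Y :=
  Sigma.desc (fun n => Sigma.ι (fun _ : ℕ => Y) (n + 1))

/-- The diagonal map `∐ X 0 ⟶ ∐ X n`. -/
noncomputable def diag : (∐ fun _ : ℕ => X 0) ⟶ ∐ X := Limits.Sigma.map (tp X t)

lemma csh_diag : csh (X 0) ≫ diag X t = diag X t ≫ sh X t := by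
  ext n
  simp [csh, diag, sh, tp_succ]

variable [Preadditive D]

/-- The retraction of `1 - csh`. -/
noncomputable def cr (Y : D) : (∐ fun _ : ℕ => Y) ⟶ ∐ fun _ : ℕ => Y :=
  Sigma.desc (fun n => -(Finset.range n).sum (fun m => Sigma.ι (fun _ : ℕ => Y) m))

lemma one_sub_csh_cr (Y : D) : (𝟙 _ - csh Y) ≫ cr Y = 𝟙 _ := by
  ext n
  simp [csh, cr, Finset.sum_range_succ]

/-- The codiagonal. -/
noncomputable def nab (Y : D) : (∐ fun _ : ℕ => Y) ⟶ Y := Sigma.desc (fun _ => 𝟙 Y)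

lemma cr_one_sub_csh (Y : D) :
    cr Y ≫ (𝟙 _ - csh Y) = 𝟙 _ - nab Y ≫ Sigma.ι (fun _ : ℕ => Y) 0 := by
  ext n
  simp only [csh, cr, nab, colimit.ι_desc_assoc, Cofan.mk_ι_app, Preadditive.neg_comp,
    Preadditive.sum_comp, Preadditive.comp_sub, Category.comp_id, colimit.ι_desc]
  have h1 := Finset.sum_range_succ' (fun m => Sigma.ι (fun _ : ℕ => Y) m) n
  rw [Finset.sum_range_succ] at h1
  have h2 : 𝟙 Y ≫ Sigma.ι (fun _ : ℕ => Y) 0 = Sigma.ι (fun _ : ℕ => Y) 0 := Category.id_comp _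
  refine Eq.trans ?_ (congrArg _ h2.symm)
  rw [sub_neg_eq_add, neg_add_eq_sub, sub_eq_sub_iff_add_eq_add]
  rw [← h1, add_comm]

end Tower

section Claims

set_option linter.unusedSectionVars false

variable {D : Type u} [Category.{v} D] [Preadditive D] [HasZeroObject D] [HasShift D ℤ]
  [∀ n : ℤ, (shiftFunctor D n).Additive] [Pretriangulated D] [HasColimitsOfShape (Discrete ℕ) D]

open Pretriangulated Pretriangulated.Opposite

variable (H : Dᵒᵖ ⥤ AddCommGrpCat.{w}) [H.IsHomological]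
  (X : ℕ → D) (t : ∀ n, X n ⟶ X (n + 1)) (a : ∀ n, H.obj (op (X n)))
  (E : ObjectProperty D)

/-- The data of a tower adapted to a cohomological functor and a class of objects. -/
structure IsAdapted : Prop where
  compat : ∀ n, pb H (t n) (a (n + 1)) = a n
  surj : ∀ C, E C → ∀ x : H.obj (op C), ∃ l : C ⟶ X 0, pb H l (a 0) = x
  ker : ∀ C, E C → ∀ n (k : C ⟶ X n), pb H k (a n) = 0 → k ≫ t n = 0

/-- The class `E` is (countably) perfect: maps from a member of `E` to a countable coproduct factor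
summandwise through coproducts of members of `E`. -/
def IsPerfect : Prop :=
  ∀ C, E C → ∀ (Y : ℕ → D) (α : C ⟶ ∐ Y), ∃ (C' : ℕ → D) (β : ∀ n, C' n ⟶ Y n)
    (γ : C ⟶ ∐ C'), (∀ n, E (C' n)) ∧ α = γ ≫ Limits.Sigma.map β

variable {H X t a E}

lemma IsAdapted.pb_tp (hX : IsAdapted H X t a E) (n : ℕ) : pb H (tp X t n) (a n) = a 0 := by
  induction n with
  | zero => simp
  | succ n ih => rw [tp_succ, pb_comp, hX.compat, ih]

/-- A morphism from a member of `E` to `∐ X` becomes, after shifting, a diagonal one. -/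
lemma IsAdapted.exists_diag (hX : IsAdapted H X t a E) (hE : IsPerfect E) {C : D} (hC : E C)
    (α : C ⟶ ∐ X) : ∃ ε : C ⟶ ∐ fun _ : ℕ => X 0, ε ≫ diag X t = α ≫ sh X t := by
  obtain ⟨C', β, γ, hC', rfl⟩ := hE C hC X α
  choose l hl using fun n => hX.surj (C' n) (hC' n) (pb H (β n) (a n))
  have h1 : ∀ n, β n ≫ t n = l n ≫ tp X t (n + 1) := by
    intro n
    have := hX.ker (C' n) (hC' n) n (β n - l n ≫ tp X t n) (by
      rw [pb_sub_left, pb_comp, hX.pb_tp, hl, sub_self])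
    rw [Preadditive.sub_comp, sub_eq_zero] at this
    rw [this, tp_succ, Category.assoc]
  refine ⟨γ ≫ Limits.Sigma.map l ≫ csh (X 0), ?_⟩
  simp only [Category.assoc]
  congr 1
  ext n
  simp [csh, diag, sh, reassoc_of% h1]

/-- Key lemma: if `f ≫ diag = 0` then `f ≫ ρ ≫ csh ≫ diag = 0`. -/
lemma IsAdapted.key (hX : IsAdapted H X t a E) (hE : IsPerfect E) {C : D} (hC : E C)
    (f : C ⟶ ∐ fun _ : ℕ => X 0) (hf : f ≫ diag X t = 0) :
    f ≫ cr (X 0) ≫ csh (X 0) ≫ diag X t = 0 := by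
  have hK : ∀ n, ∃ (K : D) (κ : K ⟶ X 0) (δ : X n ⟶ K⟦(1 : ℤ)⟧),
      Triangle.mk κ (tp X t n) δ ∈ distTriang D := fun n => distinguished_cocone_triangle₁ (tp X t n)
  choose K κ δ hT using hK
  obtain ⟨g, rfl⟩ := coprod_factor κ (fun n => tp X t n) δ hT f hf
  obtain ⟨C', β, γ, hC', rfl⟩ := hE C hC K g
  simp only [Category.assoc]
  suffices Limits.Sigma.map β ≫ Limits.Sigma.map κ ≫ cr (X 0) ≫ csh (X 0) ≫ diag X t = 0 by
    rw [this, comp_zero]
  have h0 : ∀ n, κ n ≫ tp X t n = 0 := fun n => comp_distTriang_mor_zero₁₂ _ (hT n)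
  have h1 : ∀ n, β n ≫ κ n ≫ t 0 = 0 := by
    intro n
    rw [← Category.assoc]
    refine hX.ker (C' n) (hC' n) 0 (β n ≫ κ n) ?_
    rw [← hX.pb_tp n, ← pb_comp, Category.assoc, h0, comp_zero, pb_zero_left]
  have h2 : ∀ n m, β n ≫ κ n ≫ tp X t (m + 1) = 0 := by
    intro n m
    induction m with
    | zero => simpa [tp_succ] using h1 n
    | succ m ih =>
      rw [tp_succ]
      simp only [← Category.assoc] at ih ⊢
      rw [ih, zero_comp]
  ext n
  simp only [csh, cr, diag, Sigma.ι_map_assoc, colimit.ι_desc_assoc, Cofan.mk_ι_app,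
    Preadditive.neg_comp, Preadditive.sum_comp, Preadditive.comp_neg, Preadditive.comp_sum,
    Sigma.ι_map, comp_zero, neg_eq_zero]
  refine Finset.sum_eq_zero fun m _ => ?_
  have := h2 n m
  simp only [← Category.assoc] at this ⊢
  rw [this, zero_comp]

/-- Claim A: `1 - shift` is injective on maps from members of `E`. -/
lemma IsAdapted.claimA (hX : IsAdapted H X t a E) (hE : IsPerfect E) {C : D} (hC : E C)
    (α : C ⟶ ∐ X) (hα : α ≫ (𝟙 _ - sh X t) = 0) : α = 0 := by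
  have hα' : α ≫ sh X t = α := by
    rw [Preadditive.comp_sub, Category.comp_id, sub_eq_zero] at hα
    exact hα.symm
  obtain ⟨ε, hε⟩ := hX.exists_diag hE hC α
  rw [hα'] at hε
  have h1 : (ε ≫ (𝟙 _ - csh (X 0))) ≫ diag X t = 0 := by
    rw [Category.assoc, Preadditive.sub_comp, csh_diag, Category.id_comp, Preadditive.comp_sub,
      ← Category.assoc, hε, hα', sub_self]
  have h2 := hX.key hE hC _ h1
  rw [Category.assoc, ← Category.assoc (𝟙 _ - csh (X 0)), one_sub_csh_cr, Category.id_comp,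
    csh_diag, ← Category.assoc, hε, hα'] at h2
  exact h2

/-- Claim B: the induced map `Hom(C, hocolim X) → H C` is injective for members `C` of `E`. -/
lemma IsAdapted.claimB [CoprodToProd H ℕ]
    (hX : IsAdapted H X t a E) (hE : IsPerfect E)
    (hEs : ∀ C, E C → ∃ C', E C' ∧ Nonempty (C'⟦(1 : ℤ)⟧ ≅ C))
    (σ : H.obj (op (∐ X))) (hσ : ∀ n, pb H (Sigma.ι X n) σ = a n)
    {Z : D} (π : ∐ X ⟶ Z) (δ : Z ⟶ (∐ X)⟦(1 : ℤ)⟧)
    (hT : Triangle.mk (𝟙 _ - sh X t) π δ ∈ distTriang D)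
    (b : H.obj (op Z)) (hb : pb H π b = σ) {C : D} (hC : E C) (k : C ⟶ Z)
    (hk : pb H k b = 0) : k = 0 := by
  have hkδ : k ≫ δ = 0 := by
    obtain ⟨C', hC', ⟨e⟩⟩ := hEs C hC
    obtain ⟨α, hα⟩ := (shiftFunctor D (1 : ℤ)).map_surjective (e.hom ≫ k ≫ δ)
    have h1 : δ ≫ (𝟙 _ - sh X t)⟦(1 : ℤ)⟧' = 0 := comp_distTriang_mor_zero₃₁ _ hT
    have h2 : α ≫ (𝟙 _ - sh X t) = 0 := by
      apply (shiftFunctor D (1 : ℤ)).map_injective
      rw [Functor.map_comp, hα, Category.assoc, Category.assoc, h1, comp_zero, comp_zero,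
        Functor.map_zero]
    rw [hX.claimA hE hC' α h2, Functor.map_zero] at hα
    rw [← cancel_epi e.hom, ← hα, comp_zero]
  obtain ⟨α, hα⟩ : ∃ α : C ⟶ ∐ X, k = α ≫ π := Triangle.coyoneda_exact₃ _ hT k hkδ
  obtain ⟨ε, hε⟩ := hX.exists_diag hE hC α
  have hπ : (𝟙 _ - sh X t) ≫ π = 0 := comp_distTriang_mor_zero₁₂ _ hT
  have hshπ : sh X t ≫ π = π := by
    rw [Preadditive.sub_comp, Category.id_comp, sub_eq_zero] at hπ
    exact hπ.symm
  have hshσ : pb H (sh X t) σ = σ := by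
    apply coprod_ext H X
    intro n
    rw [← pb_comp, hσ]
    simp [sh, hσ, hX.compat]
  have hnab : pb H (nab (X 0)) (a 0) = pb H (diag X t) σ := by
    apply coprod_ext H
    intro n
    rw [← pb_comp, ← pb_comp]
    simp only [nab, diag, colimit.ι_desc, Cofan.mk_ι_app, Sigma.ι_map, pb_comp, hσ, hX.pb_tp]
    exact pb_id H _
  have hεn : pb H (ε ≫ nab (X 0)) (a 0) = 0 := by
    rw [pb_comp, hnab, ← pb_comp, hε, pb_comp, hshσ, ← hb, ← pb_comp, ← hα, hk]
  have hεt : (ε ≫ nab (X 0)) ≫ t 0 = 0 := hX.ker C hC 0 _ hεn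
  have hdec : ε ≫ diag X t = (ε ≫ cr (X 0) ≫ diag X t) ≫ (𝟙 _ - sh X t) +
      (ε ≫ nab (X 0)) ≫ Sigma.ι X 0 := by
    have h3 : (𝟙 _ : (∐ fun _ : ℕ => X 0) ⟶ _) = cr (X 0) ≫ (𝟙 _ - csh (X 0)) +
        nab (X 0) ≫ Sigma.ι (fun _ : ℕ => X 0) 0 := by
      rw [cr_one_sub_csh, sub_add_cancel]
    have h4 : Sigma.ι (fun _ : ℕ => X 0) 0 ≫ diag X t = Sigma.ι X 0 := by
      simp [diag]
    calc ε ≫ diag X t = ε ≫ 𝟙 _ ≫ diag X t := by rw [Category.id_comp]
      _ = ε ≫ (cr (X 0) ≫ (𝟙 _ - csh (X 0)) +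
        nab (X 0) ≫ Sigma.ι (fun _ : ℕ => X 0) 0) ≫ diag X t := by rw [← h3]
      _ = _ := by
        rw [Preadditive.add_comp, Preadditive.comp_add]
        congr 1
        · simp only [Category.assoc, Preadditive.sub_comp, Preadditive.comp_sub,
            Category.comp_id, csh_diag]
        · simp only [Category.assoc, h4]
  have hfin : k = ((ε ≫ nab (X 0)) ≫ t 0) ≫ Sigma.ι X 1 ≫ π := by
    calc k = α ≫ π := hα
      _ = (α ≫ sh X t) ≫ π := by rw [Category.assoc, hshπ]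
      _ = (ε ≫ diag X t) ≫ π := by rw [hε]
      _ = (ε ≫ nab (X 0)) ≫ Sigma.ι X 0 ≫ π := by
        rw [hdec, Preadditive.add_comp, Category.assoc, hπ, comp_zero, zero_add, Category.assoc]
      _ = (ε ≫ nab (X 0)) ≫ Sigma.ι X 0 ≫ sh X t ≫ π := by rw [hshπ]
      _ = _ := by simp [sh]
  rw [hfin, hεt, zero_comp]

end Claims

section Bij

variable {D : Type u} [Category.{v} D]
variable (H : Dᵒᵖ ⥤ AddCommGrpCat.{w}) {Z : D} (b : H.obj (op Z))

/-- `Hom(Y, Z) → H Y` is bijective. -/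
def Bij (Y : D) : Prop := Function.Bijective (fun f : Y ⟶ Z => pb H f b)

variable {H b}

lemma Bij.of_iso {Y Y' : D} (e : Y ≅ Y') (h : Bij H b Y) : Bij H b Y' := by
  constructor
  · intro f g hfg
    have : e.hom ≫ f = e.hom ≫ g := h.1 (by
      dsimp only at hfg ⊢
      rw [pb_comp, pb_comp, hfg])
    exact (cancel_epi e.hom).1 this
  · intro x
    obtain ⟨f, hf⟩ := h.2 (pb H e.hom x)
    dsimp only at hf
    refine ⟨e.inv ≫ f, ?_⟩
    dsimp only
    rw [pb_comp, hf, ← pb_comp, e.inv_hom_id, pb_id]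

lemma Bij.of_cofan {κ : Type*} {Y : κ → D} (c : Cofan Y) (hc : IsColimit c)
    [CoprodToProd H κ] (h : ∀ k, Bij H b (Y k)) : Bij H b c.pt := by
  constructor
  · intro f g hfg
    apply Cofan.IsColimit.hom_ext hc
    intro k
    apply (h k).1
    dsimp only at hfg ⊢
    rw [pb_comp, pb_comp, hfg]
  · intro x
    choose f hf using fun k => (h k).2 (pb H (c.inj k) x)
    dsimp only at hf
    refine ⟨Cofan.IsColimit.desc hc f, ?_⟩
    apply cofan_ext H c hc
    intro k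
    rw [← pb_comp, Cofan.IsColimit.fac, hf]

variable [Preadditive D] [HasZeroObject D] [HasShift D ℤ]
  [∀ n : ℤ, (shiftFunctor D n).Additive] [Pretriangulated D]

open Pretriangulated Pretriangulated.Opposite

/-- Five lemma. -/
lemma Bij.of_triangle [H.IsHomological] (T : Triangle D) (hT : T ∈ distTriang D)
    (h₁ : Bij H b T.obj₁) (h₂ : Bij H b T.obj₂) (h₁' : Bij H b (T.obj₁⟦(1 : ℤ)⟧))
    (h₂' : Bij H b (T.obj₂⟦(1 : ℤ)⟧)) : Bij H b T.obj₃ := by
  have inj : ∀ {Y : D}, Bij H b Y → ∀ f : Y ⟶ Z, pb H f b = 0 → f = 0 := fun hY f hf =>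
    hY.1 (by dsimp only; rw [hf, pb_zero_left])
  have surj : ∀ {Y : D}, Bij H b Y → ∀ x : H.obj (op Y), ∃ f : Y ⟶ Z, pb H f b = x :=
    fun hY x => hY.2 x
  constructor
  · suffices ∀ f : T.obj₃ ⟶ Z, pb H f b = 0 → f = 0 by
      intro f g hfg
      rw [← sub_eq_zero]
      apply this
      dsimp only at hfg
      rw [pb_sub_left, hfg, sub_self]
    intro f hf
    have h3 : T.mor₂ ≫ f = 0 := inj h₂ _ (by rw [pb_comp, hf, map_zero])
    obtain ⟨f', hf'⟩ := Triangle.yoneda_exact₃ _ hT f h3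
    obtain ⟨z, hz⟩ := H_exact₁ H T hT (pb H f' b) (by rw [← pb_comp, ← hf', hf])
    obtain ⟨f'', rfl⟩ := surj h₂' z
    have h4 : f' - T.mor₁⟦(1 : ℤ)⟧' ≫ f'' = 0 := inj h₁' _ (by
      rw [pb_sub_left, pb_comp, hz, sub_self])
    rw [sub_eq_zero] at h4
    rw [hf', h4, ← Category.assoc, comp_distTriang_mor_zero₃₁ _ hT, zero_comp]
  · intro z
    obtain ⟨f2, hf2⟩ := surj h₂ (pb H T.mor₂ z)
    have h3 : T.mor₁ ≫ f2 = 0 := inj h₁ _ (by
      rw [pb_comp, hf2, ← pb_comp, comp_distTriang_mor_zero₁₂ _ hT, pb_zero_left])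
    obtain ⟨f3, hf3⟩ := Triangle.yoneda_exact₂ _ hT f2 h3
    obtain ⟨y, hy⟩ := H_exact₃ H T hT (z - pb H f3 b) (by
      rw [map_sub, ← hf2, hf3, pb_comp, sub_self])
    obtain ⟨f1, rfl⟩ := surj h₁' y
    refine ⟨f3 + T.mor₃ ≫ f1, ?_⟩
    dsimp only
    rw [pb_add_left, pb_comp, hy, add_sub_cancel]

end Bij

section Construction

/-!
### The construction, universe-flexible version

`D : Type u` with homs in `Type v`, locally `w`-small with `w`-small coproducts, a `w`-small family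
`E : ι → D`, and a cohomological functor `H` to abelian groups (in any universe) with `w`-small
values, sending `w`-small coproducts to products.
-/

universe w'

variable {D : Type u} [Category.{v} D] [Preadditive D] [HasZeroObject D] [HasShift D ℤ]
  [∀ n : ℤ, (shiftFunctor D n).Additive] [Pretriangulated D] [HasCoproducts.{w} D]
  [LocallySmall.{w} D]

open Pretriangulated Pretriangulated.Opposite

/-- `Q` is a localizing subcategory (closed under `w`-small and countable coproducts, cones,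
isomorphisms) containing the family `E`. -/
structure IsLoc {ι : Type w} (E : ι → D) [HasColimitsOfShape (Discrete ℕ) D]
    (Q : ObjectProperty D) : Prop where
  iso : ∀ {Y Y' : D}, (Y ≅ Y') → Q Y → Q Y'
  coprod : ∀ (κ : Type w) (Y : κ → D), (∀ k, Q (Y k)) → Q (∐ Y)
  coprodNat : ∀ (Y : ℕ → D), (∀ k, Q (Y k)) → Q (∐ Y)
  cone : ∀ T ∈ distTriang D, Q T.obj₁ → Q T.obj₂ → Q T.obj₃
  mem : ∀ i, Q (E i)

variable (H : Dᵒᵖ ⥤ AddCommGrpCat.{w'}) [H.IsHomological]
  [∀ κ : Type w, CoprodToProd H κ]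
  {ι : Type w} (E : ι → D) [HasColimitsOfShape (Discrete ℕ) D]

/-- One step of the construction. -/
lemma exists_step (X : D) (a : H.obj (op X)) :
    ∃ (X' : D) (a' : H.obj (op X')) (t : X ⟶ X'), pb H t a' = a ∧
      (∀ i (k : E i ⟶ X), pb H k a = 0 → k ≫ t = 0) ∧
      (∀ Q : ObjectProperty D, IsLoc E Q → Q X → Q X') := by
  let J := Σ i : ι, Shrink.{w} {k : E i ⟶ X // pb H k a = 0}
  let K : D := ∐ fun j : J => E j.1
  let κ : K ⟶ X := Sigma.desc fun j : J => ((equivShrink _).symm j.2).1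
  obtain ⟨X', t, δ, hT⟩ := distinguished_cocone_triangle κ
  have hκ : pb H κ a = 0 := by
    apply coprod_ext H
    intro j
    rw [← pb_comp, map_zero]
    have : Sigma.ι (fun j : J => E j.1) j ≫ κ = ((equivShrink _).symm j.2).1 := by simp [κ]
    rw [this, ((equivShrink _).symm j.2).2]
  obtain ⟨a', ha'⟩ := H_exact₂ H _ hT a hκ
  refine ⟨X', a', t, ha', ?_, ?_⟩
  · intro i k hk
    have : Sigma.ι (fun j : J => E j.1) (⟨i, equivShrink _ ⟨k, hk⟩⟩ : J) ≫ κ = k := by simp [κ]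
    rw [← this, Category.assoc, show κ ≫ t = 0 from comp_distTriang_mor_zero₁₂ _ hT, comp_zero]
  · intro Q hQ hX
    exact hQ.cone _ hT (hQ.coprod _ _ fun j => hQ.mem _) hX

/-- Existence of an object `Z` of the localizing subcategory generated by `E`, with a
class `b ∈ H Z` inducing bijections `Hom(E i, Z) → H (E i)`. -/
theorem exists_approx [∀ i, Small.{w} (H.obj (op (E i)))]
    (hE : ∀ (X : ℕ → D) (i : ι) (α : E i ⟶ ∐ X), ∃ (j : ℕ → ι) (β : ∀ n, E (j n) ⟶ X n)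
      (γ : E i ⟶ ∐ (fun n => E (j n))), α = γ ≫ Limits.Sigma.map β)
    (hEs : ∀ i, ∃ j, Nonempty ((E j)⟦(1 : ℤ)⟧ ≅ E i)) :
    ∃ (Z : D) (b : H.obj (op Z)), (∀ Q : ObjectProperty D, IsLoc E Q → Q Z) ∧
      ∀ i, Bij H b (E i) := by
  -- the tower
  choose nX na nt ht1 ht2 ht3 using exists_step H E
  let J := Σ i : ι, Shrink.{w} (H.obj (op (E i)))
  let X₀ : D := ∐ fun j : J => E j.1
  obtain ⟨a₀, ha₀⟩ := exists_coprod H (fun j : J => E j.1) (fun j => (equivShrink _).symm j.2)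
  let T : ℕ → Σ X : D, H.obj (op X) :=
    fun n => Nat.rec ⟨X₀, a₀⟩ (fun _ p => ⟨nX p.1 p.2, na p.1 p.2⟩) n
  let X : ℕ → D := fun n => (T n).1
  let a : ∀ n, H.obj (op (X n)) := fun n => (T n).2
  let t : ∀ n, X n ⟶ X (n + 1) := fun n => nt (T n).1 (T n).2
  let P : ObjectProperty D := fun C => ∃ i, C = E i
  have hX : IsAdapted H X t a P := by
    refine ⟨fun n => ht1 _ _, ?_, ?_⟩
    · rintro C ⟨i, rfl⟩ x
      refine ⟨Sigma.ι (fun j : J => E j.1) (⟨i, equivShrink _ x⟩ : J), ?_⟩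
      have := ha₀ (⟨i, equivShrink _ x⟩ : J)
      rw [Equiv.symm_apply_apply] at this
      exact this
    · rintro C ⟨i, rfl⟩ n k hk
      exact ht2 _ _ i k hk
  have hP : IsPerfect P := by
    rintro C ⟨i, rfl⟩ Y α
    obtain ⟨j, β, γ, h⟩ := hE Y i α
    exact ⟨fun n => E (j n), β, γ, fun n => ⟨j n, rfl⟩, h⟩
  have hPs : ∀ C, P C → ∃ C', P C' ∧ Nonempty (C'⟦(1 : ℤ)⟧ ≅ C) := by
    rintro C ⟨i, rfl⟩
    obtain ⟨j, e⟩ := hEs i
    exact ⟨E j, ⟨j, rfl⟩, e⟩
  have : CoprodToProd H ℕ := CoprodToProd.of_equiv H (Equiv.ulift.{w} : ULift.{w} ℕ ≃ ℕ)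
  obtain ⟨σ, hσ⟩ := exists_coprod H X a
  obtain ⟨Z, π, δ, hT⟩ := distinguished_cocone_triangle (𝟙 _ - sh X t)
  have hshσ : pb H (sh X t) σ = σ := by
    apply coprod_ext H X
    intro n
    rw [← pb_comp, hσ]
    simp [sh, hσ, hX.compat]
  have h0 : pb H (𝟙 _ - sh X t) σ = 0 := by rw [pb_sub_left, pb_id, hshσ, sub_self]
  obtain ⟨b, hb⟩ : ∃ b : H.obj (op Z), pb H π b = σ := H_exact₂ H _ hT σ h0
  refine ⟨Z, b, ?_, ?_⟩
  · intro Q hQ
    have hQX : ∀ n, Q (X n) := by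
      intro n
      induction n with
      | zero => exact hQ.coprod _ _ fun j => hQ.mem _
      | succ n ih => exact ht3 _ _ Q hQ ih
    exact hQ.cone _ hT (hQ.coprodNat _ hQX) (hQ.coprodNat _ hQX)
  · intro i
    constructor
    · intro f g hfg
      rw [← sub_eq_zero]
      apply hX.claimB hP hPs σ hσ π δ hT b hb ⟨i, rfl⟩
      dsimp only at hfg
      rw [pb_sub_left, hfg, sub_self]
    · intro x
      obtain ⟨l, hl⟩ := hX.surj (E i) ⟨i, rfl⟩ x
      refine ⟨l ≫ Sigma.ι X 0 ≫ π, ?_⟩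
      dsimp only
      rw [pb_comp, pb_comp, hb, hσ, hl]

/-- Every object lies in the localizing subcategory generated by a perfect generating family. -/
theorem mem_of_isLoc
    (h1 : ∀ X : D, ¬ IsZero X → ∃ (i : ι) (f : E i ⟶ X), f ≠ 0)
    (hE : ∀ (X : ℕ → D) (i : ι) (α : E i ⟶ ∐ X), ∃ (j : ℕ → ι) (β : ∀ n, E (j n) ⟶ X n)
      (γ : E i ⟶ ∐ (fun n => E (j n))), α = γ ≫ Limits.Sigma.map β)
    (hEs : ∀ i, ∃ j, Nonempty ((E j)⟦(1 : ℤ)⟧ ≅ E i)) (Q : ObjectProperty D) (hQ : IsLoc E Q)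
    (Y : D) : Q Y := by
  have : ∀ i, Small.{w} ((preadditiveYoneda.obj Y).obj (op (E i))) := fun i =>
    inferInstanceAs (Small.{w} (E i ⟶ Y))
  obtain ⟨Z, b, hZ, hb⟩ := exists_approx (preadditiveYoneda.obj Y) E hE hEs
  let b' : Z ⟶ Y := b
  have hpb : ∀ {C : D} (f : C ⟶ Z), pb (preadditiveYoneda.obj Y) f b = (f ≫ b' : C ⟶ Y) :=
    fun f => rfl
  obtain ⟨W, p, q, hT⟩ := distinguished_cocone_triangle b'
  have hW : IsZero W := by
    by_contra hW
    obtain ⟨i, f, hf⟩ := h1 W hW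
    apply hf
    have hfq : f ≫ q = 0 := by
      obtain ⟨j, ⟨e⟩⟩ := hEs i
      obtain ⟨g, hg⟩ := (shiftFunctor D (1 : ℤ)).map_surjective (e.hom ≫ f ≫ q)
      have h2 : q ≫ b'⟦(1 : ℤ)⟧' = 0 := comp_distTriang_mor_zero₃₁ _ hT
      have h3 : g ≫ b' = 0 := by
        apply (shiftFunctor D (1 : ℤ)).map_injective
        rw [Functor.map_comp, hg, Category.assoc, Category.assoc, h2, comp_zero, comp_zero,
          Functor.map_zero]
      have h4 : g = 0 := (hb j).1 (by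
        dsimp only
        rw [hpb, hpb, h3, zero_comp])
      rw [h4, Functor.map_zero] at hg
      rw [← cancel_epi e.hom, ← hg, comp_zero]
    obtain ⟨f', hf'⟩ : ∃ f' : E i ⟶ Y, f = f' ≫ p := Triangle.coyoneda_exact₃ _ hT f hfq
    obtain ⟨f'', hf''⟩ := (hb i).2 f'
    dsimp only at hf''
    rw [hpb] at hf''
    rw [hf', ← hf'', Category.assoc, show b' ≫ p = 0 from comp_distTriang_mor_zero₁₂ _ hT,
      comp_zero]
  have : IsIso b' := (Triangle.isZero₃_iff_isIso₁ _ hT).1 hW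
  exact hQ.iso (asIso b') (hZ Q hQ)

/-- Brown representability for shift-stable perfect generating families. -/
theorem exists_bij [∀ i, Small.{w} (H.obj (op (E i)))]
    (h1 : ∀ X : D, ¬ IsZero X → ∃ (i : ι) (f : E i ⟶ X), f ≠ 0)
    (hE : ∀ (X : ℕ → D) (i : ι) (α : E i ⟶ ∐ X), ∃ (j : ℕ → ι) (β : ∀ n, E (j n) ⟶ X n)
      (γ : E i ⟶ ∐ (fun n => E (j n))), α = γ ≫ Limits.Sigma.map β)
    (hEs : ∀ i (n : ℤ), ∃ j, Nonempty (E j ≅ (E i)⟦n⟧)) :
    ∃ (Z : D) (b : H.obj (op Z)), ∀ Y : D, Bij H b Y := by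
  have hEs' : ∀ i, ∃ j, Nonempty ((E j)⟦(1 : ℤ)⟧ ≅ E i) := by
    intro i
    obtain ⟨j, ⟨e⟩⟩ := hEs i (-1)
    exact ⟨j, ⟨(shiftFunctor D (1 : ℤ)).mapIso e ≪≫ (shiftNegShift (E i) (1 : ℤ))⟩⟩
  obtain ⟨Z, b, -, hb⟩ := exists_approx H E hE hEs'
  refine ⟨Z, b, ?_⟩
  let Q : ObjectProperty D := fun Y => ∀ n : ℤ, Bij H b (Y⟦n⟧)
  have : CoprodToProd H ℕ := CoprodToProd.of_equiv H (Equiv.ulift.{w} : ULift.{w} ℕ ≃ ℕ)
  have hQ : IsLoc E Q := by
    refine ⟨?_, ?_, ?_, ?_, ?_⟩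
    · intro Y Y' e hY n
      exact (hY n).of_iso ((shiftFunctor D n).mapIso e)
    · intro κ Y hY n
      exact Bij.of_cofan _ (isColimitCofanMkObjOfIsColimit (shiftFunctor D n) Y _
        (coproductIsCoproduct Y)) (fun k => hY k n)
    · intro Y hY n
      exact Bij.of_cofan _ (isColimitCofanMkObjOfIsColimit (shiftFunctor D n) Y _
        (coproductIsCoproduct Y)) (fun k => hY k n)
    · intro T hT h₁ h₂ n
      have e : ∀ X : D, X⟦n + 1⟧ ≅ X⟦n⟧⟦(1 : ℤ)⟧ := fun X => shiftAdd X n 1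
      exact Bij.of_triangle _ (Triangle.shift_distinguished T hT n) (h₁ n) (h₂ n)
        ((h₁ (n + 1)).of_iso (e _)) ((h₂ (n + 1)).of_iso (e _))
    · intro i n
      obtain ⟨j, ⟨e⟩⟩ := hEs i n
      exact (hb j).of_iso e
  intro Y
  exact (mem_of_isLoc E h1 hE hEs' Q hQ Y 0).of_iso ((shiftFunctorZero D ℤ).app Y)

omit [Preadditive D] [HasZeroObject D] [∀ n : ℤ, (shiftFunctor D n).Additive]
  [Pretriangulated D] [HasCoproducts.{w} D] [LocallySmall.{w} D] in
/-- The factorization condition for `E` implies the one for the shifted family. -/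
lemma perfect_shift
    (h2 : ∀ (X : ℕ → D) (i : ι) (α : E i ⟶ ∐ X), ∃ (j : ℕ → ι) (β : ∀ n, E (j n) ⟶ X n)
      (γ : E i ⟶ ∐ (fun n => E (j n))), α = γ ≫ Limits.Sigma.map β)
    (X : ℕ → D) (i : ι) (n : ℤ) (α : (E i)⟦n⟧ ⟶ ∐ X) :
    ∃ (j : ℕ → ι) (β : ∀ m, (E (j m))⟦n⟧ ⟶ X m)
      (γ : (E i)⟦n⟧ ⟶ ∐ (fun m => (E (j m))⟦n⟧)), α = γ ≫ Limits.Sigma.map β := by
  let G := shiftFunctor D n
  let Y : ℕ → D := fun m => (X m)⟦-n⟧
  let e : ∀ m, G.obj (Y m) ≅ X m := fun m => shiftNegShift (X m) n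
  have hc : ∀ (W : ℕ → D), IsColimit (Cofan.mk (G.obj (∐ W)) (fun m => G.map (Sigma.ι W m))) :=
    fun W => isColimitCofanMkObjOfIsColimit G W _ (coproductIsCoproduct W)
  let θ : ∐ X ⟶ G.obj (∐ Y) := Sigma.desc (fun m => (e m).inv ≫ G.map (Sigma.ι Y m))
  let θ' : G.obj (∐ Y) ⟶ ∐ X := Cofan.IsColimit.desc (hc Y) (fun m => (e m).hom ≫ Sigma.ι X m)
  have hθ' : ∀ m, G.map (Sigma.ι Y m) ≫ θ' = (e m).hom ≫ Sigma.ι X m := fun m =>
    Cofan.IsColimit.fac (hc Y) _ m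
  have hθθ' : θ ≫ θ' = 𝟙 _ := by
    ext m
    simp only [θ, colimit.ι_desc_assoc, Cofan.mk_ι_app, Category.assoc, hθ',
      Iso.inv_hom_id_assoc]
    exact (Category.comp_id _).symm
  obtain ⟨α', hα'⟩ := G.map_surjective (α ≫ θ)
  obtain ⟨j, β', γ', rfl⟩ := h2 Y i α'
  let ψ : G.obj (∐ fun m => E (j m)) ⟶ ∐ fun m => G.obj (E (j m)) :=
    Cofan.IsColimit.desc (hc _) (fun m => Sigma.ι (fun m => G.obj (E (j m))) m)
  have hψ : ∀ m, G.map (Sigma.ι (fun m => E (j m)) m) ≫ ψ =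
      Sigma.ι (fun m => G.obj (E (j m))) m := fun m => Cofan.IsColimit.fac (hc _) _ m
  refine ⟨j, fun m => G.map (β' m) ≫ (e m).hom, G.map γ' ≫ ψ, ?_⟩
  have key : ψ ≫ Limits.Sigma.map (fun m => G.map (β' m) ≫ (e m).hom) =
      G.map (Limits.Sigma.map β') ≫ θ' := by
    apply Cofan.IsColimit.hom_ext (hc _)
    intro m
    change G.map (Sigma.ι (fun m => E (j m)) m) ≫ _ = G.map (Sigma.ι (fun m => E (j m)) m) ≫ _
    rw [reassoc_of% (hψ m), Sigma.ι_map, ← Functor.map_comp_assoc, Sigma.ι_map,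
      Functor.map_comp_assoc, hθ']
    simp
  calc α = (α ≫ θ) ≫ θ' := by rw [Category.assoc, hθθ', Category.comp_id]
    _ = G.map γ' ≫ G.map (Limits.Sigma.map β') ≫ θ' := by
      rw [← hα', Functor.map_comp, Category.assoc]
    _ = _ := by rw [← key, Category.assoc]

/-- Brown representability (Stacks 0GYG) in elementwise form. -/
theorem exists_bij' [∀ (i : ι) (n : ℤ), Small.{w} (H.obj (op ((E i)⟦n⟧)))]
    (h1 : ∀ X : D, ¬ IsZero X → ∃ (i : ι) (f : E i ⟶ X), f ≠ 0)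
    (h2 : ∀ (X : ℕ → D) (i : ι) (α : E i ⟶ ∐ X), ∃ (j : ℕ → ι) (β : ∀ n, E (j n) ⟶ X n)
      (γ : E i ⟶ ∐ (fun n => E (j n))), α = γ ≫ Limits.Sigma.map β) :
    ∃ (Z : D) (b : H.obj (op Z)), ∀ Y : D, Bij H b Y := by
  let E' : ι × ℤ → D := fun p => (E p.1)⟦p.2⟧
  have : ∀ p : ι × ℤ, Small.{w} (H.obj (op (E' p))) := fun p =>
    inferInstanceAs (Small.{w} (H.obj (op ((E p.1)⟦p.2⟧))))
  refine exists_bij H E' ?_ ?_ ?_
  · intro X hX
    obtain ⟨i, f, hf⟩ := h1 X hX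
    refine ⟨(i, 0), (shiftFunctorZero D ℤ).hom.app (E i) ≫ f, ?_⟩
    intro h
    apply hf
    rw [← cancel_epi ((shiftFunctorZero D ℤ).hom.app (E i)), h, comp_zero]
  · rintro X ⟨i, n⟩ α
    obtain ⟨j, β, γ, h⟩ := perfect_shift E h2 X i n α
    exact ⟨fun m => (j m, n), β, γ, h⟩
  · rintro ⟨i, m⟩ n
    exact ⟨(i, m + n), ⟨shiftAdd (E i) m n⟩⟩

omit H [H.IsHomological] [∀ κ : Type w, CoprodToProd H κ] in
/-- Brown representability (Stacks 0GYG): `w`-small version. -/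
theorem isRepresentable (H : Dᵒᵖ ⥤ AddCommGrpCat.{v}) [H.IsHomological]
    [∀ κ : Type w, CoprodToProd H κ]
    [∀ (i : ι) (n : ℤ), Small.{w} (H.obj (op ((E i)⟦n⟧)))]
    (h1 : ∀ X : D, ¬ IsZero X → ∃ (i : ι) (f : E i ⟶ X), f ≠ 0)
    (h2 : ∀ (X : ℕ → D) (i : ι) (α : E i ⟶ ∐ X), ∃ (j : ℕ → ι) (β : ∀ n, E (j n) ⟶ X n)
      (γ : E i ⟶ ∐ (fun n => E (j n))), α = γ ≫ Limits.Sigma.map β) :
    (H ⋙ forget AddCommGrpCat.{v}).IsRepresentable := by
  obtain ⟨Z, b, hZ⟩ := exists_bij' H E h1 h2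
  refine Functor.RepresentableBy.isRepresentable (Y := Z)
    { homEquiv := fun {Y} => Equiv.ofBijective _ (hZ Y)
      homEquiv_comp := fun f g => ?_ }
  exact pb_comp H f g b

omit H [H.IsHomological] [∀ κ : Type w, CoprodToProd H κ] in
/-- Stacks 0GYH: exact functors commuting with direct sums are left adjoints. -/
theorem isLeftAdjoint {D' : Type*} [Category.{w'} D'] [Preadditive D'] [HasZeroObject D']
    [HasShift D' ℤ] [∀ n : ℤ, (shiftFunctor D' n).Additive] [Pretriangulated D']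
    [LocallySmall.{w} D'] (F : D ⥤ D') [F.CommShift ℤ] [F.IsTriangulated]
    [∀ (κ : Type w), PreservesColimitsOfShape (Discrete κ) F]
    (h1 : ∀ X : D, ¬ IsZero X → ∃ (i : ι) (f : E i ⟶ X), f ≠ 0)
    (h2 : ∀ (X : ℕ → D) (i : ι) (α : E i ⟶ ∐ X), ∃ (j : ℕ → ι) (β : ∀ n, E (j n) ⟶ X n)
      (γ : E i ⟶ ∐ (fun n => E (j n))), α = γ ≫ Limits.Sigma.map β) : F.IsLeftAdjoint := by
  have key : ∀ Y : D', ∃ (Z : D) (b : F.obj Z ⟶ Y), ∀ X : D,
      Function.Bijective (fun f : X ⟶ Z => F.map f ≫ b) := by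
    intro Y
    have : ∀ κ : Type w, CoprodToProd (F.op ⋙ preadditiveYoneda.obj Y) κ := fun κ =>
      coprodToProd_comp κ F _
    have : ∀ (i : ι) (n : ℤ),
        Small.{w} ((F.op ⋙ preadditiveYoneda.obj Y).obj (op ((E i)⟦n⟧))) := fun i n =>
      inferInstanceAs (Small.{w} (F.obj ((E i)⟦n⟧) ⟶ Y))
    obtain ⟨Z, b, hZ⟩ := exists_bij' (F.op ⋙ preadditiveYoneda.obj Y) E h1 h2
    exact ⟨Z, b, hZ⟩
  choose Z b hb using key
  have hb' : ∀ (X : D) (Y : D') (f : F.obj X ⟶ Y),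
      F.map ((Equiv.ofBijective _ (hb Y X)).symm f) ≫ b Y = f := fun X Y f =>
    (Equiv.ofBijective _ (hb Y X)).apply_symm_apply f
  exact (Adjunction.adjunctionOfEquivRight (F := F) (G_obj := Z)
    (fun X Y => (Equiv.ofBijective _ (hb Y X)).symm) (fun X' X Y f g => by
      apply (hb Y X').1
      dsimp only
      rw [hb', F.map_comp, Category.assoc, hb'])).isLeftAdjoint

end Construction

end Groth.Agent.CohtopB.BrownCore
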