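import Mathlib.Algebra.Homology.DerivedCategory.Fractions
import Mathlib.Algebra.Homology.DerivedCategory.FullyFaithful
import Mathlib.Algebra.Homology.SingleHomology
import Groth.Agent.CohtopB.DTrunc

/-!
The canonical map `Hom_{D(A)}(X[0], K[n]) ⟶ Hom_A(X, H^n(K))` and its effaceability properties: an element of
the kernel dies after pulling back along an epimorphism `Y ⟶ X`, and every morphism `X ⟶ H^n(K)` lifts after
pulling back along an epimorphism.
-/

set_option autoImplicit false
universe w v u w'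

open CategoryTheory CategoryTheory.Limits CategoryTheory.Pretriangulated DerivedCategory

namespace Groth.Agent.CohtopB.Can

variable {A : Type u} [Category.{v} A] [Abelian A] [HasDerivedCategory.{w} A]

/-- `X ≅ H^0(X[0])`. -/
noncomputable def sIso (X : A) : X ≅ (homologyFunctor A 0).obj ((singleFunctor A 0).obj X) :=
  ((singleFunctorCompHomologyFunctorIso A 0).app X).symm

@[reassoc]
lemma sIso_hom_naturality {X Y : A} (f : Y ⟶ X) :
    f ≫ (sIso X).hom = (sIso Y).hom ≫ (homologyFunctor A 0).map ((singleFunctor A 0).map f) :=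
  (singleFunctorCompHomologyFunctorIso A 0).inv.naturality f

/-- `H^0(K[n]) ≅ H^n(K)`. -/
noncomputable def hIso (K : DerivedCategory A) (n : ℤ) :
    (homologyFunctor A 0).obj (K⟦n⟧) ≅ (homologyFunctor A n).obj K :=
  ((homologyFunctor A 0).shiftIso n 0 n (by lia)).app K

@[reassoc]
lemma hIso_hom_naturality {K L : DerivedCategory A} (φ : K ⟶ L) (n : ℤ) :
    (homologyFunctor A 0).map (φ⟦n⟧') ≫ (hIso L n).hom = (hIso K n).hom ≫ (homologyFunctor A n).map φ :=
  ((homologyFunctor A 0).shiftIso n 0 n (by lia)).hom.naturality φ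

/-- The canonical map `Hom(X[0], K[n]) ⟶ Hom(X, H^n(K))`. -/
noncomputable def can {X : A} {K : DerivedCategory A} {n : ℤ} (x : (singleFunctor A 0).obj X ⟶ K⟦n⟧) :
    X ⟶ (homologyFunctor A n).obj K :=
  (sIso X).hom ≫ (homologyFunctor A 0).map x ≫ (hIso K n).hom

lemma can_precomp {X Y : A} {K : DerivedCategory A} {n : ℤ} (f : Y ⟶ X)
    (x : (singleFunctor A 0).obj X ⟶ K⟦n⟧) : can ((singleFunctor A 0).map f ≫ x) = f ≫ can x := by
  rw [can, can, Functor.map_comp, sIso_hom_naturality_assoc, Category.assoc]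

lemma can_postcomp {X : A} {K L : DerivedCategory A} {n : ℤ} (x : (singleFunctor A 0).obj X ⟶ K⟦n⟧)
    (φ : K ⟶ L) : can (x ≫ φ⟦n⟧') = can x ≫ (homologyFunctor A n).map φ := by
  rw [can, can, Functor.map_comp, Category.assoc, Category.assoc, Category.assoc, hIso_hom_naturality]

lemma can_zero {X : A} {K : DerivedCategory A} {n : ℤ} :
    can (0 : (singleFunctor A 0).obj X ⟶ K⟦n⟧) = 0 := by
  rw [can, Functor.map_zero, zero_comp, comp_zero]

lemma can_add {X : A} {K : DerivedCategory A} {n : ℤ} (x y : (singleFunctor A 0).obj X ⟶ K⟦n⟧) :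
    can (x + y) = can x + can y := by
  simp only [can, Functor.map_add, Preadditive.add_comp, Preadditive.comp_add]

/-- The canonical map as a homomorphism of groups. -/
noncomputable def canHom (X : A) (K : DerivedCategory A) (n : ℤ) :
    ((singleFunctor A 0).obj X ⟶ K⟦n⟧) →+ (X ⟶ (homologyFunctor A n).obj K) :=
  AddMonoidHom.mk' can can_add

@[simp]
lemma canHom_apply {X : A} {K : DerivedCategory A} {n : ℤ} (x : (singleFunctor A 0).obj X ⟶ K⟦n⟧) :
    canHom X K n x = can x := rfl

lemma can_neg {X : A} {K : DerivedCategory A} {n : ℤ} (x : (singleFunctor A 0).obj X ⟶ K⟦n⟧) :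
    can (-x) = -can x := (canHom X K n).map_neg x

lemma can_sub {X : A} {K : DerivedCategory A} {n : ℤ} (x y : (singleFunctor A 0).obj X ⟶ K⟦n⟧) :
    can (x - y) = can x - can y := (canHom X K n).map_sub x y

/-- `can x = 0` iff `H^0(x) = 0`. -/
lemma can_eq_zero_iff {X : A} {K : DerivedCategory A} {n : ℤ} (x : (singleFunctor A 0).obj X ⟶ K⟦n⟧) :
    can x = 0 ↔ (homologyFunctor A 0).map x = 0 := by
  rw [can]
  constructor
  · intro h
    rw [← cancel_epi (sIso X).hom, ← cancel_mono (hIso K n).hom, Category.assoc, h]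
    simp
  · intro h
    rw [h, zero_comp, comp_zero]

/-- A map from a single object to an object in degrees `≥ 0` vanishes as soon as it does on `H^0`. -/
lemma eq_zero_of_isGE {X : A} {M : DerivedCategory A} [M.IsGE 0] (x : (singleFunctor A 0).obj X ⟶ M)
    (hx : (homologyFunctor A 0).map x = 0) : x = 0 := by
  have hT := TStructure.t.triangleLTGE_distinguished 1 M
  obtain ⟨y, hy⟩ : ∃ y : (singleFunctor A 0).obj X ⟶ (TStructure.t.truncLT 1).obj M,
      x = y ≫ (TStructure.t.truncLTι 1).app M :=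
    Triangle.coyoneda_exact₂ _ hT x (TStructure.t.zero_of_isLE_of_isGE _ 0 1 (by lia) inferInstance
      (TStructure.t.isGE_truncGE_obj _ _ _ le_rfl))
  have h0 : TStructure.t.IsGE ((TStructure.t.truncLT 1).obj M) 0 := inferInstance
  have h1 : TStructure.t.IsLE ((TStructure.t.truncLT 1).obj M) 0 :=
    TStructure.t.isLE_truncLT_obj _ _ _ (by lia)
  obtain ⟨e⟩ := DTrunc.exists_iso_single ((TStructure.t.truncLT 1).obj M) 0
  obtain ⟨f, hf⟩ := (singleFunctor A 0).map_surjective (y ≫ e.hom)
  have hiso := DTrunc.isIso_homology_map_truncLTι M 1 0 (by lia)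
  have hy0 : (homologyFunctor A 0).map y = 0 := by
    rw [← cancel_mono ((homologyFunctor A 0).map ((TStructure.t.truncLTι 1).app M)), zero_comp,
      ← Functor.map_comp, ← hy, hx]
  have hf0 : f = 0 := by
    have h2 : (homologyFunctor A 0).map ((singleFunctor A 0).map f) = 0 := by
      rw [hf, Functor.map_comp, hy0, zero_comp]
    rw [← cancel_mono (sIso _).hom, sIso_hom_naturality, h2, comp_zero, zero_comp]
  have hye : y = 0 := by
    rw [← cancel_mono e.hom, ← hf, hf0, Functor.map_zero, zero_comp]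
  rw [hy, hye, zero_comp]

section Complexes

open HomologicalComplex

variable {A : Type u} [Category.{v} A] [Abelian A]

/-- The inclusion of the top term of a complex in degrees `≤ 0`. -/
noncomputable def topIncl (N : CochainComplex A ℤ) [N.IsStrictlyLE 0] :
    (HomologicalComplex.single A (ComplexShape.up ℤ) 0).obj (N.X 0) ⟶ N :=
  mkHomFromSingle (𝟙 _) (fun k hk => (N.isZero_of_isStrictlyLE 0 k (by
    simp only [ComplexShape.up_Rel] at hk; lia)).eq_of_tgt _ _)

lemma epi_homologyMap_topIncl (N : CochainComplex A ℤ) [N.IsStrictlyLE 0] :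
    Epi (homologyMap (topIncl N) 0) := by
  have h1 : IsIso (N.iCycles 0) := N.isIso_iCycles 0 1 (by simp)
    ((N.isZero_of_isStrictlyLE 0 1 (by lia)).eq_of_tgt _ _)
  have h2 : IsIso (((HomologicalComplex.single A (ComplexShape.up ℤ) 0).obj (N.X 0)).iCycles 0) :=
    ((single A (ComplexShape.up ℤ) 0).obj (N.X 0)).isIso_iCycles 0 _ rfl (by simp)
  have h3 : IsIso ((topIncl N).f 0) := by
    rw [topIncl, mkHomFromSingle_f, Category.comp_id]
    infer_instance
  have h4 : cyclesMap (topIncl N) 0 ≫ N.iCycles 0 =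
      ((HomologicalComplex.single A (ComplexShape.up ℤ) 0).obj (N.X 0)).iCycles 0 ≫ (topIncl N).f 0 :=
    cyclesMap_i _ _
  have h5 : IsIso (cyclesMap (topIncl N) 0) := by
    have : IsIso (cyclesMap (topIncl N) 0 ≫ N.iCycles 0) := by rw [h4]; infer_instance
    exact IsIso.of_isIso_comp_right _ (N.iCycles 0)
  have h6 : ((HomologicalComplex.single A (ComplexShape.up ℤ) 0).obj (N.X 0)).homologyπ 0 ≫
      homologyMap (topIncl N) 0 = cyclesMap (topIncl N) 0 ≫ N.homologyπ 0 := homologyπ_naturality _ _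
  have h7 : Epi (((HomologicalComplex.single A (ComplexShape.up ℤ) 0).obj (N.X 0)).homologyπ 0 ≫
      homologyMap (topIncl N) 0) := by
    rw [h6]; infer_instance
  exact epi_of_epi (((HomologicalComplex.single A (ComplexShape.up ℤ) 0).obj (N.X 0)).homologyπ 0) _

end Complexes

/-- The single object as the image of the single complex. -/
noncomputable def sQ (Y : A) : (singleFunctor A 0).obj Y ≅
    Q.obj ((HomologicalComplex.single A (ComplexShape.up ℤ) 0).obj Y) :=
  (singleFunctorIsoCompQ A 0).app Y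

/-- The map from the top term of a complex in degrees `≤ 0`. -/
noncomputable def topMap (N : CochainComplex A ℤ) [N.IsStrictlyLE 0] :
    (singleFunctor A 0).obj (N.X 0) ⟶ Q.obj N :=
  (sQ (N.X 0)).hom ≫ Q.map (topIncl N)

/-- `H^n(Q K) ≅ H^n(K)`. -/
noncomputable def qh (N : CochainComplex A ℤ) (n : ℤ) :
    (homologyFunctor A n).obj (Q.obj N) ≅ N.homology n :=
  (homologyFunctorFactors A n).app N

@[reassoc]
lemma qh_naturality {N M : CochainComplex A ℤ} (f : N ⟶ M) (n : ℤ) :
    (homologyFunctor A n).map (Q.map f) ≫ (qh M n).hom = (qh N n).hom ≫ HomologicalComplex.homologyMap f n :=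
  homologyFunctorFactors_hom_naturality f n

lemma epi_homology_map_topMap (N : CochainComplex A ℤ) [N.IsStrictlyLE 0] :
    Epi ((homologyFunctor A 0).map (topMap N)) := by
  have h1 := epi_homologyMap_topIncl N
  have h2 := qh_naturality (topIncl N) 0
  have h4 : (homologyFunctor A 0).map (Q.map (topIncl N)) =
      (qh _ 0).hom ≫ HomologicalComplex.homologyMap (topIncl N) 0 ≫ (qh N 0).inv := by
    rw [← Category.assoc, ← h2, Category.assoc, Iso.hom_inv_id, Category.comp_id]
  have h5 : Epi ((homologyFunctor A 0).map (Q.map (topIncl N))) := by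
    rw [h4]
    infer_instance
  rw [topMap, Functor.map_comp]
  exact epi_comp _ _

/-- Every object in degrees `≤ 0` receives a map from a single object which is epi on `H^0`. -/
lemma exists_epi_of_isLE (N : DerivedCategory A) [N.IsLE 0] :
    ∃ (Y : A) (σ : (singleFunctor A 0).obj Y ⟶ N), Epi ((homologyFunctor A 0).map σ) := by
  obtain ⟨N', hN', ⟨e⟩⟩ := exists_iso_Q_obj_of_isLE N 0
  have := epi_homology_map_topMap N'
  refine ⟨N'.X 0, topMap N' ≫ e.inv, ?_⟩
  rw [Functor.map_comp]
  exact epi_comp _ _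

/-- A map `X[0] ⟶ M` with `M` in degrees `≤ -1` dies on an epimorphism. -/
lemma exists_epi_comp_eq_zero_of_isLE {X : A} {M : DerivedCategory A} [M.IsLE (-1)]
    (x : (singleFunctor A 0).obj X ⟶ M) :
    ∃ (Y : A) (e : Y ⟶ X), Epi e ∧ (singleFunctor A 0).map e ≫ x = 0 := by
  obtain ⟨M', hM', ⟨i⟩⟩ := exists_iso_Q_obj_of_isLE M (-1)
  let X' : CochainComplex A ℤ := (HomologicalComplex.single A (ComplexShape.up ℤ) 0).obj X
  have hX' : X'.IsStrictlyLE 0 := inferInstanceAs (((CochainComplex.singleFunctor A 0).obj X).IsStrictlyLE 0)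
  obtain ⟨Z, hZ, s, hs, g, hg⟩ := right_fac_of_isStrictlyLE (X := X') (Y := M') ((sQ X).inv ≫ x ≫ i.hom) 0
  obtain ⟨e, he⟩ := (singleFunctor A 0).map_surjective (topMap Z ≫ Q.map s ≫ (sQ X).inv)
  have hzero : topMap Z ≫ Q.map g = 0 := by
    have : topIncl Z ≫ g = 0 := by
      ext
      exact (M'.isZero_of_isStrictlyLE (-1) 0 (by lia)).eq_of_tgt _ _
    rw [topMap, Category.assoc, ← Q.map_comp, this, Q.map_zero, comp_zero]
  refine ⟨Z.X 0, e, ?_, ?_⟩
  · have h4 := epi_homology_map_topMap Z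
    have h5 : Epi ((homologyFunctor A 0).map ((singleFunctor A 0).map e)) := by
      rw [he, Functor.map_comp]
      exact epi_comp _ _
    have h6 : e = (sIso (Z.X 0)).hom ≫ (homologyFunctor A 0).map ((singleFunctor A 0).map e) ≫
        (sIso X).inv := by
      rw [← sIso_hom_naturality_assoc, Iso.hom_inv_id, Category.comp_id]
    rw [h6]
    infer_instance
  · rw [← cancel_mono i.hom, Category.assoc, zero_comp, he, Category.assoc, Category.assoc, hg,
      IsIso.hom_inv_id_assoc, hzero]

/-- An element of the kernel of the canonical map dies on an epimorphism. -/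
lemma exists_epi_comp_eq_zero {X : A} {K : DerivedCategory A} {n : ℤ}
    (x : (singleFunctor A 0).obj X ⟶ K⟦n⟧) (hx : can x = 0) :
    ∃ (Y : A) (e : Y ⟶ X), Epi e ∧ (singleFunctor A 0).map e ≫ x = 0 := by
  rw [can_eq_zero_iff] at hx
  have h0 : x ≫ (TStructure.t.truncGEπ 0).app (K⟦n⟧) = 0 := by
    have : TStructure.t.IsGE ((TStructure.t.truncGE 0).obj (K⟦n⟧)) 0 := inferInstance
    refine @eq_zero_of_isGE _ _ _ _ _ ((TStructure.t.truncGE 0).obj (K⟦n⟧)) this
      (x ≫ (TStructure.t.truncGEπ 0).app (K⟦n⟧)) ?_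
    rw [Functor.map_comp, hx, zero_comp]
  obtain ⟨y, hy⟩ : ∃ y : (singleFunctor A 0).obj X ⟶ (TStructure.t.truncLT 0).obj (K⟦n⟧),
      x = y ≫ (TStructure.t.truncLTι 0).app (K⟦n⟧) :=
    Triangle.coyoneda_exact₂ _ (TStructure.t.triangleLTGE_distinguished 0 (K⟦n⟧)) x h0
  have hle : ((TStructure.t.truncLT 0).obj (K⟦n⟧)).IsLE (-1) :=
    TStructure.t.isLE_truncLT_obj _ _ _ (by lia)
  obtain ⟨Y, e, he, h⟩ := exists_epi_comp_eq_zero_of_isLE y
  exact ⟨Y, e, he, by rw [hy, reassoc_of% h, zero_comp]⟩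

/-- Every morphism `X ⟶ H^n(K)` lifts through the canonical map on an epimorphism. -/
lemma exists_epi_lift {X : A} {K : DerivedCategory A} {n : ℤ} (s : X ⟶ (homologyFunctor A n).obj K) :
    ∃ (Y : A) (e : Y ⟶ X) (x : (singleFunctor A 0).obj Y ⟶ K⟦n⟧), Epi e ∧ can x = e ≫ s := by
  have hle : ((TStructure.t.truncLT 1).obj (K⟦n⟧)).IsLE 0 :=
    TStructure.t.isLE_truncLT_obj _ _ _ (by lia)
  obtain ⟨Y, σ, hσ⟩ := exists_epi_of_isLE ((TStructure.t.truncLT 1).obj (K⟦n⟧))
  have hiso := DTrunc.isIso_homology_map_truncLTι (K⟦n⟧) 1 0 (by lia)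
  let τ : (singleFunctor A 0).obj Y ⟶ K⟦n⟧ := σ ≫ (TStructure.t.truncLTι 1).app (K⟦n⟧)
  have hτ : Epi (can τ) := by
    have : Epi ((homologyFunctor A 0).map τ) := by
      have e1 : (homologyFunctor A 0).map τ = (homologyFunctor A 0).map σ ≫
        (homologyFunctor A 0).map ((TStructure.t.truncLTι 1).app (K⟦n⟧)) := Functor.map_comp _ _ _
      rw [e1]
      infer_instance
    rw [can]
    infer_instance
  refine ⟨pullback s (can τ), pullback.fst _ _, (singleFunctor A 0).map (pullback.snd _ _) ≫ τ,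
    inferInstance, ?_⟩
  rw [can_precomp, pullback.condition]

end Groth.Agent.CohtopB.Can
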