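import Groth.Agent.CohtopB.DerLocal
import Groth.Agent.CohtopB.FreeSheafHom

/-!
# The canonical map from hypercohomology to sections of the cohomology sheaf

For an object `K` of the derived category of abelian sheaves on a site, `cHD K n U` is the canonical
map `H^n(U, K) ⟶ H^n(K)(U)` (apply `H^0` to `ℤ_U ⟶ K[n]` and evaluate at the generator).  It is
natural in `U` and `K`, locally injective and locally surjective, so that the sheafification of
`U ↦ H^n(U, K)` is the cohomology sheaf `H^n(K)`.
-/

set_option autoImplicit false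

universe w u

open CategoryTheory CategoryTheory.Limits Opposite DerivedCategory

namespace Groth.Agent.CohtopB.CanonMap

open DerLocal FreeSheafHom

variable {C : Type u} [SmallCategory C] {J : GrothendieckTopology C}
  [HasDerivedCategory.{w} (Sheaf J AddCommGrpCat.{u})]

/-- The isomorphism `H^0(K[n]) ≅ H^n(K)`. -/
noncomputable def shIso (n : ℤ) (K : DerivedCategory (Sheaf J AddCommGrpCat.{u})) :
    (homologyFunctor (Sheaf J AddCommGrpCat.{u}) 0).obj ((shiftFunctor _ n).obj K) ≅
      CohCx.HD K n :=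
  ((homologyFunctor (Sheaf J AddCommGrpCat.{u}) 0).shiftIso n 0 n (by omega)).app K

lemma shIso_hom_naturality (n : ℤ) {K K' : DerivedCategory (Sheaf J AddCommGrpCat.{u})}
    (φ : K ⟶ K') :
    (homologyFunctor (Sheaf J AddCommGrpCat.{u}) 0).map ((shiftFunctor _ n).map φ) ≫
      (shIso n K').hom = (shIso n K).hom ≫ (homologyFunctor _ n).map φ :=
  ((homologyFunctor (Sheaf J AddCommGrpCat.{u}) 0).shiftIso n 0 n (by omega)).hom.naturality φ

/-- The map of sheaves `ℤ_U ⟶ H^n(K)` attached to a class in `H^n(U, K)`. -/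
noncomputable def classHom (K : DerivedCategory (Sheaf J AddCommGrpCat.{u})) (n : ℤ) (U : C) :
    CohCx.HDU K n U →+ (CohCx.freeSheaf J U ⟶ CohCx.HD K n) where
  toFun x := homClass x ≫ (shIso n K).hom
  map_zero' := by rw [homClass_zero, zero_comp]
  map_add' x y := by rw [homClass_add, Preadditive.add_comp]

lemma classHom_apply {K : DerivedCategory (Sheaf J AddCommGrpCat.{u})} {n : ℤ} {U : C}
    (x : CohCx.HDU K n U) : classHom K n U x = homClass x ≫ (shIso n K).hom := rfl

lemma classHom_eq_zero_iff {K : DerivedCategory (Sheaf J AddCommGrpCat.{u})} {n : ℤ} {U : C}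
    (x : CohCx.HDU K n U) : classHom K n U x = 0 ↔ homClass x = 0 := by
  rw [classHom_apply]
  constructor
  · intro h
    rw [← cancel_mono (shIso n K).hom, h, zero_comp]
  · intro h
    rw [h, zero_comp]

lemma classHom_res {K : DerivedCategory (Sheaf J AddCommGrpCat.{u})} {n : ℤ} {U V : C}
    (g : V ⟶ U) (x : CohCx.HDU K n U) :
    classHom K n V (CohCx.HDUres K n g x) = CohCx.freeSheafMap J g ≫ classHom K n U x := by
  rw [classHom_apply, classHom_apply, ← Category.assoc, ← homClass_precomp]
  rfl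

lemma classHom_comp {K K' : DerivedCategory (Sheaf J AddCommGrpCat.{u})} (φ : K ⟶ K') {n : ℤ}
    {U : C} (x : CohCx.HDU K n U) :
    classHom K' n U (x ≫ (shiftFunctor _ n).map φ) =
      classHom K n U x ≫ (homologyFunctor _ n).map φ := by
  rw [classHom_apply, classHom_apply, homClass_comp, Category.assoc, shIso_hom_naturality,
    Category.assoc]

/-- The canonical map `H^n(U, K) ⟶ H^n(K)(U)`. -/
noncomputable def cHD (K : DerivedCategory (Sheaf J AddCommGrpCat.{u})) (n : ℤ) (U : C) :
    CohCx.HDU K n U →+ (CohCx.HD K n).obj.obj (op U) :=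
  (homEquivSections U (CohCx.HD K n)).toAddMonoidHom.comp (classHom K n U)

lemma cHD_apply {K : DerivedCategory (Sheaf J AddCommGrpCat.{u})} {n : ℤ} {U : C}
    (x : CohCx.HDU K n U) :
    cHD K n U x = ((classHom K n U x).hom.app (op U)).hom (gen J U) := rfl

lemma cHD_eq_zero_iff {K : DerivedCategory (Sheaf J AddCommGrpCat.{u})} {n : ℤ} {U : C}
    (x : CohCx.HDU K n U) : cHD K n U x = 0 ↔ homClass x = 0 := by
  rw [← classHom_eq_zero_iff]
  exact (homEquivSections U (CohCx.HD K n)).map_eq_zero_iff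

/-- The canonical map is natural in the object. -/
lemma cHD_res {K : DerivedCategory (Sheaf J AddCommGrpCat.{u})} {n : ℤ} {U V : C}
    (g : V ⟶ U) (x : CohCx.HDU K n U) :
    cHD K n V (CohCx.HDUres K n g x) = ((CohCx.HD K n).obj.map g.op).hom (cHD K n U x) := by
  rw [cHD_apply, classHom_res, freeSheafMap_comp_app_gen]
  rfl

/-- The canonical map is natural in the object of the derived category. -/
lemma cHD_comp {K K' : DerivedCategory (Sheaf J AddCommGrpCat.{u})} (φ : K ⟶ K') {n : ℤ}
    {U : C} (x : CohCx.HDU K n U) :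
    cHD K' n U (x ≫ (shiftFunctor _ n).map φ) =
      (((homologyFunctor _ n).map φ).hom.app (op U)).hom (cHD K n U x) := by
  rw [cHD_apply, classHom_comp]
  rfl

/-- The canonical map is locally surjective. -/
lemma cHD_locally_surjective (K : DerivedCategory (Sheaf J AddCommGrpCat.{u})) (n : ℤ) {U : C}
    (s : (CohCx.HD K n).obj.obj (op U)) :
    ∃ T ∈ J U, ∀ ⦃V : C⦄ (g : V ⟶ U), T.arrows g →
      ∃ x : CohCx.HDU K n V, cHD K n V x = ((CohCx.HD K n).obj.map g.op).hom s := by
  obtain ⟨G, e, he, x, hx⟩ := exists_epi_homClass_eq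
    (homMk s ≫ (shIso n K).inv)
  obtain ⟨T, hT, h⟩ := exists_cover_lift e
  refine ⟨T, hT, fun V g hg => ?_⟩
  obtain ⟨t, ht⟩ := h g hg
  refine ⟨(singleFunctor _ 0).map t ≫ x, ?_⟩
  have : classHom K n V ((singleFunctor _ 0).map t ≫ x) = CohCx.freeSheafMap J g ≫ homMk s := by
    rw [classHom_apply, homClass_precomp, hx, ← ht]
    simp
  rw [cHD_apply, this, freeSheafMap_comp_app_gen, homMk_app_gen]

/-- The canonical map is locally injective. -/
lemma cHD_locally_injective (K : DerivedCategory (Sheaf J AddCommGrpCat.{u})) (n : ℤ) {U : C}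
    (x : CohCx.HDU K n U) (hx : cHD K n U x = 0) :
    ∃ T ∈ J U, ∀ ⦃V : C⦄ (g : V ⟶ U), T.arrows g → CohCx.HDUres K n g x = 0 := by
  rw [cHD_eq_zero_iff] at hx
  obtain ⟨G, e, he, h0⟩ := exists_epi_comp_eq_zero x hx
  obtain ⟨T, hT, h⟩ := exists_cover_lift e
  refine ⟨T, hT, fun V g hg => ?_⟩
  obtain ⟨t, ht⟩ := h g hg
  change (singleFunctor _ 0).map (CohCx.freeSheafMap J g) ≫ x = 0
  rw [← ht, Functor.map_comp, Category.assoc, h0, comp_zero]

/-- Two classes with the same image under the canonical map agree locally. -/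
lemma exists_cover_res_eq (K : DerivedCategory (Sheaf J AddCommGrpCat.{u})) (n : ℤ) {U : C}
    (x y : CohCx.HDU K n U) (hxy : cHD K n U x = cHD K n U y) :
    ∃ T ∈ J U, ∀ ⦃V : C⦄ (g : V ⟶ U), T.arrows g →
      CohCx.HDUres K n g x = CohCx.HDUres K n g y := by
  obtain ⟨T, hT, h⟩ := cHD_locally_injective K n (x - y) (by rw [map_sub, sub_eq_zero, hxy])
  refine ⟨T, hT, fun V g hg => ?_⟩
  have h1 := h g hg
  rwa [map_sub, sub_eq_zero] at h1

end Groth.Agent.CohtopB.CanonMap

namespace Groth.Agent.CohtopB.CanonMap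

variable {C : Type u} [SmallCategory C] {J : GrothendieckTopology C}
  [HasDerivedCategory.{u} (Sheaf J AddCommGrpCat.{u})]

/-- The canonical map of presheaves from `U ↦ H^n(U, K)` to the cohomology sheaf `H^n(K)`. -/
noncomputable def cHDHom (K : DerivedCategory (Sheaf J AddCommGrpCat.{u})) (n : ℤ) :
    CohCx.HDUPresheaf K n ⟶ (CohCx.HD K n).obj where
  app U := AddCommGrpCat.ofHom (cHD K n U.unop)
  naturality U V g := by
    refine AddCommGrpCat.hom_ext (AddMonoidHom.ext fun x => ?_)
    exact cHD_res g.unop x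

lemma cHDHom_app_apply (K : DerivedCategory (Sheaf J AddCommGrpCat.{u})) (n : ℤ) (U : C)
    (x : CohCx.HDU K n U) : ((cHDHom K n).app (op U)).hom x = cHD K n U x := rfl

instance cHDHom_isLocallySurjective (K : DerivedCategory (Sheaf J AddCommGrpCat.{u})) (n : ℤ) :
    Presheaf.IsLocallySurjective J (cHDHom K n) where
  imageSieve_mem {U} s := by
    obtain ⟨T, hT, h⟩ := cHD_locally_surjective K n s
    refine J.superset_covering ?_ hT
    intro V g hg
    obtain ⟨x, hx⟩ := h g hg
    exact ⟨x, hx⟩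

instance cHDHom_isLocallyInjective (K : DerivedCategory (Sheaf J AddCommGrpCat.{u})) (n : ℤ) :
    Presheaf.IsLocallyInjective J (cHDHom K n) where
  equalizerSieve_mem {U} x y hxy := by
    obtain ⟨T, hT, h⟩ := exists_cover_res_eq K n (U := U.unop) x y hxy
    refine J.superset_covering ?_ hT
    intro V g hg
    exact h g hg

/-- The sheafification of `U ↦ H^n(U, K)` is the cohomology sheaf `H^n(K)`. -/
lemma cHDHom_mem_W (K : DerivedCategory (Sheaf J AddCommGrpCat.{u})) (n : ℤ) :
    J.W (cHDHom K n) := by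
  rw [GrothendieckTopology.W_iff_isLocallyBijective]
  exact ⟨inferInstance, inferInstance⟩

end Groth.Agent.CohtopB.CanonMap
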