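import Groth.Agent.CohtopB.CechSite
import Groth.Agent.CohtopB.CechCrit
import Groth.Agent.CohtopA.CechInj

/-!
# Cech acyclicity implies acyclicity (Stacks 03F9), for `Ext` groups out of free abelian sheaves
-/

set_option autoImplicit false

universe u

open CategoryTheory Limits Opposite

namespace Groth.Agent.CohtopB.CechAcyclic

open Groth.Agent.CohtopB.CechSite Groth.Agent.CohtopB.CechCrit

variable {C : Type u} [SmallCategory C] [HasPullbacks C] {J : GrothendieckTopology C}

/-- Lifting maps out of a free abelian sheaf from surjectivity on sections. -/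
theorem exists_lift_of_surjective {C : Type u} [SmallCategory C] {J : GrothendieckTopology C}
    {F G : Sheaf J AddCommGrpCat.{u}} (g : F ⟶ G) (U : C)
    (h : Function.Surjective (g.hom.app (op U)).hom) (b : CohCx.freeSheaf J U ⟶ G) :
    ∃ a : CohCx.freeSheaf J U ⟶ F, a ≫ g = b := by
  obtain ⟨x, hx⟩ := h (FreeSheafHom.homEquivSections U G b)
  refine ⟨(FreeSheafHom.homEquivSections U F).symm x, ?_⟩
  apply (FreeSheafHom.homEquivSections U G).injective
  rw [← hx]
  exact congrArg (g.hom.app (op U)).hom ((FreeSheafHom.homEquivSections U F).apply_symm_apply x)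

/-- Stacks 03F9. -/
theorem subsingleton_ext (B : Set C) (Cov : ∀ (U : C) (ι : Type u), (ι → Over U) → Prop)
    (h1 : ∀ (U : C) (ι : Type u) (Y : ι → Over U), Cov U ι Y → U ∈ B ∧
      Sieve.ofArrows (fun i => (Y i).left) (fun i => (Y i).hom) ∈ J U ∧
      ∀ (p : ℕ) (a : Fin (p + 1) → ι), (∏ᶜ fun k => Y (a k)).left ∈ B)
    (h2 : ∀ U ∈ B, ∀ T ∈ J U, ∃ (ι : Type u) (Y : ι → Over U), Cov U ι Y ∧ ∀ i, T.arrows (Y i).hom)
    (F : Sheaf J AddCommGrpCat.{u})
    (h3 : ∀ (U : C) (ι : Type u) (Y : ι → Over U), Cov U ι Y → ∀ p : ℕ, IsZero (CohCx.cechH F.obj Y (p + 1)))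
    (U : C) (hU : U ∈ B) (p : ℕ) : Subsingleton (Abelian.Ext (CohCx.freeSheaf J U) F (p + 1)) := by
  have key : ∀ (S : ShortComplex (Sheaf J AddCommGrpCat.{u})) (_ : S.ShortExact)
      (_ : ∀ (U : C) (ι : Type u) (Y : ι → Over U), Cov U ι Y →
        ∀ p : ℕ, IsZero (CohCx.cechH S.X₁.obj Y (p + 1))) (U : C) (_ : U ∈ B),
      Function.Surjective (S.g.hom.app (op U)).hom := by
    intro S hS h3 U hU
    refine surjective_of_cechH_one hS U fun T hT => ?_
    obtain ⟨ι, Y, hY, hYT⟩ := h2 U hU T hT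
    exact ⟨ι, Y, hYT, (h1 U ι Y hY).2.1, h3 U ι Y hY 0⟩
  induction p generalizing F U with
  | zero =>
    obtain ⟨S, hS, e, hI⟩ := exists_shortExact_injective F
    subst e
    exact subsingleton_ext_one hS _ (Abelian.Ext.subsingleton_of_injective _ _ 0)
      (exists_lift_of_surjective S.g U (key S hS h3 U hU))
  | succ p ih =>
    obtain ⟨S, hS, e, hI⟩ := exists_shortExact_injective F
    subst e
    refine subsingleton_ext_succ_iff hS _ p (Abelian.Ext.subsingleton_of_injective _ _ _) ?_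
    refine ih S.X₃ (fun U ι Y hY p => ?_) U hU
    exact isZero_cechH_quot hS Y p (fun a => key S hS h3 _ ((h1 U ι Y hY).2.2 _ a))
      (CohtopA.CechInj.isZero_cech_over_of_injective_sheaf S.X₂ Y p) (h3 U ι Y hY (p + 1))

end Groth.Agent.CohtopB.CechAcyclic
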