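import Groth.Agent.CohtopA.CechCompare
import Groth.Agent.CohtopB.SectColim
import Groth.Prelude.Def_CohCx

/-!
# The Cech complex of a covering family on a site with fibre products

* `EO Y`: the simplicial formal coproduct whose Cech type complex is `CohCx.cechH`.
* `augExact`: for a sheaf and a covering family `F(U) → ∏ F(Y i) → ∏ F(Y i ×_U Y j)` is exact.
* `cech_eq_cohomology`: Cech cohomology equals cohomology for sheaves acyclic on the fibre products.
-/

set_option autoImplicit false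

universe u

open CategoryTheory CategoryTheory.Limits Opposite AlgebraicTopology Simplicial Abelian

namespace Groth.Agent.CohtopB.CechOver

open CohtopA.CechInj CohtopA.CechLES CohtopA.FreeAb CohtopA.CechCompare

variable {C : Type u} [SmallCategory C] [HasPullbacks C] {U : C} {ι : Type u} (Y : ι → Over U)

/-- The Cech object of a family of objects over `U`, viewed in `C`. -/
noncomputable abbrev EO : SimplicialObject (FormalCoproduct.{u} C) :=
  ((SimplicialObject.whiskering _ _).obj (mapFC (Over.forget U))).obj (FormalCoproduct.mk _ Y).cech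

/-- The object over `U` attached to a tuple of indices. -/
noncomputable abbrev YY {n : ℕ} (i : Fin (n + 1) → ι) : Over U := ∏ᶜ (Y ∘ i)

/-- The augmentation. -/
noncomputable def aug : EO Y _⦋0⦌ ⟶ (FormalCoproduct.incl C).obj U where
  f _ := PUnit.unit
  φ i := (YY Y i).hom

/-- The structural map between the objects attached to tuples. -/
noncomputable abbrev yδ {n : ℕ} (k : Fin (n + 2)) (i : Fin (n + 2) → ι) : YY Y i ⟶ YY Y (i ∘ k.succAbove) :=
  Pi.lift (fun j => Pi.π (Y ∘ i) (k.succAbove j))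

/-- Components of a Cech cochain. -/
noncomputable abbrev cp (P : Cᵒᵖ ⥤ AddCommGrpCat.{u}) {n : ℕ} (i : Fin (n + 1) → ι)
    (x : ev P (EO Y _⦋n⦌)) : P.obj (op (YY Y i).left) := comp P (EO Y _⦋n⦌) i x

lemma cp_evMap_δ (P : Cᵒᵖ ⥤ AddCommGrpCat.{u}) {n : ℕ} (k : Fin (n + 2)) (x : ev P (EO Y _⦋n⦌))
    (i : Fin (n + 2) → ι) :
    cp Y P i (evMap P ((EO Y).δ k) x) = P.map (yδ Y k i).left.op (cp Y P (i ∘ k.succAbove) x) :=
  comp_evMap P ((EO Y).δ k) x i

lemma cp_augMap (P : Cᵒᵖ ⥤ AddCommGrpCat.{u}) (x : P.obj (op U)) (i : Fin 1 → ι) :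
    cp Y P i (augMap (aug Y) P x) = P.map (YY Y i).hom.op x :=
  comp_augMap (aug Y) P x i

/-- The map `Y a ⟶ Y a` (one fold product). -/
noncomputable def ya (a : ι) : Y a ⟶ YY Y (fun _ : Fin 1 => a) := Pi.lift (fun _ => 𝟙 (Y a))

lemma ya_π (a : ι) (k : Fin 1) : ya Y a ≫ Pi.π (Y ∘ fun _ : Fin 1 => a) k = 𝟙 (Y a) := Pi.lift_π _ _

lemma π_ya (a : ι) (k : Fin 1) : Pi.π (Y ∘ fun _ : Fin 1 => a) k ≫ ya Y a = 𝟙 _ := by
  apply Pi.hom_ext
  intro j
  have : j = k := (inferInstance : Subsingleton (Fin 1)).elim _ _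
  subst this
  rw [Category.assoc, ya_π]
  simp

omit [HasPullbacks C] in
lemma map_map {P : Cᵒᵖ ⥤ AddCommGrpCat.{u}} {X₁ X₂ X₃ : C} (f : X₁ ⟶ X₂) (g : X₂ ⟶ X₃) (x : P.obj (op X₃)) :
    P.map f.op (P.map g.op x) = P.map (f ≫ g).op x := by
  rw [op_comp, P.map_comp]
  rfl

lemma map_cp_one (P : Cᵒᵖ ⥤ AddCommGrpCat.{u}) (x : ev P (EO Y _⦋0⦌)) {i : Fin 1 → ι} {a : ι}
    (hi : i = fun _ => a) {T : Over U} (f : T ⟶ YY Y i) (g : T ⟶ Y a)
    (h : f ≫ Pi.π (Y ∘ i) 0 ≫ eqToHom (by rw [hi]; rfl) = g) :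
    P.map f.left.op (cp Y P i x) = P.map (g ≫ ya Y a).left.op (cp Y P (fun _ => a) x) := by
  subst hi
  have h1 : f ≫ Pi.π (Y ∘ fun _ : Fin 1 => a) 0 = g := by
    rw [← h]
    exact (congrArg (fun t => f ≫ t) (Category.comp_id _)).symm
  have h2 : f = g ≫ ya Y a := by
    rw [← h1, Category.assoc, π_ya, Category.comp_id]
  rw [h2]

/-- The sheaf condition for a covering family on a site with fibre products. -/
theorem augExact {J : GrothendieckTopology C} (F : Sheaf J AddCommGrpCat.{u})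
    (hY : Sieve.ofArrows (fun i => (Y i).left) (fun i => (Y i).hom) ∈ J U) : AugExact (aug Y) F.obj where
  inj x y hxy := by
    apply SectColim.eq_of_cover F _ hY
    intro a
    have h := congr(F.obj.map (ya Y a).left.op (cp Y F.obj (fun _ : Fin 1 => a) $hxy))
    rw [cp_augMap, cp_augMap, map_map, map_map, Over.w] at h
    exact h
  mem x := by
    rw [dEv_zero_apply, sub_eq_zero]
    apply ev_ext
    intro k
    refine (cp_evMap_δ Y F.obj 0 _ k).trans (Eq.trans ?_ (cp_evMap_δ Y F.obj 1 _ k).symm)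
    rw [cp_augMap, cp_augMap, map_map, map_map, Over.w, Over.w]
  lift x hx := by
    rw [dEv_zero_apply, sub_eq_zero] at hx
    obtain ⟨t, ht⟩ := SectColim.glue F (fun i => (Y i).hom) hY
      (fun a => F.obj.map (ya Y a).left.op (cp Y F.obj (fun _ => a) x)) (by
      intro a b Z p q hpq
      let k : Fin 2 → ι := ![a, b]
      let pp : Over.mk (p ≫ (Y a).hom) ⟶ Y a := Over.homMk p rfl
      let qq : Over.mk (p ≫ (Y a).hom) ⟶ Y b := Over.homMk q hpq.symm
      let r : Over.mk (p ≫ (Y a).hom) ⟶ YY Y k := Pi.lift (fun m => match m with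
        | 0 => pp
        | 1 => qq)
      have h := congr(F.obj.map r.left.op (cp Y F.obj k $hx))
      rw [cp_evMap_δ, cp_evMap_δ, map_map, map_map] at h
      have h0 : k ∘ (0 : Fin 2).succAbove = fun _ => b := by
        ext m; fin_cases m; rfl
      have h1 : k ∘ (1 : Fin 2).succAbove = fun _ => a := by
        ext m; fin_cases m; rfl
      have e0 := map_cp_one Y F.obj x h0 (r ≫ yδ Y 0 k) qq (by
        have : r ≫ yδ Y 0 k ≫ Pi.π (Y ∘ (k ∘ (0 : Fin 2).succAbove)) 0 = qq := by
          rw [Pi.lift_π]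
          exact Pi.lift_π _ _
        rw [Category.assoc]
        refine Eq.trans ?_ this
        refine congrArg (fun t => r ≫ t) ?_
        refine congrArg (fun t => yδ Y 0 k ≫ t) ?_
        exact Category.comp_id _)
      have e1 := map_cp_one Y F.obj x h1 (r ≫ yδ Y 1 k) pp (by
        have : r ≫ yδ Y 1 k ≫ Pi.π (Y ∘ (k ∘ (1 : Fin 2).succAbove)) 0 = pp := by
          rw [Pi.lift_π]
          exact Pi.lift_π _ _
        rw [Category.assoc]
        refine Eq.trans ?_ this
        refine congrArg (fun t => r ≫ t) ?_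
        refine congrArg (fun t => yδ Y 1 k ≫ t) ?_
        exact Category.comp_id _)
      have e2 := e1.symm.trans (h.symm.trans e0)
      change F.obj.map p.op (F.obj.map (ya Y a).left.op _) = F.obj.map q.op (F.obj.map (ya Y b).left.op _)
      rw [map_map, map_map]
      exact e2)
    refine ⟨t, ?_⟩
    apply ev_ext
    intro i
    refine (cp_augMap Y F.obj t i).trans ?_
    obtain ⟨a, rfl⟩ : ∃ a, i = fun _ => a := 
      ⟨(show Fin 1 → ι from i) 0, funext fun m => congrArg (show Fin 1 → ι from i)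
        ((inferInstance : Subsingleton (Fin 1)).elim _ _)⟩
    have h3 : F.obj.map (Pi.π (Y ∘ fun _ : Fin 1 => a) 0).left.op (F.obj.map (Y a).hom.op t) =
        F.obj.map (Pi.π (Y ∘ fun _ : Fin 1 => a) 0).left.op
          (F.obj.map (ya Y a).left.op (cp Y F.obj (fun _ => a) x)) := congrArg _ (ht a)
    rw [map_map] at h3
    rw [map_map] at h3
    have h4 : (Pi.π (Y ∘ fun _ : Fin 1 => a) 0).left ≫ (ya Y a).left = 𝟙 _ := by
      rw [← Over.comp_left, π_ya]
      rfl
    have h5 : (Pi.π (Y ∘ fun _ : Fin 1 => a) 0).left ≫ (Y a).hom = (YY Y (fun _ : Fin 1 => a)).hom :=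
      Over.w (Pi.π (Y ∘ fun _ : Fin 1 => a) 0)
    rw [h4] at h3
    have h6 : F.obj.map (YY Y (fun _ : Fin 1 => a)).hom.op t =
      F.obj.map (𝟙 (YY Y (fun _ : Fin 1 => a)).left).op (cp Y F.obj (fun _ => a) x) := h5 ▸ h3
    refine h6.trans ?_
    rw [op_id, F.obj.map_id]
    rfl

/-- Cech cohomology of a covering family equals cohomology for sheaves acyclic on the fibre products. -/
theorem cech_eq_cohomology {J : GrothendieckTopology C} (F : Sheaf J AddCommGrpCat.{u})
    (hY : Sieve.ofArrows (fun i => (Y i).left) (fun i => (Y i).hom) ∈ J U)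
    (h : ∀ (p : ℕ) (a : Fin (p + 1) → ι) (q : ℕ),
      Subsingleton (CohSite.HU F (q + 1) (∏ᶜ fun k => Y (a k)).left))
    (p : ℕ) : Nonempty (CohCx.cechH F.obj Y p ≃+ CohSite.HU F p U) := by
  refine comparison (E := EO Y) (aug Y) (fun G => augExact Y G hY)
    (fun I _ n => isZero_cech_over_of_injective_sheaf I Y n) p F ?_
  intro n i q x
  have h1 := h n i q
  have h3 : Subsingleton (Ext (freeAb J ((EO Y _⦋n⦌).obj i)) F (q + 1)) := h1
  exact Subsingleton.elim _ _

end Groth.Agent.CohtopB.CechOver
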