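import Mathlib.Algebra.Homology.HomotopyCategory.MappingCocone
import Mathlib.Algebra.Homology.HomologicalComplexAbelian
import Mathlib.Algebra.Homology.HomologySequence
import Mathlib.Algebra.Homology.HomologySequenceLemmas
import Mathlib.CategoryTheory.Abelian.Refinements
import Groth.Agent.CohtopB.AcyclicCoprod

/-!
For a short exact sequence `0 → X₁ → X₂ → X₃ → 0` of cochain complexes the canonical map
`X₁ ⟶ mappingCocone (X₂ ⟶ X₃)` is a quasi-isomorphism (`quasiIso_liftShortComplex`).
-/

set_option autoImplicit false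

universe w v u

open CategoryTheory CategoryTheory.Limits

namespace Groth.Agent.CohtopB.CoconeSES

open CochainComplex HomComplex

variable {A : Type u} [Category.{v} A] [Abelian A]

section

variable {K L : CochainComplex A ℤ} (φ : K ⟶ L)

lemma hom_ext_to {M : CochainComplex A ℤ} {f g : M ⟶ mappingCocone φ}
    (h₁ : ∀ n, f.f n ≫ (mappingCocone.fst φ).f n = g.f n ≫ (mappingCocone.fst φ).f n)
    (h₂ : ∀ n m (h : n + (-1) = m), f.f n ≫ (mappingCocone.snd φ).v n m h =
      g.f n ≫ (mappingCocone.snd φ).v n m h) : f = g := by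
  ext n
  rw [← Category.comp_id (f.f n), ← Category.comp_id (g.f n),
    ← mappingCocone.id_X φ n (n + (-1)) rfl]
  simp only [Preadditive.comp_add, ← Category.assoc, h₁ n, h₂ n _ rfl]

lemma ext_to {X : A} (n : ℤ) {f g : X ⟶ (mappingCocone φ).X n}
    (h₁ : f ≫ (mappingCocone.fst φ).f n = g ≫ (mappingCocone.fst φ).f n)
    (h₂ : f ≫ (mappingCocone.snd φ).v n (n + (-1)) rfl =
      g ≫ (mappingCocone.snd φ).v n (n + (-1)) rfl) : f = g := by
  rw [← Category.comp_id f, ← Category.comp_id g,
    ← mappingCocone.id_X φ n (n + (-1)) rfl]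
  simp only [Preadditive.comp_add, ← Category.assoc, h₁, h₂]

lemma descCochain_eq_snd :
    mappingCocone.descCochain φ (0 : Cochain K L (-1)) (Cochain.ofHom (𝟙 L)) (neg_add_cancel 1) =
      mappingCocone.snd φ := by
  ext p q hpq
  rw [← Category.id_comp (Cochain.v _ _ _ _), ← Category.id_comp ((mappingCocone.snd φ).v _ _ _),
    ← mappingCocone.id_X φ p q hpq]
  simp

lemma δ_snd : δ (-1) 0 (mappingCocone.snd φ) = - Cochain.ofHom (mappingCocone.fst φ ≫ φ) := by
  rw [← descCochain_eq_snd, mappingCocone.δ_descCochain _ _ _ _ 1 (by norm_num)]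
  simp

lemma liftCochain_eq_inl :
    mappingCocone.liftCochain φ (Cochain.ofHom (𝟙 K)) (0 : Cochain K L (-1)) (neg_add_cancel 1) =
      mappingCocone.inl φ := by
  ext p
  apply ext_to
  · simp
  · simp

lemma δ_inl : δ 0 1 (mappingCocone.inl φ) =
    - (Cochain.ofHom φ).comp (mappingCocone.inr φ).1 (zero_add 1) := by
  rw [← liftCochain_eq_inl, mappingCocone.δ_liftCochain _ _ _ _ 1 (by norm_num)]
  simp

lemma id_eq :
    Cochain.ofHom (𝟙 (mappingCocone φ)) =
      (Cochain.ofHom (mappingCocone.fst φ)).comp (mappingCocone.inl φ) (add_zero 0) +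
        (mappingCocone.snd φ).comp (mappingCocone.inr φ).1 (by norm_num) := by
  ext p
  apply ext_to
  · simp [Cochain.comp_v _ _ (show (-1 : ℤ) + 1 = 0 by norm_num) p (p + (-1)) p rfl (by lia)]
  · simp [Cochain.comp_v _ _ (show (-1 : ℤ) + 1 = 0 by norm_num) p (p + (-1)) p rfl (by lia)]

end

/-- The mapping cocone of the identity is contractible. -/
noncomputable def homotopyToZeroOfId (K : CochainComplex A ℤ) :
    Homotopy (𝟙 (mappingCocone (𝟙 K))) 0 :=
  (Cochain.equivHomotopy _ _).symm ⟨- (mappingCocone.snd (𝟙 K)).comp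
    (mappingCocone.inl (𝟙 K)) (add_zero _), by
      rw [δ_neg, δ_comp _ _ (add_zero (-1)) 0 1 0 (by norm_num) (by norm_num) (by norm_num),
        δ_snd, δ_inl, id_eq]
      simp⟩

section

variable (S : ShortComplex (CochainComplex A ℤ))

/-- The canonical morphism `S.X₁ ⟶ mappingCocone S.g`. -/
noncomputable def liftShortComplex : S.X₁ ⟶ mappingCocone S.g :=
  mappingCocone.lift S.g S.f 0 (by simp)

@[reassoc (attr := simp)]
lemma liftShortComplex_fst : liftShortComplex S ≫ mappingCocone.fst S.g = S.f := by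
  simp [liftShortComplex]

/-- The projection `mappingCocone S.g ⟶ mappingCocone (𝟙 S.X₃)`. -/
noncomputable def proj : mappingCocone S.g ⟶ mappingCocone (𝟙 S.X₃) :=
  mappingCocone.lift (𝟙 S.X₃) (mappingCocone.fst S.g ≫ S.g) (mappingCocone.snd S.g) (by
    rw [δ_snd]; simp)

@[reassoc]
lemma lift_proj : liftShortComplex S ≫ proj S = 0 := by
  apply hom_ext_to
  · intro n
    simp [proj, liftShortComplex, ← HomologicalComplex.comp_f, S.zero]
  · intro n m h
    simp [proj, liftShortComplex]

lemma acyclic_mappingCocone_id (K : CochainComplex A ℤ) (n : ℤ) :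
    (mappingCocone (𝟙 K)).ExactAt n := by
  rw [HomologicalComplex.exactAt_iff_isZero_homology, IsZero.iff_id_eq_zero]
  rw [← HomologicalComplex.homologyMap_id, (homotopyToZeroOfId K).homologyMap_eq,
    HomologicalComplex.homologyMap_zero]

variable {S}

@[reassoc (attr := simp)]
lemma lift_f_fst (n : ℤ) :
    (liftShortComplex S).f n ≫ (mappingCocone.fst S.g).f n = S.f.f n := by
  simp [liftShortComplex]

@[reassoc (attr := simp)]
lemma lift_f_snd (n m : ℤ) (h : n + (-1) = m) :
    (liftShortComplex S).f n ≫ (mappingCocone.snd S.g).v n m h = 0 := by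
  simp [liftShortComplex]

@[reassoc (attr := simp)]
lemma proj_f_fst (n : ℤ) :
    (proj S).f n ≫ (mappingCocone.fst (𝟙 S.X₃)).f n = (mappingCocone.fst S.g).f n ≫ S.g.f n := by
  simp [proj]

@[reassoc (attr := simp)]
lemma proj_f_snd (n m : ℤ) (h : n + (-1) = m) :
    (proj S).f n ≫ (mappingCocone.snd (𝟙 S.X₃)).v n m h = (mappingCocone.snd S.g).v n m h := by
  simp [proj]

lemma shortExact_f (hS : S.ShortExact) (n : ℤ) :
    (ShortComplex.mk ((liftShortComplex S).f n) ((proj S).f n) (by
      rw [← HomologicalComplex.comp_f, lift_proj]; rfl)).ShortExact := by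
  have hS' := hS.map_of_exact (HomologicalComplex.eval A (ComplexShape.up ℤ) n)
  have h1 : Mono (S.f.f n) := hS'.mono_f
  have h2 : Epi (S.g.f n) := hS'.epi_g
  refine { exact := ?_, mono_f := ?_, epi_g := ?_ }
  · rw [ShortComplex.exact_iff_exact_up_to_refinements]
    intro T (x : T ⟶ (mappingCocone S.g).X n) (hx : x ≫ (proj S).f n = 0)
    obtain ⟨T', π, hπ, (y : T' ⟶ S.X₁.X n), hy⟩ := hS'.exact.exact_up_to_refinements
      (x ≫ (mappingCocone.fst S.g).f n) (by
        have := hx =≫ (mappingCocone.fst (𝟙 S.X₃)).f n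
        simp only [Category.assoc, proj_f_fst, zero_comp] at this
        exact (Category.assoc _ _ _).trans this)
    refine ⟨T', π, hπ, y, ?_⟩
    change π ≫ x = y ≫ (liftShortComplex S).f n
    change π ≫ x ≫ _ = y ≫ S.f.f n at hy
    apply ext_to S.g
    · simpa using hy
    · have := hx =≫ (mappingCocone.snd (𝟙 S.X₃)).v n _ rfl
      simp only [Category.assoc, proj_f_snd, zero_comp] at this
      simp [this]
  · exact mono_of_mono_fac (lift_f_fst (S := S) n)
  · rw [epi_iff_surjective_up_to_refinements]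
    intro T (y : T ⟶ (mappingCocone (𝟙 S.X₃)).X n)
    obtain ⟨T', π, hπ, x, hx⟩ := surjective_up_to_refinements_of_epi (S.g.f n)
      (y ≫ (mappingCocone.fst (𝟙 S.X₃)).f n)
    refine ⟨T', π, hπ, x ≫ (mappingCocone.inl S.g).v n n (add_zero n) +
      (π ≫ y ≫ (mappingCocone.snd (𝟙 S.X₃)).v n _ rfl) ≫ (mappingCocone.inr S.g).1.v (n + (-1)) n
        (by lia), ?_⟩
    apply ext_to (𝟙 S.X₃)
    · simp [hx]
    · simp

lemma shortExact_lift_proj (hS : S.ShortExact) :
    (ShortComplex.mk (liftShortComplex S) (proj S) (lift_proj S)).ShortExact :=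
  HomologicalComplex.shortExact_of_degreewise_shortExact _ (shortExact_f hS)

lemma quasiIso_liftShortComplex (hS : S.ShortExact) : QuasiIso (liftShortComplex S) where
  quasiIsoAt n := by
    have h := shortExact_lift_proj hS
    rw [quasiIsoAt_iff_isIso_homologyMap]
    have h1 : Epi (HomologicalComplex.homologyMap (liftShortComplex S) n) :=
      (h.homology_exact₂ n).epi_f (((acyclic_mappingCocone_id S.X₃ n).isZero_homology).eq_of_tgt _ _)
    have h2 : Mono (HomologicalComplex.homologyMap (liftShortComplex S) n) :=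
      (h.homology_exact₁ (n - 1) n (by simp)).mono_g
        (((acyclic_mappingCocone_id S.X₃ (n - 1)).isZero_homology).eq_of_src _ _)
    exact isIso_of_mono_of_epi _

end

end Groth.Agent.CohtopB.CoconeSES
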