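import Groth.Agent.CohtopB.CohObj
import Groth.Agent.CohtopB.SheafColim
import Groth.Agent.CohtopB.SectColim
import Mathlib.CategoryTheory.Limits.Types.Equalizers
import Mathlib.CategoryTheory.Filtered.Final

/-!
# Maps out of coherent sheaves of sets commute with filtered colimits of abelian sheaves

`S` is a class of quasi-compact sheaves of sets as in Stacks 0GN3.
* `exists_equalizer_elem`: sections of an equalizer of sheaves of sets.
* `exists_epi_of_jointlySurjective`: a filtered family over a quasi-compact sheaf of sets which is jointly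
  surjective has an epimorphic member.
* `map_inj`, `map_surj`: maps from an `SCoh S` sheaf of sets to a filtered colimit of abelian sheaves.
* `extCommutes_zero_ZSh`: `Hom(ℤ[K], -)` commutes with filtered colimits for `K` in `SCoh S`.
-/

set_option autoImplicit false
set_option linter.unusedSectionVars false

universe w v u

open CategoryTheory CategoryTheory.Limits Opposite Simplicial Abelian

namespace Groth.Agent.CohtopB.CohColim

open Groth.Agent.CohtopB.ExtColim Groth.Agent.CohtopB.SheafColim Groth.Agent.CohtopB.SectColim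
open Groth.Agent.CohtopB.CohObj Groth.Agent.CohtopB.NerveHK

variable {C : Type u} [SmallCategory C] {J : GrothendieckTopology C}

instance : (MorphismProperty.epimorphisms (Sheaf J (Type u))).IsStableUnderBaseChange where
  of_isPullback {X Y Y' S f g f' g'} h hg := by
    have : Epi g := hg
    exact EpiSheaf.epi_snd_of_isPullback J h

theorem exists_equalizer_elem {X Y : Sheaf J (Type u)} (a b : X ⟶ Y) (V : C) (s : X.obj.obj (op V))
    (h : a.hom.app (op V) s = b.hom.app (op V) s) :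
    ∃ x : (equalizer a b).obj.obj (op V), (equalizer.ι a b).hom.app (op V) x = s := by
  let G := sheafToPresheaf J (Type u) ⋙ (evaluation Cᵒᵖ (Type u)).obj (op V)
  have hl := isLimitForkMapOfIsLimit G _ (equalizerIsEqualizer a b)
  obtain ⟨x, hx, -⟩ := (Types.type_equalizer_iff_unique _ _).1 ⟨hl⟩ s h
  exact ⟨x, hx⟩

theorem exists_pullback_elem {X Y Z : Sheaf J (Type u)} (f : X ⟶ Z) (g : Y ⟶ Z) (V : C) (s : X.obj.obj (op V))
    (t : Y.obj.obj (op V)) (h : f.hom.app (op V) s = g.hom.app (op V) t) :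
    ∃ x : (pullback f g).obj.obj (op V), (pullback.fst f g).hom.app (op V) x = s ∧
      (pullback.snd f g).hom.app (op V) x = t := by
  have hV := (IsPullback.of_hasPullback f g).map
    (sheafToPresheaf J (Type u) ⋙ (evaluation Cᵒᵖ (Type u)).obj (op V))
  exact Types.exists_of_isPullback hV s t h

/-- In a filtered family over a quasi-compact object which is jointly surjective some member is an epimorphism. -/
theorem exists_epi_of_jointlySurjective {K : Sheaf J (Type u)} (hK : CohCx.IsQcObject K)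
    {Λ : Type u} [SmallCategory Λ] [IsFiltered Λ] (L : Λ → Sheaf J (Type u)) (f : ∀ i, L i ⟶ K)
    (hf : ∀ i j : Λ, (i ⟶ j) → ∃ t : L i ⟶ L j, t ≫ f j = f i)
    (h : CohCx.JointlySurjective f) : ∃ i, Epi (f i) := by
  classical
  obtain ⟨t, ht⟩ := hK Λ L f h
  obtain ⟨k, hk⟩ := IsFiltered.sup_objs_exists t
  refine ⟨k, ?_⟩
  rw [← Sheaf.isLocallySurjective_iff_epi]
  constructor
  intro U s
  obtain ⟨T, hT, h'⟩ := ht U s
  refine J.superset_covering ?_ hT
  intro V g hg
  obtain ⟨i, x, hx⟩ := h' V g hg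
  obtain ⟨r, hr⟩ := hf i.1 k (hk i.2).some
  refine ⟨r.hom.app (op V) x, ?_⟩
  change (f i.1).hom.app (op V) x = _ at hx
  rw [← hr] at hx
  exact hx

/-- The underlying sheaf of sets of an abelian sheaf. -/
noncomputable abbrev Uf (J : GrothendieckTopology C) : Sheaf J AddCommGrpCat.{u} ⥤ Sheaf J (Type u) :=
  sheafCompose J (forget AddCommGrpCat.{u})

variable {Λ : Type u} [SmallCategory Λ] [IsFiltered Λ] {F : Λ ⥤ Sheaf J AddCommGrpCat.{u}} {c : Cocone F}

theorem map_inj (hc : LocElem c) {S : Set (Sheaf J (Type u))} (hqc : ∀ K ∈ S, CohCx.IsQcObject K)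
    {K : Sheaf J (Type u)} (hK : Cv S K) (i : Λ) (a b : K ⟶ (Uf J).obj (F.obj i))
    (hab : a ≫ (Uf J).map (c.ι.app i) = b ≫ (Uf J).map (c.ι.app i)) :
    ∃ (j : Λ) (f : i ⟶ j), a ≫ (Uf J).map (F.map f) = b ≫ (Uf J).map (F.map f) := by
  obtain ⟨K₀, p, hK₀, hp⟩ := hK
  let A : ∀ f : Under i, K₀ ⟶ (Uf J).obj (F.obj f.right) := fun f => p ≫ a ≫ (Uf J).map (F.map f.hom)
  let B : ∀ f : Under i, K₀ ⟶ (Uf J).obj (F.obj f.right) := fun f => p ≫ b ≫ (Uf J).map (F.map f.hom)
  obtain ⟨f, hf⟩ := exists_epi_of_jointlySurjective (hqc K₀ hK₀) (Λ := Under i)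
    (fun f => equalizer (A f) (B f)) (fun f => equalizer.ι (A f) (B f))
    (by
      intro f g φ
      refine ⟨equalizer.lift (equalizer.ι (A f) (B f)) ?_, equalizer.lift_ι _ _⟩
      have h1 : A g = A f ≫ (Uf J).map (F.map φ.right) := by
        simp only [A, Category.assoc, ← Functor.map_comp]
        rw [Under.w]
      have h2 : B g = B f ≫ (Uf J).map (F.map φ.right) := by
        simp only [B, Category.assoc, ← Functor.map_comp]
        rw [Under.w]
      rw [h1, h2]
      exact (Category.assoc _ _ _).symm.trans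
        ((congrArg (· ≫ _) (equalizer.condition (A f) (B f))).trans (Category.assoc _ _ _)))
    (by
      intro U s
      let xa : (F.obj i).obj.obj (op U) := (p ≫ a).hom.app (op U) s
      let xb : (F.obj i).obj.obj (op U) := (p ≫ b).hom.app (op U) s
      obtain ⟨T, hT, h⟩ := hc.inj U i (xa - xb) (by
        rw [map_sub, sub_eq_zero]
        have := congrArg (fun t : K ⟶ (Uf J).obj c.pt => t.hom.app (op U) (p.hom.app (op U) s)) hab
        exact this)
      refine ⟨T, hT, fun V g hg => ?_⟩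
      obtain ⟨j, f, hf⟩ := h V g hg
      rw [map_sub, map_sub, sub_eq_zero] at hf
      obtain ⟨x, hx⟩ := exists_equalizer_elem (A (Under.mk f)) (B (Under.mk f)) V (K₀.obj.map g.op s) (by
        have n1 := ConcreteCategory.congr_hom ((p ≫ a).hom.naturality g.op) s
        have n2 := ConcreteCategory.congr_hom ((p ≫ b).hom.naturality g.op) s
        change (p ≫ a).hom.app (op V) (K₀.obj.map g.op s) =
          ((F.obj i).obj.map g.op).hom ((p ≫ a).hom.app (op U) s) at n1
        change (p ≫ b).hom.app (op V) (K₀.obj.map g.op s) =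
          ((F.obj i).obj.map g.op).hom ((p ≫ b).hom.app (op U) s) at n2
        change ((F.map f).hom.app (op V)).hom ((p ≫ a).hom.app (op V) (K₀.obj.map g.op s)) =
          ((F.map f).hom.app (op V)).hom ((p ≫ b).hom.app (op V) (K₀.obj.map g.op s))
        rw [n1, n2]
        exact hf)
      exact ⟨Under.mk f, x, hx⟩)
  refine ⟨f.right, f.hom, ?_⟩
  rw [← cancel_epi p, ← cancel_epi (equalizer.ι (A f) (B f))]
  exact equalizer.condition (A f) (B f)

theorem map_surj (hc : LocElem c) {S : Set (Sheaf J (Type u))} (hqc : ∀ K ∈ S, CohCx.IsQcObject K)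
    (hS : Closed S)
    (h2 : ∀ (F : Sheaf J (Type u)) (K : Sheaf J (Type u)) (g : F ⟶ K), K ∈ S → Epi g →
      ∃ (K' : Sheaf J (Type u)) (k : K' ⟶ F), K' ∈ S ∧ Epi (k ≫ g))
    {K : Sheaf J (Type u)} (hK : SCoh S K) (s : K ⟶ (Uf J).obj c.pt) :
    ∃ (i : Λ) (t : K ⟶ (Uf J).obj (F.obj i)), t ≫ (Uf J).map (c.ι.app i) = s := by
  obtain ⟨K₀, p, hK₀, hp⟩ := hK.1
  obtain ⟨j, hj⟩ := exists_epi_of_jointlySurjective (hqc K₀ hK₀)
    (fun j : Λ => pullback (p ≫ s) ((Uf J).map (c.ι.app j)))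
    (fun j => pullback.fst (p ≫ s) ((Uf J).map (c.ι.app j)))
    (by
      intro i j f
      refine ⟨pullback.lift (pullback.fst _ _) (pullback.snd _ _ ≫ (Uf J).map (F.map f)) ?_, ?_⟩
      · rw [pullback.condition, Category.assoc, ← Functor.map_comp, c.w]
      · exact pullback.lift_fst _ _ _)
    (by
      intro U x
      let y : c.pt.obj.obj (op U) := (p ≫ s).hom.app (op U) x
      obtain ⟨T, hT, h⟩ := hc.surj U y
      refine ⟨T, hT, fun V g hg => ?_⟩
      obtain ⟨i, z, hz⟩ := h V g hg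
      obtain ⟨w, hw, -⟩ := exists_pullback_elem (p ≫ s) ((Uf J).map (c.ι.app i)) V (K₀.obj.map g.op x) z (by
        have n1 := ConcreteCategory.congr_hom ((p ≫ s).hom.naturality g.op) x
        exact n1.trans hz.symm)
      exact ⟨i, w, hw⟩)
  obtain ⟨K', q, y, hK', hq, hqy⟩ : ∃ (K' : Sheaf J (Type u)) (q : K' ⟶ K) (y : K' ⟶ (Uf J).obj (F.obj j)),
      K' ∈ S ∧ Epi q ∧ q ≫ s = y ≫ (Uf J).map (c.ι.app j) := by
    obtain ⟨K', k, hK', hk⟩ := h2 _ _ _ hK₀ hj
    refine ⟨K', (k ≫ pullback.fst (p ≫ s) ((Uf J).map (c.ι.app j))) ≫ p,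
      k ≫ pullback.snd (p ≫ s) ((Uf J).map (c.ι.app j)), hK', epi_comp _ _, ?_⟩
    simp only [Category.assoc]
    rw [pullback.condition]
  have hR : Cv S (pullback q q) :=
    (SCoh.of_isPullback hS (IsPullback.of_hasPullback q q) (SCoh.of_mem hS hK') (SCoh.of_mem hS hK') hK).1
  obtain ⟨l, f, hf⟩ := map_inj hc hqc hR j (pullback.fst q q ≫ y) (pullback.snd q q ≫ y) (by
    rw [Category.assoc, Category.assoc, ← hqy, ← Category.assoc, ← Category.assoc, pullback.condition])
  have heff : EffectiveEpi q := effectiveEpi_of_epi J q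
  have hdesc : ∀ {Z : Sheaf J (Type u)} (g₁ g₂ : Z ⟶ K'), g₁ ≫ q = g₂ ≫ q →
      g₁ ≫ y ≫ (Uf J).map (F.map f) = g₂ ≫ y ≫ (Uf J).map (F.map f) := by
    intro Z g₁ g₂ h
    have e1 : pullback.lift g₁ g₂ h ≫ pullback.fst q q = g₁ := pullback.lift_fst _ _ _
    have e2 : pullback.lift g₁ g₂ h ≫ pullback.snd q q = g₂ := pullback.lift_snd _ _ _
    have e3 := congrArg (pullback.lift g₁ g₂ h ≫ ·) hf
    simp only [← Category.assoc, e1, e2] at e3
    simpa only [← Category.assoc] using e3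
  refine ⟨l, EffectiveEpi.desc q (y ≫ (Uf J).map (F.map f)) hdesc, ?_⟩
  rw [← cancel_epi q, ← Category.assoc, EffectiveEpi.fac, Category.assoc, ← Functor.map_comp, c.w, hqy]

theorem extCommutes_zero_ZSh {S : Set (Sheaf J (Type u))} (hqc : ∀ K ∈ S, CohCx.IsQcObject K)
    (hS : Closed S)
    (h2 : ∀ (F : Sheaf J (Type u)) (K : Sheaf J (Type u)) (g : F ⟶ K), K ∈ S → Epi g →
      ∃ (K' : Sheaf J (Type u)) (k : K' ⟶ F), K' ∈ S ∧ Epi (k ≫ g))
    {K : Sheaf J (Type u)} (hK : SCoh S K) : ExtCommutes Λ ((ZSh J).obj K) 0 := by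
  intro F c hc
  have hl := locElem_of_isColimit hc
  rw [elemColim_ext_iff]
  refine ⟨fun x => ?_, fun i y hy => ?_⟩
  · obtain ⟨φ, rfl⟩ := (Ext.mk₀_bijective _ _).2 x
    obtain ⟨i, t, ht⟩ := map_surj hl hqc hS h2 hK ((zAdj J).homEquiv _ _ φ)
    refine ⟨i, Ext.mk₀ (((zAdj J).homEquiv _ _).symm t), ?_⟩
    rw [Ext.mk₀_comp_mk₀]
    congr 1
    apply ((zAdj J).homEquiv _ _).injective
    rw [Adjunction.homEquiv_naturality_right, Equiv.apply_symm_apply, ht]
    rfl
  · obtain ⟨φ, rfl⟩ := (Ext.mk₀_bijective _ _).2 y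
    rw [Ext.mk₀_comp_mk₀, Ext.mk₀_eq_zero_iff] at hy
    obtain ⟨j, f, hf⟩ := map_inj hl hqc hK.1 i ((zAdj J).homEquiv _ _ φ) ((zAdj J).homEquiv _ _ 0) (by
      have h1 := (zAdj J).homEquiv_naturality_right φ (c.ι.app i)
      have h2 := (zAdj J).homEquiv_naturality_right (0 : (ZSh J).obj K ⟶ F.obj i) (c.ι.app i)
      rw [zero_comp] at h2
      rw [hy] at h1
      exact h1.symm.trans h2)
    refine ⟨j, f, ?_⟩
    rw [Ext.mk₀_comp_mk₀, Ext.mk₀_eq_zero_iff]
    have h1 := (zAdj J).homEquiv_naturality_right φ (F.map f)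
    have h2 := (zAdj J).homEquiv_naturality_right (0 : (ZSh J).obj K ⟶ F.obj i) (F.map f)
    apply ((zAdj J).homEquiv _ _).injective
    rw [zero_comp] at h2
    rw [h1, hf, ← h2]

end Groth.Agent.CohtopB.CohColim
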