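import Groth.Agent.CohtopB.EpiSheaf
import Mathlib.CategoryTheory.MorphismProperty.Limits

/-!
# Objects coherent relative to a class of objects

`E` is a category with finite limits in which epimorphisms are stable under base change and `S` is a class of
objects.  `Cv S X` : some member of `S` maps epimorphically onto `X`.  `SCoh S X` : `Cv S X` and all equalizers of
pairs of maps `W ⇉ X` with `Cv S W` satisfy `Cv S`.  If binary products and equalizers of members of `S` satisfy
`Cv S`, then members of `S` are `SCoh` and `SCoh` is closed under binary products, equalizers, pullbacks and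
terms of Cech nerves.
-/

set_option autoImplicit false
set_option linter.unusedSectionVars false

universe w v u

open CategoryTheory CategoryTheory.Limits Opposite Simplicial

namespace Groth.Agent.CohtopB.CohObj

variable {E : Type u} [Category.{v} E] [HasFiniteLimits E]
  [(MorphismProperty.epimorphisms E).IsStableUnderBaseChange]

/-- `X` is covered by a member of `S`. -/
def Cv (S : Set E) (X : E) : Prop := ∃ (K : E) (p : K ⟶ X), K ∈ S ∧ Epi p

/-- `X` is coherent relative to `S`. -/
def SCoh (S : Set E) (X : E) : Prop :=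
  Cv S X ∧ ∀ (W : E) (f g : W ⟶ X), Cv S W → Cv S (equalizer f g)

theorem epi_of_isPullback {P X Y Z : E} {fst : P ⟶ X} {snd : P ⟶ Y} {f : X ⟶ Z} {g : Y ⟶ Z}
    (h : IsPullback fst snd f g) [Epi f] : Epi snd :=
  (MorphismProperty.epimorphisms E).of_isPullback h (MorphismProperty.epimorphisms.infer_property f)

attribute [local simp] Limits.prod.lift_fst Limits.prod.lift_snd Limits.prod.lift_fst_assoc
  Limits.prod.lift_snd_assoc Limits.prod.map_fst Limits.prod.map_snd Limits.prod.map_fst_assoc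
  Limits.prod.map_snd_assoc

variable {S : Set E}

theorem Cv.of_mem {X : E} (h : X ∈ S) : Cv S X := ⟨X, 𝟙 X, h, inferInstance⟩

theorem Cv.of_epi {X Y : E} (h : Cv S X) (p : X ⟶ Y) [Epi p] : Cv S Y := by
  obtain ⟨K, q, hK, hq⟩ := h
  exact ⟨K, q ≫ p, hK, epi_comp _ _⟩

theorem Cv.of_iso {X Y : E} (h : Cv S X) (e : X ≅ Y) : Cv S Y := h.of_epi e.hom

theorem epi_equalizer_lift {W W' X : E} (q : W' ⟶ W) [Epi q] (f g : W ⟶ X) :
    Epi (equalizer.lift (equalizer.ι (q ≫ f) (q ≫ g) ≫ q) (by
      simpa using equalizer.condition (q ≫ f) (q ≫ g)) : equalizer (q ≫ f) (q ≫ g) ⟶ equalizer f g) := by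
  have h : IsPullback (equalizer.ι (q ≫ f) (q ≫ g)) (equalizer.lift (equalizer.ι (q ≫ f) (q ≫ g) ≫ q) (by
      simpa using equalizer.condition (q ≫ f) (q ≫ g)) : equalizer (q ≫ f) (q ≫ g) ⟶ equalizer f g)
      q (equalizer.ι f g) := by
    refine ⟨⟨by simp⟩, ⟨PullbackCone.IsLimit.mk _ (fun s => equalizer.lift s.fst ?_) ?_ ?_ ?_⟩⟩
    · rw [← Category.assoc, s.condition, Category.assoc, equalizer.condition, ← Category.assoc, ← s.condition,
        Category.assoc]
    · intro s
      simp
    · intro s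
      rw [← cancel_mono (equalizer.ι f g)]
      simp [s.condition]
    · intro s m h1 _
      rw [← cancel_mono (equalizer.ι (q ≫ f) (q ≫ g))]
      simp [h1]
  exact epi_of_isPullback h

/-- `Cv` of an equalizer can be checked after an epimorphism onto the source. -/
theorem cv_equalizer_of_epi {W W' X : E} (q : W' ⟶ W) [Epi q] (f g : W ⟶ X)
    (h : Cv S (equalizer (q ≫ f) (q ≫ g))) : Cv S (equalizer f g) := by
  obtain ⟨K, r, hK, hr⟩ := h
  exact ⟨K, r ≫ _, hK, @epi_comp _ _ _ _ _ r hr _ (epi_equalizer_lift q f g)⟩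

theorem epi_prod_map {A A' B B' : E} (p : A ⟶ A') (q : B ⟶ B') [Epi p] [Epi q] : Epi (prod.map p q) := by
  have h1 : IsPullback (prod.fst : A ⨯ B' ⟶ A) (prod.map p (𝟙 B')) p (prod.fst : A' ⨯ B' ⟶ A') := by
    refine ⟨⟨by simp⟩, ⟨PullbackCone.IsLimit.mk _ (fun s => prod.lift s.fst (s.snd ≫ prod.snd)) ?_ ?_ ?_⟩⟩
    · intro s; simp
    · intro s
      apply Limits.prod.hom_ext
      · simp [s.condition]
      · simp
    · intro s m h1 h2
      apply Limits.prod.hom_ext
      · simp [h1]
      · rw [← h2]; simp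
  have h2 : IsPullback (prod.snd : A ⨯ B ⟶ B) (prod.map (𝟙 A) q) q (prod.snd : A ⨯ B' ⟶ B') := by
    refine ⟨⟨by simp⟩, ⟨PullbackCone.IsLimit.mk _ (fun s => prod.lift (s.snd ≫ prod.fst) s.fst) ?_ ?_ ?_⟩⟩
    · intro s; simp
    · intro s
      apply Limits.prod.hom_ext
      · simp
      · simp [s.condition]
    · intro s m h1 h2
      apply Limits.prod.hom_ext
      · rw [← h2]; simp
      · simp [h1]
  have := epi_of_isPullback h1
  have := epi_of_isPullback h2
  have e : prod.map p q = prod.map (𝟙 A) q ≫ prod.map p (𝟙 B') := by simp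
  rw [e]
  exact epi_comp _ _

/-- Standing hypotheses: products and equalizers of members of `S` are covered by members of `S`. -/
structure Closed (S : Set E) : Prop where
  prod : ∀ K ∈ S, ∀ K' ∈ S, Cv S (K ⨯ K')
  eq : ∀ K ∈ S, ∀ K' ∈ S, ∀ (a b : K ⟶ K'), Cv S (equalizer a b)

variable (hS : Closed S)
include hS

theorem Cv.prod {A B : E} (hA : Cv S A) (hB : Cv S B) : Cv S (A ⨯ B) := by
  obtain ⟨K, p, hK, hp⟩ := hA
  obtain ⟨L, q, hL, hq⟩ := hB
  have := epi_prod_map p q
  exact (hS.prod K hK L hL).of_epi (prod.map p q)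

theorem SCoh.of_mem {X : E} (h : X ∈ S) : SCoh S X := by
  refine ⟨Cv.of_mem h, fun W f g hW => ?_⟩
  obtain ⟨K, q, hK, hq⟩ := hW
  exact cv_equalizer_of_epi q f g (hS.eq K hK X h _ _)

/-- `SCoh` is closed under binary products. -/
theorem SCoh.prod {X Y : E} (hX : SCoh S X) (hY : SCoh S Y) : SCoh S (X ⨯ Y) := by
  refine ⟨hX.1.prod hS hY.1, fun W f g hW => ?_⟩
  have h1 := hX.2 W (f ≫ prod.fst) (g ≫ prod.fst) hW
  have h2 := hY.2 _ (equalizer.ι (f ≫ prod.fst) (g ≫ prod.fst) ≫ f ≫ prod.snd)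
    (equalizer.ι (f ≫ prod.fst) (g ≫ prod.fst) ≫ g ≫ prod.snd) h1
  refine h2.of_iso
    { hom := equalizer.lift (equalizer.ι _ _ ≫ equalizer.ι _ _) ?_
      inv := equalizer.lift (equalizer.lift (equalizer.ι f g) ?_) ?_
      hom_inv_id := ?_
      inv_hom_id := ?_ }
  · apply Limits.prod.hom_ext
    · have := equalizer.condition (f ≫ prod.fst) (g ≫ prod.fst)
      simp only [Category.assoc] at this ⊢
      rw [this]
    · have := equalizer.condition (equalizer.ι (f ≫ prod.fst) (g ≫ prod.fst) ≫ f ≫ prod.snd)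
        (equalizer.ι (f ≫ prod.fst) (g ≫ prod.fst) ≫ g ≫ prod.snd)
      simp only [Category.assoc] at this ⊢
      rw [this]
  · rw [← Category.assoc, equalizer.condition f g, Category.assoc]
  · simp only [← Category.assoc, equalizer.lift_ι]
    rw [equalizer.condition f g]
  · rw [← cancel_mono (equalizer.ι _ _), ← cancel_mono (equalizer.ι _ _)]
    simp
  · rw [← cancel_mono (equalizer.ι _ _)]
    simp

omit hS in
/-- A monomorphism into a coherent object from a covered object has coherent source. -/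
theorem SCoh.of_mono {X Z : E} (hX : SCoh S X) (m : Z ⟶ X) [Mono m] (hZ : Cv S Z) : SCoh S Z := by
  refine ⟨hZ, fun W f g hW => ?_⟩
  refine (hX.2 W (f ≫ m) (g ≫ m) hW).of_iso
    { hom := equalizer.lift (equalizer.ι _ _) ?_
      inv := equalizer.lift (equalizer.ι _ _) ?_
      hom_inv_id := ?_
      inv_hom_id := ?_ }
  · rw [← cancel_mono m]
    simpa using equalizer.condition (f ≫ m) (g ≫ m)
  · rw [← Category.assoc, equalizer.condition, Category.assoc]
  · rw [← cancel_mono (equalizer.ι _ _)]; simp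
  · rw [← cancel_mono (equalizer.ι _ _)]; simp

omit hS in
theorem SCoh.equalizer {X Y : E} (hX : SCoh S X) (hY : SCoh S Y) (f g : X ⟶ Y) : SCoh S (equalizer f g) :=
  hX.of_mono (equalizer.ι f g) (hY.2 X f g hX.1)

omit hS in
theorem SCoh.of_iso {X Y : E} (hX : SCoh S X) (e : X ≅ Y) : SCoh S Y :=
  hX.of_mono e.inv (hX.1.of_iso e)

omit hS in
theorem SCoh.terminal (h : Cv S (⊤_ E)) : SCoh S (⊤_ E) := by
  refine ⟨h, fun W f g hW => ?_⟩
  have : f = g := Subsingleton.elim _ _
  subst this
  exact hW.of_iso (asIso (equalizer.ι f f)).symm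

/-- `SCoh` is closed under pullbacks. -/
theorem SCoh.of_isPullback {P X Y Z : E} {fst : P ⟶ X} {snd : P ⟶ Y} {f : X ⟶ Z} {g : Y ⟶ Z}
    (h : IsPullback fst snd f g) (hX : SCoh S X) (hY : SCoh S Y) (hZ : SCoh S Z) : SCoh S P := by
  refine (SCoh.equalizer (hX.prod hS hY) hZ (prod.fst ≫ f) (prod.snd ≫ g)).of_iso
    { hom := h.lift (equalizer.ι _ _ ≫ prod.fst) (equalizer.ι _ _ ≫ prod.snd) ?_
      inv := equalizer.lift (prod.lift fst snd) ?_
      hom_inv_id := ?_
      inv_hom_id := ?_ }
  · simpa using equalizer.condition (prod.fst ≫ f) (prod.snd ≫ g)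
  · simpa using h.w
  · rw [← cancel_mono (equalizer.ι _ _)]
    apply Limits.prod.hom_ext <;> simp
  · apply h.hom_ext <;> simp

section Nerve

variable (f : Arrow E)

open NerveHK

omit hS in
theorem isPullback_nerve_succ (n : ℕ) :
    IsPullback (f.cechNerve.δ (Fin.last (n + 1))) (nProj f (n + 1) (Fin.last (n + 1))) (nBase f n) f.hom := by
  have w : f.cechNerve.δ (Fin.last (n + 1)) ≫ nBase f n = nBase f (n + 1) := by
    rw [← nProj_f f n 0, cechNerve_δ_proj_assoc, nProj_f]
  refine ⟨⟨by rw [w, nProj_f]⟩, ⟨PullbackCone.IsLimit.mk _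
    (fun s => liftF (𝟭 E) (n := n + 1) (s.snd ≫ f.hom) (Fin.snoc (fun i => s.fst ≫ nProj f n i) s.snd)
      (fun i => ?_)) ?_ ?_ ?_⟩⟩
  · refine Fin.lastCases ?_ (fun i => ?_) i
    · simp
    · simp only [Fin.snoc_castSucc, Functor.id_map, Category.assoc, nProj_f]
      exact s.condition
  · intro s
    refine nerve_hom_ext f _ _ fun i => ?_
    rw [Category.assoc, cechNerve_δ_proj, Fin.succAbove_last]
    refine (liftF_proj (𝟭 E) (n := n + 1) _ _ _ _).trans ?_
    rw [Fin.snoc_castSucc]
  · intro s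
    refine (liftF_proj (𝟭 E) (n := n + 1) _ _ _ _).trans ?_
    rw [Fin.snoc_last]
  · intro s m h1 h2
    refine nerve_hom_ext f _ _ fun i => ?_
    refine Eq.trans ?_ (liftF_proj (𝟭 E) (n := n + 1) _ _ _ _).symm
    refine Fin.lastCases ?_ (fun i => ?_) i
    · rw [Fin.snoc_last]; exact h2
    · rw [Fin.snoc_castSucc, ← h1, Category.assoc, cechNerve_δ_proj, Fin.succAbove_last]

/-- The terms of the Cech nerve of a morphism between coherent objects are coherent. -/
theorem SCoh.cechNerve (hl : SCoh S f.left) (hr : SCoh S f.right) (n : ℕ) :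
    SCoh S (f.cechNerve.obj (op ⦋n⦌)) := by
  induction n with
  | zero => exact hl.of_iso ⟨nInv f, nProj f 0 0, nInv_proj f, proj_nInv f⟩
  | succ n ih => exact SCoh.of_isPullback hS (isPullback_nerve_succ f n) ih hl hr

end Nerve

end Groth.Agent.CohtopB.CohObj
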