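import Groth.Agent.CohtopB.SectHomology
import Mathlib.CategoryTheory.Limits.Preserves.Basic
import Mathlib.CategoryTheory.Limits.FunctorCategory.Basic
import Mathlib.CategoryTheory.Sites.Limits

/-!
# Preservation of colimits by `P ⋙ presheafToSheaf` can be checked on a covering class
-/

set_option autoImplicit false
universe w v v' u u'

open CategoryTheory CategoryTheory.Limits Opposite

namespace Groth.Agent.CohtopB.ColimCover

variable {D : Type u} [SmallCategory D] (K : GrothendieckTopology D)

/-- If `P : A ⥤ (Dᵒᵖ ⥤ Ab)` preserves the colimit of `F` after evaluation at all members of a covering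
class, then `P ⋙ presheafToSheaf` preserves the colimit of `F`. -/
theorem preservesColimit_of_isCovering {A : Type u'} [Category.{v'} A] {ι : Type u} [SmallCategory ι]
    (F : ι ⥤ A) (P : A ⥤ (Dᵒᵖ ⥤ AddCommGrpCat.{u})) (B : Set D)
    (hB : SectHomology.IsCovering K B)
    (h : ∀ V ∈ B, PreservesColimit F (P ⋙ (evaluation _ _).obj (op V))) :
    PreservesColimit F (P ⋙ presheafToSheaf K AddCommGrpCat.{u}) := by
  refine ⟨fun {c} hc => ⟨?_⟩⟩
  let φ : colimit (F ⋙ P) ⟶ P.obj c.pt := colimit.desc (F ⋙ P) (P.mapCocone c)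
  have hφ : K.W φ := by
    refine SectHomology.W_of_isIso hB φ (fun V hV => ?_)
    have := h V hV
    -- the colimit cocone evaluated at `V`
    have h1 : IsColimit (((evaluation Dᵒᵖ AddCommGrpCat.{u}).obj (op V)).mapCocone
      (colimit.cocone (F ⋙ P))) := isColimitOfPreserves _ (colimit.isColimit (F ⋙ P))
    have h2 : IsColimit ((P ⋙ (evaluation Dᵒᵖ AddCommGrpCat.{u}).obj (op V)).mapCocone c) :=
      isColimitOfPreserves _ hc
    have h3 : φ.app (op V) = h1.desc
        ((P ⋙ (evaluation Dᵒᵖ AddCommGrpCat.{u}).obj (op V)).mapCocone c) := by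
      refine h1.hom_ext (fun j => ?_)
      rw [h1.fac]
      have := NatTrans.congr_app (colimit.ι_desc (P.mapCocone c) j) (op V)
      exact this
    rw [h3]
    exact (IsColimit.coconePointUniqueUpToIso h1 h2).isIso_hom
  have hiso : IsIso ((presheafToSheaf K AddCommGrpCat.{u}).map φ) := by
    rw [← K.W_iff]
    exact hφ
  have h1 : IsColimit ((presheafToSheaf K AddCommGrpCat.{u}).mapCocone (colimit.cocone (F ⋙ P))) :=
    isColimitOfPreserves _ (colimit.isColimit (F ⋙ P))
  have h3 : h1.desc ((P ⋙ presheafToSheaf K AddCommGrpCat.{u}).mapCocone c) =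
      (presheafToSheaf K AddCommGrpCat.{u}).map φ := by
    refine h1.hom_ext (fun j => ?_)
    rw [h1.fac]
    have := congr_arg (presheafToSheaf K AddCommGrpCat.{u}).map
      (colimit.ι_desc (P.mapCocone c) j)
    rw [Functor.map_comp] at this
    exact this.symm
  have : IsIso (h1.desc ((P ⋙ presheafToSheaf K AddCommGrpCat.{u}).mapCocone c)) := by
    rw [h3]; exact hiso
  exact IsColimit.ofPointIso h1

end Groth.Agent.CohtopB.ColimCover
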