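import Mathlib.CategoryTheory.Abelian.GrothendieckAxioms.Basic
import Mathlib.Algebra.Homology.ShortComplex.Limits
import Mathlib.Algebra.Homology.ShortComplex.FunctorEquivalence
import Mathlib.Algebra.Homology.ShortComplex.Abelian
import Mathlib.Algebra.Homology.HomologicalComplexLimits
import Mathlib.Algebra.Homology.DerivedCategory.Fractions
import Mathlib.Algebra.Homology.DerivedCategory.HomologySequence
import Mathlib.Algebra.Homology.DerivedCategory.TStructure
import Mathlib.CategoryTheory.Abelian.GrothendieckCategory.Basic

set_option autoImplicit false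

universe w' w v u

open CategoryTheory CategoryTheory.Limits

namespace Groth.Agent.CohtopB.DCoprod

section Homology

variable {J : Type*} [Category* J] {A : Type*} [Category* A] [Abelian A]
  [HasColimitsOfShape J A] [HasExactColimitsOfShape J A]

set_option backward.isDefEq.respectTransparency false in
/-- Homology of short complexes commutes with exact colimits. -/
theorem preservesColimitsOfShape_homologyFunctor_shortComplex :
    PreservesColimitsOfShape J (ShortComplex.homologyFunctor A) := by
  refine ⟨fun {F} => ?_⟩
  refine preservesColimit_of_preserves_colimit_cocone (ShortComplex.isColimitColimitCocone F) ?_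
  let S : ShortComplex (J ⥤ A) := (ShortComplex.functorEquivalence J A).inverse.obj F
  let e : F ⋙ ShortComplex.homologyFunctor A ≅ S.homology :=
    NatIso.ofComponents (fun j => S.mapHomologyIso ((evaluation J A).obj j)) (by
      intro j k f
      have := ShortComplex.homologyMap_mapNatTrans (S := S) ((evaluation J A).map f)
      have key : ShortComplex.homologyMap (S.mapNatTrans ((evaluation J A).map f)) ≫
        (S.mapHomologyIso ((evaluation J A).obj k)).hom =
          (S.mapHomologyIso ((evaluation J A).obj j)).hom ≫
            ((evaluation J A).map f).app S.homology := by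
        rw [this]; simp
      exact key)
  refine (IsColimit.precomposeHomEquiv e.symm _).1 ?_
  refine IsColimit.ofIsoColimit (colimit.isColimit S.homology) ?_
  refine Cocone.ext (S.mapHomologyIso colim).symm ?_
  intro j
  let τ : (evaluation J A).obj j ⟶ (colim : (J ⥤ A) ⥤ A) :=
    { app := fun G => colimit.ι G j }
  have := ShortComplex.homologyMap_mapNatTrans (S := S) τ
  have key : τ.app S.homology ≫ (S.mapHomologyIso colim).inv =
      (S.mapHomologyIso ((evaluation J A).obj j)).inv ≫
        ShortComplex.homologyMap (S.mapNatTrans τ) := by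
    rw [this]; simp
  exact key

omit [HasExactColimitsOfShape J A] in
/-- The functor which takes a homological complex to the short complex in degree `i` preserves
colimits. -/
theorem preservesColimitsOfShape_shortComplexFunctor {ι : Type*} (c : ComplexShape ι) (i : ι) :
    PreservesColimitsOfShape J (HomologicalComplex.shortComplexFunctor A c i) := by
  refine ⟨fun {F} => ⟨fun {s} hs => ⟨?_⟩⟩⟩
  exact ShortComplex.isColimitOfIsColimitπ _
    (isColimitOfPreserves (HomologicalComplex.eval A c (c.prev i)) hs)
    (isColimitOfPreserves (HomologicalComplex.eval A c i) hs)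
    (isColimitOfPreserves (HomologicalComplex.eval A c (c.next i)) hs)

/-- The homology functors on homological complexes preserve exact colimits. -/
theorem preservesColimitsOfShape_homologyFunctor {ι : Type*} (c : ComplexShape ι) (i : ι) :
    PreservesColimitsOfShape J (HomologicalComplex.homologyFunctor A c i) := by
  have h1 := preservesColimitsOfShape_shortComplexFunctor (J := J) (A := A) c i
  have h2 := preservesColimitsOfShape_homologyFunctor_shortComplex (J := J) (A := A)
  exact preservesColimitsOfShape_of_natIso (HomologicalComplex.homologyFunctorIso A c i).symm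

end Homology

/-- If a functor preserves colimits of shape `J` and inverts the components of a morphism of
diagrams, then it inverts the induced map on colimits. -/
theorem isIso_map_colimMap {J C D : Type*} [Category* J] [Category* C] [Category* D]
    (F : C ⥤ D) [PreservesColimitsOfShape J F] {G H : J ⥤ C} [HasColimit G] [HasColimit H]
    (α : G ⟶ H) (hα : ∀ j, IsIso (F.map (α.app j))) : IsIso (F.map (colimMap α)) := by
  let w : G ⋙ F ≅ H ⋙ F :=
    NatIso.ofComponents (fun j => asIso (F.map (α.app j))) (by
      intro j k f
      simp [← Functor.map_comp])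
  let e := IsColimit.coconePointsIsoOfNatIso (isColimitOfPreserves F (colimit.isColimit G))
    (isColimitOfPreserves F (colimit.isColimit H)) w
  have : e.hom = F.map (colimMap α) := by
    refine (isColimitOfPreserves F (colimit.isColimit G)).hom_ext fun j => ?_
    rw [IsColimit.comp_coconePointsIsoOfNatIso_hom]
    simp [w, ← Functor.map_comp]
  rw [← this]
  infer_instance

section Coprod

variable {A : Type u} [Category.{v} A] [Abelian A] {ι : Type w}
  [HasCoproductsOfShape ι A] [HasExactColimitsOfShape (Discrete ι) A]

/-- A coproduct of quasi-isomorphisms is a quasi-isomorphism when coproducts are exact. -/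
theorem quasiIso_sigmaMap {κ : Type*} {c : ComplexShape κ} {K L : ι → HomologicalComplex A c}
    (f : ∀ i, K i ⟶ L i) (hf : ∀ i, QuasiIso (f i)) : QuasiIso (Limits.Sigma.map f) := by
  refine ⟨fun n => ?_⟩
  rw [quasiIsoAt_iff_isIso_homologyMap]
  have := preservesColimitsOfShape_homologyFunctor (J := Discrete ι) (A := A) c n
  refine isIso_map_colimMap (HomologicalComplex.homologyFunctor A c n) _ ?_
  rintro ⟨i⟩
  have := (hf i).quasiIsoAt n
  rw [quasiIsoAt_iff_isIso_homologyMap] at this
  exact this

omit [HasExactColimitsOfShape (Discrete ι) A] in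
/-- Morphisms out of a component of a coproduct of complexes. -/
theorem sigma_X_hom_ext {κ : Type*} {c : ComplexShape κ} {K : ι → HomologicalComplex A c}
    {n : κ} {Y : A} {f g : (∐ K).X n ⟶ Y}
    (h : ∀ i, (Limits.Sigma.ι K i).f n ≫ f = (Limits.Sigma.ι K i).f n ≫ g) : f = g := by
  refine (isColimitOfPreserves (HomologicalComplex.eval A c n)
    (coproductIsCoproduct K)).hom_ext ?_
  rintro ⟨i⟩
  exact h i

omit [HasExactColimitsOfShape (Discrete ι) A] in
/-- Morphisms out of a component of a coproduct of complexes. -/
theorem sigma_X_desc {κ : Type*} {c : ComplexShape κ} {K : ι → HomologicalComplex A c}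
    {n : κ} {Y : A} (f : ∀ i, (K i).X n ⟶ Y) :
    ∃ g : (∐ K).X n ⟶ Y, ∀ i, (Limits.Sigma.ι K i).f n ≫ g = f i := by
  let hc := isColimitOfPreserves (HomologicalComplex.eval A c n) (coproductIsCoproduct K)
  let s : Cocone (Discrete.functor K ⋙ HomologicalComplex.eval A c n) :=
    { pt := Y
      ι := Discrete.natTrans (fun i => f i.as) }
  exact ⟨hc.desc s, fun i => hc.fac s ⟨i⟩⟩

omit [HasExactColimitsOfShape (Discrete ι) A] in
/-- A morphism from a coproduct of complexes is null-homotopic if its restrictions are. -/
theorem homotopy_sigma {κ : Type*} {c : ComplexShape κ} {K : ι → HomologicalComplex A c}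
    {L : HomologicalComplex A c} (f : ∐ K ⟶ L)
    (h : ∀ i, Homotopy (Limits.Sigma.ι K i ≫ f) 0) : Nonempty (Homotopy f 0) := by
  choose H hH using fun p q : κ => sigma_X_desc (K := K) (n := p) (Y := L.X q)
    (fun i => (h i).hom p q)
  refine ⟨{ hom := H, zero := ?_, comm := ?_ }⟩
  · intro p q hpq
    refine sigma_X_hom_ext fun i => ?_
    rw [hH, (h i).zero p q hpq, comp_zero]
  · intro p
    refine sigma_X_hom_ext fun i => ?_
    have := (h i).comm p
    rw [HomologicalComplex.comp_f] at this
    rw [this]
    have h2 : (h i).hom = fun p q => (Limits.Sigma.ι K i).f p ≫ H p q := by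
      funext p q
      rw [hH]
    rw [h2, dNext_comp_left, prevD_comp_left]
    simp only [HomologicalComplex.zero_f, add_zero, Preadditive.comp_add]

section Derived

variable [HasDerivedCategory.{w'} A]

open DerivedCategory

/-- A morphism of complexes becomes zero in the derived category iff it becomes null-homotopic
after precomposition with a quasi-isomorphism. -/
theorem exists_quasiIso_homotopy_of_Q_map_eq_zero {K L : CochainComplex A ℤ} (f : K ⟶ L)
    (hf : Q.map f = 0) :
    ∃ (K' : CochainComplex A ℤ) (s : K' ⟶ K), QuasiIso s ∧ Nonempty (Homotopy (s ≫ f) 0) := by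
  have h1 : Qh.map ((HomotopyCategory.quotient A (ComplexShape.up ℤ)).map f) =
      Qh.map ((HomotopyCategory.quotient A (ComplexShape.up ℤ)).map (0 : K ⟶ L)) := by
    change Q.map f = Q.map 0
    rw [hf, Functor.map_zero]
  rw [MorphismProperty.map_eq_iff_precomp Qh
    (HomotopyCategory.quasiIso A (ComplexShape.up ℤ))] at h1
  obtain ⟨X', s, hs, h⟩ := h1
  obtain ⟨X', rfl⟩ := HomotopyCategory.quotient_obj_surjective X'
  obtain ⟨s, rfl⟩ := (HomotopyCategory.quotient _ _).map_surjective s
  refine ⟨X', s, ?_, ?_⟩
  · rwa [HomotopyCategory.quotient_map_mem_quasiIso_iff] at hs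
  · rw [← Functor.map_comp, ← Functor.map_comp, comp_zero] at h
    exact ⟨HomotopyCategory.homotopyOfEq _ _ h⟩

variable {K : ι → CochainComplex A ℤ} {Y : DerivedCategory A}

/-- Morphisms out of the image in the derived category of a coproduct of complexes. -/
theorem Q_sigma_desc_exists (f : ∀ i, Q.obj (K i) ⟶ Y) :
    ∃ g : Q.obj (∐ K) ⟶ Y, ∀ i, Q.map (Limits.Sigma.ι K i) ≫ g = f i := by
  let L := Q.objPreimage Y
  let e : Q.obj L ≅ Y := Q.objObjPreimageIso Y
  choose K' s hs g hg using fun i => right_fac (f i ≫ e.inv)
  have hs' : ∀ i, QuasiIso (s i) := fun i => by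
    have := hs i
    rwa [isIso_Q_map_iff_quasiIso] at this
  have hS : IsIso (Q.map (Limits.Sigma.map s)) := by
    rw [isIso_Q_map_iff_quasiIso]
    exact quasiIso_sigmaMap s hs'
  refine ⟨inv (Q.map (Limits.Sigma.map s)) ≫ Q.map (Limits.Sigma.desc g) ≫ e.hom, fun i => ?_⟩
  have h1 : Q.map (Limits.Sigma.ι K i) ≫ inv (Q.map (Limits.Sigma.map s)) =
      inv (Q.map (s i)) ≫ Q.map (Limits.Sigma.ι K' i) := by
    rw [IsIso.comp_inv_eq, Category.assoc, ← Functor.map_comp, Limits.Sigma.ι_map,
      Functor.map_comp, IsIso.inv_hom_id_assoc]
  rw [reassoc_of% h1, ← Functor.map_comp_assoc, Limits.Sigma.ι_desc]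
  have h2 := hg i
  rw [← Category.assoc, ← h2, Category.assoc, e.inv_hom_id, Category.comp_id]

/-- Uniqueness of morphisms out of the image in the derived category of a coproduct of
complexes. -/
theorem Q_sigma_hom_ext {f g : Q.obj (∐ K) ⟶ Y}
    (h : ∀ i, Q.map (Limits.Sigma.ι K i) ≫ f = Q.map (Limits.Sigma.ι K i) ≫ g) : f = g := by
  rw [← sub_eq_zero]
  have h' : ∀ i, Q.map (Limits.Sigma.ι K i) ≫ (f - g) = 0 := fun i => by
    rw [Preadditive.comp_sub, h i, sub_self]
  generalize f - g = φ at h'
  let L := Q.objPreimage Y
  let e : Q.obj L ≅ Y := Q.objObjPreimageIso Y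
  obtain ⟨L', k, s, hs, hk⟩ := left_fac (φ ≫ e.inv)
  have h1 : ∀ i, Q.map (Limits.Sigma.ι K i ≫ k) = 0 := fun i => by
    rw [← cancel_mono (inv (Q.map s)), Functor.map_comp, Category.assoc, ← hk, ← Category.assoc,
      h' i, zero_comp, zero_comp]
  choose K' t ht hH using fun i => exists_quasiIso_homotopy_of_Q_map_eq_zero _ (h1 i)
  have hT : IsIso (Q.map (Limits.Sigma.map t)) := by
    rw [isIso_Q_map_iff_quasiIso]
    exact quasiIso_sigmaMap t ht
  have h2 : Q.map (Limits.Sigma.map t ≫ k) = 0 := by
    obtain ⟨H⟩ := homotopy_sigma (Limits.Sigma.map t ≫ k) (fun i => by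
      have := (hH i).some
      rw [← Category.assoc, Limits.Sigma.ι_map, Category.assoc]
      exact this)
    have := HomotopyCategory.eq_of_homotopy _ _ H
    change Qh.map ((HomotopyCategory.quotient A (ComplexShape.up ℤ)).map _) = 0
    rw [this, Functor.map_zero, Functor.map_zero]
  rw [Functor.map_comp] at h2
  have h3 : Q.map k = 0 := by
    rw [← cancel_epi (Q.map (Limits.Sigma.map t)), h2, comp_zero]
  rw [← cancel_mono e.inv, hk, h3, zero_comp, zero_comp]

variable (K) in
/-- The cofan in the derived category given by a coproduct of complexes is colimit. -/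
theorem nonempty_isColimit_Q_cofan :
    Nonempty (IsColimit (Cofan.mk (Q.obj (∐ K)) fun i => Q.map (Limits.Sigma.ι K i))) := by
  refine ⟨Cofan.IsColimit.mk _ (fun s => (Q_sigma_desc_exists (K := K) s.inj).choose)
    (fun s i => (Q_sigma_desc_exists (K := K) s.inj).choose_spec i) (fun s m hm => ?_)⟩
  refine Q_sigma_hom_ext fun i => ?_
  rw [(Q_sigma_desc_exists (K := K) s.inj).choose_spec i]
  exact hm i

/-- `Q : CochainComplex A ℤ ⥤ DerivedCategory A` preserves exact coproducts. -/
theorem preservesColimitsOfShape_Q :
    PreservesColimitsOfShape (Discrete ι) (Q : CochainComplex A ℤ ⥤ DerivedCategory A) := by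
  have : ∀ (K : ι → CochainComplex A ℤ), PreservesColimit (Discrete.functor K)
      (Q : CochainComplex A ℤ ⥤ DerivedCategory A) := fun K =>
    preservesColimit_of_preserves_colimit_cocone (coproductIsCoproduct K)
      ((isColimitMapCoconeCofanMkEquiv _ _ _).2 (nonempty_isColimit_Q_cofan K).some)
  exact preservesColimitsOfShape_of_discrete _

/-- The derived category has coproducts of shape `ι` if `A` has exact coproducts of shape `ι`. -/
theorem hasCoproductsOfShape_derivedCategory :
    HasCoproductsOfShape ι (DerivedCategory A) := by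
  have hQ := preservesColimitsOfShape_Q (A := A) (ι := ι)
  refine ⟨fun F => ?_⟩
  let K : ι → CochainComplex A ℤ := fun i => Q.objPreimage (F.obj ⟨i⟩)
  let e : Discrete.functor K ⋙ Q ≅ F :=
    Discrete.natIso (fun i => Q.objObjPreimageIso (F.obj i))
  exact hasColimit_of_iso e.symm

/-- A functor out of the derived category preserves coproducts of shape `ι` if its composition
with `Q` does. -/
theorem preservesColimitsOfShape_of_Q_comp {D : Type*} [Category* D] (F : DerivedCategory A ⥤ D)
    (h : PreservesColimitsOfShape (Discrete ι) (Q ⋙ F)) :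
    PreservesColimitsOfShape (Discrete ι) F := by
  have hQ := preservesColimitsOfShape_Q (A := A) (ι := ι)
  refine ⟨fun {G} => ?_⟩
  let K : ι → CochainComplex A ℤ := fun i => Q.objPreimage (G.obj ⟨i⟩)
  let e : Discrete.functor K ⋙ Q ≅ G :=
    Discrete.natIso (fun i => Q.objObjPreimageIso (G.obj i))
  have : PreservesColimit (Discrete.functor K ⋙ Q) F :=
    preservesColimit_of_preserves_colimit_cocone
      (isColimitOfPreserves Q (coproductIsCoproduct K))
      (isColimitOfPreserves (Q ⋙ F) (coproductIsCoproduct K))
  exact preservesColimit_of_iso_diagram F e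

/-- The homology functors on the derived category preserve exact coproducts. -/
theorem preservesColimitsOfShape_homologyFunctor_derivedCategory (n : ℤ) :
    PreservesColimitsOfShape (Discrete ι) (DerivedCategory.homologyFunctor A n) := by
  apply preservesColimitsOfShape_of_Q_comp
  have := preservesColimitsOfShape_homologyFunctor (J := Discrete ι) (A := A)
    (ComplexShape.up ℤ) n
  exact preservesColimitsOfShape_of_natIso (homologyFunctorFactors A n).symm

set_option backward.isDefEq.respectTransparency false in
/-- The single functors to the derived category preserve exact coproducts. -/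
theorem preservesColimitsOfShape_singleFunctor (n : ℤ) :
    PreservesColimitsOfShape (Discrete ι) (DerivedCategory.singleFunctor A n) := by
  have hQ := preservesColimitsOfShape_Q (A := A) (ι := ι)
  have : PreservesColimitsOfShape (Discrete ι)
      (HomologicalComplex.single A (ComplexShape.up ℤ) n ⋙ Q) := inferInstance
  have h2 : PreservesColimitsOfShape (Discrete ι)
      (CochainComplex.singleFunctor A n ⋙ Q) := this
  exact preservesColimitsOfShape_of_natIso (singleFunctorIsoCompQ A n).symm

/-- A coproduct of objects in `D^{≥ n}` is in `D^{≥ n}`. -/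
theorem isGE_sigma (M : ι → DerivedCategory A) [HasCoproduct M] (n : ℤ)
    (hM : ∀ i, (M i).IsGE n) : (∐ M).IsGE n := by
  rw [isGE_iff]
  intro k hk
  have := preservesColimitsOfShape_homologyFunctor_derivedCategory (A := A) (ι := ι) k
  have hc := isColimitOfPreserves (DerivedCategory.homologyFunctor A k) (coproductIsCoproduct M)
  rw [IsZero.iff_id_eq_zero]
  refine hc.hom_ext ?_
  rintro ⟨i⟩
  have := (isGE_iff (M i) n).1 (hM i) k hk
  exact this.eq_of_src _ _

/-- A coproduct of objects in `D^{≤ n}` is in `D^{≤ n}`. -/
theorem isLE_sigma (M : ι → DerivedCategory A) [HasCoproduct M] (n : ℤ)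
    (hM : ∀ i, (M i).IsLE n) : (∐ M).IsLE n := by
  rw [isLE_iff]
  intro k hk
  have := preservesColimitsOfShape_homologyFunctor_derivedCategory (A := A) (ι := ι) k
  have hc := isColimitOfPreserves (DerivedCategory.homologyFunctor A k) (coproductIsCoproduct M)
  rw [IsZero.iff_id_eq_zero]
  refine hc.hom_ext ?_
  rintro ⟨i⟩
  have := (isLE_iff (M i) n).1 (hM i) k hk
  exact this.eq_of_src _ _

end Derived

end Coprod

section Grothendieck

variable {A : Type u} [Category.{v} A] [Abelian A] [IsGrothendieckAbelian.{w} A] (ι : Type w)

/-- Grothendieck abelian categories have exact coproducts. -/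
theorem hasExactCoproducts_of_isGrothendieckAbelian :
    HasExactColimitsOfShape (Discrete ι) A := by
  have := Abelian.hasFiniteBiproducts (C := A)
  have : AB4OfSize.{w} A := AB4.of_AB5 A
  infer_instance

end Grothendieck

end Groth.Agent.CohtopB.DCoprod
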