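import Groth.Agent.CohtopB.FinFactor
import Groth.Agent.CohtopB.DCoprod
import Mathlib.Algebra.Homology.DerivedCategory.Ext.Basic
import Mathlib.Algebra.Homology.DerivedCategory.TStructure
import Mathlib.CategoryTheory.Triangulated.TStructure.TruncLTGE

set_option autoImplicit false

universe w'' w' w v u

open CategoryTheory CategoryTheory.Limits CategoryTheory.Pretriangulated

namespace Groth.Agent.CohtopB.CompactExt

open Groth.Agent.CohtopB.FinFactor Groth.Agent.CohtopB.DCoprod
  Groth.Agent.CohtopB.CoprodTriangle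

/-- In a coproduct of abelian groups every element is a finite sum of elements coming from the
summands. -/
theorem exists_finset_sum {ι : Type w} (X : ι → AddCommGrpCat.{v}) (c : Cofan X)
    (hc : IsColimit c) (y : c.pt) :
    ∃ (s : Finset ι) (x : ∀ i, X i), y = ∑ i ∈ s, (c.inj i).hom (x i) := by
  classical
  let Φ : DirectSum ι (fun i => (X i : Type v)) →+ c.pt :=
    DirectSum.toAddMonoid fun i => (c.inj i).hom
  have hΦ : ∀ i (x : X i), Φ (DirectSum.of _ i x) = (c.inj i).hom x := fun i x =>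
    DirectSum.toAddMonoid_of _ _ _
  let q : c.pt ⟶ AddCommGrpCat.of (c.pt ⧸ Φ.range) :=
    AddCommGrpCat.ofHom (QuotientAddGroup.mk' Φ.range)
  have hq : q = 0 := by
    refine Cofan.IsColimit.hom_ext hc _ _ fun i => ?_
    ext x
    change QuotientAddGroup.mk' Φ.range ((c.inj i).hom x) = 0
    rw [← hΦ]
    exact (QuotientAddGroup.eq_zero_iff _).2 ⟨_, rfl⟩
  have hy : y ∈ Φ.range := by
    rw [← QuotientAddGroup.eq_zero_iff]
    have := congrArg (fun φ => φ.hom y) hq
    exact this
  obtain ⟨z, rfl⟩ := hy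
  refine ⟨DFinsupp.support z, fun i => z i, ?_⟩
  conv_lhs => rw [← DirectSum.sum_support_of z]
  rw [map_sum]
  exact Finset.sum_congr rfl fun i _ => hΦ _ _

section

variable {A : Type u} [Category.{v} A] [Abelian A] {ι : Type w}
  [HasCoproductsOfShape ι A] [HasExactColimitsOfShape (Discrete ι) A]
  [HasDerivedCategory.{w'} A] [HasExt.{w''} A]

open DerivedCategory

/-- If `Ext^p(G, -)` commutes with direct sums then maps from `G` to direct sums of shifted single
objects are finite sums of maps to summands. -/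
theorem isFF_shift_single (G : A) (p : ℕ)
    (hp : PreservesColimitsOfShape (Discrete ι) (Abelian.extFunctorObj G p)) (F : ι → A)
    [HasCoproduct fun i => ((singleFunctor A 0).obj (F i))⟦(p : ℤ)⟧] :
    IsFF ((singleFunctor A 0).obj G) (fun i => ((singleFunctor A 0).obj (F i))⟦(p : ℤ)⟧) := by
  intro f
  have h0 := preservesColimitsOfShape_singleFunctor (A := A) (ι := ι) 0
  let c : Cofan (fun i => ((singleFunctor A 0).obj (F i))⟦(p : ℤ)⟧) :=
    Cofan.mk (((singleFunctor A 0).obj (∐ F))⟦(p : ℤ)⟧)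
      fun i => ((singleFunctor A 0).map (Limits.Sigma.ι F i))⟦(p : ℤ)⟧'
  have hc : IsColimit c := isColimitMapCoconeCofanMkEquiv (singleFunctor A 0 ⋙
    shiftFunctor (DerivedCategory A) (p : ℤ)) _ _
      (isColimitOfPreserves _ (coproductIsCoproduct F))
  let e : (∐ fun i => ((singleFunctor A 0).obj (F i))⟦(p : ℤ)⟧) ⟶ c.pt :=
    Limits.Sigma.desc c.inj
  let e' : c.pt ⟶ (∐ fun i => ((singleFunctor A 0).obj (F i))⟦(p : ℤ)⟧) :=
    Cofan.IsColimit.desc hc (Limits.Sigma.ι _)
  have he : e ≫ e' = 𝟙 _ := by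
    refine Limits.Sigma.hom_ext _ _ fun i => ?_
    rw [Limits.Sigma.ι_desc_assoc, Cofan.IsColimit.fac, Category.comp_id]
  obtain ⟨α, hα⟩ : ∃ α : Abelian.Ext G (∐ F) p, α.hom = f ≫ e :=
    ⟨Abelian.Ext.homEquiv.symm (f ≫ e), Abelian.Ext.homEquiv.apply_symm_apply _⟩
  let c' : Cofan (fun i => (Abelian.extFunctorObj G p).obj (F i)) :=
    Cofan.mk ((Abelian.extFunctorObj G p).obj (∐ F))
      fun i => (Abelian.extFunctorObj G p).map (Limits.Sigma.ι F i)
  have hc' : IsColimit c' := isColimitMapCoconeCofanMkEquiv (Abelian.extFunctorObj G p) _ _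
      (isColimitOfPreserves _ (coproductIsCoproduct F))
  obtain ⟨s, x, hx⟩ := exists_finset_sum _ c' hc' α
  have hx' : α = ∑ i ∈ s, (x i : Abelian.Ext G (F i) p).comp
    (Abelian.Ext.mk₀ (Limits.Sigma.ι F i)) (add_zero p) := hx
  refine ⟨s, fun i => Abelian.Ext.hom (x i), ?_⟩
  have h1 : f = (f ≫ e) ≫ e' := by rw [Category.assoc, he, Category.comp_id]
  rw [h1, ← hα, hx']
  have h2 : (∑ i ∈ s, (x i : Abelian.Ext G (F i) p).comp
    (Abelian.Ext.mk₀ (Limits.Sigma.ι F i)) (add_zero p)).hom =
      ∑ i ∈ s, ((x i : Abelian.Ext G (F i) p).comp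
        (Abelian.Ext.mk₀ (Limits.Sigma.ι F i)) (add_zero p)).hom :=
    map_sum (Abelian.Ext.homAddEquiv) _ _
  rw [h2, Preadditive.sum_comp]
  refine Finset.sum_congr rfl fun i _ => ?_
  rw [Abelian.Ext.comp_hom, Abelian.Ext.mk₀_hom, ShiftedHom.comp_mk₀, Category.assoc]
  congr 1
  exact Cofan.IsColimit.fac hc (Limits.Sigma.ι _) i

omit [HasExactColimitsOfShape (Discrete ι) A] [HasCoproductsOfShape ι A] [HasExt.{w''} A] in
/-- Morphisms from `D^{≤ 0}` to `D^{≥ 1}` vanish. -/
theorem hom_eq_zero {X Y : DerivedCategory A} (f : X ⟶ Y) (a b : ℤ) (hab : a < b)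
    (hX : X.IsLE a) (hY : Y.IsGE b) : f = 0 :=
  TStructure.t.zero f a b hab

omit [HasExt.{w''} A] in
/-- `IsFF` holds when the target is in `D^{≥ 1}`. -/
theorem isFF_of_isGE_one (P : DerivedCategory A) (hP : P.IsLE 0) (M : ι → DerivedCategory A)
    [HasCoproduct M] (a : ℤ) (ha : 0 < a) (hM : ∀ i, (M i).IsGE a) : IsFF P M :=
  IsFF.of_subsingleton fun f => hom_eq_zero f 0 a ha hP (isGE_sigma M a hM)

theorem isFF_single (G : A)
    (hG : ∀ p : ℕ, PreservesColimitsOfShape (Discrete ι) (Abelian.extFunctorObj G p))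
    (n : ℤ) (F : ι → A) [HasCoproduct fun i => (singleFunctor A n).obj (F i)] :
    IsFF ((singleFunctor A 0).obj G) (fun i => (singleFunctor A n).obj (F i)) := by
  have := hasCoproductsOfShape_derivedCategory (A := A) (ι := ι)
  by_cases hn : 0 < n
  · exact isFF_of_isGE_one _ inferInstance _ n hn fun i => inferInstance
  · obtain ⟨p, hp⟩ := Int.exists_eq_neg_ofNat (not_lt.1 hn)
    refine IsFF.of_iso_family (isFF_shift_single G p (hG p) F) fun i => ?_
    exact ((singleFunctors A).shiftIso (p : ℤ) n 0 (by rw [hp]; simp)).app (F i)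

/-- Main result: maps from `G` to direct sums of uniformly bounded below objects are finite sums
of maps to summands, if all `Ext^p(G, -)` commute with direct sums. -/
theorem isFF_of_isGE (G : A)
    (hG : ∀ p : ℕ, PreservesColimitsOfShape (Discrete ι) (Abelian.extFunctorObj G p))
    (n : ℕ) : ∀ (a : ℤ) (_ : 1 - (n : ℤ) ≤ a) (M : ι → DerivedCategory A) [HasCoproduct M]
    (_ : ∀ i, (M i).IsGE a), IsFF ((singleFunctor A 0).obj G) M := by
  have hco := hasCoproductsOfShape_derivedCategory (A := A) (ι := ι)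
  induction n with
  | zero =>
    intro a ha M _ hM
    exact isFF_of_isGE_one _ inferInstance _ a (by simp at ha; lia) hM
  | succ n ih =>
    intro a ha M _ hM
    let T : ι → Triangle (DerivedCategory A) := fun i =>
      (TStructure.t.triangleLTGE (a + 1)).obj (M i)
    have hT : ∀ i, T i ∈ distTriang _ := fun i =>
      TStructure.t.triangleLTGE_distinguished (a + 1) (M i)
    refine IsFF.ext₂ T hT ?_ ?_
    · have h1 : ∀ i, ((T i).obj₁).IsGE a := fun i => by
        have := hM i
        change TStructure.t.IsGE ((TStructure.t.truncLT (a + 1)).obj (M i)) a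
        infer_instance
      have h2 : ∀ i, ((T i).obj₁).IsLE a := fun i => by
        change TStructure.t.IsLE ((TStructure.t.truncLT (a + 1)).obj (M i)) a
        infer_instance
      choose F hF using fun i =>
        have := h1 i
        have := h2 i
        exists_iso_singleFunctor_obj_of_isGE_of_isLE (T i).obj₁ a
      exact IsFF.of_iso_family (isFF_single G hG a F) fun i => (hF i).some.symm
    · refine ih (a + 1) (by push_cast at ha; lia) _ fun i => ?_
      change TStructure.t.IsGE ((TStructure.t.truncGE (a + 1)).obj (M i)) (a + 1)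
      infer_instance

end

end Groth.Agent.CohtopB.CompactExt
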