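import Mathlib.Algebra.Homology.DerivedCategory.Ext.ExactSequences
import Mathlib.Algebra.Homology.DerivedCategory.Ext.EnoughInjectives
import Mathlib.Algebra.Homology.DerivedCategory.TStructure
import Groth.Agent.PerfA.Hyp0

/-!
# Finite cohomological dimension and unbounded complexes

If `Ext^p(G, F) = 0` for all `F` and `p > d`, then `Hom(G[0], K) = 0` for `K` in `D^{≤ e}` with
`e < -d`, provided `K` has a K-injective resolution with injective terms.
-/

set_option autoImplicit false

universe w' w v u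

open CategoryTheory CategoryTheory.Limits

namespace Groth.Agent.CohtopB.FinDim

variable {A : Type u} [Category.{v} A] [Abelian A]

/-- The short complex `Z^i → K^i → Z^j`. -/
noncomputable def cyclesSeq (K : CochainComplex A ℤ) (i j : ℤ) : ShortComplex A :=
  ShortComplex.mk (K.iCycles i) (K.toCycles i j) (by
    rw [← cancel_mono (K.iCycles j), Category.assoc, HomologicalComplex.toCycles_i,
      HomologicalComplex.iCycles_d, zero_comp])

/-- `0 → Z^i → K^i → Z^{i+1} → 0` is exact if `K` is exact in degree `i + 1`. -/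
theorem cyclesSeq_shortExact (K : CochainComplex A ℤ) (i j : ℤ) (hij : i + 1 = j)
    (h : K.ExactAt j) : (cyclesSeq K i j).ShortExact := by
  have h1 : Mono (cyclesSeq K i j).f := by
    dsimp [cyclesSeq]
    infer_instance
  have h2 : Epi (cyclesSeq K i j).g :=
    Preadditive.epi_of_isZero_cokernel' _ (K.homologyIsCokernel i j (by simp [← hij]))
      h.isZero_homology
  refine ShortComplex.ShortExact.mk ?_
  rw [ShortComplex.exact_iff_exact_up_to_refinements]
  intro B (x : B ⟶ K.X i) hx
  have hx' : x ≫ K.toCycles i j = 0 := hx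
  have hx2 : x ≫ K.d i j = 0 := by
    rw [← HomologicalComplex.toCycles_i, ← Category.assoc, hx', zero_comp]
  refine ⟨B, 𝟙 B, inferInstance, K.liftCycles x j (by simp [← hij]) hx2, ?_⟩
  · rw [Category.id_comp]
    exact (K.liftCycles_i _ _ _ _).symm

/-- Dimension shifting along the cycles of a complex of injectives. -/
theorem ext_cycles_eq_zero [HasExt.{w} A] (G : A) (d : ℕ)
    (h1 : ∀ (F : A) (p : ℕ), d < p → ∀ x : Abelian.Ext G F p, x = 0)
    (I : CochainComplex A ℤ) (hI : ∀ n, Injective (I.X n))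
    (hex : ∀ k : ℤ, -(d : ℤ) ≤ k → I.ExactAt k) (m : ℕ) :
    ∀ (j : ℕ), 1 ≤ j → d + 1 ≤ j + m → ∀ (k : ℤ), k = -(j : ℤ) →
      ∀ x : Abelian.Ext G (I.cycles k) j, x = 0 := by
  induction m with
  | zero =>
    intro j _ hj k _ x
    exact h1 _ _ (by omega) x
  | succ m ih =>
    intro j hj1 hj k hk x
    by_cases hjd : d < j
    · exact h1 _ _ hjd x
    · have hS := cyclesSeq_shortExact I (k - 1) k (by omega) (hex k (by omega))
      have hz : x.comp hS.extClass rfl = 0 :=
        ih (j + 1) (by omega) (by omega) (k - 1) (by push_cast; omega) _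
      obtain ⟨y, hy⟩ := Abelian.Ext.covariant_sequence_exact₃ G hS x rfl hz
      have : Injective (cyclesSeq I (k - 1) k).X₂ := hI (k - 1)
      obtain ⟨j', rfl⟩ : ∃ j', j = j' + 1 := ⟨j - 1, by omega⟩
      have hy0 : y = 0 := Abelian.Ext.eq_zero_of_injective y
      subst hy0
      rw [Abelian.Ext.zero_comp] at hy
      exact hy.symm

/-- The vanishing statement, for an explicit K-injective complex with injective terms. -/
theorem hom_Q_eq_zero [HasDerivedCategory.{w'} A] [HasExt.{w} A] (G : A) (d : ℕ)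
    (h1 : ∀ (F : A) (p : ℕ), d < p → ∀ x : Abelian.Ext G F p, x = 0)
    (I : CochainComplex A ℤ) [I.IsKInjective] (hI : ∀ n, Injective (I.X n))
    (hex : ∀ k : ℤ, -(d : ℤ) ≤ k → I.ExactAt k)
    (f : (DerivedCategory.singleFunctor A 0).obj G ⟶ DerivedCategory.Q.obj I) : f = 0 := by
  obtain ⟨z, hz, rfl⟩ := PerfA.Hyp0.exists_cocycle_of_isKInjective f
  have hS := cyclesSeq_shortExact I (-1) 0 (by omega) (hex 0 (by omega))
  let z' : G ⟶ I.cycles 0 := I.liftCycles z (0 + 1) (by simp) hz
  have hz' : (Abelian.Ext.mk₀ z').comp hS.extClass rfl = 0 :=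
    ext_cycles_eq_zero G d h1 I hI hex d 1 le_rfl (by omega) (-1) (by simp) _
  obtain ⟨y, hy⟩ := Abelian.Ext.covariant_sequence_exact₃ G hS (Abelian.Ext.mk₀ z') rfl hz'
  obtain ⟨y, rfl⟩ := (Abelian.Ext.mk₀_bijective _ _).2 y
  rw [Abelian.Ext.mk₀_comp_mk₀] at hy
  have hy' : y ≫ I.toCycles (-1) 0 = z' := (Abelian.Ext.mk₀_bijective _ _).1 hy
  refine PerfA.Hyp0.ofCocycle_eq_zero (n := -1) (by omega) z hz y ?_
  rw [← HomologicalComplex.toCycles_i, ← Category.assoc]
  have h3 : (y ≫ I.toCycles (-1) 0) ≫ I.iCycles 0 = z' ≫ I.iCycles 0 := by rw [hy']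
  exact h3.trans (I.liftCycles_i _ _ _ _)

end Groth.Agent.CohtopB.FinDim
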