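import Groth.Agent.CohtopB.CompactExt
import Groth.Agent.CohtopB.FinDim
import Groth.Agent.CohtopA.KInjRes2

/-!
# Compactness of objects of finite cohomological dimension

In a Grothendieck abelian category, an object `G` with `Ext^p(G, -) = 0` for `p > d` and such
that all `Ext^p(G, -)` commute with direct sums is compact in the derived category.
-/

set_option autoImplicit false

universe w' w v u

open CategoryTheory CategoryTheory.Limits

namespace Groth.Agent.CohtopB.CompactFinDim

open DerivedCategory FinFactor CompactExt DCoprod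

variable {A : Type u} [Category.{v} A] [Abelian A] [IsGrothendieckAbelian.{v} A]
  [HasDerivedCategory.{w'} A] [HasExt.{w} A]

/-- Maps from `G[0]` to objects of `D^{≤ e}`, `e < -d`, vanish. -/
theorem hom_eq_zero_of_isLE (G : A) (d : ℕ)
    (h1 : ∀ (F : A) (p : ℕ), d < p → ∀ x : Abelian.Ext G F p, x = 0)
    (K : DerivedCategory A) (e : ℤ) (he : e < -(d : ℤ)) (hK : K.IsLE e)
    (f : (singleFunctor A 0).obj G ⟶ K) : f = 0 := by
  obtain ⟨I, s, hI, hs, -, hinj⟩ :=
    CohtopA.KInjRes2.exists_kInjective_resolution.{v} (Q.objPreimage K)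
  have hs' : IsIso (Q.map s) := by rwa [isIso_Q_map_iff_quasiIso]
  let e' : K ≅ Q.obj I := (Q.objObjPreimageIso K).symm ≪≫ asIso (Q.map s)
  have hQ : (Q.obj I).IsLE e := TStructure.t.isLE_of_iso e' e
  have hex : ∀ k : ℤ, -(d : ℤ) ≤ k → I.ExactAt k := by
    intro k hk
    rw [isLE_Q_obj_iff, CochainComplex.isLE_iff] at hQ
    exact hQ k (by omega)
  have := FinDim.hom_Q_eq_zero G d h1 I hinj hex (f ≫ e'.hom)
  rw [← cancel_mono e'.hom, this, zero_comp]

theorem isFF {ι : Type v} (G : A) (d : ℕ)
    (h1 : ∀ (F : A) (p : ℕ), d < p → ∀ x : Abelian.Ext G F p, x = 0)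
    (hG : ∀ p : ℕ, PreservesColimitsOfShape (Discrete ι) (Abelian.extFunctorObj G p))
    (M : ι → DerivedCategory A) [HasCoproduct M] :
    IsFF ((singleFunctor A 0).obj G) M := by
  have := hasExactCoproducts_of_isGrothendieckAbelian (A := A) ι
  have hco := hasCoproductsOfShape_derivedCategory (A := A) (ι := ι)
  let T : ι → Pretriangulated.Triangle (DerivedCategory A) := fun i =>
    (TStructure.t.triangleLTGE (-(d : ℤ))).obj (M i)
  have hT : ∀ i, T i ∈ Pretriangulated.distinguishedTriangles := fun i =>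
    TStructure.t.triangleLTGE_distinguished (-(d : ℤ)) (M i)
  refine IsFF.ext₂ T hT ?_ ?_
  · refine IsFF.of_subsingleton fun f => ?_
    refine hom_eq_zero_of_isLE G d h1 _ (-(d : ℤ) - 1) (by omega) ?_ f
    refine isLE_sigma _ _ fun i => ?_
    change TStructure.t.IsLE ((TStructure.t.truncLT (-(d : ℤ))).obj (M i)) _
    infer_instance
  · refine isFF_of_isGE G hG (d + 1) (-(d : ℤ)) (by push_cast; omega) _ fun i => ?_
    change TStructure.t.IsGE ((TStructure.t.truncGE (-(d : ℤ))).obj (M i)) _
    infer_instance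

end Groth.Agent.CohtopB.CompactFinDim
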