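import Groth.Agent.CohtopB.RlimLocal
import Mathlib.CategoryTheory.Subobject.Limits
import Mathlib.CategoryTheory.Sites.ConstantSheaf

/-!
# Sections of the constant sheaf on an irreducible space

* `cst V : A →+ (const X A)(V)`: constant sections; bijective for `V` nonempty and `X` irreducible.
* `imageSubobject_le_of_sections`: comparison of image subobjects of sheaves via sections.
-/

set_option autoImplicit false

universe u

open CategoryTheory CategoryTheory.Limits Opposite TopologicalSpace

namespace Groth.Agent.CohtopB.ConstIrred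

section Gen

variable {C : Type u} [SmallCategory C] {J : GrothendieckTopology C}

/-- Comparison of the images of two morphisms of abelian sheaves by looking at sections. -/
lemma imageSubobject_le_of_sections {F G Z : Sheaf J AddCommGrpCat.{u}} (f : F ⟶ Z) (g : G ⟶ Z)
    (h : ∀ (V : C) (s : F.obj.obj (op V)), ∃ t : G.obj.obj (op V),
      (g.hom.app (op V)).hom t = (f.hom.app (op V)).hom s) :
    imageSubobject f ≤ imageSubobject g := by
  have h0 : f ≫ cokernel.π g = 0 := by
    ext V : 3
    ext s
    obtain ⟨t, ht⟩ := h (unop V) s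
    change ((cokernel.π g).hom.app V).hom ((f.hom.app V).hom s) = 0
    have h1 : ((cokernel.π g).hom.app V).hom ((g.hom.app V).hom t) = 0 := by
      have := congr_arg (fun φ : G ⟶ cokernel g => (φ.hom.app V).hom t) (cokernel.condition g)
      exact this
    rw [← h1]
    exact congr_arg _ ht.symm
  have h1 : g ≫ cokernel.π (imageSubobject g).arrow = 0 := by
    have h2 := congr_arg (fun z => z ≫ cokernel.π (imageSubobject g).arrow)
      (imageSubobject_arrow_comp g)
    simp only [Category.assoc, cokernel.condition, comp_zero] at h2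
    exact h2.symm
  refine imageSubobject_le f (Abelian.monoLift (imageSubobject g).arrow f ?_)
    (Abelian.monoLift_comp _ _ _)
  rw [← cokernel.π_desc g _ h1, ← Category.assoc, h0, zero_comp]

end Gen

section Top

variable {X : TopCat.{u}} (A : Type u) [AddCommGroup A]

/-- Constant sections of the constant sheaf. -/
noncomputable def cst (V : Opens X) : A →+ (CohTop.const X A).obj.obj (op V) :=
  (((sheafificationAdjunction (Opens.grothendieckTopology X) AddCommGrpCat.{u}).unit.app
    ((Functor.const _).obj (AddCommGrpCat.of A))).app (op V)).hom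

lemma cst_res {V W : Opens X} (i : W ⟶ V) (a : A) :
    ((CohTop.const X A).obj.map i.op).hom (cst A V a) = cst A W a := by
  have := ConcreteCategory.congr_hom
    (((sheafificationAdjunction (Opens.grothendieckTopology X) AddCommGrpCat.{u}).unit.app
    ((Functor.const _).obj (AddCommGrpCat.of A))).naturality i.op) a
  exact this.symm

lemma cst_isLocallyBijective :
    Presheaf.IsLocallyInjective (Opens.grothendieckTopology X)
      ((sheafificationAdjunction (Opens.grothendieckTopology X) AddCommGrpCat.{u}).unit.app
        ((Functor.const (Opens X)ᵒᵖ).obj (AddCommGrpCat.of A))) ∧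
    Presheaf.IsLocallySurjective (Opens.grothendieckTopology X)
      ((sheafificationAdjunction (Opens.grothendieckTopology X) AddCommGrpCat.{u}).unit.app
        ((Functor.const (Opens X)ᵒᵖ).obj (AddCommGrpCat.of A))) := by
  rw [← GrothendieckTopology.W_iff_isLocallyBijective]
  exact GrothendieckTopology.W_adj_unit_app _ _ _

/-- Constant sections on nonempty opens are determined by their value. -/
lemma cst_injective {V : Opens X} (hV : V ≠ ⊥) : Function.Injective (cst A V) := by
  intro a b hab
  have := (cst_isLocallyBijective (X := X) A).1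
  obtain ⟨x, hx⟩ : (V : Set X).Nonempty := by
    rw [Set.nonempty_iff_ne_empty]
    intro h
    exact hV (Opens.ext h)
  obtain ⟨W, i, hW, -⟩ := this.equalizerSieve_mem (X := op V) a b hab x hx
  exact hW

variable [IrreducibleSpace X]

lemma inf_ne_bot {V W : Opens X} (hV : V ≠ ⊥) (hW : W ≠ ⊥) : V ⊓ W ≠ ⊥ := by
  have hne : ∀ {V : Opens X}, V ≠ ⊥ → (V : Set X).Nonempty := fun {V} h => by
    rw [Set.nonempty_iff_ne_empty]
    intro h'
    exact h (Opens.ext h')
  obtain ⟨x, hx⟩ := nonempty_preirreducible_inter V.2 W.2 (hne hV) (hne hW)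
  intro h
  have : x ∈ (V ⊓ W : Opens X) := hx
  rw [h] at this
  exact this

/-- Every section of a constant sheaf over a nonempty open of an irreducible space is constant. -/
lemma cst_surjective {V : Opens X} (hV : V ≠ ⊥) : Function.Surjective (cst A V) := by
  intro s
  have hs := (cst_isLocallyBijective (X := X) A).2
  have hcov := hs.imageSieve_mem (U := V) s
  obtain ⟨x, hx⟩ : (V : Set X).Nonempty := by
    rw [Set.nonempty_iff_ne_empty]
    intro h
    exact hV (Opens.ext h)
  obtain ⟨W, i, ⟨a, ha⟩, hxW⟩ := hcov x hx
  have hW : W ≠ ⊥ := by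
    rintro rfl
    exact hxW
  refine ⟨a, ?_⟩
  rw [← sub_eq_zero]
  refine RlimLocal.section_eq_zero (CohTop.const X A) hcov _ ?_
  rintro W' i' ⟨a', ha'⟩
  change cst A W a = ((CohTop.const X A).obj.map i.op).hom s at ha
  change cst A W' a' = ((CohTop.const X A).obj.map i'.op).hom s at ha'
  rw [map_sub, cst_res, ← ha']
  by_cases hW' : W' = ⊥
  · subst hW'
    refine RlimLocal.section_eq_zero (CohTop.const X A) (T := ⊥) ?_ _ ?_
    · intro x hx
      exact hx.elim
    · rintro _ _ ⟨⟩
  · have : a = a' := by
      apply cst_injective A (inf_ne_bot hW hW')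
      rw [← cst_res A (homOfLE inf_le_left : W ⊓ W' ⟶ W), ha,
        ← cst_res A (homOfLE inf_le_right : W ⊓ W' ⟶ W'), ha']
      change (((CohTop.const X A).obj.map i.op) ≫ ((CohTop.const X A).obj.map _)).hom s =
        (((CohTop.const X A).obj.map i'.op) ≫ ((CohTop.const X A).obj.map _)).hom s
      rw [← Functor.map_comp, ← Functor.map_comp]
      rfl
    rw [this, sub_self]

omit [IrreducibleSpace X] in
/-- Sections of a sheaf over the empty open vanish. -/
lemma section_bot (F : CohTop.Ab X) (s : F.obj.obj (op ⊥)) : s = 0 := by
  refine RlimLocal.section_eq_zero F (T := ⊥) ?_ _ ?_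
  · intro x hx
    exact hx.elim
  · rintro _ _ ⟨⟩

end Top

end Groth.Agent.CohtopB.ConstIrred
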