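import Groth.Agent.CohtopB.CohColim

/-!
# The constant sheaf `ℤ` is the free abelian sheaf on the terminal sheaf of sets

* `constZIso`: `(constantSheaf J _).obj (ULift ℤ) ≅ (ZSh J).obj (⊤_ _)`.
* `extCommutes_of_iso`: invariance of `ExtCommutes` under isomorphisms in the first variable.
* `preserves_functorH`: `Sheaf.functorH J p` preserves `Λ`-shaped colimits if `Ext^p(ℤ[⊤], -)` does.
-/

set_option autoImplicit false
set_option linter.unusedSectionVars false

universe w v u v' u'

open CategoryTheory CategoryTheory.Limits Opposite Abelian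

namespace Groth.Agent.CohtopB.ConstZ

open Groth.Agent.CohtopB.ExtColim Groth.Agent.CohtopB.NerveHK

theorem extCommutes_of_iso {A : Type u} [Category.{v} A] [Abelian A]
    [HasExt.{w} A] {I : Type u'} [Category.{v'} I] {G G' : A} (e : G ≅ G') {p : ℕ} (h : ExtCommutes I G p) :
    ExtCommutes I G' p := by
  intro F c hc
  have h' := (elemColim_ext_iff c G p).1 (h F c hc)
  have key : ∀ {Y : A} (x : Ext G' Y p), (Ext.mk₀ e.inv).comp ((Ext.mk₀ e.hom).comp x (zero_add p)) (zero_add p) = x := by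
    intro Y x
    rw [Ext.mk₀_comp_mk₀_assoc, e.inv_hom_id, Ext.mk₀_id_comp]
  rw [elemColim_ext_iff]
  refine ⟨fun x => ?_, fun i y hy => ?_⟩
  · obtain ⟨i, y, hy⟩ := h'.1 ((Ext.mk₀ e.hom).comp x (zero_add p))
    refine ⟨i, (Ext.mk₀ e.inv).comp y (zero_add p), ?_⟩
    rw [Ext.comp_assoc_of_third_deg_zero, hy, key]
  · obtain ⟨j, f, hf⟩ := h'.2 i ((Ext.mk₀ e.hom).comp y (zero_add p)) (by
      rw [Ext.comp_assoc_of_third_deg_zero, hy, Ext.comp_zero])
    refine ⟨j, f, ?_⟩
    rw [Ext.comp_assoc_of_third_deg_zero] at hf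
    rw [← key (y.comp (Ext.mk₀ (F.map f)) (add_zero p)), hf, Ext.comp_zero]

variable {C : Type u} [SmallCategory C] (J : GrothendieckTopology C)

/-- Sections of the terminal sheaf of sets. -/
noncomputable instance uniqueTerminal (U : Cᵒᵖ) : Unique ((⊤_ (Sheaf J (Type u))).obj.obj U) := by
  have h := (terminalIsTerminal (C := Sheaf J (Type u))).isTerminalObj
    (sheafToPresheaf J (Type u) ⋙ (evaluation Cᵒᵖ (Type u)).obj U)
  exact (Types.isTerminalEquivUnique _) h

/-- `ULift ℤ ≃+ ℤ[T]` for a one-element type. -/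
noncomputable def freeUniqueIso (T : Type u) [Unique T] :
    AddCommGrpCat.of (ULift.{u} ℤ) ≅ AddCommGrpCat.free.{u}.obj T :=
  (AddEquiv.ulift.trans (FreeAbelianGroup.uniqueEquiv T).symm).toAddCommGrpIso

theorem freeUniqueIso_hom_apply (T : Type u) [Unique T] (n : ULift.{u} ℤ) :
    (freeUniqueIso T).hom.hom n = n.down • FreeAbelianGroup.of (default : T) := rfl

/-- The iso of presheaves. -/
noncomputable def constPshIso :
    (Functor.const Cᵒᵖ).obj (AddCommGrpCat.of (ULift.{u} ℤ)) ≅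
      (⊤_ (Sheaf J (Type u))).obj ⋙ AddCommGrpCat.free.{u} :=
  NatIso.ofComponents (fun U => freeUniqueIso ((⊤_ (Sheaf J (Type u))).obj.obj U)) (by
    intro U V f
    ext n
    change (freeUniqueIso _).hom.hom n = (AddCommGrpCat.free.{u}.map _).hom ((freeUniqueIso _).hom.hom n)
    rw [freeUniqueIso_hom_apply, freeUniqueIso_hom_apply]
    refine Eq.trans ?_ (map_zsmul (FreeAbelianGroup.map ((⊤_ (Sheaf J (Type u))).obj.map f)) n.down
      (FreeAbelianGroup.of default)).symm
    rw [FreeAbelianGroup.map_of_apply]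
    congr 2
    exact Subsingleton.elim _ _)

/-- The constant sheaf `ℤ` is `ℤ[⊤]`. -/
noncomputable def constZIso : (constantSheaf J AddCommGrpCat.{u}).obj (AddCommGrpCat.of (ULift.{u} ℤ)) ≅
    (ZSh J).obj (⊤_ (Sheaf J (Type u))) :=
  (presheafToSheaf J AddCommGrpCat.{u}).mapIso (constPshIso J)

theorem preserves_functorH {Λ : Type u} [SmallCategory Λ] [IsFiltered Λ] {p : ℕ}
    (h : ExtCommutes Λ ((ZSh J).obj (⊤_ (Sheaf J (Type u)))) p) :
    PreservesColimitsOfShape Λ (Sheaf.functorH J p : Sheaf J AddCommGrpCat.{u} ⥤ AddCommGrpCat.{u}) := by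
  have := (extCommutes_of_iso (constZIso J).symm h).preserves
  exact this

end Groth.Agent.CohtopB.ConstZ
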