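import Mathlib.CategoryTheory.Triangulated.Pretriangulated
import Mathlib.Algebra.DirectSum.Basic
import Groth.Prelude.Def_CohDer

set_option autoImplicit false

universe w v u

open CategoryTheory CategoryTheory.Limits CategoryTheory.Pretriangulated

namespace Groth.Agent.CohtopB.CoprodTriangle

variable {D : Type u} [Category.{v} D] [Preadditive D]

section Shift

variable [HasShift D ℤ] {ι : Type w} (X : ι → D) [HasCoproduct X]

omit [Preadditive D] in
/-- The shift of a coproduct is a coproduct of the shifts. -/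
theorem nonempty_isColimit_shift (n : ℤ) :
    Nonempty (IsColimit (Cofan.mk ((∐ X)⟦n⟧) fun i => (Limits.Sigma.ι X i)⟦n⟧')) :=
  ⟨isColimitMapCoconeCofanMkEquiv _ _ _
    (isColimitOfPreserves (shiftFunctor D n) (coproductIsCoproduct X))⟩

variable {X}

omit [Preadditive D] in
theorem shift_hom_ext (n : ℤ) {Y : D} {f g : (∐ X)⟦n⟧ ⟶ Y}
    (h : ∀ i, (Limits.Sigma.ι X i)⟦n⟧' ≫ f = (Limits.Sigma.ι X i)⟦n⟧' ≫ g) : f = g :=
  Cofan.IsColimit.hom_ext (nonempty_isColimit_shift X n).some _ _ h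

omit [Preadditive D] in
theorem shift_desc (n : ℤ) {Y : D} (f : ∀ i, (X i)⟦n⟧ ⟶ Y) :
    ∃ g : (∐ X)⟦n⟧ ⟶ Y, ∀ i, (Limits.Sigma.ι X i)⟦n⟧' ≫ g = f i :=
  ⟨Cofan.IsColimit.desc (nonempty_isColimit_shift X n).some f, fun i =>
    Cofan.IsColimit.fac (nonempty_isColimit_shift X n).some f i⟩

end Shift

section Triangle

variable [HasZeroObject D] [HasShift D ℤ] [∀ n : ℤ, (shiftFunctor D n).Additive]
  [Pretriangulated D] {ι : Type w} (T : ι → Triangle D)
  [HasCoproduct (fun i => (T i).obj₁)] [HasCoproduct (fun i => (T i).obj₂)]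
  [HasCoproduct (fun i => (T i).obj₃)]

/-- The coproduct of a family of triangles. -/
noncomputable def coproductTriangle : Triangle D :=
  Triangle.mk (Limits.Sigma.map (fun i => (T i).mor₁)) (Limits.Sigma.map (fun i => (T i).mor₂))
    (Limits.Sigma.desc fun i => (T i).mor₃ ≫ (Limits.Sigma.ι (fun i => (T i).obj₁) i)⟦(1 : ℤ)⟧')

set_option backward.isDefEq.respectTransparency false in
/-- A coproduct of distinguished triangles is distinguished. -/
theorem coproductTriangle_distinguished (hT : ∀ i, T i ∈ distTriang D) :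
    coproductTriangle T ∈ distTriang D := by
  let f₁ := Limits.Sigma.map (fun i => (T i).mor₁)
  obtain ⟨Z, f₂, f₃, hT'⟩ := distinguished_cocone_triangle f₁
  let T' := Triangle.mk f₁ f₂ f₃
  change T' ∈ distTriang D at hT'
  let φ : ∀ i, T i ⟶ T' := fun i => completeDistinguishedTriangleMorphism _ _
    (hT i) hT' (Limits.Sigma.ι (fun i => (T i).obj₁) i)
    (Limits.Sigma.ι (fun i => (T i).obj₂) i) (by
      change _ = _ ≫ f₁
      simp [f₁])
  let p : (∐ fun i => (T i).obj₃) ⟶ Z := Limits.Sigma.desc fun i => (φ i).hom₃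
  have hp : ∀ i, Limits.Sigma.ι (fun i => (T i).obj₃) i ≫ p = (φ i).hom₃ := fun i => by simp [p]
  have hφ₁ : ∀ i, (φ i).hom₁ = Limits.Sigma.ι (fun i => (T i).obj₁) i := fun i => rfl
  have hφ₂ : ∀ i, (φ i).hom₂ = Limits.Sigma.ι (fun i => (T i).obj₂) i := fun i => rfl
  have comm₂ : Limits.Sigma.map (fun i => (T i).mor₂) ≫ p = f₂ := by
    refine Limits.Sigma.hom_ext _ _ fun i => ?_
    rw [Limits.Sigma.ι_map_assoc, hp]
    exact (φ i).comm₂
  have comm₃ : p ≫ f₃ = Limits.Sigma.desc fun i =>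
      (T i).mor₃ ≫ (Limits.Sigma.ι (fun i => (T i).obj₁) i)⟦(1 : ℤ)⟧' := by
    refine Limits.Sigma.hom_ext _ _ fun i => ?_
    rw [← Category.assoc, hp, Limits.Sigma.ι_desc]
    exact (φ i).comm₃.symm
  let ψ : coproductTriangle T ⟶ T' :=
    { hom₁ := 𝟙 _
      hom₂ := 𝟙 _
      hom₃ := p
      comm₁ := by
        change f₁ ≫ 𝟙 _ = 𝟙 _ ≫ f₁
        rw [Category.comp_id, Category.id_comp]
      comm₂ := by
        change Limits.Sigma.map (fun i => (T i).mor₂) ≫ p = 𝟙 _ ≫ f₂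
        rw [comm₂, Category.id_comp]
      comm₃ := by
        change (Limits.Sigma.desc fun i =>
          (T i).mor₃ ≫ (Limits.Sigma.ι (fun i => (T i).obj₁) i)⟦(1 : ℤ)⟧') ≫
            (𝟙 (∐ fun i => (T i).obj₁))⟦(1 : ℤ)⟧' = p ≫ f₃
        rw [comm₃, CategoryTheory.Functor.map_id, Category.comp_id] }
  suffices IsIso p by
    have : IsIso ψ := by
      apply Triangle.isIso_of_isIsos
      · change IsIso (𝟙 _); infer_instance
      · change IsIso (𝟙 _); infer_instance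
      · exact this
    exact isomorphic_distinguished _ hT' _ (asIso ψ)
  refine isIso_of_coyoneda_map_bijective _ (fun A => ⟨?_, ?_⟩)
  · suffices Epi p by
      intro a₁ a₂ ha
      simpa only [← cancel_epi p] using ha
    refine Preadditive.epi_of_cancel_zero _ fun {A} f hf => ?_
    obtain ⟨g, hg⟩ : ∃ g : (∐ fun i => (T i).obj₁)⟦(1 : ℤ)⟧ ⟶ A, f = f₃ ≫ g :=
      T'.yoneda_exact₃ hT' f (by
        change f₂ ≫ f = 0
        rw [← comm₂, Category.assoc, hf, comp_zero])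
    have h1 : ∀ i, (T i).mor₃ ≫ (Limits.Sigma.ι (fun i => (T i).obj₁) i)⟦(1 : ℤ)⟧' ≫ g = 0 := by
      intro i
      have h2 : (φ i).hom₃ ≫ f₃ ≫ g = 0 := by rw [← hg, ← hp, Category.assoc, hf, comp_zero]
      have h3 : (T i).mor₃ ≫ (Limits.Sigma.ι (fun i => (T i).obj₁) i)⟦(1 : ℤ)⟧' =
        (φ i).hom₃ ≫ f₃ := (φ i).comm₃
      rw [← Category.assoc, h3, Category.assoc, h2]
    have h2 : ∀ i, ∃ α : (T i).obj₂⟦(1 : ℤ)⟧ ⟶ A,
        (Limits.Sigma.ι (fun i => (T i).obj₁) i)⟦(1 : ℤ)⟧' ≫ g = (T i).mor₁⟦(1 : ℤ)⟧' ≫ α := by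
      intro i
      obtain ⟨α, hα⟩ : ∃ α : (T i).obj₂⟦(1 : ℤ)⟧ ⟶ A,
        (Limits.Sigma.ι (fun i => (T i).obj₁) i)⟦(1 : ℤ)⟧' ≫ g = (-(T i).mor₁⟦(1 : ℤ)⟧') ≫ α :=
          (T i).rotate.yoneda_exact₃ (rot_of_distTriang _ (hT i)) _ (h1 i)
      refine ⟨-α, ?_⟩
      rw [hα, Preadditive.neg_comp, Preadditive.comp_neg]
    choose α hα using h2
    obtain ⟨β, hβ⟩ := shift_desc (X := fun i => (T i).obj₂) 1 α
    have h3 : g = f₁⟦(1 : ℤ)⟧' ≫ β := by
      refine shift_hom_ext 1 fun i => ?_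
      rw [hα, ← Category.assoc, ← Functor.map_comp, Limits.Sigma.ι_map, Functor.map_comp,
        Category.assoc, hβ]
    have h4 : f₃ ≫ f₁⟦(1 : ℤ)⟧' = 0 := comp_distTriang_mor_zero₃₁ _ hT'
    rw [hg, h3, ← Category.assoc, h4, zero_comp]
  · intro a
    have h0 : ∀ i, (T i).mor₁ ≫ (T i).mor₂ = 0 := fun i => comp_distTriang_mor_zero₁₂ _ (hT i)
    obtain ⟨a', ha'⟩ : ∃ a' : Z ⟶ A, Limits.Sigma.map (fun i => (T i).mor₂) ≫ a = f₂ ≫ a' :=
      T'.yoneda_exact₂ hT' (Limits.Sigma.map (fun i => (T i).mor₂) ≫ a) (by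
        change f₁ ≫ Limits.Sigma.map (fun i => (T i).mor₂) ≫ a = 0
        refine Limits.Sigma.hom_ext _ _ fun i => ?_
        rw [Limits.Sigma.ι_map_assoc, Limits.Sigma.ι_map_assoc, ← Category.assoc, h0, zero_comp,
          comp_zero])
    have h1 : ∀ i, (T i).mor₂ ≫ (Limits.Sigma.ι (fun i => (T i).obj₃) i ≫ (a - p ≫ a')) = 0 := by
      intro i
      have h5 : Limits.Sigma.map (fun i => (T i).mor₂) ≫ (a - p ≫ a') = 0 := by
        rw [Preadditive.comp_sub, ← Category.assoc _ p, comm₂, ha', sub_self]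
      rw [← Category.assoc, ← Limits.Sigma.ι_map (fun i => (T i).mor₂) i, Category.assoc, h5,
        comp_zero]
    choose b hb using fun i => (T i).yoneda_exact₃ (hT i) _ (h1 i)
    obtain ⟨β, hβ⟩ := shift_desc (X := fun i => (T i).obj₁) 1 b
    refine ⟨a' + f₃ ≫ β, ?_⟩
    change p ≫ (a' + f₃ ≫ β) = a
    refine Limits.Sigma.hom_ext _ _ fun i => ?_
    have h2 := hb i
    rw [Preadditive.comp_sub, sub_eq_iff_eq_add] at h2
    rw [h2, Preadditive.comp_add, Preadditive.comp_add, ← Category.assoc p, comm₃, add_comm,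
      Limits.Sigma.ι_desc_assoc, Category.assoc, hβ]

end Triangle

end Groth.Agent.CohtopB.CoprodTriangle
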