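import Groth.Agent.CohtopA.DModRing
import Groth.Agent.CohtopB.BrownCore

/-!
# The derived category of a ring is the localizing subcategory generated by the ring

`prop_of_single`: a property of objects of `D(A)` which is closed under isomorphisms, cones and
(`u`-small) coproducts and holds for all the `A[n]` holds for all objects.  Universe of the `Hom`
types of `D(A)` arbitrary.
-/

set_option autoImplicit false
universe w u

open CategoryTheory Limits Opposite ZeroObject Pretriangulated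

namespace Groth.Agent.CohtopB.DModLoc

variable (A : Type u) [Ring A] [HasDerivedCategory.{w} (ModuleCat.{u} A)]

/-- `A[n]`. -/
noncomputable abbrev sg (n : ℤ) : DerivedCategory (ModuleCat.{u} A) :=
  DerivedCategory.Q.obj ((CochainComplex.singleFunctor (ModuleCat.{u} A) n).obj (ModuleCat.of A A))

instance hasCoproducts (J : Type u) :
    HasColimitsOfShape (Discrete J) (DerivedCategory (ModuleCat.{u} A)) := inferInstance

/-- Maps from `A[n]` to a coproduct are finite sums of maps to the summands. -/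
theorem exists_sum {J : Type u} (X : J → DerivedCategory (ModuleCat.{u} A)) (n : ℤ)
    (γ : sg A n ⟶ ∐ X) :
    ∃ (s : Finset J) (a : ∀ j, sg A n ⟶ X j), γ = ∑ j ∈ s, a j ≫ Sigma.ι X j := by
  classical
  let M : J → CochainComplex (ModuleCat.{u} A) ℤ := fun j => DerivedCategory.Q.objPreimage (X j)
  let e : ∀ j, DerivedCategory.Q.obj (M j) ≅ X j := fun j => DerivedCategory.Q.objObjPreimageIso (X j)
  obtain ⟨φ, hφ⟩ := PerfB.CoprodDerived.exists_desc_Q_sigma M (fun j => (e j).hom ≫ Sigma.ι X j)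
  let ψ : ∐ X ⟶ DerivedCategory.Q.obj (∐ M) :=
    Sigma.desc (fun j => (e j).inv ≫ DerivedCategory.Q.map (Sigma.ι M j))
  have hψφ : ψ ≫ φ = 𝟙 _ := by
    apply Sigma.hom_ext
    intro j
    simp [ψ, hφ]
  obtain ⟨g, hg⟩ := LoccohB.HomCls.Q_map_surjective_of_kProj
    ((CochainComplex.singleFunctor (ModuleCat.{u} A) n).obj (ModuleCat.of A A)) (∐ M) (γ ≫ ψ)
  obtain ⟨s, hs⟩ := CohtopA.DModRing.exists_finset_eq_sum A M n g
  refine ⟨s, fun j => DerivedCategory.Q.map (g ≫ Sigma.π M j) ≫ (e j).hom, ?_⟩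
  have h2 : DerivedCategory.Q.map g =
      ∑ j ∈ s, DerivedCategory.Q.map (g ≫ Sigma.π M j) ≫ DerivedCategory.Q.map (Sigma.ι M j) := by
    conv_lhs => rw [hs]
    rw [Functor.map_sum]
    exact Finset.sum_congr rfl (fun j _ => Functor.map_comp _ _ _)
  rw [← Category.comp_id γ, ← hψφ, ← Category.assoc, ← hg, h2, Preadditive.sum_comp]
  refine Finset.sum_congr rfl (fun j _ => ?_)
  rw [Category.assoc, hφ, Category.assoc]

/-- `A` generates `D(A)`. -/
theorem isZero_of_forall (X : DerivedCategory (ModuleCat.{u} A))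
    (hX : ∀ (n : ℤ) (f : sg A n ⟶ X), f = 0) : IsZero X := by
  let M := DerivedCategory.Q.objPreimage X
  let e : DerivedCategory.Q.obj M ≅ X := DerivedCategory.Q.objObjPreimageIso X
  suffices hM : M.Acyclic by
    have h1 : QuasiIso (0 : M ⟶ 0) := by
      rw [quasiIso_iff]
      intro i
      rw [quasiIsoAt_iff_exactAt]
      · rw [HomologicalComplex.exactAt_iff_isZero_homology]
        exact Functor.map_isZero (HomologicalComplex.homologyFunctor _ _ i) (isZero_zero _)
      · exact hM i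
    rw [← DerivedCategory.isIso_Q_map_iff_quasiIso] at h1
    exact (Functor.map_isZero DerivedCategory.Q (isZero_zero _)).of_iso
      (e.symm ≪≫ asIso (DerivedCategory.Q.map (0 : M ⟶ 0)))
  intro n
  rw [LoccohB.KProj.exactAt_iff_elem]
  intro z hz
  let f : ModuleCat.of A A ⟶ M.X n := ModuleCat.ofHom (LinearMap.toSpanSingleton A _ z)
  have hf : f ≫ M.d n (n + 1) = 0 := by
    ext
    simpa [f] using hz
  have hfd : ∀ j : ℤ, (ComplexShape.up ℤ).Rel n j → f ≫ M.d n j = 0 := by
    intro j hj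
    obtain rfl : n + 1 = j := hj
    exact hf
  let g : (CochainComplex.singleFunctor (ModuleCat.{u} A) n).obj (ModuleCat.of A A) ⟶ M :=
    HomologicalComplex.mkHomFromSingle f hfd
  have hg : DerivedCategory.Q.map g = 0 := by
    have h1 := hX n (DerivedCategory.Q.map g ≫ e.hom)
    rwa [← zero_comp (f := e.hom), cancel_mono] at h1
  obtain ⟨H⟩ := (LoccohB.HomCls.Q_map_eq_zero_iff_of_kProj g).1 hg
  have h2 := H.comm n
  rw [dNext_eq H.hom (show (ComplexShape.up ℤ).Rel n (n + 1) by simp),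
    prevD_eq H.hom (show (ComplexShape.up ℤ).Rel (n - 1) n by simp)] at h2
  have h3 : ((CochainComplex.singleFunctor (ModuleCat.{u} A) n).obj (ModuleCat.of A A)).d n (n + 1) = 0 :=
    rfl
  rw [h3, zero_comp, zero_add, HomologicalComplex.zero_f, add_zero] at h2
  let y := (HomologicalComplex.singleObjXSelf
    (ComplexShape.up ℤ) n (ModuleCat.of A A)).inv (1 : A)
  refine ⟨H.hom n (n - 1) y, ?_⟩
  have h4 := congr($h2 y)
  refine Eq.trans h4.symm ?_
  have h5 : (HomologicalComplex.singleObjXSelf (ComplexShape.up ℤ) n (ModuleCat.of A A)).inv ≫ g.f n = f := by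
    dsimp only [g]
    rw [HomologicalComplex.mkHomFromSingle_f, Iso.inv_hom_id_assoc]
  have h6 := congr($h5 (1 : A))
  exact h6.trans (by simp [f])

/-- `A[n + 1][1] ≅ A[n]`. -/
noncomputable def sgShift (n : ℤ) : (sg A (n + 1))⟦(1 : ℤ)⟧ ≅ sg A n :=
  (DerivedCategory.Q.commShiftIso (1 : ℤ)).symm.app _ ≪≫
    DerivedCategory.Q.mapIso (((CochainComplex.singleFunctors (ModuleCat.{u} A)).shiftIso 1 n (n + 1)
      (by ring)).app (ModuleCat.of A A))

/-- Factorization of maps from `A[n]` to countable coproducts. -/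
theorem exists_factor [HasColimitsOfShape (Discrete ℕ) (DerivedCategory (ModuleCat.{u} A))]
    (X : ℕ → DerivedCategory (ModuleCat.{u} A)) (n : ℤ) (α : sg A n ⟶ ∐ X) :
    ∃ (β : ∀ m, sg A n ⟶ X m) (γ : sg A n ⟶ ∐ (fun _ : ℕ => sg A n)),
      α = γ ≫ Limits.Sigma.map β := by
  classical
  let X' : ULift.{u} ℕ → DerivedCategory (ModuleCat.{u} A) := fun m => X m.down
  let θ : ∐ X ⟶ ∐ X' := Sigma.desc (fun m => Sigma.ι X' ⟨m⟩)
  let θ' : ∐ X' ⟶ ∐ X := Sigma.desc (fun m => Sigma.ι X m.down)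
  have hθ : θ ≫ θ' = 𝟙 _ := by
    apply Sigma.hom_ext
    intro m
    simp [θ, θ']
  obtain ⟨s, a, ha⟩ := exists_sum A X' n (α ≫ θ)
  refine ⟨fun m => a ⟨m⟩, ∑ j ∈ s, Sigma.ι (fun _ : ℕ => sg A n) j.down, ?_⟩
  rw [← Category.comp_id α, ← hθ, ← Category.assoc, ha, Preadditive.sum_comp, Preadditive.sum_comp]
  refine Finset.sum_congr rfl (fun j _ => ?_)
  simp [θ']

/-- A property of objects of `D(A)` closed under isomorphisms, cones and coproducts which holds for
the `A[n]` holds for every object. -/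
theorem prop_of_single (Q : ObjectProperty (DerivedCategory (ModuleCat.{u} A)))
    (iso : ∀ {Y Y' : DerivedCategory (ModuleCat.{u} A)}, (Y ≅ Y') → Q Y → Q Y')
    (cop : ∀ (J : Type u) (X : J → DerivedCategory (ModuleCat.{u} A)), (∀ j, Q (X j)) → Q (∐ X))
    (cone : ∀ T ∈ distTriang (DerivedCategory (ModuleCat.{u} A)), Q T.obj₁ → Q T.obj₂ → Q T.obj₃)
    (h1 : ∀ n, Q (sg A n)) (M : DerivedCategory (ModuleCat.{u} A)) : Q M := by
  have := CohtopA.DModRing.locallySmall.{w, u} A
  have : HasCoproducts.{u} (DerivedCategory (ModuleCat.{u} A)) := fun _ => inferInstance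
  have : HasColimitsOfShape (Discrete ℕ) (DerivedCategory (ModuleCat.{u} A)) :=
    hasColimitsOfShape_of_equivalence (Discrete.equivalence Equiv.ulift.{u})
  refine BrownCore.mem_of_isLoc (fun n : ULift.{u} ℤ => sg A n.down) ?_ ?_ ?_ Q ?_ M
  · intro X hX
    by_contra hc
    push Not at hc
    exact hX (isZero_of_forall A X (fun n f => hc ⟨n⟩ f))
  · intro X i α
    obtain ⟨β, γ, h⟩ := exists_factor A X i.down α
    exact ⟨fun _ => i, β, γ, h⟩
  · intro i
    exact ⟨⟨i.down + 1⟩, ⟨sgShift A i.down⟩⟩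
  · refine ⟨iso, cop, fun Y hY => ?_, cone, fun i => h1 _⟩
    let Y' : ULift.{u} ℕ → DerivedCategory (ModuleCat.{u} A) := fun m => Y m.down
    exact iso (Sigma.whiskerEquiv (f := Y') (g := Y) Equiv.ulift (fun _ => Iso.refl _))
      (cop _ Y' (fun m => hY m.down))

end Groth.Agent.CohtopB.DModLoc
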