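import Mathlib.Algebra.Homology.Refinements
import Mathlib.Algebra.Homology.DerivedCategory.FullyFaithful
import Mathlib.Algebra.Homology.DerivedCategory.HomologySequence
import Mathlib.Algebra.Homology.DerivedCategory.TStructure

/-!
# Maps from single objects into a derived category, up to refinement

For an abelian category `A`, `G : A` and `E : DerivedCategory A`, `homClass x : G ⟶ H^0(E)` is the
map on `H^0` induced by `x : (singleFunctor A 0).obj G ⟶ E`.  Every map `G ⟶ H^0(E)` is of this form
after composing with an epimorphism `G' ⟶ G`, and if `homClass x = 0` then `x` becomes zero after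
composing with (the image of) an epimorphism `G' ⟶ G`.
-/

set_option autoImplicit false

universe w v u

open CategoryTheory CategoryTheory.Limits CategoryTheory.Pretriangulated DerivedCategory

namespace Groth.Agent.CohtopB.DerLocal

variable {A : Type u} [Category.{v} A] [Abelian A] [HasDerivedCategory.{w} A]

/-- The map `G ⟶ H^0(E)` induced by a map `G[0] ⟶ E` in the derived category. -/
noncomputable def homClass {G : A} {E : DerivedCategory A} (x : (singleFunctor A 0).obj G ⟶ E) :
    G ⟶ (homologyFunctor A 0).obj E :=
  (singleFunctorCompHomologyFunctorIso A 0).inv.app G ≫ (homologyFunctor A 0).map x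

lemma homClass_comp {G : A} {E E' : DerivedCategory A} (x : (singleFunctor A 0).obj G ⟶ E)
    (φ : E ⟶ E') : homClass (x ≫ φ) = homClass x ≫ (homologyFunctor A 0).map φ := by
  simp [homClass]

lemma homClass_precomp {G G' : A} {E : DerivedCategory A} (g : G' ⟶ G)
    (x : (singleFunctor A 0).obj G ⟶ E) :
    homClass ((singleFunctor A 0).map g ≫ x) = g ≫ homClass x := by
  have := (singleFunctorCompHomologyFunctorIso A 0).inv.naturality g
  dsimp at this
  simp only [homClass, Functor.map_comp, reassoc_of% this]

lemma homClass_add {G : A} {E : DerivedCategory A} (x y : (singleFunctor A 0).obj G ⟶ E) :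
    homClass (x + y) = homClass x + homClass y := by
  simp [homClass, Functor.map_add, Preadditive.comp_add]

lemma homClass_zero {G : A} {E : DerivedCategory A} :
    homClass (0 : (singleFunctor A 0).obj G ⟶ E) = 0 := by
  simp [homClass]

lemma homClass_eq_zero_iff {G : A} {E : DerivedCategory A} (x : (singleFunctor A 0).obj G ⟶ E) :
    homClass x = 0 ↔ (homologyFunctor A 0).map x = 0 := by
  constructor
  · intro h
    rw [← cancel_epi ((singleFunctorCompHomologyFunctorIso A 0).inv.app G)]
    rw [comp_zero]
    exact h
  · intro h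
    rw [homClass, h, comp_zero]

set_option backward.isDefEq.respectTransparency false in
set_option backward.defeqAttrib.useBackward true in
lemma singleFunctorCompHomologyFunctorIso_inv_app (G : A) :
    (singleFunctorCompHomologyFunctorIso A 0).inv.app G =
      (HomologicalComplex.singleObjHomologySelfIso (ComplexShape.up ℤ) 0 G).inv ≫
        (homologyFunctorFactors A 0).inv.app ((HomologicalComplex.single A _ 0).obj G) := by
  dsimp [singleFunctorCompHomologyFunctorIso]
  rw [singleFunctorsPostcompQIso_inv_hom]
  dsimp
  simp only [Category.comp_id, Category.assoc]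
  congr 1
  refine Eq.trans (congrArg _ ((homologyFunctor A 0).map_id _)) ?_
  exact Category.comp_id _

set_option backward.isDefEq.respectTransparency false in
set_option backward.defeqAttrib.useBackward true in
lemma homClass_Q_map_mkHomFromSingle {G : A} {M : CochainComplex A ℤ} (z : G ⟶ M.X 0)
    (hz : ∀ k, (ComplexShape.up ℤ).Rel 0 k → z ≫ M.d 0 k = 0) :
    homClass (E := Q.obj M) (Q.map (HomologicalComplex.mkHomFromSingle z hz)) =
      M.liftCycles z 1 (by simp) (hz 1 rfl) ≫ M.homologyπ 0 ≫
        (homologyFunctorFactors A 0).inv.app M := by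
  have h := (homologyFunctorFactors A 0).inv.naturality (HomologicalComplex.mkHomFromSingle z hz)
  dsimp at h
  rw [homClass, singleFunctorCompHomologyFunctorIso_inv_app, Category.assoc, ← h,
    ← HomologicalComplex.singleObjCyclesSelfIso_inv_homologyπ, Category.assoc,
    HomologicalComplex.homologyπ_naturality_assoc]
  simp only [← Category.assoc]
  congr 2
  rw [← cancel_mono (M.iCycles 0)]
  simp

set_option backward.isDefEq.respectTransparency false in
/-- Every map `G ⟶ H^0(E)` comes from `G'[0] ⟶ E` after composing with an epimorphism `G' ⟶ G`. -/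
lemma exists_epi_homClass_eq {G : A} {E : DerivedCategory A}
    (s : G ⟶ (homologyFunctor A 0).obj E) :
    ∃ (G' : A) (e : G' ⟶ G) (_ : Epi e) (x : (singleFunctor A 0).obj G' ⟶ E),
      homClass x = e ≫ s := by
  obtain ⟨M, ⟨i⟩⟩ : ∃ M : CochainComplex A ℤ, Nonempty (Q.obj M ≅ E) :=
    ⟨_, ⟨Q.objObjPreimageIso E⟩⟩
  obtain ⟨G', e, he, z, hz, h⟩ := M.eq_liftCycles_homologyπ_up_to_refinements
    (s ≫ (homologyFunctor A 0).map i.inv ≫ (homologyFunctorFactors A 0).hom.app M) 1 (by simp)
  refine ⟨G', e, he, Q.map (HomologicalComplex.mkHomFromSingle z (by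
    rintro k hk
    obtain rfl : k = 1 := by simpa using hk.symm
    exact hz)) ≫ i.hom, ?_⟩
  rw [homClass_comp, homClass_Q_map_mkHomFromSingle]
  simp only [Category.assoc]
  rw [← reassoc_of% h]
  simp

/-- If `x : G[0] ⟶ E` induces zero on `H^0`, it becomes zero after an epimorphism `G' ⟶ G`. -/
lemma exists_epi_comp_eq_zero {G : A} {E : DerivedCategory A}
    (x : (singleFunctor A 0).obj G ⟶ E) (hx : homClass x = 0) :
    ∃ (G' : A) (e : G' ⟶ G) (_ : Epi e), (singleFunctor A 0).map e ≫ x = 0 := by
  obtain ⟨F, i, p, hT⟩ := distinguished_cocone_triangle₁ x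
  have hepi : Epi ((homologyFunctor A 0).map i) := by
    have := HomologySequence.exact₂ _ hT 0
    rw [homClass_eq_zero_iff] at hx
    exact this.epi_f hx
  let j : (homologyFunctor A 0).obj F ⟶ G :=
    (homologyFunctor A 0).map i ≫ (singleFunctorCompHomologyFunctorIso A 0).hom.app G
  have hj : Epi j := by infer_instance
  obtain ⟨G', e, he, y, hy⟩ := exists_epi_homClass_eq (𝟙 ((homologyFunctor A 0).obj F))
  refine ⟨G', e ≫ j, epi_comp _ _, ?_⟩
  have : (singleFunctor A 0).map (e ≫ j) = y ≫ i := by
    obtain ⟨f, hf⟩ := (singleFunctor A 0).map_surjective (y ≫ i)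
    rw [← hf]
    congr 1
    have h1 := homClass_comp y i
    rw [hy, Category.comp_id, ← hf] at h1
    have h2 := (singleFunctorCompHomologyFunctorIso A 0).inv.naturality f
    dsimp at h2
    rw [homClass, ← h2] at h1
    simp only [j]
    rw [← Category.assoc, ← h1]
    simp
  rw [this, Category.assoc]
  have h12 : i ≫ x = 0 := comp_distTriang_mor_zero₁₂ _ hT
  rw [h12, comp_zero]

end Groth.Agent.CohtopB.DerLocal
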