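import Groth.Agent.CohtopB.CanonMap
import Groth.Agent.CohtopB.SectHomology

/-!
# Isomorphisms in the derived category of abelian sheaves detected on hypercohomology over a covering class
-/

set_option autoImplicit false

universe u v w

open CategoryTheory CategoryTheory.Limits Opposite DerivedCategory

namespace Groth.Agent.CohtopB.Detect

open SectHomology CanonMap

variable {C : Type u} [SmallCategory C] {J : GrothendieckTopology C}
  [HasDerivedCategory.{u} (Sheaf J AddCommGrpCat.{u})]

/-- The map on hypercohomology presheaves induced by a morphism in the derived category. -/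
noncomputable def hduMap {K L : DerivedCategory (Sheaf J AddCommGrpCat.{u})} (φ : K ⟶ L) (q : ℤ) :
    CohCx.HDUPresheaf K q ⟶ CohCx.HDUPresheaf L q where
  app U := AddCommGrpCat.ofHom (Preadditive.rightComp _ ((shiftFunctor _ q).map φ))
  naturality U V g := by
    refine AddCommGrpCat.hom_ext (AddMonoidHom.ext fun x => ?_)
    exact Category.assoc _ _ _

lemma hduMap_app_apply {K L : DerivedCategory (Sheaf J AddCommGrpCat.{u})} (φ : K ⟶ L) (q : ℤ) (U : C)
    (x : CohCx.HDU K q U) : ((hduMap φ q).app (op U)).hom x = x ≫ (shiftFunctor _ q).map φ := rfl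

lemma hduMap_cHDHom {K L : DerivedCategory (Sheaf J AddCommGrpCat.{u})} (φ : K ⟶ L) (q : ℤ) :
    hduMap φ q ≫ cHDHom L q = cHDHom K q ≫ ((homologyFunctor _ q).map φ).hom := by
  ext U x
  exact cHD_comp φ x

/-- `H^q(φ)` is an isomorphism iff the map of presheaves `U ↦ H^q(U, K) → H^q(U, L)` is in `J.W`. -/
theorem isIso_homology_map_iff {K L : DerivedCategory (Sheaf J AddCommGrpCat.{u})} (φ : K ⟶ L) (q : ℤ) :
    IsIso ((homologyFunctor (Sheaf J AddCommGrpCat.{u}) q).map φ) ↔ J.W (hduMap φ q) := by
  have h1 : IsIso ((presheafToSheaf J AddCommGrpCat.{u}).map (cHDHom K q)) := (J.W_iff _).1 (cHDHom_mem_W K q)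
  have h2 : IsIso ((presheafToSheaf J AddCommGrpCat.{u}).map (cHDHom L q)) := (J.W_iff _).1 (cHDHom_mem_W L q)
  have e := congrArg (presheafToSheaf J AddCommGrpCat.{u}).map (hduMap_cHDHom φ q)
  rw [Functor.map_comp, Functor.map_comp] at e
  have h3 : IsIso ((homologyFunctor (Sheaf J AddCommGrpCat.{u}) q).map φ) ↔
      IsIso ((presheafToSheaf J AddCommGrpCat.{u}).map ((homologyFunctor _ q).map φ).hom) :=
    (J.W_sheafToPresheaf_map_iff_isIso _).symm.trans (J.W_iff _)
  rw [h3, J.W_iff]
  exact (isIso_iff_of_fac (asIso ((presheafToSheaf J AddCommGrpCat.{u}).map (cHDHom K q)))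
    (asIso ((presheafToSheaf J AddCommGrpCat.{u}).map (cHDHom L q))) e).symm

/-- A morphism `φ` in the derived category which induces bijections `H^q(U, K) → H^q(U, L)` for all `q` and all `U`
in a covering class is an isomorphism. -/
theorem isIso_of_bijective {B : Set C} (hB : IsCovering J B)
    {K L : DerivedCategory (Sheaf J AddCommGrpCat.{u})} (φ : K ⟶ L)
    (h : ∀ U ∈ B, ∀ q : ℤ, Function.Bijective
      (fun x : CohCx.HDU K q U => (x ≫ (shiftFunctor _ q).map φ : CohCx.HDU L q U))) : IsIso φ := by
  rw [DerivedCategory.isIso_iff]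
  intro q
  rw [isIso_homology_map_iff]
  exact W_of_bijective hB _ fun U hU => h U hU q

end Groth.Agent.CohtopB.Detect
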