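import Mathlib.Algebra.Homology.Double
import Mathlib.Algebra.Homology.CommSq
import Mathlib.Algebra.Homology.QuasiIso
import Mathlib.Algebra.Homology.HomologicalComplexAbelian
import Mathlib.Algebra.Homology.HomologicalComplexLimits
import Mathlib.Algebra.Homology.HomologySequenceLemmas
import Mathlib.Algebra.Homology.Refinements
import Mathlib.CategoryTheory.Abelian.Basic
import Mathlib.CategoryTheory.Abelian.Refinements
import Mathlib.CategoryTheory.Functor.OfSequence
import Mathlib.CategoryTheory.Limits.Constructions.EventuallyConstant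
import Mathlib.Data.ENat.Basic

/-!
Elementary replacements of complexes, and colimits of degreewise eventually constant sequences of
quasi-isomorphisms (Stacks 07K6).
-/

set_option autoImplicit false
universe v u

open CategoryTheory CategoryTheory.Limits

namespace Groth.Agent.CohtopB.DimZero

variable {A : Type u} [Category.{v} A] [Abelian A]

section acyclic

variable (n : ℤ)

lemma hrel (n : ℤ) : (ComplexShape.up ℤ).Rel n (n + 1) := by simp

lemma hne (n : ℤ) : n ≠ n + 1 := by lia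

/-- The disc complex. -/
noncomputable abbrev Disc (X : A) (n : ℤ) : CochainComplex A ℤ :=
  HomologicalComplex.double (𝟙 X) (hrel n)

lemma disc_acyclic (X : A) (n : ℤ) : (Disc X n).Acyclic := by
  intro i
  have hd : IsIso ((Disc X n).d n (n + 1)) := by
    rw [HomologicalComplex.double_d _ _ (hne n)]
    infer_instance
  rw [HomologicalComplex.exactAt_iff_exact_up_to_refinements _ (i - 1) i (i + 1) (by simp)
    (by simp)]
  intro T x hx
  by_cases h0 : i = n
  · subst h0
    refine ⟨T, 𝟙 _, inferInstance, 0, ?_⟩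
    rw [← cancel_mono ((Disc X i).d i (i + 1)), Category.assoc, hx]
    simp
  · by_cases h1 : i = n + 1
    · obtain rfl : n = i - 1 := by lia
      have : (Disc X (i - 1)).d (i - 1) i = (Disc X (i - 1)).d (i - 1) (i - 1 + 1) ≫
          eqToHom (by simp) := by
        have : ∀ (j : ℤ) (h : j = i), (Disc X (i - 1)).d (i - 1) i =
          (Disc X (i - 1)).d (i - 1) j ≫ eqToHom (by rw [h]) := by
          rintro _ rfl; simp
        exact this _ (by simp)
      have : IsIso ((Disc X (i - 1)).d (i - 1) i) := by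
        rw [this]; infer_instance
      exact ⟨T, 𝟙 _, inferInstance, x ≫ inv ((Disc X (i - 1)).d (i - 1) i), by simp⟩
    · exact ⟨T, 𝟙 _, inferInstance, 0,
        (HomologicalComplex.isZero_double_X _ _ _ h0 h1).eq_of_tgt _ _⟩

end acyclic

/-- A short exact sequence with acyclic kernel gives a quasi-isomorphism. -/
lemma quasiIso_g_of_acyclic
    (S : ShortComplex (CochainComplex A ℤ)) (hS : S.ShortExact) (h : S.X₁.Acyclic) :
    QuasiIso S.g where
  quasiIsoAt i := by
    rw [quasiIsoAt_iff_isIso_homologyMap]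
    have h1 : Mono (HomologicalComplex.homologyMap S.g i) :=
      (hS.homology_exact₂ i).mono_g ((h i).isZero_homology.eq_of_src _ _)
    have h2 : Epi (HomologicalComplex.homologyMap S.g i) :=
      (hS.homology_exact₃ i (i + 1) (hrel i)).epi_f
        ((h (i + 1)).isZero_homology.eq_of_tgt _ _)
    exact isIso_of_mono_of_epi _

lemma quasiIso_inr (D K : CochainComplex A ℤ) (hD : D.Acyclic) :
    QuasiIso (biprod.inr : K ⟶ D ⊞ K) := by
  have h1 : QuasiIso (biprod.snd : D ⊞ K ⟶ K) := by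
    let S : ShortComplex (CochainComplex A ℤ) :=
      ShortComplex.mk (biprod.inl : D ⟶ D ⊞ K) biprod.snd (by simp)
    have hS : S.ShortExact := (ShortComplex.Splitting.ofHasBinaryBiproduct D K).shortExact
    exact quasiIso_g_of_acyclic S hS hD
  have h2 : QuasiIso ((biprod.inr : K ⟶ D ⊞ K) ≫ biprod.snd) := by
    rw [biprod.inr_snd]; infer_instance
  exact quasiIso_of_comp_right _ biprod.snd

/-- The short exact sequence attached to a pushout along a monomorphism. -/
lemma shortExact_of_isPushout {B : Type*} [Category B] [Abelian B] {X Y Z W : B}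
    {f : X ⟶ Y} {g : X ⟶ Z} {inl : Y ⟶ W} {inr : Z ⟶ W} (h : IsPushout f g inl inr) (hf : Mono f) :
    h.shortComplex.ShortExact := by
  have h1 : Mono h.shortComplex.f := by
    change Mono (biprod.lift f (-g))
    have : Mono (biprod.lift f (-g) ≫ biprod.fst) := by
      rw [biprod.lift_fst]; exact hf
    exact mono_of_mono (biprod.lift f (-g)) biprod.fst
  have h2 : Epi h.shortComplex.g := h.epi_shortComplex_g
  exact ShortComplex.ShortExact.mk
    (ShortComplex.exact_of_g_is_cokernel _ h.isColimitCokernelCofork)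

/-- Pushouts of monomorphisms of acyclic complexes are quasi-isomorphisms. -/
lemma quasiIso_of_isPushout {D₁ D₂ K K' : CochainComplex A ℤ} {f : D₁ ⟶ D₂} {g : D₁ ⟶ K}
    {inl : D₂ ⟶ K'} {inr : K ⟶ K'} (h : IsPushout f g inl inr) [Mono f]
    (h₁ : D₁.Acyclic) (h₂ : D₂.Acyclic) : QuasiIso inr := by
  have hS : h.shortComplex.ShortExact := shortExact_of_isPushout h inferInstance
  have h1 : QuasiIso (biprod.desc inl inr) := quasiIso_g_of_acyclic _ hS h₁
  have h2 := quasiIso_inr D₂ K h₂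
  rw [← biprod.inr_desc inl inr]
  infer_instance

section step

variable (d : A → ℕ∞) (hiso : ∀ ⦃X Y : A⦄, Nonempty (X ≅ Y) → d X = d Y)
    (h1 : ∀ X : A, ∃ (Y : A) (ι : X ⟶ Y), Mono ι ∧ d Y = 0)
    (h2 : ∀ X Y : A, d (X ⊞ Y) ≤ max (d X) (d Y))
    (h3 : ∀ S : ShortComplex A, S.ShortExact → d S.X₃ ≤ max (d S.X₁ - 1) (d S.X₂))

include hiso h1 h2 h3

/-- The elementary replacement. -/
theorem exists_step (K : CochainComplex A ℤ) (n : ℤ) :
    ∃ (K' : CochainComplex A ℤ) (f : K ⟶ K'), QuasiIso f ∧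
      (∀ i, i ≠ n → i ≠ n + 1 → IsIso (f.f i)) ∧ d (K'.X n) = 0 ∧
      d (K'.X (n + 1)) ≤ max (d (K.X n) - 1) (d (K.X (n + 1))) := by
  obtain ⟨M, ι, hι, hM⟩ := h1 (K.X n)
  let D₁ := Disc (K.X n) n
  let D₂ := Disc M n
  let f : D₁ ⟶ D₂ := HomologicalComplex.mkHomFromDouble (hrel n) (hne n)
    (ι ≫ (HomologicalComplex.doubleXIso₀ (𝟙 M) (hrel n)).inv)
    (ι ≫ (HomologicalComplex.doubleXIso₁ (𝟙 M) (hrel n) (hne n)).inv)
    (by simp [HomologicalComplex.double_d _ _ (hne n), D₂])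
    (fun k hk => by
      rw [HomologicalComplex.double_d_eq_zero₀ _ _ _ _ (hne n).symm, comp_zero])
  let g : D₁ ⟶ K := HomologicalComplex.mkHomFromDouble (hrel n) (hne n)
    (𝟙 _) (K.d n (n + 1)) (by simp) (by simp)
  have hf0 : Mono (f.f n) := by
    simp only [f, HomologicalComplex.mkHomFromDouble_f₀]
    infer_instance
  have hf1 : Mono (f.f (n + 1)) := by
    simp only [f, HomologicalComplex.mkHomFromDouble_f₁]
    infer_instance
  have hf2 (i : ℤ) (hi : i ≠ n) (hi' : i ≠ n + 1) : IsIso (f.f i) :=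
    ⟨0, (HomologicalComplex.isZero_double_X _ _ _ hi hi').eq_of_src _ _,
      (HomologicalComplex.isZero_double_X _ _ _ hi hi').eq_of_src _ _⟩
  have hf : Mono f := by
    have : ∀ i, Mono (f.f i) := by
      intro i
      by_cases hi : i = n
      · subst hi; exact hf0
      · by_cases hi' : i = n + 1
        · subst hi'; exact hf1
        · have := hf2 i hi hi'
          infer_instance
    exact HomologicalComplex.mono_of_mono_f _ this
  have hpo : IsPushout f g (pushout.inl f g) (pushout.inr f g) := IsPushout.of_hasPushout f g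
  have hpo' (i : ℤ) : IsPushout (f.f i) (g.f i) ((pushout.inl f g).f i) ((pushout.inr f g).f i) :=
    hpo.map (HomologicalComplex.eval A _ i)
  refine ⟨pushout f g, pushout.inr f g, quasiIso_of_isPushout hpo (disc_acyclic _ _)
    (disc_acyclic _ _), fun i hi hi' => ?_, ?_, ?_⟩
  · have := hf2 i hi hi'
    exact (hpo' i).isIso_inr_of_isIso
  · have : IsIso (g.f n) := by
      simp only [g, HomologicalComplex.mkHomFromDouble_f₀]
      infer_instance
    have h := (hpo' n).isIso_inl_of_isIso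
    rw [← hM]
    exact hiso ⟨(asIso ((pushout.inl f g).f n)).symm ≪≫
      HomologicalComplex.doubleXIso₀ (𝟙 M) (hrel n)⟩
  · have h := hpo' (n + 1)
    have hS : h.shortComplex.ShortExact := shortExact_of_isPushout h hf1
    refine (h3 _ hS).trans (max_le_max ?_ ?_)
    · have : d (h.shortComplex.X₁) = d (K.X n) :=
        hiso ⟨HomologicalComplex.doubleXIso₁ (𝟙 _) (hrel n) (hne n)⟩
      rw [this]
    · refine (h2 _ _).trans (max_le ?_ le_rfl)
      have : d (D₂.X (n + 1)) = d M :=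
        hiso ⟨HomologicalComplex.doubleXIso₁ (𝟙 _) (hrel n) (hne n)⟩
      rw [this, hM]
      exact bot_le

end step

section colim

/-- Colimits of degreewise eventually constant sequences of quasi-isomorphisms. -/
theorem exists_colimit (K : ℕ → CochainComplex A ℤ) (f : ∀ j, K j ⟶ K (j + 1))
    (hf : ∀ j, QuasiIso (f j)) (J : ℤ → ℕ) (hJ : ∀ i j, J i ≤ j → IsIso ((f j).f i)) :
    ∃ (L : CochainComplex A ℤ) (g : K 0 ⟶ L), QuasiIso g ∧
      ∀ i j, J i ≤ j → Nonempty ((K j).X i ≅ L.X i) := by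
  let F : ℕ ⥤ CochainComplex A ℤ := Functor.ofSequence f
  have hmap (i : ℤ) (a b : ℕ) (hab : a ≤ b) (ha : J i ≤ a) :
      IsIso ((F.map (homOfLE hab)).f i) := by
    obtain ⟨k, rfl⟩ := Nat.exists_eq_add_of_le hab
    induction k with
    | zero =>
      have : homOfLE hab = 𝟙 a := Subsingleton.elim _ _
      rw [this, F.map_id, HomologicalComplex.id_f]
      infer_instance
    | succ k hk =>
      have : homOfLE hab = homOfLE (Nat.le_add_right a k) ≫ homOfLE (Nat.le_succ (a + k)) :=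
        Subsingleton.elim _ _
      rw [this, F.map_comp, HomologicalComplex.comp_f]
      have h1 := hk (Nat.le_add_right a k)
      have h2 : IsIso ((F.map (homOfLE (Nat.le_succ (a + k)))).f i) := by
        have := hJ i (a + k) (by lia)
        have h3 : F.map (homOfLE (Nat.le_succ (a + k))) = f (a + k) :=
          Functor.ofSequence_map_homOfLE_succ f (a + k)
        rw [h3]
        exact this
      infer_instance
  have hqis (b : ℕ) : QuasiIso (F.map (homOfLE (Nat.zero_le b))) := by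
    induction b with
    | zero =>
      have : homOfLE (Nat.zero_le 0) = 𝟙 0 := Subsingleton.elim _ _
      rw [this, F.map_id]
      infer_instance
    | succ k hk =>
      have : homOfLE (Nat.zero_le (k + 1)) =
        homOfLE (Nat.zero_le k) ≫ homOfLE (Nat.le_succ k) :=
        Subsingleton.elim _ _
      rw [this, F.map_comp]
      have h2 : QuasiIso (F.map (homOfLE (Nat.le_succ k))) := by
        have h3 : F.map (homOfLE (Nat.le_succ k)) = f k :=
          Functor.ofSequence_map_homOfLE_succ f k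
        rw [h3]
        exact hf k
      infer_instance
  have hev (i : ℤ) (j : ℕ) (hj : J i ≤ j) :
      (F ⋙ HomologicalComplex.eval A _ i).IsEventuallyConstantFrom j := by
    intro b φ
    have : φ = homOfLE (leOfHom φ) := Subsingleton.elim _ _
    rw [this]
    exact hmap i j b _ hj
  have (i : ℤ) : HasColimit (F ⋙ HomologicalComplex.eval A _ i) := (hev i (J i) le_rfl).hasColimit
  have hiso (i : ℤ) (j : ℕ) (hj : J i ≤ j) : IsIso ((colimit.ι F j).f i) :=
    (hev i j hj).isIso_ι_of_isColimit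
      (isColimitOfPreserves (HomologicalComplex.eval A _ i) (colimit.isColimit F))
  refine ⟨colimit F, colimit.ι F 0, ⟨fun i => ?_⟩, fun i j hj => ?_⟩
  · let j := max (J (i - 1)) (max (J i) (J (i + 1)))
    have h1 : QuasiIsoAt (colimit.ι F j) i := by
      rw [quasiIsoAt_iff' _ (i - 1) i (i + 1) (by simp) (by simp)]
      let φ := (HomologicalComplex.shortComplexFunctor' A _ (i - 1) i (i + 1)).map
        (colimit.ι F j)
      have : IsIso φ.τ₁ := hiso _ _ (by simp [j])
      have : IsIso φ.τ₂ := hiso _ _ (by simp [j])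
      have : IsIso φ.τ₃ := hiso _ _ (by simp [j])
      exact ShortComplex.quasiIso_of_epi_of_isIso_of_mono φ
    have h2 : QuasiIsoAt (F.map (homOfLE (Nat.zero_le j))) i := (hqis j).quasiIsoAt i
    have h3 : QuasiIsoAt (F.map (homOfLE (Nat.zero_le j)) ≫ colimit.ι F j) i := inferInstance
    rw [colimit.w] at h3
    exact h3
  · have : IsIso ((colimit.ι F j).f i) := hiso i j hj
    exact ⟨@asIso _ _ _ _ ((colimit.ι F j).f i) this⟩

end colim

section main

/-- The bound. -/
def bd (ξ n : ℤ) : ℕ∞ := (((ξ - n).toNat : ℕ) : ℕ∞)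

lemma bd_sub_one (ξ n : ℤ) : bd ξ n - 1 = bd ξ (n + 1) := by
  have h : (((ξ - n).toNat : ℕ) : ℕ∞) - 1 = (((ξ - n).toNat - 1 : ℕ) : ℕ∞) := by
    simp
  unfold bd
  rw [h]
  congr 1
  lia

lemma bd_eq_zero {ξ n : ℤ} (h : ξ ≤ n) : bd ξ n = 0 := by
  unfold bd
  have : (ξ - n).toNat = 0 := by lia
  rw [this]; rfl

lemma bd_mono {ξ ξ' n : ℤ} (h : ξ ≤ ξ') : bd ξ n ≤ bd ξ' n := by
  unfold bd
  have : (ξ - n).toNat ≤ (ξ' - n).toNat := by lia
  exact_mod_cast this

variable (d : A → ℕ∞) (hiso : ∀ ⦃X Y : A⦄, Nonempty (X ≅ Y) → d X = d Y)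
    (h1 : ∀ X : A, ∃ (Y : A) (ι : X ⟶ Y), Mono ι ∧ d Y = 0)
    (h2 : ∀ X Y : A, d (X ⊞ Y) ≤ max (d X) (d Y))
    (h3 : ∀ S : ShortComplex A, S.ShortExact → d S.X₃ ≤ max (d S.X₁ - 1) (d S.X₂))

include hiso h1 h2 h3

/-- Finitely many replacements. -/
theorem exists_finite (K : CochainComplex A ℤ) (ξ : ℤ) (hK : ∀ n, d (K.X n) ≤ bd ξ n)
    (n₀ : ℤ) (k : ℕ) :
    ∃ (K' : CochainComplex A ℤ) (f : K ⟶ K'), QuasiIso f ∧
      (∀ i, (i < n₀ ∨ n₀ + k < i) → IsIso (f.f i)) ∧ (∀ n, d (K'.X n) ≤ bd ξ n) ∧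
      (∀ i, n₀ ≤ i → i < n₀ + k → d (K'.X i) = 0) := by
  induction k with
  | zero =>
    refine ⟨K, 𝟙 K, inferInstance, fun i _ => ?_, hK, fun i h h' => ?_⟩
    · rw [HomologicalComplex.id_f]; infer_instance
    · simp at h'; lia
  | succ k hk =>
    obtain ⟨K', f, hf1, hf2, hf3, hf4⟩ := hk
    obtain ⟨K'', g, hg1, hg2, hg3, hg4⟩ := exists_step d hiso h1 h2 h3 K' (n₀ + k)
    have hd (i : ℤ) (hi : i ≠ n₀ + k) (hi' : i ≠ n₀ + k + 1) : d (K''.X i) = d (K'.X i) := by
      have := hg2 i hi hi'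
      exact hiso ⟨(asIso (g.f i)).symm⟩
    refine ⟨K'', f ≫ g, inferInstance, fun i hi => ?_, fun n => ?_, fun i h h' => ?_⟩
    · have := hf2 i (by push_cast at hi; lia)
      have := hg2 i (by push_cast at hi; lia) (by push_cast at hi; lia)
      rw [HomologicalComplex.comp_f]
      infer_instance
    · by_cases hn : n = n₀ + k
      · rw [hn, hg3]; exact bot_le
      · by_cases hn' : n = n₀ + k + 1
        · rw [hn']
          refine hg4.trans (max_le ?_ (hf3 _))
          rw [← bd_sub_one]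
          exact tsub_le_tsub_right (hf3 _) _
        · rw [hd n hn hn']
          exact hf3 n
    · by_cases hn : i = n₀ + k
      · rw [hn, hg3]
      · rw [hd i hn (by push_cast at h'; lia)]
        exact hf4 i h (by push_cast at h'; lia)

/-- One round. -/
theorem exists_round (K : CochainComplex A ℤ) (ξ : ℤ) (hK : ∀ n, d (K.X n) ≤ bd ξ n)
    (hK' : ∀ m : ℤ, ∃ N : ℤ, ∀ n : ℤ, n ≤ N → d (K.X n) ≤ bd m n) :
    ∃ (K' : CochainComplex A ℤ) (f : K ⟶ K'), QuasiIso f ∧
      (∀ i, ξ < i → IsIso (f.f i)) ∧ (∀ n, d (K'.X n) ≤ bd (ξ - 1) n) ∧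
      (∀ m : ℤ, ∃ N : ℤ, ∀ n : ℤ, n ≤ N → d (K'.X n) ≤ bd m n) := by
  obtain ⟨N, hN⟩ := hK' (ξ - 1)
  let n₀ := min (N + 1) ξ
  obtain ⟨K', f, hf1, hf2, hf3, hf4⟩ := exists_finite d hiso h1 h2 h3 K ξ hK n₀ (ξ - n₀).toNat
  have hn₀ : n₀ + (ξ - n₀).toNat = ξ := by
    have : n₀ ≤ ξ := min_le_right _ _
    lia
  rw [hn₀] at hf2 hf4
  have hd (i : ℤ) (hi : i < n₀) : d (K'.X i) = d (K.X i) := by
    have := hf2 i (Or.inl hi)
    exact hiso ⟨(asIso (f.f i)).symm⟩
  refine ⟨K', f, hf1, fun i hi => hf2 i (Or.inr hi), fun n => ?_, fun m => ?_⟩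
  · by_cases hn : n < n₀
    · rw [hd n hn]
      exact hN n (by have : n₀ ≤ N + 1 := min_le_left _ _; lia)
    · by_cases hn' : n < ξ
      · rw [hf4 n (by lia) hn']
        exact bot_le
      · have := hf3 n
        rw [bd_eq_zero (by lia)] at this
        exact this.trans bot_le
  · obtain ⟨N', hN'⟩ := hK' m
    refine ⟨min N' (n₀ - 1), fun n hn => ?_⟩
    rw [hd n (by have := min_le_right N' (n₀ - 1); lia)]
    exact hN' n (hn.trans (min_le_left _ _))

/-- Stacks 07K6. -/
theorem main (K : CochainComplex A ℤ)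
    (hK : ∀ m : ℤ, ∃ N : ℤ, ∀ n : ℤ, n ≤ N → d (K.X n) ≤ bd m n) :
    ∃ (L : CochainComplex A ℤ) (f : K ⟶ L), QuasiIso f ∧ ∀ n, d (L.X n) = 0 := by
  obtain ⟨N, hN⟩ := hK 0
  -- first: replace in degrees `> N`
  obtain ⟨K₀, f₀, hf₀, hK₀, hK₀'⟩ : ∃ (K₀ : CochainComplex A ℤ) (f₀ : K ⟶ K₀), QuasiIso f₀ ∧
      (∀ n, d (K₀.X n) ≤ bd 0 n) ∧
      (∀ m : ℤ, ∃ N : ℤ, ∀ n : ℤ, n ≤ N → d (K₀.X n) ≤ bd m n) := by
    let S : ℕ → Type _ := fun j => { M : CochainComplex A ℤ //
      (∀ n, N < n → n ≤ N + j → d (M.X n) = 0) ∧ (∀ n, n ≤ N → d (M.X n) = d (K.X n)) }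
    have step : ∀ j (M : S j), ∃ (M' : S (j + 1)) (f : M.1 ⟶ M'.1), QuasiIso f ∧
        ∀ i, i ≠ N + j + 1 → i ≠ N + j + 2 → IsIso (f.f i) := by
      intro j M
      obtain ⟨M', f, hf1, hf2, hf3, -⟩ := exists_step d hiso h1 h2 h3 M.1 (N + j + 1)
      have hd (i : ℤ) (hi : i ≠ N + j + 1) (hi' : i ≠ N + j + 1 + 1) :
          d (M'.X i) = d (M.1.X i) := by
        have := hf2 i hi hi'
        exact hiso ⟨(asIso (f.f i)).symm⟩
      refine ⟨⟨M', fun n hn hn' => ?_, fun n hn => ?_⟩, f, hf1, fun i hi hi' => hf2 i hi (by lia)⟩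
      · by_cases h : n = N + j + 1
        · rw [h, hf3]
        · rw [hd n h (by push_cast at hn'; lia)]
          exact M.2.1 n hn (by push_cast at hn'; lia)
      · rw [hd n (by lia) (by lia)]
        exact M.2.2 n hn
    choose M' f hf1 hf2 using step
    let seq : ∀ j, S j := fun j => Nat.rec ⟨K, fun n h h' => by push_cast at h'; lia,
      fun n _ => rfl⟩ (fun j M => M' j M) j
    obtain ⟨L, g, hg1, hg2⟩ := exists_colimit (fun j => (seq j).1) (fun j => f j (seq j))
      (fun j => hf1 j (seq j)) (fun i => (i - N).toNat + 1) (fun i j hij =>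
        hf2 j (seq j) i (by lia) (by lia))
    have hL (i : ℤ) (j : ℕ) (hij : (i - N).toNat + 1 ≤ j) : d (L.X i) = d ((seq j).1.X i) :=
      (hiso (hg2 i j hij)).symm
    have hL0 (i : ℤ) (hi : N < i) : d (L.X i) = 0 := by
      rw [hL i _ le_rfl]
      exact (seq ((i - N).toNat + 1)).2.1 i hi (by push_cast; lia)
    have hL1 (i : ℤ) (hi : i ≤ N) : d (L.X i) = d (K.X i) := by
      rw [hL i _ le_rfl]
      exact (seq ((i - N).toNat + 1)).2.2 i hi
    refine ⟨L, g, hg1, fun n => ?_, fun m => ?_⟩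
    · by_cases hn : n ≤ N
      · rw [hL1 n hn]; exact hN n hn
      · rw [hL0 n (by lia)]; exact bot_le
    · obtain ⟨N', hN'⟩ := hK m
      refine ⟨min N N', fun n hn => ?_⟩
      rw [hL1 n (hn.trans (min_le_left _ _))]
      exact hN' n (hn.trans (min_le_right _ _))
  -- second: rounds
  let S : ℕ → Type _ := fun j => { M : CochainComplex A ℤ //
      (∀ n, d (M.X n) ≤ bd (0 - j) n) ∧
      (∀ m : ℤ, ∃ N : ℤ, ∀ n : ℤ, n ≤ N → d (M.X n) ≤ bd m n) }
  have step : ∀ j (M : S j), ∃ (M' : S (j + 1)) (f : M.1 ⟶ M'.1), QuasiIso f ∧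
      ∀ i : ℤ, 0 - (j : ℤ) < i → IsIso (f.f i) := by
    intro j M
    obtain ⟨M', f, hf1, hf2, hf3, hf4⟩ := exists_round d hiso h1 h2 h3 M.1 (0 - j) M.2.1 M.2.2
    have h : (0 - (j : ℤ) - 1) = 0 - ((j + 1 : ℕ) : ℤ) := by push_cast; lia
    rw [h] at hf3
    exact ⟨⟨M', hf3, hf4⟩, f, hf1, hf2⟩
  choose M' f hf1 hf2 using step
  let seq : ∀ j, S j := fun j => Nat.rec ⟨K₀, by simpa using hK₀, hK₀'⟩ (fun j M => M' j M) j
  obtain ⟨L, g, hg1, hg2⟩ := exists_colimit (fun j => (seq j).1) (fun j => f j (seq j))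
    (fun j => hf1 j (seq j)) (fun i => (0 - i).toNat + 1) (fun i j hij =>
      hf2 j (seq j) i (by lia))
  refine ⟨L, f₀ ≫ g, ?_, fun n => ?_⟩
  · have : QuasiIso g := hg1
    infer_instance
  · have h := (seq ((0 - n).toNat + 1)).2.1 n
    rw [bd_eq_zero (by push_cast; lia)] at h
    rw [← hiso (hg2 n _ le_rfl)]
    exact le_antisymm h bot_le

end main

end Groth.Agent.CohtopB.DimZero
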