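import Mathlib.Algebra.Homology.DerivedCategory.Ext.EnoughInjectives
import Mathlib.Algebra.Homology.DerivedCategory.Ext.ExactSequences
import Mathlib.CategoryTheory.Abelian.Exact
import Mathlib.CategoryTheory.Abelian.FunctorCategory
import Mathlib.Algebra.Category.Grp.Abelian
import Mathlib.Algebra.Category.Grp.Zero

/-!
# Comparison of cohomology theories by dimension shifting

`IsShift G T` : `T n F` (`n : ℕ`) is a family of objects with `T 0 = G` and which shifts along short
exact sequences `0 → F → I → Q → 0` with `I` injective.  Two such families with isomorphic `G` are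
isomorphic in each degree (`IsShift.comparison`).

Instances: `isShift_ext` (`Ext^n(P, L F)` for `L` exact carrying injectives to acyclics),
`isShift_extFlip` (`c ↦ Ext^n(Z c, F)` as a presheaf), `IsShift.comp` (composition with an exact functor).
-/

set_option autoImplicit false
universe w v u v' u' v'' u''

open CategoryTheory Limits Abelian Opposite

namespace Groth.Agent.CohtopB.EffComp

variable {A : Type u} [Category.{v} A] [Abelian A]
  {D : Type u'} [Category.{v'} D] [Abelian D]
  {D' : Type u''} [Category.{v''} D'] [Abelian D']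

/-- `T n F` is a family of objects with `T 0 F ≅ G F` and which shifts along short
exact sequences `0 → F → I → Q → 0` with `I` injective. -/
structure IsShift (G : A ⥤ D) (T : ℕ → A → D) : Prop where
  zero : ∀ F, Nonempty (T 0 F ≅ G.obj F)
  one : ∀ (S : ShortComplex A), S.ShortExact → Injective S.X₂ →
    Nonempty (T 1 S.X₁ ≅ cokernel (G.map S.g))
  succ : ∀ (n : ℕ) (S : ShortComplex A), S.ShortExact → Injective S.X₂ →
    Nonempty (T (n + 2) S.X₁ ≅ T (n + 1) S.X₃)

theorem exists_shortExact_injective [EnoughInjectives A] (F : A) :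
    ∃ (I Q : A) (i : F ⟶ I) (q : I ⟶ Q) (w : i ≫ q = 0), Injective I ∧
      (ShortComplex.mk i q w).ShortExact := by
  refine ⟨Injective.under F, cokernel (Injective.ι F), Injective.ι F, cokernel.π _, by simp,
    inferInstance, ?_⟩
  exact
    { exact := ShortComplex.exact_cokernel (Injective.ι F)
      mono_f := by dsimp; infer_instance
      epi_g := by dsimp; infer_instance }

/-- Comparison of two shifting families. -/
theorem IsShift.comparison [EnoughInjectives A] {G G' : A ⥤ D} {T T' : ℕ → A → D}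
    (h : IsShift G T) (h' : IsShift G' T') (e : G ≅ G') (n : ℕ) (F : A) :
    Nonempty (T n F ≅ T' n F) := by
  induction n generalizing F with
  | zero => exact ⟨(h.zero F).some ≪≫ e.app F ≪≫ (h'.zero F).some.symm⟩
  | succ n ih =>
    obtain ⟨I, Q, i, q, w, hI, hS⟩ := exists_shortExact_injective F
    cases n with
    | zero =>
      exact ⟨(h.one _ hS hI).some ≪≫ cokernel.mapIso _ _ (e.app I) (e.app Q) (e.hom.naturality q) ≪≫
        (h'.one _ hS hI).some.symm⟩
    | succ n =>
      exact ⟨(h.succ n _ hS hI).some ≪≫ (ih Q).some ≪≫ (h'.succ n _ hS hI).some.symm⟩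

/-- Transport along isomorphisms. -/
theorem IsShift.of_iso {G G' : A ⥤ D} {T T' : ℕ → A → D} (h : IsShift G T) (e : G ≅ G')
    (e' : ∀ n F, Nonempty (T n F ≅ T' n F)) : IsShift G' T' where
  zero F := ⟨(e' 0 F).some.symm ≪≫ (h.zero F).some ≪≫ e.app F⟩
  one S hS hI := ⟨(e' 1 _).some.symm ≪≫ (h.one S hS hI).some ≪≫
    cokernel.mapIso _ _ (e.app _) (e.app _) (e.hom.naturality _)⟩
  succ n S hS hI := ⟨(e' _ _).some.symm ≪≫ (h.succ n S hS hI).some ≪≫ (e' _ _).some⟩

/-- Composition with an exact functor. -/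
theorem IsShift.comp {G : A ⥤ D} {T : ℕ → A → D} (h : IsShift G T) (L : D ⥤ D') [L.Additive]
    [PreservesFiniteColimits L] : IsShift (G ⋙ L) (fun n F => L.obj (T n F)) where
  zero F := ⟨L.mapIso (h.zero F).some⟩
  one S hS hI := ⟨L.mapIso (h.one S hS hI).some ≪≫ PreservesCokernel.iso L (G.map S.g)⟩
  succ n S hS hI := ⟨L.mapIso (h.succ n S hS hI).some⟩

/-- Criterion in terms of natural long exact sequences. -/
theorem IsShift.mk' (G : ℕ → (A ⥤ D))
    (δ : ∀ (n : ℕ) (S : ShortComplex A), S.ShortExact → ((G n).obj S.X₃ ⟶ (G (n + 1)).obj S.X₁))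
    (w : ∀ (n : ℕ) (S : ShortComplex A) (hS : S.ShortExact), (G n).map S.g ≫ δ n S hS = 0)
    (hex : ∀ (n : ℕ) (S : ShortComplex A) (hS : S.ShortExact),
      (ShortComplex.mk _ _ (w n S hS)).Exact)
    (hepi : ∀ (n : ℕ) (S : ShortComplex A) (hS : S.ShortExact), Injective S.X₂ → Epi (δ n S hS))
    (hI : ∀ (n : ℕ) (I : A), Injective I → IsZero ((G (n + 1)).obj I)) :
    IsShift (G 0) (fun n F => (G n).obj F) where
  zero F := ⟨Iso.refl _⟩
  one S hS hinj := by
    have := hepi 0 S hS hinj
    exact ⟨((hex 0 S hS).gIsCokernel.coconePointUniqueUpToIso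
      (colimit.isColimit (parallelPair ((G 0).map S.g) 0)))⟩
  succ n S hS hinj := by
    have h1 := hepi (n + 1) S hS hinj
    have h2 : Mono (δ (n + 1) S hS) :=
      (hex (n + 1) S hS).mono_g ((hI n S.X₂ hinj).eq_of_src _ _)
    have := isIso_of_mono_of_epi (δ (n + 1) S hS)
    exact ⟨(asIso (δ (n + 1) S hS)).symm⟩

section Ext

variable {B : Type u''} [Category.{v''} B] [Abelian B] [HasExt.{w} B]

theorem comp_mk₀_extClass (P : B) {S : ShortComplex B} (hS : S.ShortExact) {n : ℕ}
    (x : Ext.{w} P S.X₂ n) :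
    (x.comp (Ext.mk₀ S.g) (add_zero n)).comp hS.extClass rfl = 0 := by
  rw [Ext.comp_assoc_of_second_deg_zero, hS.comp_extClass, Ext.comp_zero]

theorem surjective_postcomp_extClass (P : B) {S : ShortComplex B} (hS : S.ShortExact) {n : ℕ}
    (h : Subsingleton (Ext.{w} P S.X₂ (n + 1))) :
    Function.Surjective (hS.extClass.postcomp P (rfl : n + 1 = n + 1)) := fun x =>
  Ext.covariant_sequence_exact₁ P hS x (Subsingleton.elim _ _) rfl

/-- `Ext^n(P, L F)` for an exact functor `L` carrying injectives to `Ext(P, -)`-acyclic objects. -/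
theorem isShift_ext (P : B) (L : A ⥤ B) [L.Additive] [PreservesFiniteLimits L]
    [PreservesFiniteColimits L]
    (hL : ∀ (I : A), Injective I → ∀ n, Subsingleton (Ext.{w} P (L.obj I) (n + 1))) :
    IsShift (L ⋙ extFunctorObj.{w} P 0) (fun n F => AddCommGrpCat.of (Ext.{w} P (L.obj F) n)) := by
  refine IsShift.mk' (fun n => L ⋙ extFunctorObj.{w} P n)
    (fun n S hS => AddCommGrpCat.ofHom ((hS.map_of_exact L).extClass.postcomp P rfl)) ?_ ?_ ?_ ?_
  · intro n S hS
    ext x
    exact comp_mk₀_extClass P (hS.map_of_exact L) x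
  · intro n S hS
    exact Ext.covariant_sequence_exact₃' P (hS.map_of_exact L) n (n + 1) rfl
  · intro n S hS hI
    exact (AddCommGrpCat.epi_iff_surjective _).2
      (surjective_postcomp_extClass P (hS.map_of_exact L) (hL S.X₂ hI n))
  · intro n I hI
    have := hL I hI n
    exact AddCommGrpCat.isZero_of_subsingleton (AddCommGrpCat.of (Ext.{w} P (L.obj I) (n + 1)))

variable {C : Type u''} [Category.{v''} C] [HasExt.{w} A]

/-- The functor `F ↦ (c ↦ Ext^n(Z c, F))`. -/
noncomputable abbrev extFlip (Z : C ⥤ A) (n : ℕ) : A ⥤ Cᵒᵖ ⥤ AddCommGrpCat.{w} :=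
  Functor.flip (Z.op ⋙ extFunctor.{w} n)

/-- The natural connecting map. -/
noncomputable def extFlipδ (Z : C ⥤ A) (n : ℕ) {S : ShortComplex A} (hS : S.ShortExact) :
    (extFlip Z n).obj S.X₃ ⟶ (extFlip Z (n + 1)).obj S.X₁ where
  app c := AddCommGrpCat.ofHom (hS.extClass.postcomp (Z.obj c.unop) rfl)
  naturality c c' g := by
    ext x
    exact Ext.comp_assoc _ _ _ (zero_add n) rfl (by omega)

theorem exact_of_evaluation {S : ShortComplex (C ⥤ D)}
    (h : ∀ c, (S.map ((evaluation C D).obj c)).Exact) : S.Exact := by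
  rw [ShortComplex.exact_iff_isZero_homology, Functor.isZero_iff]
  intro c
  have := h c
  rw [ShortComplex.exact_iff_isZero_homology] at this
  exact this.of_iso (S.mapHomologyIso ((evaluation C D).obj c)).symm

theorem isShift_extFlip (Z : C ⥤ A) :
    IsShift (extFlip.{w} Z 0) (fun n F => (extFlip.{w} Z n).obj F) := by
  refine IsShift.mk' (fun n => extFlip.{w} Z n) (fun n S hS => extFlipδ Z n hS) ?_ ?_ ?_ ?_
  · intro n S hS
    ext c x
    exact comp_mk₀_extClass (Z.obj c.unop) hS x
  · intro n S hS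
    refine exact_of_evaluation (fun c => ?_)
    exact Ext.covariant_sequence_exact₃' (Z.obj c.unop) hS n (n + 1) rfl
  · intro n S hS hI
    have : ∀ c, Epi ((extFlipδ Z n hS).app c) := fun c =>
      (AddCommGrpCat.epi_iff_surjective _).2 (surjective_postcomp_extClass (Z.obj c.unop) hS
        (Ext.subsingleton_of_injective.{w} (Z.obj c.unop) S.X₂ n))
    exact NatTrans.epi_of_epi_app _
  · intro n I hI
    refine (Functor.isZero _ (fun c => ?_))
    have := Ext.subsingleton_of_injective.{w} (Z.obj c.unop) I n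
    exact AddCommGrpCat.isZero_of_subsingleton (AddCommGrpCat.of (Ext.{w} (Z.obj c.unop) I (n + 1)))

end Ext

end Groth.Agent.CohtopB.EffComp
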