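import Groth.Agent.CohtopB.NerveHK
import Mathlib.CategoryTheory.Sites.EpiMono
import Mathlib.CategoryTheory.Sites.LocallySurjective
import Mathlib.CategoryTheory.Limits.Types.Pullbacks

/-!
# Epimorphisms of sheaves of sets

* `epi_snd_of_isPullback`: epimorphisms of sheaves of sets are stable under base change;
* `epi_forget_map`: the underlying map of sheaves of sets of an epimorphism of abelian sheaves is an epimorphism;
* `exists_cover_lift`: for an epimorphism `g : M ⟶ N` of abelian sheaves and `b : ℤ[K] ⟶ N` there is an epimorphism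
  of sheaves of sets `f : K' ⟶ K` such that `ℤ[f] ≫ b` lifts along `g`.
-/

set_option autoImplicit false
universe w v u

open CategoryTheory CategoryTheory.Limits Opposite

namespace Groth.Agent.CohtopB.EpiSheaf

variable {C : Type u} [SmallCategory C] (J : GrothendieckTopology C)

lemma epi_snd_of_isPullback {P A K B : Sheaf J (Type u)} {fst : P ⟶ A} {snd : P ⟶ K} {g : A ⟶ B} {b : K ⟶ B}
    (h : IsPullback fst snd g b) [Epi g] : Epi snd := by
  have hg : Sheaf.IsLocallySurjective g := (Sheaf.isLocallySurjective_iff_epi g).2 inferInstance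
  rw [← Sheaf.isLocallySurjective_iff_epi]
  constructor
  intro U s
  refine J.superset_covering ?_ (Presheaf.imageSieve_mem J g.hom (b.hom.app (op U) s))
  rintro V i ⟨t, ht⟩
  have hV := h.map (sheafToPresheaf J (Type u) ⋙ (evaluation Cᵒᵖ (Type u)).obj (op V))
  obtain ⟨x, hx1, hx2⟩ := Types.exists_of_isPullback hV t (K.obj.map i.op s) (by
    change g.hom.app (op V) t = b.hom.app (op V) (K.obj.map i.op s)
    rw [ht]
    exact (NatTrans.naturality_apply b.hom i.op s).symm)
  exact ⟨x, hx2⟩

lemma epi_forget_map {M N : Sheaf J AddCommGrpCat.{u}} (g : M ⟶ N) [Epi g] :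
    Epi ((sheafCompose J (forget AddCommGrpCat.{u})).map g) := by
  have hg : Sheaf.IsLocallySurjective g := (Sheaf.isLocallySurjective_iff_epi' _ g).2 inferInstance
  infer_instance

lemma exists_cover_lift {K : Sheaf J (Type u)} {M N : Sheaf J AddCommGrpCat.{u}} (g : M ⟶ N) [Epi g]
    (b : (NerveHK.ZSh J).obj K ⟶ N) :
    ∃ (K' : Sheaf J (Type u)) (f : K' ⟶ K), Epi f ∧
      ∃ a : (NerveHK.ZSh J).obj K' ⟶ M, a ≫ g = (NerveHK.ZSh J).map f ≫ b := by
  have := epi_forget_map J g
  let b' := (NerveHK.zAdj J).homEquiv _ _ b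
  have h := IsPullback.of_hasPullback ((sheafCompose J (forget AddCommGrpCat.{u})).map g) b'
  refine ⟨_, pullback.snd _ _, epi_snd_of_isPullback J h,
    ((NerveHK.zAdj J).homEquiv _ _).symm (pullback.fst ((sheafCompose J (forget AddCommGrpCat.{u})).map g) b'), ?_⟩
  apply ((NerveHK.zAdj J).homEquiv _ _).injective
  rw [Adjunction.homEquiv_naturality_right, Equiv.apply_symm_apply, Adjunction.homEquiv_naturality_left]
  exact h.w

/-- `H^0(K, F)` is the set of maps of sheaves of sets `K ⟶ F`. -/
noncomputable def hkEquiv (K : Sheaf J (Type u)) (F : Sheaf J AddCommGrpCat.{u}) :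
    ((NerveHK.ZSh J).obj K ⟶ F) ≃ (K ⟶ (sheafCompose J (forget AddCommGrpCat.{u})).obj F) :=
  (NerveHK.zAdj J).homEquiv _ _

end Groth.Agent.CohtopB.EpiSheaf
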