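import Groth.Agent.LoccohB.MapAdj
import Mathlib.Algebra.Homology.DerivedCategory.ExactFunctor
import Mathlib.CategoryTheory.Localization.Adjunction
import Mathlib.CategoryTheory.Adjunction.Additive

/-!
# The adjunction between derived categories induced by an adjunction of exact functors

For an adjunction `L ⊣ R` between exact functors of abelian categories, `derivedAdj` is the adjunction
`L.mapDerivedCategory ⊣ R.mapDerivedCategory`, and `homEquivSingle` the induced additive equivalence
`Hom(L X[0], K⟦n⟧) ≃ Hom(X[0], (R K)⟦n⟧)`.
-/

set_option autoImplicit false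

universe w w' v v' u u'

open CategoryTheory CategoryTheory.Limits

namespace Groth.Agent.CohtopB.ExactDerAdj

variable {A : Type u} [Category.{v} A] [Abelian A] [HasDerivedCategory.{w} A]
  {B : Type u'} [Category.{v'} B] [Abelian B] [HasDerivedCategory.{w'} B]
  {L : B ⥤ A} {R : A ⥤ B} (adj : L ⊣ R) [L.Additive] [R.Additive]
  [PreservesFiniteLimits L] [PreservesFiniteColimits L]
  [PreservesFiniteLimits R] [PreservesFiniteColimits R]

/-- The adjunction on derived categories induced by an adjunction between exact functors. -/
noncomputable def derivedAdj : L.mapDerivedCategory ⊣ R.mapDerivedCategory :=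
  letI : CatCommSq (L.mapHomologicalComplex (ComplexShape.up ℤ)) DerivedCategory.Q
    DerivedCategory.Q L.mapDerivedCategory := ⟨L.mapDerivedCategoryFactors.symm⟩
  letI : CatCommSq (R.mapHomologicalComplex (ComplexShape.up ℤ)) DerivedCategory.Q
    DerivedCategory.Q R.mapDerivedCategory := ⟨R.mapDerivedCategoryFactors.symm⟩
  (LoccohB.MapAdj.mapComplexAdj adj (ComplexShape.up ℤ)).localization
    DerivedCategory.Q (HomologicalComplex.quasiIso B (ComplexShape.up ℤ))
    DerivedCategory.Q (HomologicalComplex.quasiIso A (ComplexShape.up ℤ))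
    L.mapDerivedCategory R.mapDerivedCategory

/-- The additive equivalence `Hom(L X[0], K⟦n⟧) ≃ Hom(X[0], (R K)⟦n⟧)`. -/
noncomputable def homEquivSingle (X : B) (K : DerivedCategory A) (n : ℤ) :
    ((DerivedCategory.singleFunctor A 0).obj (L.obj X) ⟶ (shiftFunctor _ n).obj K) ≃+
      ((DerivedCategory.singleFunctor B 0).obj X ⟶
        (shiftFunctor _ n).obj (R.mapDerivedCategory.obj K)) where
  toFun f := (derivedAdj adj).homEquiv _ _
      ((L.mapDerivedCategorySingleFunctor 0).hom.app X ≫ f) ≫
    (R.mapDerivedCategory.commShiftIso n).hom.app K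
  invFun g := (L.mapDerivedCategorySingleFunctor 0).inv.app X ≫
    ((derivedAdj adj).homEquiv _ _).symm (g ≫ (R.mapDerivedCategory.commShiftIso n).inv.app K)
  left_inv f := by simp
  right_inv g := by simp
  map_add' f g := by
    rw [Preadditive.comp_add, Adjunction.homEquiv_unit, Adjunction.homEquiv_unit,
      Adjunction.homEquiv_unit, Functor.map_add, Preadditive.comp_add, Preadditive.add_comp]

end Groth.Agent.CohtopB.ExactDerAdj
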