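import Groth.Agent.CohtopB.ExtResn

/-!
# `Ext¹` into a product injects into the product of the `Ext¹`
-/

set_option autoImplicit false

universe w v u t

open CategoryTheory CategoryTheory.Limits CategoryTheory.Abelian

namespace Groth.Agent.CohtopB.ExtProd

variable {A : Type u} [Category.{v} A] [Abelian A] [HasExt.{w} A] [EnoughInjectives A]

/-- A class in `Ext¹(X, ∏ F)` all of whose components vanish is zero. -/
theorem eq_zero_of_comp_π {T : Type t} (F : T → A) [HasProduct F] {X : A} (x : Ext X (∏ᶜ F) 1)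
    (h : ∀ i, x.comp (Ext.mk₀ (Pi.π F i)) (add_zero 1) = 0) : x = 0 := by
  obtain ⟨M, π, hπ, hx⟩ := ExtColim.exists_epi_comp_eq_zero 0 x
  let S : ShortComplex A := ShortComplex.mk (kernel.ι π) π (kernel.condition _)
  have hS : S.ShortExact :=
    { exact := ShortComplex.exact_of_f_is_kernel _ (kernelIsKernel π)
      mono_f := inferInstanceAs (Mono (kernel.ι π))
      epi_g := hπ }
  obtain ⟨z, rfl⟩ := Ext.contravariant_sequence_exact₃ hS _ x hx (n₀ := 0) rfl
  obtain ⟨k, rfl⟩ := (Ext.mk₀_bijective _ _).2 z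
  have hk : ∀ i, ∃ m : M ⟶ F i, kernel.ι π ≫ m = k ≫ Pi.π F i := by
    intro i
    have h1 := h i
    rw [Ext.comp_assoc_of_third_deg_zero, Ext.mk₀_comp_mk₀] at h1
    obtain ⟨y, hy⟩ := Ext.contravariant_sequence_exact₁ hS _ (Ext.mk₀ (k ≫ Pi.π F i)) rfl h1
    obtain ⟨m, rfl⟩ := (Ext.mk₀_bijective _ _).2 y
    rw [Ext.mk₀_comp_mk₀] at hy
    exact ⟨m, (Ext.mk₀_bijective _ _).1 hy⟩
  choose m hm using hk
  have hkm : k = S.f ≫ Pi.lift m := by
    apply Pi.hom_ext
    intro i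
    rw [Category.assoc, Pi.lift_π]
    exact (hm i).symm
  rw [hkm, ← Ext.mk₀_comp_mk₀, ← Ext.comp_assoc_of_second_deg_zero, hS.extClass_comp, Ext.zero_comp]

end Groth.Agent.CohtopB.ExtProd
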