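import Mathlib.CategoryTheory.Abelian.RightDerived
import Mathlib.CategoryTheory.Abelian.Injective.Ext
import Mathlib.CategoryTheory.Abelian.FunctorCategory
import Mathlib.Algebra.Homology.Additive
import Mathlib.Algebra.Homology.ShortComplex.Ab
import Mathlib.Algebra.Homology.ShortComplex.PreservesHomology
import Mathlib.Algebra.Homology.ShortComplex.ExactFunctor
import Mathlib.Algebra.Category.Grp.Abelian
import Mathlib.CategoryTheory.Preadditive.Yoneda.Basic
import Mathlib.CategoryTheory.Limits.FunctorCategory.EpiMono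

/-!
# Derived functors: composition with exact functors, and `Ext` as a right derived functor

* `compExact e n : H.rightDerived n ≅ F.rightDerived n ⋙ L` for `L` exact and `e : F ⋙ L ≅ H`.
* `extPreIso Z n : (homPre Z).rightDerived n ≅ extPre Z n` where `homPre Z : A ⥤ (Cᵒᵖ ⥤ Ab)` sends
  `G` to `U ↦ Hom(Z U, G)` and `extPre Z n` sends `G` to `U ↦ Ext^n(Z U, G)`.
-/

set_option autoImplicit false
universe w v u v' u'

open CategoryTheory CategoryTheory.Limits CategoryTheory.Abelian Opposite

namespace Groth.Agent.CohtopB.ExtRD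

section comp

variable {C : Type*} [Category* C] [Abelian C] [HasInjectiveResolutions C]
  {D : Type*} [Category* D] [Abelian D] {E : Type*} [Category* E] [Abelian E]

/-- Homology commutes with exact functors, as functors on complexes. -/
noncomputable def homologyExact {ι : Type*} (L : D ⥤ E) [L.Additive] [PreservesFiniteLimits L]
    [PreservesFiniteColimits L] (c : ComplexShape ι) (n : ι) :
    L.mapHomologicalComplex c ⋙ HomologicalComplex.homologyFunctor E c n ≅
      HomologicalComplex.homologyFunctor D c n ⋙ L :=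
  Functor.isoWhiskerRight (Iso.refl _ : L.mapHomologicalComplex c ⋙
      HomologicalComplex.shortComplexFunctor E c n ≅
      HomologicalComplex.shortComplexFunctor D c n ⋙ L.mapShortComplex)
      (ShortComplex.homologyFunctor E) ≪≫
    Functor.isoWhiskerLeft (HomologicalComplex.shortComplexFunctor D c n)
      (ShortComplex.homologyFunctorIso L)

/-- Homology commutes with exact functors, as functors on the homotopy category. -/
noncomputable def homologyExactHC {ι : Type*} (L : D ⥤ E) [L.Additive] [PreservesFiniteLimits L]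
    [PreservesFiniteColimits L] (c : ComplexShape ι) (n : ι) :
    L.mapHomotopyCategory c ⋙ HomotopyCategory.homologyFunctor E c n ≅
      HomotopyCategory.homologyFunctor D c n ⋙ L :=
  Quotient.natIsoLift _
    ((Functor.associator _ _ _).symm ≪≫
      Functor.isoWhiskerRight (L.mapHomotopyCategoryFactors c) _ ≪≫
      Functor.associator _ _ _ ≪≫
      Functor.isoWhiskerLeft _ (HomotopyCategory.homologyFunctorFactors E c n) ≪≫
      homologyExact L c n ≪≫
      Functor.isoWhiskerRight (HomotopyCategory.homologyFunctorFactors D c n).symm L ≪≫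
      Functor.associator _ _ _)

/-- Right derived functors commute with postcomposition with an exact functor. -/
noncomputable def compExact {F : C ⥤ D} {L : D ⥤ E} {H : C ⥤ E} (e : F ⋙ L ≅ H)
    [F.Additive] [L.Additive] [H.Additive] [PreservesFiniteLimits L]
    [PreservesFiniteColimits L] (n : ℕ) :
    H.rightDerived n ≅ F.rightDerived n ⋙ L :=
  Functor.isoWhiskerRight (Functor.isoWhiskerLeft (injectiveResolutions C)
    (Functor.mapHomotopyCategoryCompIso e (ComplexShape.up ℕ)).symm)
      (HomotopyCategory.homologyFunctor E _ n) ≪≫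
    Functor.isoWhiskerLeft (injectiveResolutions C ⋙ F.mapHomotopyCategory (ComplexShape.up ℕ))
      (homologyExactHC L (ComplexShape.up ℕ) n)

end comp

section ext

variable {A : Type u} [Category.{v} A] [Abelian A]
  {C : Type u'} [Category.{v'} C] (Z : C ⥤ A)

/-- `G ↦ (U ↦ Hom(Z U, G))` -/
noncomputable def homPre : A ⥤ Cᵒᵖ ⥤ AddCommGrpCat.{v} where
  obj G :=
    { obj := fun U => AddCommGrpCat.of (Z.obj U.unop ⟶ G)
      map := fun f => AddCommGrpCat.ofHom (AddMonoidHom.mk' (fun x => Z.map f.unop ≫ x)
        (fun _ _ => Preadditive.comp_add _ _ _ _ _ _))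
      map_id := fun U => by ext x; simp
      map_comp := fun f g => by ext x; simp }
  map g :=
    { app := fun U => AddCommGrpCat.ofHom (AddMonoidHom.mk' (fun x => x ≫ g)
        (fun _ _ => Preadditive.add_comp _ _ _ _ _ _))
      naturality := fun U V f => by ext x; simp }
  map_id G := by ext U x; simp
  map_comp f g := by ext U x; simp

lemma homPre_map_app_apply {G G' : A} (g : G ⟶ G') (U : Cᵒᵖ) (x : Z.obj U.unop ⟶ G) :
    ((homPre Z).map g).app U x = x ≫ g := rfl

lemma homPre_obj_map_apply {G : A} {U V : Cᵒᵖ} (f : U ⟶ V) (x : Z.obj U.unop ⟶ G) :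
    ((homPre Z).obj G).map f x = Z.map f.unop ≫ x := rfl

instance : (homPre Z).Additive where
  map_add {X Y f g} := by
    ext U x
    exact Preadditive.comp_add _ _ _ _ _ _

section

variable {G : A} (I : InjectiveResolution G) (n : ℕ)

/-- The complex `U ↦ Hom(Z U, I)`. -/
noncomputable abbrev KI : CochainComplex (Cᵒᵖ ⥤ AddCommGrpCat.{v}) ℕ :=
  ((homPre Z).mapHomologicalComplex _).obj I.cocomplex

/-- The morphism `Z U ⟶ I^n` underlying a section of the sheaf of cycles. -/
noncomputable def cycHom {U : Cᵒᵖ} (c : ((KI Z I).cycles n).obj U) : Z.obj U.unop ⟶ I.cocomplex.X n :=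
  ((KI Z I).iCycles n).app U c

lemma cycHom_add {U : Cᵒᵖ} (c c' : ((KI Z I).cycles n).obj U) :
    cycHom Z I n (c + c') = cycHom Z I n c + cycHom Z I n c' :=
  map_add (((KI Z I).iCycles n).app U).hom c c'

lemma cycHom_comp_d {U : Cᵒᵖ} (c : ((KI Z I).cycles n).obj U) (m : ℕ) :
    cycHom Z I n c ≫ I.cocomplex.d n m = 0 := by
  have h := NatTrans.congr_app ((KI Z I).iCycles_d n m) U
  have h' := ConcreteCategory.congr_hom h c
  exact h'

lemma cycHom_map {U V : Cᵒᵖ} (f : U ⟶ V) (c : ((KI Z I).cycles n).obj U) :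
    cycHom Z I n (((KI Z I).cycles n).map f c) = Z.map f.unop ≫ cycHom Z I n c := by
  have h := ((KI Z I).iCycles n).naturality f
  exact ConcreteCategory.congr_hom h c

lemma exists_cycHom {U : Cᵒᵖ} (x : Z.obj U.unop ⟶ I.cocomplex.X n)
    (hx : x ≫ I.cocomplex.d n (n + 1) = 0) : ∃ c, cycHom Z I n (U := U) c = x := by
  have ex : (ShortComplex.mk ((KI Z I).iCycles n) ((KI Z I).d n (n + 1))
      ((KI Z I).iCycles_d n (n + 1))).Exact :=
    ShortComplex.exact_of_f_is_kernel _ ((KI Z I).cyclesIsKernel n (n + 1) (by simp))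
  have ex' := ex.map ((evaluation _ _).obj U)
  rw [ShortComplex.ab_exact_iff] at ex'
  exact ex' x hx

lemma cycHom_injective (U : Cᵒᵖ) : Function.Injective (cycHom Z I n (U := U)) := by
  have h : Mono (((KI Z I).iCycles n).app U) := inferInstance
  exact (AddCommGrpCat.mono_iff_injective _).1 h

lemma cycHom_toCycles {U : Cᵒᵖ} (m : ℕ) (x : Z.obj U.unop ⟶ I.cocomplex.X m) :
    cycHom Z I n (U := U) (((KI Z I).toCycles m n).app U x) = x ≫ I.cocomplex.d m n := by
  have h := NatTrans.congr_app ((KI Z I).toCycles_i m n) U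
  exact ConcreteCategory.congr_hom h x

lemma cycHom_map_res {G' : A} {I' : InjectiveResolution G'} (φ : I.cocomplex ⟶ I'.cocomplex)
    {U : Cᵒᵖ} (c : ((KI Z I).cycles n).obj U) :
    cycHom Z I' n ((HomologicalComplex.cyclesMap
      (((homPre Z).mapHomologicalComplex _).map φ) n).app U c) = cycHom Z I n c ≫ φ.f n := by
  have h := NatTrans.congr_app (HomologicalComplex.cyclesMap_i
    (((homPre Z).mapHomologicalComplex _).map φ) n) U
  exact ConcreteCategory.congr_hom h c

end

variable [HasExt.{v} A]

/-- `G ↦ (U ↦ Ext^n(Z U, G))` -/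
noncomputable def extPre (n : ℕ) : A ⥤ Cᵒᵖ ⥤ AddCommGrpCat.{v} := (Z.op ⋙ extFunctor n).flip

lemma extPre_map_app_apply {G G' : A} (g : G ⟶ G') (U : Cᵒᵖ) (n : ℕ) (x : Ext (Z.obj U.unop) G n) :
    ((extPre Z n).map g).app U x = x.comp (Ext.mk₀ g) (add_zero n) := rfl

lemma extPre_obj_map_apply {G : A} {U V : Cᵒᵖ} (f : U ⟶ V) (n : ℕ) (x : Ext (Z.obj U.unop) G n) :
    ((extPre Z n).obj G).map f x = (Ext.mk₀ (Z.map f.unop)).comp x (zero_add n) := rfl

variable {G : A} (I : InjectiveResolution G) (n : ℕ)

lemma extMk_congr {X : A} {f f' : X ⟶ I.cocomplex.X n} (h : f = f') (m : ℕ) (hm : n + 1 = m)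
    (hf : f ≫ I.cocomplex.d n m = 0) :
    I.extMk f m hm hf = I.extMk f' m hm (by rw [← h, hf]) := by
  subst h; rfl

lemma eq_zero_of_extMk_zero {X : A} (f : X ⟶ I.cocomplex.X 0) (m : ℕ) (hm : 0 + 1 = m)
    (hf : f ≫ I.cocomplex.d 0 m = 0) (h : I.extMk f m hm hf = 0) : f = 0 := by
  simp only [← I.extEquivCohomologyClass.apply_eq_iff_eq,
    InjectiveResolution.extEquivCohomologyClass_extMk,
    InjectiveResolution.extEquivCohomologyClass_zero,
    CochainComplex.HomComplex.CohomologyClass.mk_eq_zero_iff] at h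
  rw [CochainComplex.HomComplex.Cocycle.fromSingleMk_mem_coboundaries_iff _ _ _ _ _ (-1)
    (by lia)] at h
  obtain ⟨g, hg⟩ := h
  have h0 : IsZero (I.cochainComplex.X (-1)) :=
    CochainComplex.isZero_of_isStrictlyGE _ 0 _ (by lia)
  rw [h0.eq_of_tgt g 0, zero_comp] at hg
  rw [← cancel_mono (I.cochainComplexXIso 0 0 rfl).inv, zero_comp]
  exact hg.symm

/-- The map from cycles to `Ext`. -/
noncomputable def cycToExt : (KI Z I).cycles n ⟶ (extPre Z n).obj G where
  app U := AddCommGrpCat.ofHom (AddMonoidHom.mk'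
    (fun c => I.extMk (cycHom Z I n c) (n + 1) rfl (cycHom_comp_d Z I n c _)) (fun c c' => by
      rw [InjectiveResolution.add_extMk]
      congr 1
      exact cycHom_add Z I n c c'))
  naturality U V f := by
    ext c
    refine Eq.trans ?_ (I.mk₀_comp_extMk (cycHom Z I n c) (n + 1) rfl
      (cycHom_comp_d Z I n c _) (Z.map f.unop)).symm
    exact extMk_congr I n (cycHom_map Z I n f c) (n + 1) rfl (cycHom_comp_d Z I n _ _)

lemma cycToExt_app_apply (U : Cᵒᵖ) (c : ((KI Z I).cycles n).obj U) :
    (cycToExt Z I n).app U c = I.extMk (cycHom Z I n c) (n + 1) rfl (cycHom_comp_d Z I n c _) := rfl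

lemma toCycles_cycToExt (m : ℕ) : (KI Z I).toCycles m n ≫ cycToExt Z I n = 0 := by
  ext U x
  change (cycToExt Z I n).app U (((KI Z I).toCycles m n).app U x) = 0
  rw [cycToExt_app_apply]
  by_cases h : m + 1 = n
  · exact (I.extMk_eq_zero_iff _ _ _ _ m h).2 ⟨x, (cycHom_toCycles Z I n m x).symm⟩
  · have : I.cocomplex.d m n = 0 := I.cocomplex.shape _ _ h
    have h' := cycHom_toCycles Z I n m x
    rw [this, comp_zero] at h'
    exact (extMk_congr I n h' (n + 1) rfl _).trans (I.extMk_zero _ _)

/-- The comparison for a given injective resolution. -/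
noncomputable def homologyToExt : (KI Z I).homology n ⟶ (extPre Z n).obj G :=
  ((KI Z I).homologyIsCokernel _ n rfl).desc (CokernelCofork.ofπ (cycToExt Z I n)
    (toCycles_cycToExt Z I n _))

@[reassoc]
lemma π_homologyToExt : (KI Z I).homologyπ n ≫ homologyToExt Z I n = cycToExt Z I n :=
  ((KI Z I).homologyIsCokernel _ n rfl).fac _ WalkingParallelPair.one

instance isIso_homologyToExt : IsIso (homologyToExt Z I n) := by
  rw [NatTrans.isIso_iff_isIso_app]
  intro U
  rw [ConcreteCategory.isIso_iff_bijective]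
  have hepi : Function.Surjective (((KI Z I).homologyπ n).app U) :=
    (AddCommGrpCat.epi_iff_surjective _).1 inferInstance
  have key (c : ((KI Z I).cycles n).obj U) : (homologyToExt Z I n).app U
      (((KI Z I).homologyπ n).app U c) =
        I.extMk (cycHom Z I n c) (n + 1) rfl (cycHom_comp_d Z I n c _) := by
    rw [← cycToExt_app_apply]
    exact ConcreteCategory.congr_hom (NatTrans.congr_app (π_homologyToExt Z I n) U) c
  constructor
  · have := (injective_iff_map_eq_zero ((homologyToExt Z I n).app U).hom).2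
    apply this
    intro x hx
    obtain ⟨c, rfl⟩ := hepi x
    replace hx : I.extMk (cycHom Z I n c) (n + 1) rfl (cycHom_comp_d Z I n c _) = 0 :=
      (key c).symm.trans hx
    have hc : ∃ (m : ℕ) (b : Z.obj U.unop ⟶ I.cocomplex.X m), ((KI Z I).toCycles m n).app U b = c := by
      match n, c, hx with
      | 0, c, hx =>
        refine ⟨0, 0, ?_⟩
        have hc : cycHom Z I 0 c = 0 := eq_zero_of_extMk_zero I _ _ _ _ hx
        apply cycHom_injective Z I 0 U
        rw [hc, cycHom_toCycles, zero_comp]
      | m + 1, c, hx =>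
        obtain ⟨b, hb⟩ := (I.extMk_eq_zero_iff _ _ _ _ m rfl).1 hx
        refine ⟨m, b, ?_⟩
        apply cycHom_injective Z I (m + 1) U
        rw [cycHom_toCycles, hb]
    obtain ⟨m, b, rfl⟩ := hc
    exact ConcreteCategory.congr_hom (NatTrans.congr_app
      ((KI Z I).toCycles_comp_homologyπ m n) U) b
  · intro x
    obtain ⟨f, hf, rfl⟩ := I.extMk_surjective (x : Ext (Z.obj U.unop) G n) (n + 1) rfl
    obtain ⟨c, rfl⟩ := exists_cycHom Z I n f hf
    exact ⟨_, key c⟩

/-- The isomorphism `homologyToExt`. -/
noncomputable def homologyToExtIso : (KI Z I).homology n ≅ (extPre Z n).obj G :=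
  asIso (homologyToExt Z I n)

/-- Naturality of `homologyToExt`. -/
lemma homologyToExt_naturality {G' : A} {I' : InjectiveResolution G'} {g : G ⟶ G'}
    (φ : InjectiveResolution.Hom I I' g) :
    HomologicalComplex.homologyMap (((homPre Z).mapHomologicalComplex _).map φ.hom) n ≫
      homologyToExt Z I' n = homologyToExt Z I n ≫ (extPre Z n).map g := by
  rw [← cancel_epi ((KI Z I).homologyπ n), HomologicalComplex.homologyπ_naturality_assoc,
    π_homologyToExt, π_homologyToExt_assoc]
  ext U c
  change (cycToExt Z I' n).app U _ = ((extPre Z n).map g).app U ((cycToExt Z I n).app U c)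
  rw [cycToExt_app_apply, cycToExt_app_apply, extPre_map_app_apply]
  refine Eq.trans ?_ (I.extMk_comp_mk₀ (cycHom Z I n c) (n + 1) rfl
      (cycHom_comp_d Z I n c _) φ).symm
  exact extMk_congr I' n (cycHom_map_res Z I n φ.hom c) (n + 1) rfl (cycHom_comp_d Z I' n _ _)

variable [EnoughInjectives A]

/-- The morphism of resolutions lifting a morphism. -/
noncomputable def resHom {G G' : A} (g : G ⟶ G') :
    InjectiveResolution.Hom (injectiveResolution G) (injectiveResolution G') g where
  hom := InjectiveResolution.desc g _ _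
  ι_f_zero_comp_hom_f_zero :=
    HomologicalComplex.congr_hom (InjectiveResolution.desc_commutes g _ _) 0

/-- `Ext^n(Z U, G)` is the `n`-th right derived functor of `G ↦ (U ↦ Hom(Z U, G))`, as functors
from `A` to presheaves of abelian groups. -/
noncomputable def extPreIso : (homPre Z).rightDerived n ≅ extPre Z n :=
  NatIso.ofComponents (fun G => (injectiveResolution G).isoRightDerivedObj (homPre Z) n ≪≫
      homologyToExtIso Z (injectiveResolution G) n) (fun {G G'} g => by
    have h := InjectiveResolution.isoRightDerivedObj_hom_naturality g (injectiveResolution G)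
      (injectiveResolution G') (resHom g).hom (by
        rw [(resHom g).ι_f_zero_comp_hom_f_zero, CochainComplex.single₀_map_f_zero]
        rfl) (homPre Z) n
    have h' := homologyToExt_naturality Z (injectiveResolution G) n (resHom g)
    simp only [Iso.trans_hom, Category.assoc]
    rw [reassoc_of% h]
    exact congr_arg _ h')

end ext

end Groth.Agent.CohtopB.ExtRD
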