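import Groth.Agent.CohtopB.ExtColim

/-!
# Resolutions and vanishing of Ext into filtered colimits of injectives

* `exists_epi_comp_eq_zero`: a class in `Ext^{p+1}(X, Y)` dies on some epimorphism `M → X`.
* `Resn 𝒯 X`: resolutions of `X` with terms in `𝒯`.
* `ext_colimit_injective_eq_zero`, `extCommutes_of_resn`: if every object `X` of a class `𝓑` has, for every
  epimorphism `M → X`, a resolution dominated by `M` with terms `P` such that `Hom(P, -)` commutes with
  `I`-shaped colimits and higher Ext groups out of `P` vanish whenever those out of `𝓑` do, then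
  `Ext^p(X, -)` commutes with `I`-shaped (filtered) colimits for all `p` and all `X` in `𝓑`.
* `ext_eq_zero_of_resn`: acyclicity from exactness of `Hom(resolution, Y)` (Cartan's criterion).
-/

set_option autoImplicit false

universe w v u v' u' w'

open CategoryTheory Limits Abelian ZeroObject

namespace Groth.Agent.CohtopB.ExtColim

variable {A : Type u} [Category.{v} A] [Abelian A]

/-- Resolutions with terms in a class of objects. -/
structure Resn (𝒯 : A → Prop) (X : A) where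
  P : ℕ → A
  d : ∀ n, P (n + 1) ⟶ P n
  ε : P 0 ⟶ X
  mem : ∀ n, 𝒯 (P n)
  epi_ε : Epi ε
  zero₀ : d 0 ≫ ε = 0
  zero : ∀ n, d (n + 1) ≫ d n = 0
  exact₀ : (ShortComplex.mk (d 0) ε zero₀).Exact
  exact : ∀ n, (ShortComplex.mk (d (n + 1)) (d n) (zero n)).Exact

namespace Resn

variable {𝒯 : A → Prop} {X : A} (R : Resn 𝒯 X)

/-- The syzygy `ker (P 0 ⟶ X)`. -/
noncomputable abbrev syz : A := kernel R.ε

/-- The induced resolution of the syzygy. -/
noncomputable def shift : Resn 𝒯 R.syz where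
  P n := R.P (n + 1)
  d n := R.d (n + 1)
  ε := kernel.lift R.ε (R.d 0) R.zero₀
  mem n := R.mem (n + 1)
  epi_ε := R.exact₀.epi_kernelLift
  zero₀ := by
    rw [← cancel_mono (kernel.ι R.ε)]
    simp [R.zero 0]
  zero n := R.zero (n + 1)
  exact₀ := by
    let φ : ShortComplex.mk (R.d (0 + 1)) (kernel.lift R.ε (R.d 0) R.zero₀) (by
        rw [← cancel_mono (kernel.ι R.ε)]
        simp [R.zero 0]) ⟶ ShortComplex.mk (R.d (0 + 1)) (R.d 0) (R.zero 0) :=
      { τ₁ := 𝟙 _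
        τ₂ := 𝟙 _
        τ₃ := kernel.ι R.ε
        comm₁₂ := by simp
        comm₂₃ := by simp }
    have : Mono φ.τ₃ := inferInstanceAs (Mono (kernel.ι R.ε))
    exact (ShortComplex.exact_iff_of_epi_of_isIso_of_mono φ).2 (R.exact 0)
  exact n := R.exact (n + 1)

/-- The short exact sequence `0 ⟶ syz ⟶ P 0 ⟶ X ⟶ 0`. -/
theorem shortExact : (ShortComplex.mk (kernel.ι R.ε) R.ε (kernel.condition _)).ShortExact :=
  { exact := ShortComplex.exact_of_f_is_kernel _ (kernelIsKernel R.ε)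
    mono_f := inferInstanceAs (Mono (kernel.ι R.ε))
    epi_g := R.epi_ε }

end Resn

variable [HasExt.{w} A]

/-- A positive degree class dies on some epimorphism. -/
theorem exists_epi_comp_eq_zero [EnoughInjectives A] {X : A} (p : ℕ) :
    ∀ {Y : A} (x : Ext X Y (p + 1)), ∃ (M : A) (π : M ⟶ X), Epi π ∧ (Ext.mk₀ π).comp x (zero_add _) = 0 := by
  induction p with
  | zero =>
    intro Y x
    let S : ShortComplex A := ShortComplex.mk (Injective.ι Y) (cokernel.π _) (cokernel.condition _)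
    have hS : S.ShortExact :=
      { exact := ShortComplex.exact_of_g_is_cokernel _ (cokernelIsCokernel S.f)
        mono_f := inferInstanceAs (Mono (Injective.ι Y))
        epi_g := inferInstanceAs (Epi (cokernel.π _)) }
    obtain ⟨z, rfl⟩ := Ext.covariant_sequence_exact₁ X hS x (Ext.eq_zero_of_injective _) rfl
    obtain ⟨φ, rfl⟩ := (Ext.mk₀_bijective _ _).2 z
    have : Epi S.g := hS.epi_g
    refine ⟨pullback φ S.g, pullback.fst φ S.g, inferInstance, ?_⟩
    rw [← Ext.comp_assoc_of_second_deg_zero, Ext.mk₀_comp_mk₀, pullback.condition, ← Ext.mk₀_comp_mk₀,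
      Ext.comp_assoc_of_second_deg_zero, hS.comp_extClass, Ext.comp_zero]
  | succ p hp =>
    intro Y x
    let S : ShortComplex A := ShortComplex.mk (Injective.ι Y) (cokernel.π _) (cokernel.condition _)
    have hS : S.ShortExact :=
      { exact := ShortComplex.exact_of_g_is_cokernel _ (cokernelIsCokernel S.f)
        mono_f := inferInstanceAs (Mono (Injective.ι Y))
        epi_g := inferInstanceAs (Epi (cokernel.π _)) }
    obtain ⟨z, rfl⟩ := Ext.covariant_sequence_exact₁ X hS x (Ext.eq_zero_of_injective _) rfl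
    obtain ⟨M, π, hπ, hz⟩ := hp z
    refine ⟨M, π, hπ, ?_⟩
    rw [← Ext.comp_assoc (Ext.mk₀ π) z hS.extClass (zero_add _) rfl (by omega), hz, Ext.zero_comp]

/-- If the class of morphisms out of `P 1 ⟶ P 0` into `Y` satisfies the extension property for every resolution in
`𝒯`, and positive Ext groups from `𝒯` to `Y` vanish below degree `q + 1`, then a class of degree `q + 1` on `X`
which dies on `P 0` vanishes. -/
theorem ext_eq_zero_of_comp_ε {𝒯 : A → Prop} {Y : A}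
    (hext : ∀ (X : A) (R : Resn 𝒯 X) (u : R.P 1 ⟶ Y), R.d 1 ≫ u = 0 → ∃ v : R.P 0 ⟶ Y, R.d 0 ≫ v = u)
    (q : ℕ) : ∀ (_ : ∀ q' < q, ∀ (P : A), 𝒯 P → ∀ x : Ext P Y (q' + 1), x = 0)
      (X : A) (R : Resn 𝒯 X) (x : Ext X Y (q + 1)), (Ext.mk₀ R.ε).comp x (zero_add _) = 0 → x = 0 := by
  induction q with
  | zero =>
    intro _ X R x hx
    obtain ⟨y, hy⟩ := Ext.contravariant_sequence_exact₃ R.shortExact Y x hx (n₀ := 0) (by omega)
    obtain ⟨u, rfl⟩ := (Ext.mk₀_bijective _ _).2 y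
    obtain ⟨v, hv⟩ := hext X R (kernel.lift R.ε (R.d 0) R.zero₀ ≫ u) (by
      have h0 : R.d 1 ≫ kernel.lift R.ε (R.d 0) R.zero₀ = 0 := by
        rw [← cancel_mono (kernel.ι R.ε)]
        simp [R.zero 0]
      rw [← Category.assoc, h0, zero_comp])
    have hu : u = kernel.ι R.ε ≫ v := by
      have : Epi (kernel.lift R.ε (R.d 0) R.zero₀) := R.exact₀.epi_kernelLift
      rw [← cancel_epi (kernel.lift R.ε (R.d 0) R.zero₀), ← hv, kernel.lift_ι_assoc]
    rw [← hy, hu, ← Ext.mk₀_comp_mk₀]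
    exact R.shortExact.extClass_comp_assoc (Ext.mk₀ v)
  | succ q hq =>
    intro h X R x hx
    obtain ⟨y, hy⟩ := Ext.contravariant_sequence_exact₃ R.shortExact Y x hx (n₀ := q + 1) (by omega)
    have : y = 0 := by
      refine hq (fun q' hq' => h q' (by omega)) _ R.shift y ?_
      exact h q (by omega) _ (R.mem 1) _
    rw [← hy, this, Ext.comp_zero]

/-- Acyclicity criterion: see the module docstring. -/
theorem ext_eq_zero_of_dominated [EnoughInjectives A] {𝓑 𝒯 : A → Prop} {Y : A}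
    (hext : ∀ (X : A) (R : Resn 𝒯 X) (u : R.P 1 ⟶ Y), R.d 1 ≫ u = 0 → ∃ v : R.P 0 ⟶ Y, R.d 0 ≫ v = u)
    (hT : ∀ P, 𝒯 P → ∀ q, (∀ X, 𝓑 X → ∀ x : Ext X Y (q + 1), x = 0) → ∀ x : Ext P Y (q + 1), x = 0)
    (hres : ∀ X, 𝓑 X → ∀ (M : A) (π : M ⟶ X), Epi π → ∃ (R : Resn 𝒯 X) (l : R.P 0 ⟶ M), l ≫ π = R.ε)
    (q : ℕ) : ∀ X, 𝓑 X → ∀ x : Ext X Y (q + 1), x = 0 := by
  induction q using Nat.strong_induction_on with
  | _ q ih =>
    intro X hX x
    obtain ⟨M, π, hπ, hx⟩ := exists_epi_comp_eq_zero q x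
    obtain ⟨R, l, hl⟩ := hres X hX M π hπ
    refine ext_eq_zero_of_comp_ε hext q (fun q' hq' P hP => hT P hP q' (ih q' hq')) X R x ?_
    rw [← hl, ← Ext.mk₀_comp_mk₀, Ext.comp_assoc_of_second_deg_zero, hx, Ext.comp_zero]

section colim

variable {I : Type u'} [Category.{v'} I] [IsFiltered I] [HasColimitsOfShape I A]

/-- The extension property for a filtered colimit of injectives. -/
theorem extend_to_colimit_injective {P₀ P₁ P₂ : A} (d₀ : P₁ ⟶ P₀) (d₁ : P₂ ⟶ P₁) (w : d₁ ≫ d₀ = 0)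
    (hex : (ShortComplex.mk d₁ d₀ w).Exact) (h₁ : ExtCommutes I P₁ 0) (h₂ : ExtCommutes I P₂ 0)
    (J : I ⥤ A) (hJ : ∀ i, Injective (J.obj i)) (c : Cocone J) (hc : IsColimit c)
    (u : P₁ ⟶ c.pt) (hu : d₁ ≫ u = 0) : ∃ v : P₀ ⟶ c.pt, d₀ ≫ v = u := by
  obtain ⟨i, y, hy⟩ := ((elemColim_ext_iff c P₁ 0).1 (h₁ J c hc)).1 (Ext.mk₀ u)
  obtain ⟨ui, rfl⟩ := (Ext.mk₀_bijective _ _).2 y
  rw [Ext.mk₀_comp_mk₀] at hy
  have hy' := (Ext.mk₀_bijective _ _).1 hy
  obtain ⟨j, f, hf⟩ := ((elemColim_ext_iff c P₂ 0).1 (h₂ J c hc)).2 i (Ext.mk₀ (d₁ ≫ ui)) (by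
    rw [Ext.mk₀_comp_mk₀, Category.assoc, hy', hu, Ext.mk₀_zero])
  rw [Ext.mk₀_comp_mk₀, Ext.mk₀_eq_zero_iff] at hf
  have := hJ j
  refine ⟨hex.descToInjective (ui ≫ J.map f) (by simpa using hf) ≫ c.ι.app j, ?_⟩
  have e := hex.comp_descToInjective (ui ≫ J.map f) (by simpa using hf)
  have e' : d₀ ≫ hex.descToInjective (ui ≫ J.map f) (by simpa using hf) = ui ≫ J.map f := e
  rw [← Category.assoc, e', Category.assoc, c.w, hy']

/-- Main criterion for the commutation of `Ext^p(X, -)` with filtered colimits. -/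
theorem extCommutes_of_resn [IsGrothendieckAbelian.{w'} A] [HasExactColimitsOfShape I A] {𝓑 𝒯 : A → Prop}
    (hP0 : ∀ X, 𝓑 X → ExtCommutes I X 0)
    (hT0 : ∀ P, 𝒯 P → ExtCommutes I P 0)
    (hT : ∀ P, 𝒯 P → ∀ (Y : A) (q : ℕ), (∀ X, 𝓑 X → ∀ x : Ext X Y (q + 1), x = 0) →
      ∀ x : Ext P Y (q + 1), x = 0)
    (hres : ∀ X, 𝓑 X → ∀ (M : A) (π : M ⟶ X), Epi π → ∃ (R : Resn 𝒯 X) (l : R.P 0 ⟶ M), l ≫ π = R.ε)
    (X : A) (hX : 𝓑 X) (p : ℕ) : ExtCommutes I X p := by
  refine extCommutes_of_injectives X (hP0 X hX) (fun J hJ p x => ?_) p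
  refine ext_eq_zero_of_dominated (𝓑 := 𝓑) (𝒯 := 𝒯) (fun X R u hu => ?_) (fun P hP q => hT P hP _ q) hres p X hX x
  exact extend_to_colimit_injective (R.d 0) (R.d 1) (R.zero 0) (R.exact 0) (hT0 _ (R.mem 1)) (hT0 _ (R.mem 2))
    J hJ _ (colimit.isColimit J) u hu

end colim

end Groth.Agent.CohtopB.ExtColim
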