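import Mathlib.AlgebraicTopology.AlternatingFaceMapComplex
import Mathlib.Algebra.Homology.Single
import Mathlib.Algebra.Homology.Homotopy
import Mathlib.CategoryTheory.Sites.SheafCohomology.Cech

/-!
# Contraction of Cech-type complexes from an extra degeneracy

`SemiExtra E T` : extra degeneracy data (only the identities involving face maps) for a simplicial
object `E` of a category `D` augmented to `T : D`.  For a functor `G : Dᵒᵖ ⥤ C` to a preadditive
category, `SemiExtra.homotopyEquiv` is the homotopy equivalence between `G(T)` in degree `0` and the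
alternating coface map complex of `G(E)`.

`thinExtra` : for a family `U` in a thin category with finite products and an object `T` above all the
`U i` and below one of them, the Cech object of the family has such an extra degeneracy over `T`.
-/

set_option autoImplicit false

universe w v v' u u'

open CategoryTheory CategoryTheory.Limits Opposite Simplicial

namespace Groth.Agent.CohtopB.ExtraCodeg

/-- Extra degeneracy data for a simplicial object `E` with an augmentation to `T`. -/
structure SemiExtra {D : Type u} [Category.{v} D] (E : SimplicialObject D) (T : D) where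
  /-- the augmentation -/
  ε : E _⦋0⦌ ⟶ T
  /-- the section of the augmentation -/
  s' : T ⟶ E _⦋0⦌
  /-- the extra degeneracies -/
  s : ∀ n : ℕ, E _⦋n⦌ ⟶ E _⦋n + 1⦌
  δ_ε : E.δ (0 : Fin 2) ≫ ε = E.δ (1 : Fin 2) ≫ ε
  s'_ε : s' ≫ ε = 𝟙 T
  s₀_δ₁ : s 0 ≫ E.δ (1 : Fin 2) = ε ≫ s'
  s_δ₀ : ∀ n : ℕ, s n ≫ E.δ (0 : Fin (n + 2)) = 𝟙 _
  s_δ : ∀ (n : ℕ) (i : Fin (n + 2)), s (n + 1) ≫ E.δ i.succ = E.δ i ≫ s n

namespace SemiExtra

variable {D : Type u} [Category.{v} D] {E : SimplicialObject D} {T : D} (e : SemiExtra E T)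
  {C : Type u'} [Category.{v'} C] [Preadditive C] (G : Dᵒᵖ ⥤ C)

/-- The cosimplicial object `G(E)`. -/
abbrev cosimp (E : SimplicialObject D) : CosimplicialObject C := E.rightOp ⋙ G

/-- The complex attached to `G(E)`. -/
noncomputable abbrev cx (E : SimplicialObject D) : CochainComplex C ℕ :=
  (AlgebraicTopology.alternatingCofaceMapComplex C).obj (E.rightOp ⋙ G)

lemma cx_d (n : ℕ) : (cx G E).d n (n + 1) =
    (∑ i : Fin (n + 2), (-1 : ℤ) ^ (i : ℕ) • G.map (E.δ i).op :
      G.obj (op (E _⦋n⦌)) ⟶ G.obj (op (E _⦋n + 1⦌))) := by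
  change CochainComplex.of.d _ (AlgebraicTopology.AlternatingCofaceMapComplex.objD
    (E.rightOp ⋙ G)) n (n + 1) = _
  rw [CochainComplex.of_d]
  rfl

/-- The map from the augmentation. -/
noncomputable def hom [HasZeroObject C] :
    (CochainComplex.single₀ C).obj (G.obj (op T)) ⟶ cx G E :=
  (CochainComplex.fromSingle₀Equiv _ _).symm ⟨G.map e.ε.op, by
    rw [cx_d]
    change G.map e.ε.op ≫ (∑ i : Fin 2, (-1 : ℤ) ^ (i : ℕ) • G.map (E.δ i).op :
      G.obj (op (E _⦋0⦌)) ⟶ G.obj (op (E _⦋1⦌))) = 0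
    rw [Fin.sum_univ_two]
    simp only [Fin.val_zero, pow_zero, one_smul, Fin.val_one, pow_one, Preadditive.comp_add,
      neg_smul, Preadditive.comp_neg, ← Functor.map_comp, ← op_comp]
    rw [e.δ_ε, add_neg_cancel]⟩

lemma hom_f_zero [HasZeroObject C] : (e.hom G).f 0 = G.map e.ε.op :=
  CochainComplex.fromSingle₀Equiv_symm_apply_f_zero _ _

/-- The retraction given by `s'`. -/
noncomputable def inv [HasZeroObject C] :
    cx G E ⟶ (CochainComplex.single₀ C).obj (G.obj (op T)) :=
  (CochainComplex.toSingle₀Equiv _ _).symm (G.map e.s'.op)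

lemma inv_f_zero [HasZeroObject C] : (e.inv G).f 0 = G.map e.s'.op :=
  CochainComplex.toSingle₀Equiv_symm_apply_f_zero _

lemma inv_f_succ [HasZeroObject C] (n : ℕ) : (e.inv G).f (n + 1) = 0 :=
  CochainComplex.toSingle₀Equiv_symm_apply_f_succ _ _

lemma hom_inv [HasZeroObject C] : e.hom G ≫ e.inv G = 𝟙 _ := by
  refine (CochainComplex.toSingle₀Equiv _ _).injective ?_
  change (e.hom G).f 0 ≫ (e.inv G).f 0 = 𝟙 _
  rw [hom_f_zero, inv_f_zero]
  change G.map e.ε.op ≫ G.map e.s'.op = 𝟙 _
  rw [← Functor.map_comp, ← op_comp, e.s'_ε, op_id, CategoryTheory.Functor.map_id]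

/-- The components of the contracting homotopy. -/
noncomputable def homotopyHom : ∀ i j : ℕ, (cx G E).X i ⟶ (cx G E).X j
  | 0 => 0
  | i + 1 => Pi.single i (-(G.map (e.s i).op : G.obj (op (E _⦋i + 1⦌)) ⟶ G.obj (op (E _⦋i⦌))))

lemma homotopyHom_succ (i : ℕ) : e.homotopyHom G (i + 1) i =
    -(G.map (e.s i).op : G.obj (op (E _⦋i + 1⦌)) ⟶ G.obj (op (E _⦋i⦌))) :=
  Pi.single_eq_same i _

/-- The contraction. -/
noncomputable def homotopyEquiv [HasZeroObject C] :
    HomotopyEquiv ((CochainComplex.single₀ C).obj (G.obj (op T))) (cx G E) where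
  hom := e.hom G
  inv := e.inv G
  homotopyHomInvId := Homotopy.ofEq (e.hom_inv G)
  homotopyInvHomId :=
    { hom := e.homotopyHom G
      zero := fun i j hij => by
        cases i with
        | zero => rfl
        | succ i => exact Pi.single_eq_of_ne (by rintro rfl; exact hij rfl) _
      comm := fun i => by
        cases i with
        | zero =>
          rw [Homotopy.prevD_zero_cochainComplex, Homotopy.dNext_cochainComplex, add_zero,
            homotopyHom_succ, cx_d]
          change (e.inv G).f 0 ≫ (e.hom G).f 0 = _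
          rw [hom_f_zero, inv_f_zero]
          change G.map e.s'.op ≫ G.map e.ε.op =
            (∑ i : Fin 2, (-1 : ℤ) ^ (i : ℕ) • G.map (E.δ i).op :
              G.obj (op (E _⦋0⦌)) ⟶ G.obj (op (E _⦋1⦌))) ≫ (-G.map (e.s 0).op) + 𝟙 (G.obj (op (E _⦋0⦌)))
          rw [Fin.sum_univ_two]
          simp only [Fin.val_zero, pow_zero, one_smul, Fin.val_one, pow_one, Preadditive.add_comp,
            neg_smul, Preadditive.comp_neg, Preadditive.neg_comp, ← Functor.map_comp, ← op_comp]
          rw [e.s₀_δ₁, e.s_δ₀, op_id, CategoryTheory.Functor.map_id]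
          simp
        | succ i =>
          rw [Homotopy.prevD_succ_cochainComplex, Homotopy.dNext_cochainComplex,
            homotopyHom_succ, homotopyHom_succ, cx_d, cx_d]
          change (e.inv G).f (i + 1) ≫ (e.hom G).f (i + 1) = _
          rw [inv_f_succ, zero_comp]
          change 0 = (∑ j : Fin (i + 3), (-1 : ℤ) ^ (j : ℕ) • G.map (E.δ j).op :
              G.obj (op (E _⦋i + 1⦌)) ⟶ G.obj (op (E _⦋i + 2⦌))) ≫ (-G.map (e.s (i + 1)).op) +
            (-G.map (e.s i).op) ≫ (∑ j : Fin (i + 2), (-1 : ℤ) ^ (j : ℕ) • G.map (E.δ j).op :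
              G.obj (op (E _⦋i⦌)) ⟶ G.obj (op (E _⦋i + 1⦌))) +
              𝟙 (G.obj (op (E _⦋i + 1⦌)))
          rw [Fin.sum_univ_succ (n := i + 2), Preadditive.add_comp, Preadditive.sum_comp,
            Preadditive.comp_sum]
          simp only [Fin.val_zero, pow_zero, one_smul, Fin.val_succ, pow_succ, mul_neg, mul_one,
            neg_smul, Preadditive.comp_neg, Preadditive.neg_comp, neg_neg, Preadditive.zsmul_comp,
            Preadditive.comp_zsmul, ← Functor.map_comp, ← op_comp, e.s_δ, e.s_δ₀, op_id,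
            CategoryTheory.Functor.map_id]
          simp }

end SemiExtra

section Thin

variable {C : Type u} [Category.{v} C] [Quiver.IsThin C] [HasFiniteProducts C]

omit [HasFiniteProducts C] in
lemma thin_hom_ext {X Y : FormalCoproduct.{w} C} {f g : X ⟶ Y} (h : f.f = g.f) : f = g := by
  obtain ⟨f, φ⟩ := f
  obtain ⟨g, ψ⟩ := g
  obtain rfl : f = g := h
  congr 1
  funext i
  exact Subsingleton.elim _ _

/-- Extra degeneracy for the Cech object of a family in a thin category, one member of which is a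
maximum of the family. -/
noncomputable def thinExtra (U : FormalCoproduct.{w} C) (T : C) (p : ∀ i, U.obj i ⟶ T) (i₀ : U.I)
    (d : T ⟶ U.obj i₀) : SemiExtra U.cech ((FormalCoproduct.incl C).obj T) where
  ε := ⟨fun _ => PUnit.unit, fun a => Pi.π (U.obj ∘ a) (0 : Fin 1) ≫ p _⟩
  s' := ⟨fun _ _ => i₀, fun _ => Pi.lift fun _ => d⟩
  s n := ⟨fun a => Fin.cons i₀ a, fun a => Pi.lift fun j => by
    refine Fin.cases ?_ (fun j => ?_) j
    · exact Pi.π (U.obj ∘ a) (0 : Fin (n + 1)) ≫ p _ ≫ d
    · exact Pi.π (U.obj ∘ a) j⟩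
  δ_ε := thin_hom_ext rfl
  s'_ε := thin_hom_ext rfl
  s₀_δ₁ := thin_hom_ext (by
    funext a j
    change (Fin.cons i₀ a : Fin 2 → U.I) (Fin.succAbove 1 j) = i₀
    obtain rfl : j = 0 := Subsingleton.elim (α := Fin 1) _ _
    rfl)
  s_δ₀ n := thin_hom_ext (by
    funext a j
    change (Fin.cons i₀ a : Fin (n + 2) → U.I) (Fin.succAbove 0 j) = a j
    exact Fin.cons_succ (α := fun _ => U.I) i₀ a j)
  s_δ n i := thin_hom_ext (by
    funext a j
    change (Fin.cons i₀ a : Fin (n + 3) → U.I) (Fin.succAbove i.succ j) =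
      (Fin.cons i₀ (a ∘ Fin.succAbove i) : Fin (n + 2) → U.I) j
    induction j using Fin.cases with
    | zero => rfl
    | succ j =>
      rw [Fin.cons_succ, Fin.succ_succAbove_succ, Fin.cons_succ]
      rfl)

end Thin

end Groth.Agent.CohtopB.ExtraCodeg
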