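import Groth.Agent.CohtopB.CoprodTriangle

set_option autoImplicit false

universe w v u

open CategoryTheory CategoryTheory.Limits CategoryTheory.Pretriangulated

namespace Groth.Agent.CohtopB.FinFactor

open Groth.Agent.CohtopB.CoprodTriangle

variable {D : Type u} [Category.{v} D] [Preadditive D]

/-- Every morphism from `P` to the coproduct of the family `X` is a finite sum of morphisms
to the summands. -/
def IsFF (P : D) {ι : Type w} (X : ι → D) [HasCoproduct X] : Prop :=
  ∀ f : P ⟶ ∐ X, ∃ (s : Finset ι) (x : ∀ i, P ⟶ X i), f = ∑ i ∈ s, x i ≫ Limits.Sigma.ι X i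

/-- The projections from a coproduct to its summands in a preadditive category. -/
theorem exists_proj {ι : Type w} (X : ι → D) [HasCoproduct X] (j : ι) :
    ∃ p : ∐ X ⟶ X j, Limits.Sigma.ι X j ≫ p = 𝟙 _ ∧
      ∀ i, i ≠ j → Limits.Sigma.ι X i ≫ p = 0 := by
  classical
  refine ⟨Limits.Sigma.desc fun i => if h : i = j then eqToHom (by rw [h]) else 0, ?_, ?_⟩
  · simp
  · intro i hi
    simp [hi]

/-- Finite sums of maps to summands are determined by the components. -/
theorem sum_injective {ι : Type w} {X : ι → D} [HasCoproduct X] {P : D} (s : Finset ι)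
    (x : ∀ i, P ⟶ X i) (h : ∑ i ∈ s, x i ≫ Limits.Sigma.ι X i = 0) : ∀ i ∈ s, x i = 0 := by
  intro j hj
  obtain ⟨p, hp1, hp2⟩ := exists_proj X j
  have : (∑ i ∈ s, x i ≫ Limits.Sigma.ι X i) ≫ p = x j := by
    rw [Preadditive.sum_comp, Finset.sum_eq_single_of_mem j hj, Category.assoc, hp1,
      Category.comp_id]
    intro i _ hi
    rw [Category.assoc, hp2 i hi, comp_zero]
  rw [← this, h, zero_comp]

/-- Description of the canonical map `⊕ Hom(P, X i) → Hom(P, ∐ X)`. -/
theorem homSumToHomCoprod_apply (P : D) {ι : Type v} (X : ι → D) [HasCoproduct X]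
    [hι : DecidableEq ι] (x : DirectSum ι fun i => P ⟶ X i) :
    CohDer.homSumToHomCoprod P X x =
      DFinsupp.sumAddHom (fun i => Preadditive.rightComp P (Limits.Sigma.ι X i)) x := by
  obtain rfl : hι = fun a b => Classical.propDecidable (a = b) := Subsingleton.elim _ _
  rfl

/-- The canonical map `⊕ Hom(P, X i) → Hom(P, ∐ X)` is always injective. -/
theorem homSumToHomCoprod_injective (P : D) {ι : Type v} (X : ι → D) [HasCoproduct X] :
    Function.Injective (CohDer.homSumToHomCoprod P X) := by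
  classical
  rw [injective_iff_map_eq_zero]
  intro x hx
  rw [homSumToHomCoprod_apply, DFinsupp.sumAddHom_apply] at hx
  have h := sum_injective (X := X) (DFinsupp.support x) (fun i => x i) hx
  ext i
  by_cases hi : i ∈ DFinsupp.support x
  · exact h i hi
  · simpa using hi

/-- The canonical map `⊕ Hom(P, X i) → Hom(P, ∐ X)` is bijective iff every morphism to the
coproduct factors through a finite sum of summands. -/
theorem homSumToHomCoprod_bijective_iff (P : D) {ι : Type v} (X : ι → D) [HasCoproduct X] :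
    Function.Bijective (CohDer.homSumToHomCoprod P X) ↔ IsFF P X := by
  classical
  constructor
  · intro h f
    obtain ⟨x, rfl⟩ := h.2 f
    refine ⟨DFinsupp.support x, fun i => x i, ?_⟩
    rw [homSumToHomCoprod_apply, DFinsupp.sumAddHom_apply]
    rfl
  · intro h
    refine ⟨homSumToHomCoprod_injective P X, fun f => ?_⟩
    obtain ⟨s, x, rfl⟩ := h f
    refine ⟨∑ i ∈ s, DirectSum.of (fun i => P ⟶ X i) i (x i), ?_⟩
    rw [map_sum]
    refine Finset.sum_congr rfl fun i _ => ?_
    rw [homSumToHomCoprod_apply]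
    erw [DFinsupp.sumAddHom_single]
    rfl

section Basic

variable {P : D} {ι : Type w} {X Y : ι → D} [HasCoproduct X] [HasCoproduct Y]

theorem IsFF.of_iso_family (h : IsFF P X) (e : ∀ i, X i ≅ Y i) : IsFF P Y := by
  intro f
  obtain ⟨s, x, hx⟩ := h (f ≫ Limits.Sigma.map fun i => (e i).inv)
  refine ⟨s, fun i => x i ≫ (e i).hom, ?_⟩
  have : f = (f ≫ Limits.Sigma.map fun i => (e i).inv) ≫ Limits.Sigma.map fun i => (e i).hom := by
    rw [Category.assoc]
    have : (Limits.Sigma.map fun i => (e i).inv) ≫ Limits.Sigma.map (fun i => (e i).hom) =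
        𝟙 _ := by
      refine Limits.Sigma.hom_ext _ _ fun i => ?_
      simp
    rw [this, Category.comp_id]
  rw [this, hx, Preadditive.sum_comp]
  refine Finset.sum_congr rfl fun i _ => ?_
  simp

theorem IsFF.of_iso {P' : D} (h : IsFF P X) (e : P ≅ P') : IsFF P' X := by
  intro f
  obtain ⟨s, x, hx⟩ := h (e.hom ≫ f)
  refine ⟨s, fun i => e.inv ≫ x i, ?_⟩
  rw [← cancel_epi e.hom, hx, Preadditive.comp_sum]
  refine Finset.sum_congr rfl fun i _ => ?_
  simp

theorem IsFF.of_subsingleton (h : ∀ f : P ⟶ ∐ X, f = 0) : IsFF P X := by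
  intro f
  exact ⟨∅, fun _ => 0, by simp [h f]⟩

end Basic

section Triangle

variable [HasZeroObject D] [HasShift D ℤ] [∀ n : ℤ, (shiftFunctor D n).Additive]
  [Pretriangulated D] {ι : Type w} (T : ι → Triangle D)
  [HasCoproduct (fun i => (T i).obj₁)] [HasCoproduct (fun i => (T i).obj₂)]
  [HasCoproduct (fun i => (T i).obj₃)]

/-- The property `IsFF P` is stable under extensions of families. -/
theorem IsFF.ext₂ {P : D} (hT : ∀ i, T i ∈ distTriang D)
    (h₁ : IsFF P (fun i => (T i).obj₁)) (h₃ : IsFF P (fun i => (T i).obj₃)) :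
    IsFF P (fun i => (T i).obj₂) := by
  classical
  intro f
  have hT' := coproductTriangle_distinguished T hT
  let m₁ := Limits.Sigma.map (fun i => (T i).mor₁)
  let m₂ := Limits.Sigma.map (fun i => (T i).mor₂)
  let m₃ : (∐ fun i => (T i).obj₃) ⟶ (∐ fun i => (T i).obj₁)⟦(1 : ℤ)⟧ :=
    Limits.Sigma.desc fun i =>
      (T i).mor₃ ≫ (Limits.Sigma.ι (fun i => (T i).obj₁) i)⟦(1 : ℤ)⟧'
  have h23 : m₂ ≫ m₃ = 0 := comp_distTriang_mor_zero₂₃ _ hT'
  obtain ⟨s, z, hz⟩ := h₃ (f ≫ m₂)
  have h0 : ∑ i ∈ s, (z i ≫ (T i).mor₃) ≫ (Limits.Sigma.ι (fun i => (T i).obj₁) i)⟦(1 : ℤ)⟧' =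
      0 := by
    have : (f ≫ m₂) ≫ m₃ = 0 := by rw [Category.assoc, h23, comp_zero]
    rw [hz, Preadditive.sum_comp] at this
    rw [← this]
    refine Finset.sum_congr rfl fun i _ => ?_
    simp [m₃]
  have h1 : ∀ i ∈ s, z i ≫ (T i).mor₃ = 0 := by
    intro j hj
    obtain ⟨p, hp1, hp2⟩ := exists_proj (fun i => (T i).obj₁) j
    have := congrArg (· ≫ p⟦(1 : ℤ)⟧') h0
    simp only [Preadditive.sum_comp, Category.assoc, ← Functor.map_comp, zero_comp] at this
    rw [Finset.sum_eq_single_of_mem j hj, hp1, CategoryTheory.Functor.map_id,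
      Category.comp_id] at this
    · exact this
    · intro i _ hi
      rw [hp2 i hi, Functor.map_zero, comp_zero, comp_zero]
  have h2 : ∀ i, ∃ y : P ⟶ (T i).obj₂, i ∈ s → z i = y ≫ (T i).mor₂ := by
    intro i
    by_cases hi : i ∈ s
    · obtain ⟨y, hy⟩ := (T i).coyoneda_exact₃ (hT i) (z i) (h1 i hi)
      exact ⟨y, fun _ => hy⟩
    · exact ⟨0, fun h => absurd h hi⟩
  choose y hy using h2
  obtain ⟨g, hg⟩ : ∃ g : P ⟶ ∐ fun i => (T i).obj₁,
      f - ∑ i ∈ s, y i ≫ Limits.Sigma.ι (fun i => (T i).obj₂) i = g ≫ m₁ := by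
    refine (coproductTriangle T).coyoneda_exact₂ hT' _ ?_
    change (f - ∑ i ∈ s, y i ≫ Limits.Sigma.ι (fun i => (T i).obj₂) i) ≫ m₂ = 0
    rw [Preadditive.sub_comp, hz, Preadditive.sum_comp, sub_eq_zero]
    refine Finset.sum_congr rfl fun i hi => ?_
    rw [hy i hi, Category.assoc, Category.assoc]
    simp [m₂]
  obtain ⟨t, x, hx⟩ := h₁ g
  refine ⟨s ∪ t, fun i => (if i ∈ s then y i else 0) + (if i ∈ t then x i ≫ (T i).mor₁ else 0), ?_⟩
  rw [sub_eq_iff_eq_add] at hg
  rw [hg, hx, Preadditive.sum_comp]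
  simp only [Preadditive.add_comp, Finset.sum_add_distrib]
  rw [add_comm]
  congr 1
  · rw [← Finset.sum_subset (Finset.subset_union_left (s₁ := s) (s₂ := t))]
    · refine Finset.sum_congr rfl fun i hi => ?_
      rw [if_pos hi]
    · intro i _ hi
      rw [if_neg hi, zero_comp]
  · rw [← Finset.sum_subset (Finset.subset_union_right (s₁ := s) (s₂ := t))]
    · refine Finset.sum_congr rfl fun i hi => ?_
      rw [if_pos hi]
      simp [m₁]
    · intro i _ hi
      rw [if_neg hi, zero_comp]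

end Triangle

end Groth.Agent.CohtopB.FinFactor
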