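import Groth.Agent.CohtopB.SectColim
import Groth.Agent.CohtopB.FreeSheafHom

/-!
# `Hom(ℤ_U, -)` commutes with filtered colimits for `U` in a coherent class of a small site
-/

set_option autoImplicit false

universe w u

open CategoryTheory Limits Opposite Abelian

namespace Groth.Agent.CohtopB.FreeSheafColim

open Groth.Agent.CohtopB.ExtColim Groth.Agent.CohtopB.SheafColim Groth.Agent.CohtopB.SectColim
open Groth.Agent.CohtopB.FreeSheafHom

variable {C : Type u} [SmallCategory C] {J : GrothendieckTopology C}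

theorem extCommutes_zero_freeSheaf {I : Type u} [SmallCategory I] [IsFiltered I] {B : Set C}
    (hB : IsCohClass.{u, u, w} J B) {U : C} (hU : U ∈ B) : ExtCommutes I (CohCx.freeSheaf J U) 0 := by
  intro F c hc
  have hl := locElem_of_isColimit hc
  rw [elemColim_ext_iff]
  refine ⟨fun x => ?_, fun i y hy => ?_⟩
  · obtain ⟨φ, rfl⟩ := (Ext.mk₀_bijective _ _).2 x
    obtain ⟨i, y, hy⟩ := sect_surj hl hB hU ((φ.hom.app (op U)).hom (gen J U))
    refine ⟨i, Ext.mk₀ (homMk y), ?_⟩
    rw [Ext.mk₀_comp_mk₀]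
    congr 1
    refine hom_ext ?_
    rw [← hy]
    exact congrArg ((c.ι.app i).hom.app (op U)).hom (homMk_app_gen y)
  · obtain ⟨φ, rfl⟩ := (Ext.mk₀_bijective _ _).2 y
    rw [Ext.mk₀_comp_mk₀, Ext.mk₀_eq_zero_iff] at hy
    obtain ⟨j, f, hf⟩ := sect_inj hl hB hU i ((φ.hom.app (op U)).hom (gen J U)) (by
      have : ((φ ≫ c.ι.app i).hom.app (op U)).hom (gen J U) = 0 := by rw [hy]; rfl
      exact this)
    refine ⟨j, f, ?_⟩
    rw [Ext.mk₀_comp_mk₀, Ext.mk₀_eq_zero_iff]
    exact hom_ext hf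

end Groth.Agent.CohtopB.FreeSheafColim
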