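import Groth.Agent.CohtopA.Germ
import Groth.Agent.CohtopB.FreeSheafHom
import Groth.Agent.CohtopB.TopStalk

/-!
# Stalks of the free abelian sheaf `ℤ_U` on an open `U` of a topological space

`ZU U` is the free abelian sheaf on `U`, `e U` its canonical section over `U`.
* `exists_local`: local form of sections of `ZU U`.
* `stalk_eq_zsmul`, `zsmul_germ_eq_zero`, `stalk_eq_zero`: the stalk at `x ∈ U` is freely generated by the
  germ of `e U`, and the stalk at `x ∉ U` is zero.
* `shortExact_of_stalks`: short exact sequences can be checked on stalks.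
-/

set_option autoImplicit false
universe u

open CategoryTheory TopologicalSpace Opposite CategoryTheory.Limits
open Groth.Agent.CohtopA.Sec Groth.Agent.CohtopA.Germ

namespace Groth.Agent.CohtopB.FreeStalk

variable {X : TopCat.{u}}

/-- The free abelian sheaf on an open. -/
noncomputable abbrev ZU (U : Opens X) : CohTop.Ab X :=
  CohCx.freeSheaf (Opens.grothendieckTopology X) U

/-- The canonical section. -/
noncomputable abbrev e (U : Opens X) : Γs (ZU U) U :=
  FreeSheafHom.gen (Opens.grothendieckTopology X) U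

/-- The map of `ZU U` to `F` attached to a section. -/
noncomputable abbrev mk {F : CohTop.Ab X} {U : Opens X} (s : Γs F U) : ZU U ⟶ F :=
  FreeSheafHom.homMk s

/-- The inclusion. -/
noncomputable abbrev inc {V U : Opens X} (h : V ≤ U) : ZU V ⟶ ZU U :=
  CohCx.freeSheafMap (Opens.grothendieckTopology X) (homOfLE h)

theorem m_mk {F : CohTop.Ab X} {U : Opens X} (s : Γs F U) : m (mk s) U (e U) = s :=
  FreeSheafHom.homMk_app_gen s

theorem m_inc {V U : Opens X} (h : V ≤ U) : m (inc h) V (e V) = r (ZU U) h (e U) :=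
  FreeSheafHom.freeSheafMap_app_gen (homOfLE h)

theorem hom_ext {F : CohTop.Ab X} {U : Opens X} {f g : ZU U ⟶ F} (h : m f U (e U) = m g U (e U)) :
    f = g := FreeSheafHom.hom_ext h

/-- The sheafification map on sections. -/
noncomputable def η (U W : Opens X) : FreeAbelianGroup (W ⟶ U) →+ Γs (ZU U) W :=
  ((toSheafify (Opens.grothendieckTopology X)
    (yoneda.obj U ⋙ AddCommGrpCat.free.{u})).app (op W)).hom

theorem η_of {U W : Opens X} (h : W ≤ U) : η U W (FreeAbelianGroup.of (homOfLE h)) = r (ZU U) h (e U) := by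
  have h3 := ConcreteCategory.congr_hom ((toSheafify (Opens.grothendieckTopology X)
    (yoneda.obj U ⋙ AddCommGrpCat.free.{u})).naturality (homOfLE h).op) (FreeAbelianGroup.of (𝟙 U))
  refine Eq.trans ?_ h3
  change _ = η U W (FreeAbelianGroup.map _ (FreeAbelianGroup.of (𝟙 U)))
  rw [FreeAbelianGroup.map_of_apply]
  rfl

theorem η_res {U W W' : Opens X} (h : W' ≤ W) (t : FreeAbelianGroup (W ⟶ U)) :
    r (ZU U) h (η U W t) = η U W' (FreeAbelianGroup.map (fun f => homOfLE h ≫ f) t) := by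
  have h3 := ConcreteCategory.congr_hom ((toSheafify (Opens.grothendieckTopology X)
    (yoneda.obj U ⋙ AddCommGrpCat.free.{u})).naturality (homOfLE h).op) t
  exact h3.symm

theorem exists_zsmul {α : Type u} [Subsingleton α] (a : α) (t : FreeAbelianGroup α) :
    ∃ n : ℤ, t = n • FreeAbelianGroup.of a := by
  induction t using FreeAbelianGroup.induction_on with
  | zero => exact ⟨0, (zero_smul _ _).symm⟩
  | of x => exact ⟨1, by rw [one_smul, Subsingleton.elim x a]⟩
  | neg x _ => exact ⟨-1, by rw [neg_smul, one_smul, Subsingleton.elim x a]⟩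
  | add x y hx hy =>
    obtain ⟨n, rfl⟩ := hx
    obtain ⟨k, rfl⟩ := hy
    exact ⟨n + k, (add_smul _ _ _).symm⟩

theorem eq_zero_of_isEmpty {α : Type u} [IsEmpty α] (t : FreeAbelianGroup α) : t = 0 := by
  induction t using FreeAbelianGroup.induction_on with
  | zero => rfl
  | of x => exact isEmptyElim x
  | neg x _ => exact isEmptyElim x
  | add x y hx hy => rw [hx, hy, add_zero]

/-- Sections of `ZU U` are locally multiples of the generator. -/
theorem exists_local {U W : Opens X} (s : Γs (ZU U) W) (x : X) (hx : x ∈ W) :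
    ∃ (W' : Opens X) (h : W' ≤ W), x ∈ W' ∧
      ((∃ (h' : W' ≤ U) (n : ℤ), r _ h s = n • r _ h' (e U)) ∨ (¬ W' ≤ U ∧ r _ h s = 0)) := by
  have h1 := Presheaf.imageSieve_mem (Opens.grothendieckTopology X)
    (toSheafify (Opens.grothendieckTopology X) (yoneda.obj U ⋙ AddCommGrpCat.free.{u})) s
  obtain ⟨W', f, ⟨t, ht⟩, hxW'⟩ := h1 x hx
  have ht' : η U W' t = r (ZU U) f.le s := ht
  refine ⟨W', f.le, hxW', ?_⟩
  by_cases hU : W' ≤ U
  · refine Or.inl ⟨hU, ?_⟩
    have : Subsingleton (W' ⟶ U) := inferInstance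
    obtain ⟨n, rfl⟩ := exists_zsmul (homOfLE hU) t
    refine ⟨n, ?_⟩
    rw [← ht', map_zsmul, η_of]
  · refine Or.inr ⟨hU, ?_⟩
    have : IsEmpty (W' ⟶ U) := ⟨fun g => hU g.le⟩
    rw [← ht', eq_zero_of_isEmpty t, map_zero]

/-- The generator has no torsion over nonempty opens. -/
theorem eq_zero_of_zsmul {U W : Opens X} (h : W ≤ U) (x : X) (hx : x ∈ W) (n : ℤ)
    (hn : n • r _ h (e U) = 0) : n = 0 := by
  have h0 : η U W (n • FreeAbelianGroup.of (homOfLE h)) = η U W 0 := by
    rw [map_zsmul, η_of, hn, map_zero]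
  have h1 := Presheaf.equalizerSieve_mem (Opens.grothendieckTopology X)
    (toSheafify (Opens.grothendieckTopology X) (yoneda.obj U ⋙ AddCommGrpCat.free.{u})) 
    (X := op W) (n • FreeAbelianGroup.of (homOfLE h)) 0 h0
  obtain ⟨W', f, hf, hxW'⟩ := h1 x hx
  have h2 : FreeAbelianGroup.map (fun g : W ⟶ U => f ≫ g) (n • FreeAbelianGroup.of (homOfLE h)) =
    FreeAbelianGroup.map (fun g : W ⟶ U => f ≫ g) 0 := hf
  rw [map_zsmul, map_zero, FreeAbelianGroup.map_of_apply] at h2
  have h3 := congrArg (FreeAbelianGroup.lift (fun _ : W' ⟶ U => (1 : ℤ))) h2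
  rw [map_zsmul, map_zero, FreeAbelianGroup.lift_apply_of] at h3
  simpa using h3

theorem stalk_eq_zsmul {U : Opens X} (x : X) (hx : x ∈ U) (z : St (ZU U) x) :
    ∃ n : ℤ, z = n • gm (ZU U) x hx (e U) := by
  obtain ⟨W, hxW, s, rfl⟩ := gm_surj x z
  obtain ⟨W', h, hxW', h' | ⟨-, h'⟩⟩ := exists_local s x hxW
  · obtain ⟨hU, n, hn⟩ := h'
    refine ⟨n, ?_⟩
    rw [← gm_r h x hxW', hn, map_zsmul, gm_r]
  · refine ⟨0, ?_⟩
    rw [← gm_r h x hxW', h', map_zero, zero_smul]

theorem zsmul_germ_eq_zero {U : Opens X} (x : X) (hx : x ∈ U) (n : ℤ)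
    (hn : n • gm (ZU U) x hx (e U) = 0) : n = 0 := by
  have h1 : gm (ZU U) x hx (n • e U) = gm (ZU U) x hx 0 := by rw [map_zsmul, hn, map_zero]
  obtain ⟨W, hU, hV, hxW, h2⟩ := gm_eq x hx hx _ _ h1
  rw [map_zsmul, map_zero] at h2
  exact eq_zero_of_zsmul hU x hxW n h2

theorem stalk_eq_zero {U : Opens X} (x : X) (hx : x ∉ U) (z : St (ZU U) x) : z = 0 := by
  obtain ⟨W, hxW, s, rfl⟩ := gm_surj x z
  obtain ⟨W', h, hxW', h' | ⟨-, h'⟩⟩ := exists_local s x hxW
  · obtain ⟨hU, n, hn⟩ := h'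
    exact absurd (hU hxW') hx
  · rw [← gm_r h x hxW', h', map_zero]

theorem sm_surjective {F G : CohTop.Ab X} (φ : F ⟶ G) [Epi φ] (x : X) :
    Function.Surjective (sm φ x) := by
  have : Epi ((TopPull.stalkF x).map φ) := inferInstance
  exact (AddCommGrpCat.epi_iff_surjective _).1 this

theorem sm_injective {F G : CohTop.Ab X} (φ : F ⟶ G) [Mono φ] (x : X) :
    Function.Injective (sm φ x) := by
  have : Mono ((TopPull.stalkF x).map φ) := inferInstance
  exact (AddCommGrpCat.mono_iff_injective _).1 this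

theorem sm_comp {F G H : CohTop.Ab X} (φ : F ⟶ G) (ψ : G ⟶ H) (x : X) (z : St F x) :
    sm (φ ≫ ψ) x z = sm ψ x (sm φ x z) := by
  have : (TopPull.stalkF x).map (φ ≫ ψ) = (TopPull.stalkF x).map φ ≫ (TopPull.stalkF x).map ψ :=
    Functor.map_comp _ _ _
  exact ConcreteCategory.congr_hom this z

theorem mono_of_sm {F G : CohTop.Ab X} (φ : F ⟶ G) (h : ∀ x, Function.Injective (sm φ x)) : Mono φ :=
  TopStalk.mono_of_stalks φ fun x => (AddCommGrpCat.mono_iff_injective _).2 (h x)

theorem sm_exact {S : ShortComplex (CohTop.Ab X)} (hS : S.Exact) (x : X) (z : St S.X₂ x)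
    (hz : sm S.g x z = 0) : ∃ y : St S.X₁ x, sm S.f x y = z := by
  have h1 := (TopCat.Sheaf.exact_iff_stalkFunctor_map_exact (C := AddCommGrpCat.{u}) (X := X) S).1 hS x
  exact (ShortComplex.ab_exact_iff _).1 h1 z hz

/-- Short exact sequences can be checked on stalks. -/
theorem shortExact_of_stalks (S : ShortComplex (CohTop.Ab X)) [hf : Mono S.f] [hg : Epi S.g]
    (h : ∀ (x : X) (z : St S.X₂ x), sm S.g x z = 0 → ∃ y : St S.X₁ x, sm S.f x y = z) :
    S.ShortExact := by
  refine ShortComplex.ShortExact.mk' ?_ hf hg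
  refine (TopCat.Sheaf.exact_iff_stalkFunctor_map_exact (C := AddCommGrpCat.{u}) (X := X) S).2
    fun x => ?_
  exact (ShortComplex.ab_exact_iff _).2 (h x)

/-- A sheaf with a nonzero section is nonzero. -/
theorem exists_ne_zero {F : CohTop.Ab X} (hF : ¬ IsZero F) :
    ∃ (x : X) (z : St F x), z ≠ 0 := by
  by_contra hcon
  push Not at hcon
  apply hF
  refine TopStalk.isZero_of_stalks F fun x => ?_
  have : Subsingleton (St F x) := subsingleton_of_forall_eq 0 (hcon x)
  exact AddCommGrpCat.isZero_of_subsingleton ((TopPull.stalkF x).obj F)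

end Groth.Agent.CohtopB.FreeStalk
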