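import Mathlib.CategoryTheory.Abelian.GrothendieckCategory.Subobject
import Mathlib.Algebra.Homology.ShortComplex.ShortExact
import Mathlib.Order.Shrink
import Mathlib.Order.Zorn

/-!
# Classes of objects of a Grothendieck abelian category closed under extensions and filtered colimits

* `isColimit_iSup`: a directed supremum of subobjects is a colimit.
* `shortExact_pullback`: pull back of a short exact sequence.
* `of_exists_subobject`: if `P` is closed under extensions and filtered colimits, and, for every short exact
  sequence `0 → F' → F → F'' → 0` with `P F'` and `F'' ≠ 0`, there is a nonzero subobject `I` of `F''` with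
  `P I`, then `P F`.
-/

set_option autoImplicit false
universe w v u

open CategoryTheory CategoryTheory.Limits
open scoped ZeroObject

namespace Groth.Agent.CohtopB.GenClass

variable {A : Type u} [Category.{v} A] [Abelian A]

/-- Pull back of a short exact sequence along a morphism to the quotient. -/
theorem shortExact_pullback {S : ShortComplex A} (hS : S.ShortExact) {I : A} (i : I ⟶ S.X₃) :
    (ShortComplex.mk (pullback.lift S.f 0 (by rw [S.zero, zero_comp]) : S.X₁ ⟶ pullback S.g i)
      (pullback.snd S.g i) (pullback.lift_snd _ _ _)).ShortExact := by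
  have := hS.mono_f
  have := hS.epi_g
  have hm : Mono (pullback.lift S.f 0 (by rw [S.zero, zero_comp]) : S.X₁ ⟶ pullback S.g i) := by
    have : Mono ((pullback.lift S.f 0 (by rw [S.zero, zero_comp]) : S.X₁ ⟶ pullback S.g i) ≫
        pullback.fst S.g i) := by
      rw [pullback.lift_fst]
      infer_instance
    exact mono_of_mono _ (pullback.fst S.g i)
  refine ShortComplex.ShortExact.mk' ?_ hm inferInstance
  refine ShortComplex.exact_of_f_is_kernel _ (KernelFork.IsLimit.ofι' _ _ (fun {T} t ht => ?_))
  have h1 : (t ≫ pullback.fst S.g i) ≫ S.g = 0 := by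
    rw [Category.assoc, pullback.condition, ← Category.assoc]
    dsimp at ht
    rw [ht, zero_comp]
  refine ⟨hS.exact.lift _ h1, ?_⟩
  apply pullback.hom_ext
  · dsimp
    rw [Category.assoc, pullback.lift_fst, hS.exact.lift_f]
  · dsimp at ht ⊢
    rw [Category.assoc, pullback.lift_snd, comp_zero, ht]

variable [IsGrothendieckAbelian.{w} A]

/-- A directed supremum of subobjects is a colimit. -/
theorem isColimit_iSup {F : A} {ι : Type w} [Preorder ι] [IsDirectedOrder ι] [Nonempty ι]
    (s : ι →o Subobject F) :
    ∃ (D : ι ⥤ A) (c : Cocone D), (∀ i, Nonempty (D.obj i ≅ (s i : A))) ∧ Nonempty (IsColimit c) ∧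
      Nonempty (c.pt ≅ ((⨆ i, s i : Subobject F) : A)) := by
  let M : ι ⥤ MonoOver F := s.monotone.functor ⋙ Subobject.representative
  let c : Cocone (M ⋙ MonoOver.forget F) :=
    { pt := Over.mk (⨆ i, s i : Subobject F).arrow
      ι :=
        { app := fun i => Over.homMk (Subobject.ofLE _ _ (le_iSup s i)) (Subobject.ofLE_arrow _)
          naturality := fun i j f => by
            apply Over.OverMorphism.ext
            have : Mono (⨆ i, s i : Subobject F).arrow := inferInstance
            rw [← cancel_mono (⨆ i, s i : Subobject F).arrow]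
            have h1 : (M.map f).hom.left ≫ (s j).arrow = (s i).arrow :=
              Over.w (M.map f).hom
            have h2 : ∀ k, Subobject.ofLE _ _ (le_iSup s k) ≫ (⨆ i, s i : Subobject F).arrow =
              (s k).arrow := fun k => Subobject.ofLE_arrow _
            change ((M.map f).hom.left ≫ Subobject.ofLE _ _ (le_iSup s j)) ≫
              (⨆ i, s i : Subobject F).arrow = (Subobject.ofLE _ _ (le_iSup s i) ≫ 𝟙 _) ≫
                (⨆ i, s i : Subobject F).arrow
            rw [Category.comp_id, h2 i]
            exact (Category.assoc _ _ _).trans ((congrArg (fun t => (M.map f).hom.left ≫ t)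
              (h2 j)).trans h1) } }
  have : Mono c.pt.hom := inferInstanceAs (Mono (⨆ i, s i : Subobject F).arrow)
  refine ⟨_, (Over.forget F).mapCocone c, fun i => ⟨Iso.refl _⟩,
    ⟨IsGrothendieckAbelian.isColimitMapCoconeOfSubobjectMkEqISup M c ?_⟩, ⟨Iso.refl _⟩⟩
  have h1 : Subobject.mk c.pt.hom = ⨆ i, s i := Subobject.mk_arrow _
  have h2 : ∀ i, Subobject.mk (M.obj i).obj.hom = s i := fun i => Subobject.mk_arrow _
  rw [h1]
  exact iSup_congr fun i => (h2 i).symm

/-- The main criterion. -/
theorem of_exists_subobject (P : A → Prop) (hzero : ∀ Z : A, IsZero Z → P Z)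
    (hext : ∀ S : ShortComplex A, S.ShortExact → P S.X₁ → P S.X₃ → P S.X₂)
    (hcolim : ∀ (J : Type w) (_ : SmallCategory J) (_ : IsFiltered J) (D : J ⥤ A) (c : Cocone D),
      IsColimit c → (∀ j, P (D.obj j)) → P c.pt)
    (F : A) (h : ∀ (F' F'' : A) (f : F' ⟶ F) (g : F ⟶ F'') (w : f ≫ g = 0),
      (ShortComplex.mk f g w).ShortExact → P F' → ¬ IsZero F'' →
        ∃ (I : A) (i : I ⟶ F''), Mono i ∧ ¬ IsZero I ∧ P I) : P F := by
  have hiso : ∀ {G G' : A}, (G ≅ G') → P G → P G' := fun {G G'} e hG =>
    hext (ShortComplex.mk e.hom (0 : G' ⟶ 0) comp_zero)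
      (ShortComplex.ShortExact.mk' (ShortComplex.exact_of_f_is_kernel _
        (KernelFork.IsLimit.ofι' _ _ (fun {T} t _ => ⟨t ≫ e.inv, by simp⟩))) inferInstance
        ⟨fun _ _ _ => (isZero_zero A).eq_of_src _ _⟩) hG (hzero _ (isZero_zero A))
  -- a maximal subobject in the class
  obtain ⟨s, -, hs⟩ := zorn_le_nonempty₀ {s : Subobject F | P (s : A)} (by
    intro c hc hchain y hy
    have : Small.{w} c := inferInstance
    have : Nonempty (Shrink.{w} c) := ⟨equivShrink _ ⟨y, hy⟩⟩
    let σ : Shrink.{w} c →o Subobject F := ⟨fun i => ((orderIsoShrink.{w} c).symm i).1,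
      fun i j hij => (orderIsoShrink.{w} c).symm.monotone hij⟩
    have : IsDirectedOrder (Shrink.{w} c) := ⟨fun i j => by
      rcases hchain.total ((orderIsoShrink.{w} c).symm i).2 ((orderIsoShrink.{w} c).symm j).2 with
        hij | hij
      · exact ⟨j, (orderIsoShrink.{w} c).symm.le_iff_le.1 hij, le_rfl⟩
      · exact ⟨i, le_rfl, (orderIsoShrink.{w} c).symm.le_iff_le.1 hij⟩⟩
    obtain ⟨D, c', h1, ⟨h2⟩, ⟨h3⟩⟩ := isColimit_iSup σ
    refine ⟨⨆ i, σ i, ?_, ?_⟩
    · refine hiso h3 (hcolim _ inferInstance inferInstance D c' h2 fun i => ?_)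
      obtain ⟨e⟩ := h1 i
      exact hiso e.symm (hc ((orderIsoShrink.{w} c).symm i).2)
    · intro z hz
      have := le_iSup σ (orderIsoShrink.{w} c ⟨z, hz⟩)
      simpa [σ] using this) ⊥ (by
        refine hzero _ ?_
        exact (isZero_zero A).of_iso Subobject.botCoeIsoZero)
  have hs1 : P (s : A) := hs.prop
  let S : ShortComplex A := ShortComplex.mk s.arrow (cokernel.π s.arrow) (cokernel.condition _)
  have hS : S.ShortExact := ShortComplex.ShortExact.mk'
    (ShortComplex.exact_cokernel s.arrow) inferInstance inferInstance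
  by_cases hz : IsZero (cokernel s.arrow)
  · have : Epi s.arrow := by
      refine Preadditive.epi_of_cokernel_zero ?_
      exact hz.eq_of_tgt _ _
    have : IsIso s.arrow := isIso_of_mono_of_epi _
    exact hiso (asIso s.arrow) hs1
  · exfalso
    obtain ⟨I, i, hi, hI, hPI⟩ := h _ _ s.arrow (cokernel.π s.arrow) (cokernel.condition _) hS hs1 hz
    have hE := shortExact_pullback hS i
    have hP := hext _ hE hs1 hPI
    have : Mono (pullback.fst S.g i) := inferInstance
    have hPs : P ((Subobject.mk (pullback.fst S.g i) : Subobject F) : A) :=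
      hiso (Subobject.underlyingIso _).symm hP
    have hle : s ≤ Subobject.mk (pullback.fst S.g i) :=
      Subobject.le_mk_of_comm (pullback.lift S.f 0 (by rw [S.zero, zero_comp]))
        (pullback.lift_fst _ _ _)
    have hge := hs.le_of_ge hPs hle
    -- the pullback factors through `s`
    have h1 : pullback.fst S.g i ≫ cokernel.π s.arrow = 0 := by
      have h2 : Subobject.ofMkLE (pullback.fst S.g i) s hge ≫ s.arrow = pullback.fst S.g i :=
        Subobject.ofMkLE_arrow _
      rw [← h2, Category.assoc, cokernel.condition, comp_zero]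
    have h2 : pullback.snd S.g i ≫ i = 0 := by
      rw [← pullback.condition]
      exact h1
    have h3 : Epi (pullback.snd S.g i) := hE.epi_g
    have h4 : i = 0 := by
      rw [← cancel_epi (pullback.snd S.g i), h2, comp_zero]
    apply hI
    rw [IsZero.iff_id_eq_zero, ← cancel_mono i, h4]
    simp

end Groth.Agent.CohtopB.GenClass
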