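import Groth.Agent.CohtopB.FreeStalk
import Groth.Agent.CohtopB.GenClass
import Mathlib.Topology.Spectral.Prespectral
import Mathlib.GroupTheory.OrderOfElement

/-!
# Classes of abelian sheaves generated by the free abelian sheaves on opens

`P` is a class of abelian sheaves on `X` closed under extensions, cokernels of monomorphisms and filtered
colimits.  If `P` contains the sheaves `ℤ_U` for `U` compact open, and compact opens form a basis, then
it contains all abelian sheaves (`IsGen.all`).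
-/

set_option autoImplicit false
universe u

open CategoryTheory TopologicalSpace Opposite CategoryTheory.Limits
open Groth.Agent.CohtopA.Sec Groth.Agent.CohtopA.Germ

namespace Groth.Agent.CohtopB.GenByOpens

open FreeStalk

variable {X : TopCat.{u}}

/-- Classes of abelian sheaves with closure properties. -/
structure IsGen (P : CohTop.Ab X → Prop) : Prop where
  zero : ∀ Z : CohTop.Ab X, IsZero Z → P Z
  ext : ∀ S : ShortComplex (CohTop.Ab X), S.ShortExact → P S.X₁ → P S.X₃ → P S.X₂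
  coker : ∀ S : ShortComplex (CohTop.Ab X), S.ShortExact → P S.X₁ → P S.X₂ → P S.X₃
  colim : ∀ (J : Type u) (_ : SmallCategory J) (_ : IsFiltered J) (D : J ⥤ CohTop.Ab X) (c : Cocone D),
      IsColimit c → (∀ j, P (D.obj j)) → P c.pt
  open_ : ∀ U : Opens X, IsCompact (U : Set X) → P (ZU U)

namespace IsGen

variable {P : CohTop.Ab X → Prop} (hP : IsGen P)

include hP

theorem of_exists (F : CohTop.Ab X) (h : ∀ (F' F'' : CohTop.Ab X) (f : F' ⟶ F) (g : F ⟶ F'')
      (w : f ≫ g = 0), (ShortComplex.mk f g w).ShortExact → P F' → ¬ IsZero F'' →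
        ∃ (I : CohTop.Ab X) (i : I ⟶ F''), Mono i ∧ ¬ IsZero I ∧ P I) : P F :=
  GenClass.of_exists_subobject.{u} P hP.zero hP.ext hP.colim F h

/-- The class contains `ℤ_V` for all opens `V`. -/
theorem all_open [PrespectralSpace X] (V : Opens X) : P (ZU V) := by
  let ι : Type u := {V' : Opens X // IsCompact (V' : Set X) ∧ V' ≤ V}
  have : Nonempty ι := ⟨⟨⊥, isCompact_empty, bot_le⟩⟩
  have : IsDirectedOrder ι := ⟨fun a b => ⟨⟨a.1 ⊔ b.1, by
    rw [Opens.coe_sup]; exact a.2.1.union b.2.1, sup_le a.2.2 b.2.2⟩,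
      (le_sup_left : a.1 ≤ a.1 ⊔ b.1), (le_sup_right : b.1 ≤ a.1 ⊔ b.1)⟩⟩
  let D : ι ⥤ CohTop.Ab X :=
    { obj := fun a => ZU a.1
      map := fun {a b} f => inc (show a.1 ≤ b.1 from f.le)
      map_id := fun a => hom_ext (by rw [m_inc, r_self]; rfl)
      map_comp := fun {a b c} f g => hom_ext (by
        rw [m_inc, m_comp, m_inc, m_r, m_inc, r_r]) }
  let c : Cocone D :=
    { pt := ZU V
      ι :=
        { app := fun a => inc a.2.2
          naturality := fun a b f => hom_ext (by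
            change m (inc (show a.1 ≤ b.1 from f.le) ≫ inc b.2.2) _ (e a.1) = m (inc a.2.2 ≫ 𝟙 _) _ (e a.1)
            rw [m_comp, m_comp, m_id, m_inc, m_inc, m_r, m_inc, r_r]) } }
  have hV : V = iSup (fun a : ι => a.1) := by
    apply le_antisymm
    · intro x hx
      obtain ⟨K, hK, hxK, hKV⟩ := (PrespectralSpace.isTopologicalBasis (X := X)).exists_subset_of_mem_open
        hx V.isOpen
      exact Opens.mem_iSup.2 ⟨⟨⟨K, hK.1⟩, hK.2, hKV⟩, hxK⟩
    · exact iSup_le fun a => a.2.2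
  have hcov : ∀ x ∈ V, ∃ a : ι, x ∈ a.1 := fun x hx => by
    rw [hV] at hx
    exact Opens.mem_iSup.1 hx
  -- sections of a cocone
  let σ : ∀ (s : Cocone D) (a : ι), Γs s.pt a.1 := fun s a => m (s.ι.app a) a.1 (e a.1)
  have hσ : ∀ (s : Cocone D) (a b : ι) (h : a.1 ≤ b.1), r s.pt h (σ s b) = σ s a := by
    intro s a b h
    have h1 := s.w (homOfLE (show a ≤ b from h))
    have h2 := congrArg (fun t => m t a.1 (e a.1)) h1
    refine Eq.trans ?_ h2
    change r s.pt h (m (s.ι.app b) b.1 (e b.1)) = m (inc h ≫ s.ι.app b) a.1 (e a.1)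
    rw [m_comp, m_inc]
    exact (m_r (s.ι.app b) h (e b.1)).symm
  have hglue : ∀ s : Cocone D, ∃ w : Γs s.pt V, ∀ a : ι, r s.pt a.2.2 w = σ s a := by
    intro s
    refine glue' (fun a : ι => a.1) hV (σ s) fun a b => ?_
    obtain ⟨d, had, hbd⟩ := exists_ge_ge a b
    rw [← hσ s a d had, ← hσ s b d hbd, r_r, r_r]
  choose w hw using hglue
  have hc : IsColimit c :=
    { desc := fun s => FreeStalk.mk (w s)
      fac := fun s a => hom_ext (by
        change m (inc a.2.2 ≫ FreeStalk.mk (w s)) a.1 (e a.1) = σ s a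
        rw [m_comp, m_inc, m_r, m_mk, hw])
      uniq := fun s f hf => hom_ext (by
        rw [m_mk]
        refine sep _ _ fun x hx => ?_
        obtain ⟨a, hxa⟩ := hcov x hx
        refine ⟨a.1, a.2.2, hxa, ?_⟩
        have h1 : m (inc a.2.2 ≫ f) a.1 (e a.1) = σ s a := congrArg (fun t => m t a.1 (e a.1)) (hf a)
        rw [hw, ← h1, m_comp, m_inc, m_r]) }
  exact hP.colim ι inferInstance inferInstance D c hc fun a => hP.open_ a.1 a.2.1

end IsGen

section Quot

variable {V U : Opens X} (h : V ≤ U)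

instance : Mono (inc h : ZU V ⟶ ZU U) := by
  refine mono_of_sm _ fun x => ?_
  refine (injective_iff_map_eq_zero _).2 fun z hz => ?_
  by_cases hx : x ∈ V
  · obtain ⟨n, rfl⟩ := stalk_eq_zsmul x hx z
    rw [map_zsmul, sm_gm, m_inc, gm_r] at hz
    rw [zsmul_germ_eq_zero x (h hx) n hz, zero_smul]
  · exact stalk_eq_zero x hx z

/-- The quotient `ℤ_U / ℤ_V`. -/
noncomputable def Q : CohTop.Ab X := cokernel (inc h : ZU V ⟶ ZU U)

/-- The projection. -/
noncomputable def π : ZU U ⟶ Q h := cokernel.π _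

instance : Epi (π h) := inferInstanceAs (Epi (cokernel.π _))

theorem inc_π : inc h ≫ π h = 0 := cokernel.condition _

theorem shortExact_Q : (ShortComplex.mk (inc h) (π h) (inc_π h)).ShortExact :=
  ShortComplex.ShortExact.mk' (ShortComplex.exact_cokernel _) inferInstance inferInstance

/-- The generator. -/
noncomputable def eQ : Γs (Q h) U := m (π h) U (e U)

theorem Q_eq_zsmul (x : X) (hx : x ∈ U) (z : St (Q h) x) : ∃ n : ℤ, z = n • gm (Q h) x hx (eQ h) := by
  obtain ⟨z, rfl⟩ := sm_surjective (π h) x z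
  obtain ⟨n, rfl⟩ := stalk_eq_zsmul x hx z
  exact ⟨n, by rw [map_zsmul, sm_gm]; rfl⟩

theorem Q_eq_zero (x : X) (hx : x ∉ U) (z : St (Q h) x) : z = 0 := by
  obtain ⟨z, rfl⟩ := sm_surjective (π h) x z
  rw [stalk_eq_zero x hx z, map_zero]

theorem gm_eQ_eq_zero (x : X) (hx : x ∈ V) : gm (Q h) x (h hx) (eQ h) = 0 := by
  have h1 : m (π h) V (m (inc h) V (e V)) = 0 := by
    rw [← m_comp, inc_π]
    rfl
  rw [m_inc, m_r] at h1
  rw [← gm_r h x hx]
  change gm (Q h) x hx (r (Q h) h (m (π h) U (e U))) = 0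
  rw [h1, map_zero]

theorem zsmul_gm_eQ (x : X) (hx : x ∈ U) (hxV : x ∉ V) (n : ℤ) (hn : n • gm (Q h) x hx (eQ h) = 0) :
    n = 0 := by
  have h1 : sm (π h) x (n • gm (ZU U) x hx (e U)) = 0 := by
    rw [map_zsmul, sm_gm]
    exact hn
  obtain ⟨y, hy⟩ := sm_exact (shortExact_Q h).exact x _ h1
  rw [stalk_eq_zero x hxV y, map_zero] at hy
  exact zsmul_germ_eq_zero x hx n hy.symm

end Quot

namespace IsGen

variable {P : CohTop.Ab X → Prop} (hP : IsGen P)

include hP

theorem quot [PrespectralSpace X] {V U : Opens X} (h : V ≤ U) : P (Q h) :=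
  hP.coker _ (shortExact_Q h) (hP.all_open V) (hP.all_open U)

/-- Cyclic sheaves killed by a prime. -/
theorem cyclic_prime [PrespectralSpace X] {U : Opens X} {F : CohTop.Ab X} (φ : ZU U ⟶ F) [Epi φ]
    (p : ℕ) (hp : p.Prime) (h : (p : ℤ) • m φ U (e U) = 0) : P F := by
  obtain ⟨V, hVU, hVU', h0, hV⟩ := exists_agree (F := F) (m φ U (e U)) (0 : Γs F U)
  rw [map_zero] at h0
  have hg : ∀ (x : X) (hx : x ∈ U), gm F x hx (m φ U (e U)) = 0 → x ∈ V := fun x hx hz =>
    hV x hx hx (by rw [hz, map_zero])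
  have hz : inc hVU ≫ φ = 0 := hom_ext (by
    rw [m_comp, m_inc, m_r, h0]
    rfl)
  let ψ : Q hVU ⟶ F := cokernel.desc _ φ hz
  have hψ : π hVU ≫ ψ = φ := cokernel.π_desc _ _ _
  have hψe : m ψ U (eQ hVU) = m φ U (e U) := by
    rw [← hψ, m_comp]
    rfl
  have : Epi ψ := by
    have : Epi (π hVU ≫ ψ) := by rw [hψ]; infer_instance
    exact epi_of_epi (π hVU) ψ
  have hsm : ∀ (x : X) (z : St (Q hVU) x), sm ((p : ℤ) • 𝟙 (Q hVU)) x z = (p : ℤ) • z := by
    intro x z
    obtain ⟨W, hxW, s, rfl⟩ := gm_surj x z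
    rw [sm_gm, ← map_zsmul]
    rfl
  have hmono : Mono ((p : ℤ) • 𝟙 (Q hVU)) := by
    refine mono_of_sm _ fun x => ?_
    refine (injective_iff_map_eq_zero _).2 fun z hz => ?_
    rw [hsm] at hz
    by_cases hxU : x ∈ U
    · by_cases hxV : x ∈ V
      · obtain ⟨n, rfl⟩ := Q_eq_zsmul hVU x hxU z
        rw [gm_eQ_eq_zero hVU x hxV, smul_zero]
      · obtain ⟨n, rfl⟩ := Q_eq_zsmul hVU x hxU z
        rw [smul_smul] at hz
        have := zsmul_gm_eQ hVU x hxU hxV _ hz
        have hp0 : (p : ℤ) ≠ 0 := by exact_mod_cast hp.ne_zero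
        rw [(mul_eq_zero.1 this).resolve_left hp0, zero_smul]
    · exact Q_eq_zero hVU x hxU z
  have hw : ((p : ℤ) • 𝟙 (Q hVU)) ≫ ψ = 0 := by
    rw [← cancel_epi (π hVU), comp_zero]
    refine hom_ext ?_
    rw [Preadditive.zsmul_comp, Preadditive.comp_zsmul, Category.id_comp, hψ]
    exact h
  refine hP.coker (ShortComplex.mk ((p : ℤ) • 𝟙 (Q hVU)) ψ hw) ?_ (hP.quot hVU) (hP.quot hVU)
  have : Mono (ShortComplex.mk ((p : ℤ) • 𝟙 (Q hVU)) ψ hw).f := hmono
  have : Epi (ShortComplex.mk ((p : ℤ) • 𝟙 (Q hVU)) ψ hw).g := ‹Epi ψ›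
  refine shortExact_of_stalks _ fun x z hz => ?_
  change St (Q hVU) x at z
  change sm ψ x z = 0 at hz
  change ∃ y : St (Q hVU) x, sm ((p : ℤ) • 𝟙 (Q hVU)) x y = z
  by_cases hxU : x ∈ U
  · obtain ⟨n, rfl⟩ := Q_eq_zsmul hVU x hxU z
    by_cases hxV : x ∈ V
    · refine ⟨0, ?_⟩
      rw [map_zero, gm_eQ_eq_zero hVU x hxV, smul_zero]
    · rw [map_zsmul, sm_gm, hψe] at hz
      have h1 : gm F x hxU (m φ U (e U)) ≠ 0 := fun h2 => hxV (hg x hxU h2)
      have h2 : (p : ℤ) • gm F x hxU (m φ U (e U)) = 0 := by rw [← map_zsmul, h, map_zero]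
      have h3 : addOrderOf (gm F x hxU (m φ U (e U))) = p := by
        have : Fact p.Prime := ⟨hp⟩
        refine addOrderOf_eq_prime ?_ h1
        rw [← natCast_zsmul]
        exact h2
      have h4 : (p : ℤ) ∣ n := by
        rw [← h3]
        exact addOrderOf_dvd_iff_zsmul_eq_zero.2 hz
      obtain ⟨k, rfl⟩ := h4
      refine ⟨k • gm (Q hVU) x hxU (eQ hVU), ?_⟩
      rw [hsm, smul_smul]
  · refine ⟨0, ?_⟩
    rw [map_zero, Q_eq_zero hVU x hxU z]

/-- Torsion sheaves. -/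
theorem torsion [PrespectralSpace X] {F : CohTop.Ab X}
    (h : ∀ (x : X) (z : St F x), ∃ n : ℕ, n ≠ 0 ∧ n • z = 0) : P F := by
  refine hP.of_exists F fun F' F'' f g w hS _ hF'' => ?_
  have : Epi g := hS.epi_g
  obtain ⟨x, z, hz⟩ := exists_ne_zero hF''
  obtain ⟨n, hn, hnz⟩ : ∃ n : ℕ, n ≠ 0 ∧ n • z = 0 := by
    obtain ⟨y, rfl⟩ := sm_surjective g x z
    obtain ⟨n, hn, hny⟩ := h x y
    exact ⟨n, hn, by rw [← map_nsmul, hny, map_zero]⟩
  -- an element of prime order
  have ho : addOrderOf z ≠ 1 := fun h1 => hz (AddMonoid.addOrderOf_eq_one_iff.1 h1)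
  have ho0 : addOrderOf z ≠ 0 := fun h0 => by
    have h1 := addOrderOf_dvd_of_nsmul_eq_zero hnz
    rw [h0] at h1
    exact hn (Nat.eq_zero_of_zero_dvd h1)
  obtain ⟨p, hp, k, hk⟩ := Nat.exists_prime_and_dvd ho
  let y : St F'' x := k • z
  have hk0 : k ≠ 0 := fun h0 => ho0 (by rw [hk, h0, mul_zero])
  have hy : y ≠ 0 := fun h0 => by
    have h1 := addOrderOf_dvd_of_nsmul_eq_zero (h0 : k • z = 0)
    rw [hk] at h1
    have h2 := Nat.le_of_dvd (Nat.pos_of_ne_zero hk0) h1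
    have h3 := hp.two_le
    nlinarith [Nat.pos_of_ne_zero hk0]
  have hpy : p • y = 0 := by
    change p • (k • z) = 0
    rw [← mul_nsmul', ← hk]
    exact addOrderOf_nsmul_eq_zero z
  obtain ⟨U, hxU, s, hs⟩ := gm_surj x y
  obtain ⟨W, hWU, hWU', hxW, hW⟩ := gm_eq x hxU hxU (p • s) 0 (by rw [map_nsmul, hs, hpy, map_zero])
  rw [map_nsmul, map_zero] at hW
  let t : Γs F'' W := r F'' hWU s
  have htx : gm F'' x hxW t = y := by
    rw [← hs]
    exact gm_r hWU x hxW s
  let φ : ZU W ⟶ F'' := FreeStalk.mk t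
  refine ⟨image φ, image.ι φ, inferInstance, fun hI => ?_, ?_⟩
  · apply hy
    have h1 : φ = 0 := by
      rw [← image.fac φ, hI.eq_of_tgt (factorThruImage φ) 0, zero_comp]
    have h2 : m φ W (e W) = 0 := by rw [h1]; rfl
    rw [← htx, ← m_mk t, h2, map_zero]
  · refine hP.cyclic_prime (factorThruImage φ) p hp ?_
    apply m_injective (image.ι φ) W
    rw [map_zero, map_zsmul, ← m_comp, image.fac, m_mk, natCast_zsmul]
    exact hW

/-- Cyclic sheaves. -/
theorem cyclic [PrespectralSpace X] {U : Opens X} {F : CohTop.Ab X} (φ : ZU U ⟶ F) [Epi φ] : P F := by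
  let g : Γs F U := m φ U (e U)
  let V : Opens X := sSup {W | ∃ (h : W ≤ U) (n : ℕ), n ≠ 0 ∧ n • r F h g = 0}
  have hVU : V ≤ U := sSup_le fun W hW => hW.1
  have hV1 : ∀ (x : X) (hx : x ∈ V), ∃ n : ℕ, n ≠ 0 ∧ n • gm F x (hVU hx) g = 0 := by
    intro x hx
    obtain ⟨W, ⟨h, n, hn, hn'⟩, hxW⟩ := Opens.mem_sSup.1 hx
    refine ⟨n, hn, ?_⟩
    rw [← gm_r h x hxW, ← map_nsmul, hn', map_zero]
  have hV2 : ∀ (x : X) (hx : x ∈ U) (n : ℕ), n ≠ 0 → n • gm F x hx g = 0 → x ∈ V := by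
    intro x hx n hn hz
    obtain ⟨W, hWU, hWU', hxW, hW⟩ := gm_eq x hx hx (n • g) 0 (by rw [map_nsmul, hz, map_zero])
    rw [map_nsmul, map_zero] at hW
    exact Opens.mem_sSup.2 ⟨W, ⟨hWU, n, hn, hW⟩, hxW⟩
  have hV3 : ∀ (x : X) (hx : x ∈ U) (n : ℤ), x ∉ V → n • gm F x hx g = 0 → n = 0 := by
    intro x hx n hxV hz
    by_contra hn
    apply hxV
    refine hV2 x hx n.natAbs (Int.natAbs_ne_zero.2 hn) ?_
    rcases Int.natAbs_eq n with h | h
    · rw [h, natCast_zsmul] at hz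
      exact hz
    · rw [h, neg_smul, natCast_zsmul, neg_eq_zero] at hz
      exact hz
  -- the torsion part
  let θ : ZU V ⟶ F := inc hVU ≫ φ
  let T : CohTop.Ab X := image θ
  let i : T ⟶ F := image.ι θ
  let τ : ZU V ⟶ T := factorThruImage θ
  have hτi : τ ≫ i = inc hVU ≫ φ := image.fac θ
  have hτe : m i V (m τ V (e V)) = r F hVU g := by
    rw [← m_comp, hτi, m_comp, m_inc, m_r]
  have hT0 : ∀ (x : X), x ∉ V → ∀ z : St T x, z = 0 := by
    intro x hx z
    obtain ⟨y, rfl⟩ := sm_surjective τ x z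
    rw [stalk_eq_zero x hx y, map_zero]
  have hT : P T := by
    refine hP.torsion fun x z => ?_
    by_cases hx : x ∈ V
    · obtain ⟨y, rfl⟩ := sm_surjective τ x z
      obtain ⟨k, rfl⟩ := stalk_eq_zsmul x hx y
      obtain ⟨n, hn, hn'⟩ := hV1 x hx
      refine ⟨n, hn, ?_⟩
      apply sm_injective i x
      rw [map_zero, map_nsmul, map_zsmul, map_zsmul, sm_gm, sm_gm, hτe, gm_r, smul_comm, hn', smul_zero]
    · exact ⟨1, one_ne_zero, by rw [hT0 x hx z, smul_zero]⟩
  -- the quotient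
  let R : CohTop.Ab X := cokernel i
  have hw : inc hVU ≫ φ ≫ cokernel.π i = 0 := by
    rw [← Category.assoc, ← hτi, Category.assoc, cokernel.condition, comp_zero]
  have hR : P R := by
    refine hP.coker (ShortComplex.mk (inc hVU) (φ ≫ cokernel.π i) hw) ?_ (hP.all_open V) (hP.all_open U)
    have : Mono (ShortComplex.mk (inc hVU) (φ ≫ cokernel.π i) hw).f :=
      inferInstanceAs (Mono (inc hVU))
    have : Epi (ShortComplex.mk (inc hVU) (φ ≫ cokernel.π i) hw).g :=
      inferInstanceAs (Epi (φ ≫ cokernel.π i))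
    refine shortExact_of_stalks _ fun x z hz => ?_
    change St (ZU U) x at z
    change sm (φ ≫ cokernel.π i) x z = 0 at hz
    change ∃ y : St (ZU V) x, sm (inc hVU) x y = z
    by_cases hxU : x ∈ U
    · obtain ⟨n, rfl⟩ := stalk_eq_zsmul x hxU z
      by_cases hxV : x ∈ V
      · refine ⟨n • gm (ZU V) x hxV (e V), ?_⟩
        rw [map_zsmul, sm_gm, m_inc, gm_r]
      · refine ⟨0, ?_⟩
        rw [sm_comp, map_zsmul, sm_gm] at hz
        obtain ⟨y, hy⟩ := sm_exact (ShortComplex.exact_cokernel i) x _ hz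
        change St T x at y
        rw [hT0 x hxV y, map_zero] at hy
        rw [hV3 x hxU n hxV hy.symm, zero_smul, map_zero]
    · refine ⟨0, ?_⟩
      rw [map_zero, stalk_eq_zero x hxU z]
  exact hP.ext (ShortComplex.mk i (cokernel.π i) (cokernel.condition i))
    (ShortComplex.ShortExact.mk' (ShortComplex.exact_cokernel i) inferInstance inferInstance) hT hR

/-- All abelian sheaves. -/
theorem all [PrespectralSpace X] (F : CohTop.Ab X) : P F := by
  refine hP.of_exists F fun F' F'' f g w hS _ hF'' => ?_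
  obtain ⟨x, z, hz⟩ := exists_ne_zero hF''
  obtain ⟨U, hxU, s, rfl⟩ := gm_surj x z
  let φ : ZU U ⟶ F'' := FreeStalk.mk s
  refine ⟨image φ, image.ι φ, inferInstance, fun hI => ?_, hP.cyclic (factorThruImage φ)⟩
  apply hz
  have h1 : φ = 0 := by
    rw [← image.fac φ, hI.eq_of_tgt (factorThruImage φ) 0, zero_comp]
  have h2 : m φ U (e U) = 0 := by rw [h1]; rfl
  rw [← m_mk s, h2, map_zero]

end IsGen

end Groth.Agent.CohtopB.GenByOpens
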