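import Groth.Agent.CohtopA.FreeAb

/-!
# `H^0(U, F) = F(U)` as an isomorphism of functors

* `h0Iso J : Sheaf.cohomologyPresheafFunctor J 0 ≅ sheafToPresheaf J AddCommGrpCat`
* `h0TopIso J hT : Sheaf.functorH J 0 ≅ (evaluation at the terminal object T)`

(The instance arguments `HasSheafify`, `HasExt` are kept as variables: with the concrete instances the
kernel is very slow.)
-/

set_option autoImplicit false
universe u

open CategoryTheory TopologicalSpace Opposite CategoryTheory.Limits Abelian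
open Groth.Agent.CohtopA

noncomputable section

namespace Groth.Agent.CohtopB.H0Iso

variable {C : Type u} [SmallCategory C] (J : GrothendieckTopology C)
  [HasSheafify J AddCommGrpCat.{u}] [HasExt.{u} (Sheaf J AddCommGrpCat.{u})]

/-- `Ext^0(Z_U, F) ≃+ F(U)` -/
def h0a (F : Sheaf J AddCommGrpCat.{u}) (U : Cᵒᵖ) :
    Ext.{u} (FreeAb.freeAb J U.unop) F 0 ≃+ F.obj.obj U :=
  Ext.addEquiv₀.trans (AddEquiv.ofBijective _ (FreeAb.homEv_bijective (J := J) U.unop F))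

theorem h0a_mk (F : Sheaf J AddCommGrpCat.{u}) (U : Cᵒᵖ) (φ : FreeAb.freeAb J U.unop ⟶ F) :
    h0a J F U (Ext.mk₀ φ) = FreeAb.homEv U.unop F φ := by
  change FreeAb.homEv U.unop F (Ext.addEquiv₀ (Ext.mk₀ φ)) = _
  rw [← Ext.addEquiv₀_symm_apply, AddEquiv.apply_symm_apply]

theorem h0a_map (F : Sheaf J AddCommGrpCat.{u}) {U V : Cᵒᵖ} (g : U ⟶ V)
    (x : Ext.{u} (FreeAb.freeAb J U.unop) F 0) :
    h0a J F V ((Ext.mk₀ (FreeAb.freeAbMap J g.unop)).comp x (zero_add 0)) =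
      F.obj.map g (h0a J F U x) := by
  obtain ⟨φ, rfl⟩ := Ext.addEquiv₀.symm.surjective x
  rw [Ext.addEquiv₀_symm_apply, Ext.mk₀_comp_mk₀, h0a_mk, h0a_mk]
  exact FreeAb.homEv_freeAbMap (J := J) g.unop φ

theorem h0a_comp {F G : Sheaf J AddCommGrpCat.{u}} {U : Cᵒᵖ} (g : F ⟶ G)
    (x : Ext.{u} (FreeAb.freeAb J U.unop) F 0) :
    h0a J G U (x.comp (Ext.mk₀ g) (add_zero 0)) = g.hom.app U (h0a J F U x) := by
  obtain ⟨φ, rfl⟩ := Ext.addEquiv₀.symm.surjective x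
  rw [Ext.addEquiv₀_symm_apply, Ext.mk₀_comp_mk₀, h0a_mk, h0a_mk]
  rfl

/-- `H^0(U, F) ≅ F(U)` -/
def h0b (F : Sheaf J AddCommGrpCat.{u}) (U : Cᵒᵖ) :
    ((Sheaf.cohomologyPresheafFunctor J 0).obj F).obj U ≅ F.obj.obj U :=
  (h0a J F U).toAddCommGrpIso

theorem h0b_map (F : Sheaf J AddCommGrpCat.{u}) {U V : Cᵒᵖ} (g : U ⟶ V) :
    ((Sheaf.cohomologyPresheafFunctor J 0).obj F).map g ≫ (h0b J F V).hom =
      (h0b J F U).hom ≫ F.obj.map g := by
  refine AddCommGrpCat.hom_ext (AddMonoidHom.ext fun x => ?_)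
  exact h0a_map J F g x

/-- `H^0(-, F) ≅ F` as presheaves -/
def h0c (F : Sheaf J AddCommGrpCat.{u}) :
    ((Sheaf.cohomologyPresheafFunctor J 0).obj F) ≅ F.obj :=
  NatIso.ofComponents (fun U => h0b J F U) (h0b_map J F)

theorem h0b_comp {F G : Sheaf J AddCommGrpCat.{u}} (g : F ⟶ G) (U : Cᵒᵖ) :
    ((Sheaf.cohomologyPresheafFunctor J 0).map g).app U ≫ (h0b J G U).hom =
      (h0b J F U).hom ≫ g.hom.app U := by
  refine AddCommGrpCat.hom_ext (AddMonoidHom.ext fun x => ?_)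
  exact h0a_comp J g x

/-- `H^0(U, F) = F(U)`, naturally in `F` and `U`. -/
def h0Iso : Sheaf.cohomologyPresheafFunctor J 0 ≅ sheafToPresheaf J AddCommGrpCat.{u} :=
  NatIso.ofComponents (fun F => h0c J F) (fun g => NatTrans.ext (funext fun U => h0b_comp J g U))

/-- The sections over an object. -/
abbrev evF (T : C) : Sheaf J AddCommGrpCat.{u} ⥤ AddCommGrpCat.{u} :=
  sheafToPresheaf J AddCommGrpCat.{u} ⋙ (evaluation _ _).obj (op T)

/-- `H^0(C, F) ≅ F(T)` -/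
def h0TopObj {T : C} (hT : IsTerminal T) (F : Sheaf J AddCommGrpCat.{u}) :
    (extFunctorObj.{u} ((constantSheaf J AddCommGrpCat.{u}).obj
      (AddCommGrpCat.of (ULift.{u} ℤ))) 0).obj F ≅ (evF J T).obj F :=
  (Sheaf.H.equiv₀ F hT).toAddCommGrpIso

theorem h0TopObj_comp {T : C} (hT : IsTerminal T) {F G : Sheaf J AddCommGrpCat.{u}} (g : F ⟶ G) :
    (extFunctorObj.{u} ((constantSheaf J AddCommGrpCat.{u}).obj
      (AddCommGrpCat.of (ULift.{u} ℤ))) 0).map g ≫ (h0TopObj J hT G).hom =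
    (h0TopObj J hT F).hom ≫ (evF J T).map g := by
  refine AddCommGrpCat.hom_ext (AddMonoidHom.ext fun x => ?_)
  exact (Sheaf.H.equiv₀_naturality hT g x).symm

/-- `H^0(C, F) = F(T)` for `T` terminal, naturally in `F`. -/
def h0TopIso {T : C} (hT : IsTerminal T) :
    (extFunctorObj.{u} ((constantSheaf J AddCommGrpCat.{u}).obj
      (AddCommGrpCat.of (ULift.{u} ℤ))) 0 : Sheaf J AddCommGrpCat.{u} ⥤ AddCommGrpCat.{u}) ≅
      evF J T :=
  NatIso.ofComponents (fun F => h0TopObj J hT F) (h0TopObj_comp J hT)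

end Groth.Agent.CohtopB.H0Iso
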