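import Mathlib.CategoryTheory.Sites.Grothendieck
import Mathlib.GroupTheory.FreeAbelianGroup
import Mathlib.Data.Set.Finite.Lattice
import Mathlib.Data.Set.Finite.Lemmas
import Mathlib.Algebra.BigOperators.Fin
import Mathlib.Algebra.BigOperators.Group.Finset.Lemmas
import Mathlib.Tactic.Abel

/-!
# Local cone operators

Let `X` be an augmented semisimplicial presheaf of sets on a site in which compatible boundaries can be
filled locally.  Then every finite set of simplices admits, locally, a cone operator, and therefore every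
cycle of the complex of free abelian groups on `X` is locally a boundary.
-/

universe w v₁ u₁

open CategoryTheory

namespace Groth.Agent.CohtopB.HypCone

section Loc

variable {C : Type u₁} [Category.{v₁} C] (J : GrothendieckTopology C)

/-- A property of arrows with target `U` holds locally on `U`. -/
def Loc (U : C) (p : ∀ ⦃V : C⦄, (V ⟶ U) → Prop) : Prop :=
  ∃ R ∈ J U, ∀ ⦃V : C⦄ (f : V ⟶ U), R f → p f

variable {J}

lemma Loc.mono {U : C} {p q : ∀ ⦃V : C⦄, (V ⟶ U) → Prop} (h : Loc J U p)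
    (hpq : ∀ ⦃V : C⦄ (f : V ⟶ U), p f → q f) : Loc J U q := by
  obtain ⟨R, hR, h⟩ := h
  exact ⟨R, hR, fun V f hf => hpq f (h f hf)⟩

lemma Loc.of_forall {U : C} {p : ∀ ⦃V : C⦄, (V ⟶ U) → Prop}
    (hp : ∀ ⦃V : C⦄ (f : V ⟶ U), p f) : Loc J U p :=
  ⟨⊤, J.top_mem U, fun _ f _ => hp f⟩

lemma Loc.bind {U : C} {p q : ∀ ⦃V : C⦄, (V ⟶ U) → Prop} (h : Loc J U p)
    (hpq : ∀ ⦃V : C⦄ (f : V ⟶ U), p f → Loc J V (fun _ g => q (g ≫ f))) : Loc J U q := by
  obtain ⟨R, hR, h⟩ := h
  let R' : Sieve U :=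
    { arrows := fun V f => ∀ ⦃W : C⦄ (g : W ⟶ V), q (g ≫ f)
      downward_closed := by
        intro V W f hf g W' g'
        rw [← Category.assoc]
        exact hf _ }
  refine ⟨R', ?_, fun V f hf => by simpa using hf (𝟙 V)⟩
  refine J.transitive hR R' (fun V f hf => ?_)
  obtain ⟨T, hT, hT'⟩ := hpq f (h f hf)
  refine J.superset_covering ?_ hT
  intro W g hg W' g'
  rw [← Category.assoc]
  exact hT' _ (T.downward_closed hg g')

lemma Loc.and {U : C} {p q : ∀ ⦃V : C⦄, (V ⟶ U) → Prop} (hp : Loc J U p) (hq : Loc J U q) :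
    Loc J U (fun _ f => p f ∧ q f) := by
  obtain ⟨R, hR, hp⟩ := hp
  obtain ⟨T, hT, hq⟩ := hq
  exact ⟨R ⊓ T, J.intersection_covering hR hT, fun V f hf => ⟨hp f hf.1, hq f hf.2⟩⟩

lemma Loc.forall_mem_finite {ι : Type*} {U : C} {S : Set ι} (hS : S.Finite)
    {p : ι → ∀ ⦃V : C⦄, (V ⟶ U) → Prop} (h : ∀ s ∈ S, Loc J U (p s)) :
    Loc J U (fun _ f => ∀ s ∈ S, p s f) := by
  induction S, hS using Set.Finite.induction_on with
  | empty => exact Loc.of_forall (fun V f s hs => hs.elim)
  | @insert a S _ _ ih =>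
    have h1 := h a (Set.mem_insert _ _)
    have h2 := ih (fun s hs => h s (Set.mem_insert_of_mem _ hs))
    refine (h1.and h2).mono ?_
    rintro V f ⟨h3, h4⟩ s (rfl | hs)
    · exact h3
    · exact h4 s hs

lemma Loc.pullback {U : C} {p : ∀ ⦃V : C⦄, (V ⟶ U) → Prop} (h : Loc J U p) {V : C} (f : V ⟶ U) :
    Loc J V (fun _ g => p (g ≫ f)) := by
  obtain ⟨R, hR, h⟩ := h
  exact ⟨R.pullback f, J.pullback_stable f hR, fun W g hg => h _ hg⟩

end Loc

/-- Augmented semisimplicial presheaves of sets (with `Q 0` the augmentation). -/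
structure AugSemi (C : Type u₁) [Category.{v₁} C] where
  /-- The sections of the presheaf in degree `n - 1`. -/
  Q : ℕ → C → Type w
  /-- Restriction. -/
  res : ∀ {n : ℕ} {U V : C}, (V ⟶ U) → Q n U → Q n V
  res_comp : ∀ {n : ℕ} {U V W : C} (f : V ⟶ U) (g : W ⟶ V) (x : Q n U),
    res g (res f x) = res (g ≫ f) x
  /-- Face maps. -/
  d : ∀ {n : ℕ} {U : C}, Fin (n + 1) → Q (n + 1) U → Q n U
  d_res : ∀ {n : ℕ} {U V : C} (f : V ⟶ U) (i : Fin (n + 1)) (x : Q (n + 1) U),
    d i (res f x) = res f (d i x)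
  d_comm : ∀ {n : ℕ} {U : C} (i j : Fin (n + 1)) (_ : i ≤ j) (x : Q (n + 2) U),
    d i (d j.succ x) = d j (d i.castSucc x)

variable {C : Type u₁} [Category.{v₁} C] (J : GrothendieckTopology C)

/-- Compatible boundaries are locally fillable. -/
structure LocFill (X : AugSemi.{w} C) : Prop where
  zero : ∀ (U : C) (a : X.Q 0 U), Loc J U (fun _ f => ∃ y, X.d 0 y = X.res f a)
  succ : ∀ (n : ℕ) (U : C) (x : Fin (n + 2) → X.Q (n + 1) U),
    (∀ i j, i ≤ j → X.d i (x j.succ) = X.d j (x i.castSucc)) →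
      Loc J U (fun _ f => ∃ y, ∀ i, X.d i y = X.res f (x i))

/-- `y` is a cone over the simplex `s`, relative to the cone operator `h` in lower degrees. -/
def ConeOn (X : AugSemi.{w} C) {U V : C} (f : V ⟶ U) (h : ∀ m, X.Q m U → X.Q (m + 1) V) :
    (N : ℕ) → (s : X.Q N U) → {W : C} → (g : W ⟶ V) → (y : X.Q (N + 1) W) → Prop
  | 0, s, _, g, y => X.d 0 y = X.res (g ≫ f) s
  | N + 1, s, _, g, y => X.d 0 y = X.res (g ≫ f) s ∧
      ∀ i : Fin (N + 1), X.d i.succ y = X.res g (h N (X.d i s))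

/-- `h` is a cone operator in degrees `< N` on the sets of simplices `S`. -/
structure IsCone (X : AugSemi.{w} C) (N : ℕ) {U V : C} (f : V ⟶ U) (S : ∀ m, Set (X.Q m U))
    (h : ∀ m, X.Q m U → X.Q (m + 1) V) : Prop where
  d_zero : ∀ m < N, ∀ s ∈ S m, X.d 0 (h m s) = X.res f s
  d_succ : ∀ m, m + 1 < N → ∀ s ∈ S (m + 1), ∀ i : Fin (m + 1), X.d i.succ (h (m + 1) s) =
    h m (X.d i s)

variable {J} {X : AugSemi.{w} C}

lemma exists_coneOn (hX : LocFill J X) {U V : C} (f : V ⟶ U) (S : ∀ m, Set (X.Q m U))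
    (h : ∀ m, X.Q m U → X.Q (m + 1) V) (N : ℕ)
    (hh : IsCone X N f (fun m => S m ∪ ⋃ i, X.d i '' S (m + 1)) h) (s : X.Q N U) (hs : s ∈ S N) :
    Loc J V (fun _ g => ∃ y, ConeOn X f h N s g y) := by
  cases N with
  | zero =>
    refine (hX.zero V (X.res f s)).mono (fun W g => ?_)
    rintro ⟨y, hy⟩
    exact ⟨y, hy.trans (X.res_comp _ _ _)⟩
  | succ N =>
    have hd : ∀ i, X.d i s ∈ S N ∪ ⋃ i, X.d i '' S (N + 1) := fun i =>
      Or.inr (Set.mem_iUnion.2 ⟨i, s, hs, rfl⟩)
    have h0 : ∀ i, X.d 0 (h N (X.d i s)) = X.res f (X.d i s) := fun i =>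
      hh.d_zero N (Nat.lt_succ_self N) _ (hd i)
    let x : Fin (N + 2) → X.Q (N + 1) V := Fin.cases (X.res f s) (fun i => h N (X.d i s))
    have hx : ∀ i j, i ≤ j → X.d i (x j.succ) = X.d j (x i.castSucc) := by
      intro i j hij
      refine Fin.cases (motive := fun i => i ≤ j → X.d i (x j.succ) = X.d j (x i.castSucc))
        ?_ ?_ i hij
      · intro _
        exact (h0 j).trans (X.d_res _ _ _).symm
      · cases N with
        | zero => exact fun i => i.elim0
        | succ N =>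
          intro i hij
          obtain ⟨j, rfl⟩ : ∃ j', j = Fin.succ j' :=
            ⟨j.pred (fun h => by simp [h] at hij), (Fin.succ_pred _ _).symm⟩
          have hij' : i ≤ j := Fin.succ_le_succ_iff.1 hij
          change X.d i.succ (h (N + 1) (X.d j.succ s)) = X.d j.succ (h (N + 1) (X.d i.castSucc s))
          rw [hh.d_succ N (by omega) _ (hd _), hh.d_succ N (by omega) _ (hd _), X.d_comm i j hij']
    refine (hX.succ N V x hx).mono (fun W g => ?_)
    rintro ⟨y, hy⟩
    refine ⟨y, (hy 0).trans (X.res_comp _ _ _), fun i => hy i.succ⟩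

open Classical in
lemma exists_isCone_step {U V : C} (f : V ⟶ U) (S : ∀ m, Set (X.Q m U))
    (h : ∀ m, X.Q m U → X.Q (m + 1) V) (N : ℕ)
    (hh : IsCone X N f S h) {W : C} (g : W ⟶ V)
    (H : ∀ s ∈ S N, ∃ y, ConeOn X f h N s g y) : ∃ h', IsCone X (N + 1) (g ≫ f) S h' := by
  choose y hy using H
  let k : ∀ m, X.Q m U → X.Q (m + 1) W := fun m t => X.res g (h m t)
  let h' : ∀ m, X.Q m U → X.Q (m + 1) W :=
    Function.update k N (fun t => if ht : t ∈ S N then y t ht else k N t)
  have h1 : ∀ s, ∀ hs : s ∈ S N, h' N s = y s hs := fun s hs => by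
    simp only [h', Function.update_self, dif_pos hs]
  have h2 : ∀ m < N, ∀ t, h' m t = X.res g (h m t) := fun m hm t => by
    simp only [h', Function.update_of_ne hm.ne, k]
  refine ⟨h', ?_, ?_⟩
  · intro m hm s hs
    obtain hm | rfl := Nat.lt_succ_iff_lt_or_eq.1 hm
    · rw [h2 m hm, X.d_res, hh.d_zero m hm s hs, X.res_comp]
    · rw [h1 s hs]
      have := hy s hs
      cases m with
      | zero => exact this
      | succ m => exact this.1
  · intro m hm s hs i
    rw [h2 m (by omega)]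
    obtain hm | hm := Nat.lt_succ_iff_lt_or_eq.1 hm
    · rw [h2 (m + 1) hm, X.d_res, hh.d_succ m hm s hs]
    · subst hm
      rw [h1 s hs]
      exact (hy s hs).2 i

theorem exists_isCone (hX : LocFill J X) (N : ℕ) (U : C) (hU : ∀ m, Nonempty (X.Q m U))
    (S : ∀ m, Set (X.Q m U)) (hS : ∀ m, (S m).Finite) :
    Loc J U (fun _ f => ∃ h, IsCone X N f S h) := by
  induction N generalizing S with
  | zero =>
    refine Loc.of_forall (fun V f => ⟨fun m _ => X.res f (hU (m + 1)).some, ?_, ?_⟩)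
    · intro m hm; omega
    · intro m hm; omega
  | succ N ih =>
    have h1 := ih (fun m => S m ∪ ⋃ i, X.d i '' S (m + 1)) (fun m =>
      (hS m).union (Set.finite_iUnion (fun i => (hS (m + 1)).image _)))
    refine h1.bind (fun V f => ?_)
    rintro ⟨h, hh⟩
    have h2 : Loc J V (fun _ g => ∀ s ∈ S N, ∃ y, ConeOn X f h N s g y) :=
      Loc.forall_mem_finite (hS N) (fun s hs => exists_coneOn hX f S h N hh s hs)
    refine h2.mono (fun W g H => exists_isCone_step f S h N ?_ g H)
    exact ⟨fun m hm s hs => hh.d_zero m hm s (Or.inl hs),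
      fun m hm s hs => hh.d_succ m hm s (Or.inl hs)⟩

/-- The differential of the complex of free abelian groups. -/
noncomputable def bd (X : AugSemi.{w} C) (n : ℕ) (U : C) :
    FreeAbelianGroup (X.Q (n + 1) U) →+ FreeAbelianGroup (X.Q n U) :=
  ∑ i : Fin (n + 1), ((-1 : ℤ) ^ (i : ℕ)) • FreeAbelianGroup.map (X.d i)

lemma bd_of (X : AugSemi.{w} C) (n : ℕ) (U : C) (s : X.Q (n + 1) U) :
    bd X n U (FreeAbelianGroup.of s) =
      ∑ i : Fin (n + 1), ((-1 : ℤ) ^ (i : ℕ)) • FreeAbelianGroup.of (X.d i s) := by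
  rw [bd, AddMonoidHom.finsetSum_apply]
  rfl

/-- Every element of a free abelian group has finite support. -/
lemma exists_finite_mem_closure {α : Type*} (z : FreeAbelianGroup α) :
    ∃ S : Set α, S.Finite ∧ z ∈ AddSubgroup.closure (FreeAbelianGroup.of '' S) := by
  induction z using FreeAbelianGroup.induction_on with
  | zero => exact ⟨∅, Set.finite_empty, zero_mem _⟩
  | of x => exact ⟨{x}, Set.finite_singleton _, AddSubgroup.subset_closure ⟨x, rfl, rfl⟩⟩
  | neg x h => exact ⟨{x}, Set.finite_singleton _, neg_mem (AddSubgroup.subset_closure ⟨x, rfl, rfl⟩)⟩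
  | add x y hx hy =>
    obtain ⟨S, hS, hx⟩ := hx
    obtain ⟨T, hT, hy⟩ := hy
    exact ⟨S ∪ T, hS.union hT, add_mem
      (AddSubgroup.closure_mono (Set.image_mono Set.subset_union_left) hx)
      (AddSubgroup.closure_mono (Set.image_mono Set.subset_union_right) hy)⟩

lemma IsCone.bd_map {N : ℕ} {U V : C} {f : V ⟶ U} {S : ∀ m, Set (X.Q m U)}
    {h : ∀ m, X.Q m U → X.Q (m + 1) V} (hh : IsCone X N f S h) (n : ℕ) (hn : n + 1 < N)
    (z : FreeAbelianGroup (X.Q (n + 1) U))
    (hz : z ∈ AddSubgroup.closure (FreeAbelianGroup.of '' S (n + 1))) :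
    bd X (n + 1) V (FreeAbelianGroup.map (h (n + 1)) z) =
      FreeAbelianGroup.map (X.res f) z - FreeAbelianGroup.map (h n) (bd X n U z) := by
  induction hz using AddSubgroup.closure_induction with
  | mem z hz =>
    obtain ⟨s, hs, rfl⟩ := hz
    rw [FreeAbelianGroup.map_of_apply, FreeAbelianGroup.map_of_apply, bd_of, bd_of,
      Fin.sum_univ_succ, map_sum, sub_eq_add_neg, ← Finset.sum_neg_distrib]
    congr 1
    · rw [hh.d_zero (n + 1) hn s hs]
      simp
    · refine Finset.sum_congr rfl (fun i _ => ?_)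
      rw [hh.d_succ n hn s hs i, map_zsmul, FreeAbelianGroup.map_of_apply, Fin.val_succ, pow_succ]
      simp
  | zero => simp
  | add x y _ _ hx hy =>
    simp only [map_add, hx, hy]
    abel
  | neg x _ hx =>
    simp only [map_neg, hx]
    abel

/-- In an augmented semisimplicial presheaf with local filling, every cycle is locally a boundary. -/
theorem exists_boundary (hX : LocFill J X)
    (hne : ∀ U, Nonempty (X.Q 1 U) → ∀ m, Nonempty (X.Q m U)) (n : ℕ) (U : C)
    (z : FreeAbelianGroup (X.Q (n + 1) U)) (hz : bd X n U z = 0) :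
    Loc J U (fun V f => ∃ w : FreeAbelianGroup (X.Q (n + 2) V),
      bd X (n + 1) V w = FreeAbelianGroup.map (X.res f) z) := by
  obtain ⟨S, hS, hzS⟩ := exists_finite_mem_closure z
  by_cases hU : Nonempty (X.Q 1 U)
  · have h1 := exists_isCone hX (n + 2) U (hne U hU)
      (Function.update (fun m => (∅ : Set (X.Q m U))) (n + 1) S) (fun m => by
        by_cases hm : m = n + 1
        · subst hm
          simpa using hS
        · simp [Function.update_of_ne hm])
    refine h1.mono (fun V f => ?_)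
    rintro ⟨h, hh⟩
    refine ⟨FreeAbelianGroup.map (h (n + 1)) z, ?_⟩
    rw [hh.bd_map n (by omega) z (by simpa using hzS), hz, map_zero, sub_zero]
  · have : ∀ m, IsEmpty (X.Q (m + 1) U) := by
      intro m
      induction m with
      | zero => exact not_nonempty_iff.1 hU
      | succ m ih => exact ⟨fun x => ih.elim (X.d 0 x)⟩
    have := this n
    refine Loc.of_forall (fun V f => ⟨0, ?_⟩)
    rw [Subsingleton.elim z 0, map_zero, map_zero]

end Groth.Agent.CohtopB.HypCone
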