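import Mathlib.AlgebraicTopology.SimplicialObject.Basic
import Mathlib.AlgebraicTopology.SimplicialSet.StdSimplex

/-!
# Sections of coskeleta from compatible boundaries

For `L ⊣ ev` with `ev : D ⥤ Type w` and a simplicial object `K` of `D` for which `n`-coskeleta exist,
a compatible boundary `x_0, …, x_{n+1}` of elements of `ev (K_n)` comes from an element of
`ev ((cosk_n sk_n K)_{n+1})`. Only the adjunction `coskAdj` is used (no pointwise Kan extension).
-/

universe w v₁ u₁

open CategoryTheory Opposite Simplicial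

namespace Groth.Agent.CohtopB.HypCosk

/-- Compatible boundaries: `d_i x_j = d_{j-1} x_i` for `i < j` (no condition for `n = 0`). -/
def Compat (X : SimplicialObject (Type w)) : (n : ℕ) → (Fin (n + 2) → X.obj (op ⦋n⦌)) → Prop
  | 0, _ => True
  | _ + 1, x => ∀ i j, i ≤ j → X.δ i (x j.succ) = X.δ j (x i.castSucc)

lemma succAbove_ne_of_comp_eq {m n : ℕ} {i : Fin (n + 2)} {β : ⦋m⦌ ⟶ ⦋n⦌} {α : ⦋m⦌ ⟶ ⦋n + 1⦌}
    (h : α = β ≫ SimplexCategory.δ i) (a : Fin (m + 1)) : α.toOrderHom a ≠ i := by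
  subst h
  exact Fin.succAbove_ne i _

lemma face_unique_aux (X : SimplicialObject (Type w)) (n : ℕ) (x : Fin (n + 2) → X.obj (op ⦋n⦌))
    (hx : Compat X n x) {m : ℕ} (β β' : ⦋m⦌ ⟶ ⦋n⦌) (i j : Fin (n + 2)) (hij : i ≤ j)
    (h : β ≫ SimplexCategory.δ i = β' ≫ SimplexCategory.δ j) :
    X.map β.op (x i) = X.map β'.op (x j) := by
  obtain rfl | hlt := hij.eq_or_lt
  · rw [(cancel_mono _).1 h]
  · obtain ⟨j, rfl⟩ := Fin.exists_succ_eq.2 (Fin.ne_zero_of_lt hlt)
    obtain ⟨i, rfl⟩ := Fin.exists_castSucc_eq.2 (Fin.ne_last_of_lt hlt)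
    have hij' : i ≤ j := by
      rw [Fin.lt_def] at hlt
      simp only [Fin.val_castSucc, Fin.val_succ] at hlt
      rw [Fin.le_def]
      omega
    cases n with
    | zero =>
      exfalso
      have h1 := succAbove_ne_of_comp_eq (rfl : β ≫ SimplexCategory.δ i.castSucc = _) 0
      have h2 := succAbove_ne_of_comp_eq h 0
      generalize (β ≫ SimplexCategory.δ i.castSucc).toOrderHom 0 = a at h1 h2
      change Fin 2 at a
      have h3 := a.isLt
      have h4 : (i : ℕ) < 1 := i.isLt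
      have h5 : (j : ℕ) < 1 := j.isLt
      rw [Ne, Fin.ext_iff] at h1 h2
      simp only [Fin.val_castSucc, Fin.val_succ] at h1 h2
      omega
    | succ n =>
      have hj : ∀ a, β.toOrderHom a ≠ j := by
        intro a ha
        have h2 := succAbove_ne_of_comp_eq h a
        apply h2
        change i.castSucc.succAbove (β.toOrderHom a) = j.succ
        rw [ha, Fin.succAbove_of_le_castSucc]
        exact hij'
      obtain ⟨γ, rfl⟩ := SimplexCategory.eq_comp_δ_of_not_surjective' β j hj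
      have h3 : β' = γ ≫ SimplexCategory.δ i := by
        rw [← cancel_mono (SimplexCategory.δ j.succ), ← h, Category.assoc, Category.assoc,
          SimplexCategory.δ_comp_δ hij']
      subst h3
      rw [op_comp, op_comp, Functor.map_comp_apply, Functor.map_comp_apply]
      exact congrArg _ (hx i j hij').symm

lemma face_unique (X : SimplicialObject (Type w)) (n : ℕ) (x : Fin (n + 2) → X.obj (op ⦋n⦌))
    (hx : Compat X n x) {m : ℕ} (β β' : ⦋m⦌ ⟶ ⦋n⦌) (i j : Fin (n + 2))
    (h : β ≫ SimplexCategory.δ i = β' ≫ SimplexCategory.δ j) :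
    X.map β.op (x i) = X.map β'.op (x j) := by
  obtain hij | hij := le_total i j
  · exact face_unique_aux X n x hx β β' i j hij h
  · exact (face_unique_aux X n x hx β' β j i hij h.symm).symm

/-- The element of `X_m` attached to `α : [m] → [n+1]` with `m ≤ n` by a boundary. -/
def IsVal (X : SimplicialObject (Type w)) (n : ℕ) (x : Fin (n + 2) → X.obj (op ⦋n⦌))
    {m : ℕ} (α : ⦋m⦌ ⟶ ⦋n + 1⦌) (y : X.obj (op ⦋m⦌)) : Prop :=
  ∃ (i : Fin (n + 2)) (β : ⦋m⦌ ⟶ ⦋n⦌), α = β ≫ SimplexCategory.δ i ∧ y = X.map β.op (x i)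

lemma IsVal.unique {X : SimplicialObject (Type w)} {n : ℕ} {x : Fin (n + 2) → X.obj (op ⦋n⦌)}
    (hx : Compat X n x) {m : ℕ} {α : ⦋m⦌ ⟶ ⦋n + 1⦌} {y y' : X.obj (op ⦋m⦌)}
    (h : IsVal X n x α y) (h' : IsVal X n x α y') : y = y' := by
  obtain ⟨i, β, hα, rfl⟩ := h
  obtain ⟨j, β', hα', rfl⟩ := h'
  exact face_unique X n x hx β β' i j (hα.symm.trans hα')

lemma IsVal.exists (X : SimplicialObject (Type w)) (n : ℕ) (x : Fin (n + 2) → X.obj (op ⦋n⦌))
    {m : ℕ} (hm : m ≤ n) (α : ⦋m⦌ ⟶ ⦋n + 1⦌) : ∃ y, IsVal X n x α y := by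
  obtain ⟨i, β, h⟩ := SimplexCategory.eq_comp_δ_of_not_surjective α (fun hα => by
    have := Fintype.card_le_of_surjective _ hα
    simp only [SimplexCategory.len_mk, Fintype.card_fin] at this
    omega)
  exact ⟨_, i, β, h, rfl⟩

lemma IsVal.map {X : SimplicialObject (Type w)} {n : ℕ} {x : Fin (n + 2) → X.obj (op ⦋n⦌)}
    {m m' : ℕ} {α : ⦋m⦌ ⟶ ⦋n + 1⦌} {y : X.obj (op ⦋m⦌)} (h : IsVal X n x α y) (γ : ⦋m'⦌ ⟶ ⦋m⦌) :
    IsVal X n x (γ ≫ α) (X.map γ.op y) := by
  obtain ⟨i, β, rfl, rfl⟩ := h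
  exact ⟨i, γ ≫ β, by simp, by rw [op_comp, Functor.map_comp_apply]⟩

lemma IsVal.δ (X : SimplicialObject (Type w)) (n : ℕ) (x : Fin (n + 2) → X.obj (op ⦋n⦌))
    (i : Fin (n + 2)) : IsVal X n x (SimplexCategory.δ i) (x i) :=
  ⟨i, 𝟙 _, by simp, by simp⟩

/-- The map from the truncated standard simplex defined by a compatible boundary. -/
noncomputable def psi (X : SimplicialObject (Type w)) (n : ℕ) (x : Fin (n + 2) → X.obj (op ⦋n⦌))
    (hx : Compat X n x) :
    (SimplicialObject.truncation n).obj (Δ[n + 1] : SSet.{w}) ⟶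
      (SimplicialObject.truncation n).obj X where
  app m := ↾fun α => (IsVal.exists X n x m.unop.property (SSet.stdSimplex.objEquiv α)).choose
  naturality m m' f := by
    ext α
    have h := (IsVal.exists X n x m.unop.property (SSet.stdSimplex.objEquiv α)).choose_spec
    have h' := (IsVal.exists X n x m'.unop.property (SSet.stdSimplex.objEquiv
      (((SimplicialObject.truncation n).obj (Δ[n + 1] : SSet.{w})).map f α))).choose_spec
    exact IsVal.unique hx h' (h.map _)

lemma psi_app_δ (X : SimplicialObject (Type w)) (n : ℕ) (x : Fin (n + 2) → X.obj (op ⦋n⦌))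
    (hx : Compat X n x) (i : Fin (n + 2)) :
    (psi X n x hx).app (op ⟨⦋n⦌, le_refl n⟩)
      (SSet.stdSimplex.objEquiv.symm (SimplexCategory.δ i) : (Δ[n + 1] : SSet.{w}).obj (op ⦋n⦌)) =
      x i :=
  IsVal.unique hx (IsVal.exists X n x (le_refl n) (SimplexCategory.δ i)).choose_spec
    (IsVal.δ X n x i)

variable {D : Type u₁} [Category.{v₁} D] {L : Type w ⥤ D} {ev : D ⥤ Type w} (adj : L ⊣ ev)

/-- The transpose of `psi` with respect to the adjunction `L ⊣ ev`. -/
noncomputable def phi (K : SimplicialObject D) (n : ℕ)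
    (x : Fin (n + 2) → (K ⋙ ev).obj (op ⦋n⦌)) (hx : Compat (K ⋙ ev) n x) :
    (SimplicialObject.truncation n).obj ((Δ[n + 1] : SSet.{w}) ⋙ L) ⟶
      (SimplicialObject.truncation n).obj K where
  app m := (adj.homEquiv _ _).symm ((psi (K ⋙ ev) n x hx).app m)
  naturality m m' f := by
    have h := (psi (K ⋙ ev) n x hx).naturality f
    refine (adj.homEquiv_naturality_left_symm _ _).symm.trans ?_
    refine (congrArg _ h).trans ?_
    exact adj.homEquiv_naturality_right_symm _ _

include adj in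
/-- A compatible boundary in `K_n` comes from a section of the `n`-coskeleton in degree `n + 1`. -/
theorem exists_section (n : ℕ)
    [∀ (F : (SimplexCategory.Truncated n)ᵒᵖ ⥤ D),
      (SimplexCategory.Truncated.inclusion n).op.HasRightKanExtension F]
    (K : SimplicialObject D)
    (x : Fin (n + 2) → (K ⋙ ev).obj (op ⦋n⦌)) (hx : Compat (K ⋙ ev) n x) :
    ∃ c : ev.obj (((SimplicialObject.Truncated.cosk n).obj
        ((SimplicialObject.truncation n).obj K)).obj (op ⦋n + 1⦌)),
      ∀ i, ev.map (((SimplicialObject.Truncated.cosk n).obj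
          ((SimplicialObject.truncation n).obj K)).δ i ≫
        ((SimplicialObject.coskAdj n).counit.app ((SimplicialObject.truncation n).obj K)).app
          (op ⟨⦋n⦌, le_refl n⟩)) c = x i := by
  let φ := phi adj K n x hx
  let φ' := ((SimplicialObject.coskAdj n).homEquiv _ _) φ
  refine ⟨adj.homEquiv _ _ (φ'.app (op ⦋n + 1⦌))
    (SSet.stdSimplex.objEquiv.symm (𝟙 _) : (Δ[n + 1] : SSet.{w}).obj (op ⦋n + 1⦌)), fun i => ?_⟩
  have h1 : φ'.app (op ⦋n⦌) ≫
      ((SimplicialObject.coskAdj n).counit.app ((SimplicialObject.truncation n).obj K)).app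
          (op ⟨⦋n⦌, le_refl n⟩) = φ.app (op ⟨⦋n⦌, le_refl n⟩) := by
    have h := ((SimplicialObject.coskAdj n).homEquiv_counit (g := φ')).symm.trans
      (Equiv.symm_apply_apply _ φ)
    exact congrArg (fun f => NatTrans.app f (op ⟨⦋n⦌, le_refl n⟩)) h
  have h2 : φ'.app (op ⦋n + 1⦌) ≫ ((SimplicialObject.Truncated.cosk n).obj
          ((SimplicialObject.truncation n).obj K)).δ i =
      L.map ((Δ[n + 1] : SSet.{w}).map (SimplexCategory.δ i).op) ≫ φ'.app (op ⦋n⦌) :=
    (φ'.naturality (SimplexCategory.δ i).op).symm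
  have h3 : adj.homEquiv _ _ (φ'.app (op ⦋n + 1⦌)) ≫
      ev.map (((SimplicialObject.Truncated.cosk n).obj
          ((SimplicialObject.truncation n).obj K)).δ i ≫
        ((SimplicialObject.coskAdj n).counit.app ((SimplicialObject.truncation n).obj K)).app
          (op ⟨⦋n⦌, le_refl n⟩)) =
      (Δ[n + 1] : SSet.{w}).map (SimplexCategory.δ i).op ≫
        (psi (K ⋙ ev) n x hx).app (op ⟨⦋n⦌, le_refl n⟩) := by
    refine (adj.homEquiv_naturality_right _ _).symm.trans ?_
    rw [← Category.assoc, h2, Category.assoc, h1]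
    refine (adj.homEquiv_naturality_left _ _).trans ?_
    exact congrArg (fun f => (Δ[n + 1] : SSet.{w}).map (SimplexCategory.δ i).op ≫ f)
      ((adj.homEquiv _ _).apply_symm_apply _)
  have h4 := ConcreteCategory.congr_hom h3
    (SSet.stdSimplex.objEquiv.symm (𝟙 _) : (Δ[n + 1] : SSet.{w}).obj (op ⦋n + 1⦌))
  refine h4.trans ?_
  refine Eq.trans ?_ (psi_app_δ (K ⋙ ev) n x hx i)
  refine congrArg ((psi (K ⋙ ev) n x hx).app (op ⟨⦋n⦌, le_refl n⟩)) ?_
  exact congrArg (fun a : ⦋n⦌ ⟶ ⦋n + 1⦌ =>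
    (SSet.stdSimplex.objEquiv.symm a : (Δ[n + 1] : SSet.{w}).obj (op ⦋n⦌)))
    (Category.comp_id (SimplexCategory.δ i))

/-- The unit of `coskAdj` composed with the faces of the coskeleton. -/
theorem unit_comp_δ (n : ℕ)
    [∀ (F : (SimplexCategory.Truncated n)ᵒᵖ ⥤ D),
      (SimplexCategory.Truncated.inclusion n).op.HasRightKanExtension F]
    (K : SimplicialObject D) (i : Fin (n + 2)) :
    ((SimplicialObject.coskAdj n).unit.app K).app (op ⦋n + 1⦌) ≫
      ((SimplicialObject.Truncated.cosk n).obj ((SimplicialObject.truncation n).obj K)).δ i ≫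
        ((SimplicialObject.coskAdj n).counit.app ((SimplicialObject.truncation n).obj K)).app
          (op ⟨⦋n⦌, le_refl n⟩) = K.δ i := by
  have h2 : ((SimplicialObject.coskAdj n).unit.app K).app (op ⦋n + 1⦌) ≫
      ((SimplicialObject.Truncated.cosk n).obj ((SimplicialObject.truncation n).obj K)).δ i =
      K.δ i ≫ ((SimplicialObject.coskAdj n).unit.app K).app (op ⦋n⦌) :=
    (((SimplicialObject.coskAdj n).unit.app K).naturality (SimplexCategory.δ i).op).symm
  have h := (SimplicialObject.coskAdj n).left_triangle_components K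
  have h1 : ((SimplicialObject.coskAdj n).unit.app K).app (op ⦋n⦌) ≫
      ((SimplicialObject.coskAdj n).counit.app ((SimplicialObject.truncation n).obj K)).app
          (op ⟨⦋n⦌, le_refl n⟩) = 𝟙 _ :=
    congrArg (fun f => NatTrans.app f (op ⟨⦋n⦌, le_refl n⟩)) h
  rw [← Category.assoc, h2, Category.assoc, h1]
  exact Category.comp_id _

end Groth.Agent.CohtopB.HypCosk
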