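import Groth.Prelude.Def_Hyper

/-!
# Covering morphisms of formal coproducts via local lifting
-/

set_option autoImplicit false

universe u

open CategoryTheory CategoryTheory.Limits Opposite

namespace Groth.Agent.CohtopB.HyperSR

variable {C : Type u} [SmallCategory C] {J : GrothendieckTopology C}

/-- The sieve on `V` of all maps over which the section `y` of `L` lifts along `f : K ⟶ L`. -/
def liftSieve {K L : FormalCoproduct.{u} C} (f : K ⟶ L) {V : C}
    (y : (FormalCoproduct.incl C).obj V ⟶ L) : Sieve V where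
  arrows W g := ∃ z : (FormalCoproduct.incl C).obj W ⟶ K,
    z ≫ f = (FormalCoproduct.incl C).map g ≫ y
  downward_closed := by
    rintro W W' g ⟨z, hz⟩ h
    exact ⟨(FormalCoproduct.incl C).map h ≫ z, by
      rw [Category.assoc, hz, Functor.map_comp, Category.assoc]⟩

lemma mem_liftSieve {K L : FormalCoproduct.{u} C} (f : K ⟶ L) {V W : C}
    (y : (FormalCoproduct.incl C).obj V ⟶ L) (g : W ⟶ V) :
    (liftSieve f y).arrows g ↔ ∃ z : (FormalCoproduct.incl C).obj W ⟶ K,
      z ≫ f = (FormalCoproduct.incl C).map g ≫ y := Iff.rfl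

/-- A morphism of formal coproducts is a covering iff every section of the target lifts locally. -/
theorem isSRCovering_iff {K L : FormalCoproduct.{u} C} (f : K ⟶ L) :
    Hyper.IsSRCovering J f ↔
      ∀ (V : C) (y : (FormalCoproduct.incl C).obj V ⟶ L), liftSieve f y ∈ J V := by
  constructor
  · intro h V y
    refine J.superset_covering ?_ (J.pullback_stable (y.φ PUnit.unit) (h (y.f PUnit.unit)))
    rintro W g ⟨T, b, c, ⟨i⟩, hb⟩
    refine ⟨FormalCoproduct.Hom.fromIncl i.1 b, ?_⟩
    rw [FormalCoproduct.hom_ext_iff']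
    rintro ⟨⟩
    refine ⟨i.2, ?_⟩
    change (b ≫ f.φ i.1) ≫ eqToHom _ = g ≫ y.φ PUnit.unit
    rw [Category.assoc]
    exact hb
  · intro h j
    refine J.superset_covering ?_
      (h (L.obj j) (FormalCoproduct.Hom.fromIncl j (𝟙 (L.obj j))))
    rintro W g ⟨z, hz⟩
    rw [FormalCoproduct.hom_ext_iff'] at hz
    obtain ⟨h1, h2⟩ := hz PUnit.unit
    refine ⟨_, z.φ PUnit.unit, _,
      Presieve.ofArrows.mk (⟨z.f PUnit.unit, h1⟩ : {a : K.I // f.f a = j}), ?_⟩
    change (z.φ PUnit.unit ≫ f.φ (z.f PUnit.unit)) ≫ eqToHom _ = g ≫ 𝟙 _ at h2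
    rw [Category.assoc, Category.comp_id] at h2
    exact h2

theorem IsSRCovering.comp {K L M : FormalCoproduct.{u} C} {f : K ⟶ L} {g : L ⟶ M}
    (hf : Hyper.IsSRCovering J f) (hg : Hyper.IsSRCovering J g) :
    Hyper.IsSRCovering J (f ≫ g) := by
  rw [isSRCovering_iff] at *
  intro V y
  refine J.transitive (hg V y) _ ?_
  rintro W a ⟨z, hz⟩
  refine J.superset_covering ?_ (hf W z)
  rintro T b ⟨z', hz'⟩
  exact ⟨z', by rw [reassoc_of% hz', hz, Functor.map_comp, Category.assoc]⟩

theorem IsSRCovering.baseChange {K L L' P : FormalCoproduct.{u} C} {f : K ⟶ L} {g : L' ⟶ L}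
    {p : P ⟶ L'} {q : P ⟶ K} (sq : IsPullback p q g f)
    (hf : Hyper.IsSRCovering J f) : Hyper.IsSRCovering J p := by
  rw [isSRCovering_iff] at *
  intro V y
  refine J.superset_covering ?_ (hf V (y ≫ g))
  rintro W a ⟨z, hz⟩
  exact ⟨sq.lift ((FormalCoproduct.incl C).map a ≫ y) z (by rw [hz, Category.assoc]), by simp⟩

end Groth.Agent.CohtopB.HyperSR
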