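import Groth.Prelude.Def_Hyper
import Groth.Agent.CohtopB.HypCosk
import Groth.Agent.CohtopB.HyperSR

/-!
# Hypercoverings have local fillings of compatible boundaries
-/

set_option autoImplicit false

universe u

open CategoryTheory CategoryTheory.Limits Opposite Simplicial

namespace Groth.Agent.CohtopB.HypFill

lemma comp_aux {D : Type*} [Category D] {W V K₁ T P : D} (z : W ⟶ K₁) (g : W ⟶ V) (a : K₁ ⟶ T)
    (c : V ⟶ T) (h : z ≫ a = g ≫ c) (q : T ⟶ P) (d : K₁ ⟶ P) (h1 : a ≫ q = d) (x : V ⟶ P)
    (h2 : c ≫ q = x) : z ≫ d = g ≫ x := by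
  rw [← h1, ← h2, ← Category.assoc, h, Category.assoc]

section

variable {E : Type u} [SmallCategory E]

/-- The functor sending a set `S` to the formal coproduct of `S` copies of `V`. -/
@[simps]
def constL (V : E) : Type u ⥤ FormalCoproduct.{u} E where
  obj S := ⟨S, fun _ => V⟩
  map f := ⟨f, fun _ => 𝟙 V⟩

/-- Sections over `V` are right adjoint to copies of `V`. -/
def constAdj (V : E) :
    constL V ⊣ coyoneda.obj (op ((FormalCoproduct.incl.{u} E).obj V)) :=
  Adjunction.mkOfHomEquiv
    { homEquiv := fun S X =>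
        { toFun := fun f => ↾fun s => ⟨fun _ => f.f s, fun _ => f.φ s⟩
          invFun := fun g => ⟨fun s => (g s).f PUnit.unit, fun s => (g s).φ PUnit.unit⟩
          left_inv := fun f => rfl
          right_inv := fun g => rfl }
      homEquiv_naturality_left_symm := by
        intro S S' X f g
        refine FormalCoproduct.hom_ext rfl (fun i => ?_)
        exact (Category.comp_id _).trans (Category.id_comp _).symm
      homEquiv_naturality_right := by
        intro S X Y f g
        rfl }

variable (K : SimplicialObject (FormalCoproduct.{u} E)) (n : ℕ)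
  [∀ (F : (SimplexCategory.Truncated n)ᵒᵖ ⥤ FormalCoproduct.{u} E),
      (SimplexCategory.Truncated.inclusion n).op.HasRightKanExtension F]

/-- Compatible boundaries of sections of `K_n` over `V`. -/
def SecCompat (K : SimplicialObject (FormalCoproduct.{u} E)) {V : E} :
    (n : ℕ) → (Fin (n + 2) → ((FormalCoproduct.incl.{u} E).obj V ⟶ K _⦋n⦌)) → Prop
  | 0, _ => True
  | n + 1, x => ∀ i j : Fin (n + 2), i ≤ j → x j.succ ≫ K.δ i = x i.castSucc ≫ K.δ j

variable {K n}

theorem exists_cosk_section {V : E}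
    (x : Fin (n + 2) → ((FormalCoproduct.incl.{u} E).obj V ⟶ K _⦋n⦌)) (hx : SecCompat K n x) :
    ∃ c : (FormalCoproduct.incl.{u} E).obj V ⟶ ((SimplicialObject.cosk n).obj K) _⦋n + 1⦌,
      ∀ (W : FormalCoproduct.{u} E) (g : W ⟶ (FormalCoproduct.incl.{u} E).obj V)
        (z : W ⟶ K _⦋n + 1⦌),
        z ≫ ((SimplicialObject.coskAdj n).unit.app K).app (op ⦋n + 1⦌) = g ≫ c →
          ∀ i, z ≫ K.δ i = g ≫ x i := by
  have hx' : HypCosk.Compat (K ⋙ coyoneda.obj (op ((FormalCoproduct.incl.{u} E).obj V))) n x := by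
    cases n with
    | zero => trivial
    | succ n => exact hx
  obtain ⟨c, hc⟩ := HypCosk.exists_section (constAdj V) n K x hx'
  refine ⟨c, fun W g z hz i => ?_⟩
  have h1 := HypCosk.unit_comp_δ n K i
  exact comp_aux z g _ c hz _ _ h1 _ (hc i)

end

end Groth.Agent.CohtopB.HypFill
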