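import Mathlib.CategoryTheory.Sites.Grothendieck
import Mathlib.CategoryTheory.Limits.FormalCoproducts.Basic
import Mathlib.AlgebraicTopology.SimplicialObject.Basic
import Mathlib.GroupTheory.FreeAbelianGroup
import Mathlib.Algebra.BigOperators.Fin
import Mathlib.Tactic.Abel
import Mathlib.Algebra.BigOperators.Group.Finset.Lemmas

/-!
# Local triviality of hypercoverings: local cone operators

`K` is a simplicial object of formal coproducts; sections of `K` over `V` are morphisms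
`(incl C).obj V ⟶ K _⦋n⦌`.  If compatible boundaries of sections are locally filled, then
every cycle of the chain complex of free abelian groups on sections is locally a boundary.
-/

set_option autoImplicit false

universe w t v u

open CategoryTheory CategoryTheory.Limits Opposite Simplicial

namespace Groth.Agent.CohtopB.LocTriv

section Loc

variable {C : Type u} [Category.{v} C]

/-- `P` holds locally on `V`: it holds for all members of some covering sieve. -/
def Loc (J : GrothendieckTopology C) (V : C) (P : ∀ ⦃W : C⦄, (W ⟶ V) → Prop) : Prop :=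
  ∃ S ∈ J V, ∀ ⦃W : C⦄ (g : W ⟶ V), S.arrows g → P g

variable {J : GrothendieckTopology C} {V : C}

lemma Loc.mono {P Q : ∀ ⦃W : C⦄, (W ⟶ V) → Prop} (h : Loc J V P)
    (hPQ : ∀ ⦃W : C⦄ (g : W ⟶ V), P g → Q g) : Loc J V Q := by
  obtain ⟨S, hS, h⟩ := h
  exact ⟨S, hS, fun W g hg => hPQ g (h g hg)⟩

lemma Loc.of_forall {P : ∀ ⦃W : C⦄, (W ⟶ V) → Prop} (h : ∀ ⦃W : C⦄ (g : W ⟶ V), P g) :
    Loc J V P :=
  ⟨⊤, J.top_mem V, fun _ g _ => h g⟩

lemma Loc.and {P Q : ∀ ⦃W : C⦄, (W ⟶ V) → Prop} (h : Loc J V P) (h' : Loc J V Q) :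
    Loc J V (fun _ g => P g ∧ Q g) := by
  obtain ⟨S, hS, h⟩ := h
  obtain ⟨S', hS', h'⟩ := h'
  exact ⟨S ⊓ S', J.intersection_covering hS hS', fun W g hg => ⟨h g hg.1, h' g hg.2⟩⟩

lemma Loc.pullback {P : ∀ ⦃W : C⦄, (W ⟶ V) → Prop} (h : Loc J V P) {V' : C} (f : V' ⟶ V) :
    Loc J V' (fun _ g => P (g ≫ f)) := by
  obtain ⟨S, hS, h⟩ := h
  exact ⟨S.pullback f, J.pullback_stable f hS, fun W g hg => h _ hg⟩

lemma Loc.bind {P Q : ∀ ⦃W : C⦄, (W ⟶ V) → Prop} (h : Loc J V P)
    (h' : ∀ ⦃W : C⦄ (g : W ⟶ V), P g → Loc J W (fun _ g' => Q (g' ≫ g))) : Loc J V Q := by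
  obtain ⟨S, hS, h⟩ := h
  choose R hR hR' using fun (W : C) (g : W ⟶ V) (hg : S.arrows g) => h' g (h g hg)
  refine ⟨Sieve.bind S.arrows (fun W g hg => R W g hg), J.bind_covering hS fun W g hg => hR W g hg, ?_⟩
  rintro W _ ⟨W', g, f, hf, hg, rfl⟩
  exact hR' _ f hf g hg

lemma Loc.finite_forall {α : Type*} {s : Set α} (hs : s.Finite)
    {P : α → ∀ ⦃W : C⦄, (W ⟶ V) → Prop} (h : ∀ a ∈ s, Loc J V (P a)) :
    Loc J V (fun _ g => ∀ a ∈ s, P a g) := by
  induction s, hs using Set.Finite.induction_on with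
  | empty => exact Loc.of_forall (fun W g a ha => absurd ha (Set.notMem_empty a))
  | @insert a s _ _ ih =>
    refine ((h a (Set.mem_insert _ _)).and (ih fun b hb => h b (Set.mem_insert_of_mem _ hb))).mono ?_
    rintro W g ⟨h1, h2⟩ b (rfl | hb)
    · exact h1
    · exact h2 b hb

end Loc

section Sections

variable {C : Type u} [Category.{v} C]

/-- Sections of degree `n` over `V` of a simplicial object of formal coproducts. -/
abbrev Sec (K : SimplicialObject (FormalCoproduct.{w} C)) (n : ℕ) (V : C) :=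
  (FormalCoproduct.incl.{w} C).obj V ⟶ K _⦋n⦌

/-- Restriction of sections. -/
abbrev rs {K : SimplicialObject (FormalCoproduct.{w} C)} {n : ℕ} {V W : C} (g : W ⟶ V)
    (x : Sec K n V) : Sec K n W :=
  (FormalCoproduct.incl.{w} C).map g ≫ x

/-- An augmentation of (the sections of) `K` to a presheaf of sets. -/
structure Augm (K : SimplicialObject (FormalCoproduct.{w} C)) (E : Cᵒᵖ ⥤ Type t) where
  /-- the augmentation -/
  ε : ∀ {V : C}, Sec K 0 V → E.obj (op V)
  ε_rs : ∀ {V W : C} (g : W ⟶ V) (x : Sec K 0 V), ε (rs g x) = E.map g.op (ε x)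
  ε_δ : ∀ {V : C} (x : Sec K 1 V), ε (x ≫ K.δ 1) = ε (x ≫ K.δ 0)

/-- Compatible boundaries are locally filled. -/
structure IsLocHyp (J : GrothendieckTopology C) {K : SimplicialObject (FormalCoproduct.{w} C)}
    {E : Cᵒᵖ ⥤ Type t} (a : Augm K E) : Prop where
  zero : ∀ ⦃V : C⦄ (e : E.obj (op V)),
    Loc J V (fun W g => ∃ z : Sec K 0 W, a.ε z = E.map g.op e)
  one : ∀ ⦃V : C⦄ (y₀ y₁ : Sec K 0 V), a.ε y₀ = a.ε y₁ →
    Loc J V (fun W g => ∃ z : Sec K 1 W, z ≫ K.δ 0 = rs g y₀ ∧ z ≫ K.δ 1 = rs g y₁)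
  succ : ∀ ⦃n : ℕ⦄ ⦃V : C⦄ (y : Fin (n + 3) → Sec K (n + 1) V),
    (∀ i j : Fin (n + 2), i ≤ j → y j.succ ≫ K.δ i = y i.castSucc ≫ K.δ j) →
    Loc J V (fun W g => ∃ z : Sec K (n + 2) W, ∀ i, z ≫ K.δ i = rs g (y i))

variable {J : GrothendieckTopology C} {K : SimplicialObject (FormalCoproduct.{w} C)}
  {E : Cᵒᵖ ⥤ Type t} {a : Augm K E}

/-- The relations defining a partial cone operator on the restrictions to `W` of the simplices
in `A`, up to dimension `n`. -/
structure IsCone (a : Augm K E) {V W : C} (g : W ⟶ V) (A : ∀ k, Set (Sec K k V)) (n : ℕ)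
    (v : E.obj (op V) → Sec K 0 W) (c : ∀ k, Sec K k V → Sec K (k + 1) W) : Prop where
  zero₀ : ∀ x ∈ A 0, c 0 x ≫ K.δ 0 = rs g x
  zero₁ : ∀ x ∈ A 0, c 0 x ≫ K.δ 1 = v (a.ε x)
  succ₀ : ∀ k < n, ∀ x ∈ A (k + 1), c (k + 1) x ≫ K.δ 0 = rs g x
  succ₁ : ∀ k < n, ∀ x ∈ A (k + 1), ∀ i, c (k + 1) x ≫ K.δ (Fin.succ i) = c k (x ≫ K.δ i)

lemma rs_comp {n : ℕ} {V W W' : C} (g : W ⟶ V) (g' : W' ⟶ W) (x : Sec K n V) :
    rs (g' ≫ g) x = rs g' (rs g x) := by
  simp [rs]

lemma rs_δ {n : ℕ} {V W : C} (g : W ⟶ V) (x : Sec K (n + 1) V) (i : Fin (n + 2)) :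
    rs g x ≫ K.δ i = rs g (x ≫ K.δ i) := by
  simp [rs]

theorem exists_local_cone (h : IsLocHyp J a) {V : C} (p : Sec K 0 V) (A : ∀ k, Set (Sec K k V))
    (hA : ∀ k, (A k).Finite) (hd : ∀ k, ∀ x ∈ A (k + 1), ∀ i, x ≫ K.δ i ∈ A k) (n : ℕ) :
    Loc J V (fun W g => ∃ (v : E.obj (op V) → Sec K 0 W) (c : ∀ k, Sec K k V → Sec K (k + 1) W),
      IsCone a g A n v c) := by
  classical
  -- a global section in each degree
  let pt : ∀ (k : ℕ) (W : C) (_ : W ⟶ V), Sec K k W := fun k W g =>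
    rs g p ≫ K.map (SimplexCategory.const ⦋k⦌ ⦋0⦌ 0).op
  induction n with
  | zero =>
    -- first the cone points
    have h0 : Loc J V (fun W g => ∀ e ∈ a.ε '' A 0, ∃ z : Sec K 0 W, a.ε z = E.map g.op e) :=
      Loc.finite_forall ((hA 0).image _) (fun e _ => h.zero e)
    refine h0.bind fun W g hg => ?_
    have : Nonempty (Sec K 0 W) := ⟨pt 0 W g⟩
    choose! v hv using hg
    have h1 : Loc J W (fun W' g' => ∀ x ∈ A 0, ∃ z : Sec K 1 W',
        z ≫ K.δ 0 = rs g' (rs g x) ∧ z ≫ K.δ 1 = rs g' (v (a.ε x))) := by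
      refine Loc.finite_forall (hA 0) (fun x hx => h.one _ _ ?_)
      rw [a.ε_rs, hv _ ⟨x, hx, rfl⟩]
    refine h1.mono fun W' g' hg' => ?_
    have : Nonempty (Sec K 1 W') := ⟨pt 1 W' (g' ≫ g)⟩
    choose! c hc using hg'
    refine ⟨fun e => rs g' (v e), fun k => match k with
      | 0 => c
      | k + 1 => fun _ => pt (k + 2) W' (g' ≫ g), ?_, ?_, ?_, ?_⟩
    · intro x hx
      rw [rs_comp]
      exact (hc x hx).1
    · intro x hx
      exact (hc x hx).2
    · intro k hk
      exact absurd hk (Nat.not_lt_zero k)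
    · intro k hk
      exact absurd hk (Nat.not_lt_zero k)
  | succ n ih =>
    refine ih.bind fun W g ⟨v, c, hc⟩ => ?_
    have h0 : ∀ x ∈ A n, c n x ≫ K.δ 0 = rs g x := by
      cases n with
      | zero => exact hc.zero₀
      | succ n => exact hc.succ₀ n (Nat.lt_succ_self n)
    have h1 : Loc J W (fun W' g' => ∀ x ∈ A (n + 1), ∃ z : Sec K (n + 2) W',
        ∀ i, z ≫ K.δ i =
          rs g' ((Fin.cons (rs g x) (fun i => c n (x ≫ K.δ i)) : Fin (n + 3) → Sec K (n + 1) W) i)) := by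
      refine Loc.finite_forall (hA (n + 1)) (fun x hx => h.succ _ ?_)
      intro i j hij
      rw [Fin.cons_succ]
      induction i using Fin.cases with
      | zero =>
        rw [Fin.castSucc_zero, Fin.cons_zero, h0 _ (hd _ _ hx _), rs_δ]
      | succ i =>
        induction j using Fin.cases with
        | zero => exact absurd hij (by simp)
        | succ j =>
          rw [Fin.succ_le_succ_iff] at hij
          rw [Fin.castSucc_succ, Fin.cons_succ]
          cases n with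
          | zero =>
            obtain rfl : i = 0 := Subsingleton.elim (α := Fin 1) _ _
            obtain rfl : j = 0 := Subsingleton.elim (α := Fin 1) _ _
            have e1 := hc.zero₁ _ (hd _ _ hx 1)
            have e0 := hc.zero₁ _ (hd _ _ hx 0)
            have e2 := a.ε_δ x
            simp only [Fin.succ_zero_eq_one, Fin.castSucc_zero] at *
            rw [e1, e0, e2]
          | succ n =>
            rw [hc.succ₁ n (Nat.lt_succ_self n) _ (hd _ _ hx _),
              hc.succ₁ n (Nat.lt_succ_self n) _ (hd _ _ hx _)]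
            rw [Category.assoc, Category.assoc, K.δ_comp_δ hij]
    refine h1.mono fun W' g' hg' => ?_
    have : Nonempty (Sec K (n + 2) W') := ⟨pt (n + 2) W' (g' ≫ g)⟩
    choose! c' hc' using hg'
    refine ⟨fun e => rs g' (v e), fun k x => if hk : k = n + 1 then
        (by subst hk; exact c' x) else rs g' (c k x), ?_, ?_, ?_, ?_⟩
    · intro x hx
      rw [dif_neg (by omega), rs_δ, hc.zero₀ x hx, rs_comp]
    · intro x hx
      rw [dif_neg (by omega), rs_δ, hc.zero₁ x hx]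
    · intro k hk x hx
      by_cases hkn : k = n
      · subst hkn
        rw [dif_pos rfl]
        have := hc' x hx 0
        rw [Fin.cons_zero] at this
        rw [rs_comp]
        exact this
      · rw [dif_neg (by omega), rs_δ, hc.succ₀ k (by omega) x hx, rs_comp]
    · intro k hk x hx i
      by_cases hkn : k = n
      · subst hkn
        rw [dif_pos rfl, dif_neg (by omega)]
        have := hc' x hx i.succ
        rw [Fin.cons_succ] at this
        exact this
      · rw [dif_neg (by omega), dif_neg (by omega), rs_δ, hc.succ₁ k (by omega) x hx]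

/-- The alternating boundary on chains of sections. -/
noncomputable def bd (K : SimplicialObject (FormalCoproduct.{w} C)) (n : ℕ) (V : C) :
    FreeAbelianGroup (Sec K (n + 1) V) →+ FreeAbelianGroup (Sec K n V) :=
  ∑ i : Fin (n + 2), (-1 : ℤ) ^ (i : ℕ) • FreeAbelianGroup.map (fun x => x ≫ K.δ i)

lemma bd_of (n : ℕ) {V : C} (x : Sec K (n + 1) V) :
    bd K n V (FreeAbelianGroup.of x) =
      ∑ i : Fin (n + 2), (-1 : ℤ) ^ (i : ℕ) • FreeAbelianGroup.of (x ≫ K.δ i) := by
  rw [bd, AddMonoidHom.finsetSum_apply]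
  refine Finset.sum_congr rfl fun i _ => ?_
  change (-1 : ℤ) ^ (i : ℕ) • (FreeAbelianGroup.map (fun x => x ≫ K.δ i) (FreeAbelianGroup.of x)) = _
  rw [FreeAbelianGroup.map_of_apply]

lemma exists_finite_mem_closure {α : Type*} (z : FreeAbelianGroup α) :
    ∃ s : Set α, s.Finite ∧ z ∈ AddSubgroup.closure (FreeAbelianGroup.of '' s) := by
  induction z using FreeAbelianGroup.induction_on with
  | zero => exact ⟨∅, Set.finite_empty, AddSubgroup.zero_mem _⟩
  | of x => exact ⟨{x}, Set.finite_singleton _, AddSubgroup.subset_closure ⟨x, rfl, rfl⟩⟩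
  | neg x h =>
    obtain ⟨s, hs, h⟩ := h
    exact ⟨s, hs, AddSubgroup.neg_mem _ h⟩
  | add x y hx hy =>
    obtain ⟨s, hs, hx⟩ := hx
    obtain ⟨t, ht, hy⟩ := hy
    exact ⟨s ∪ t, hs.union ht, AddSubgroup.add_mem _
      (AddSubgroup.closure_mono (Set.image_mono Set.subset_union_left) hx)
      (AddSubgroup.closure_mono (Set.image_mono Set.subset_union_right) hy)⟩

lemma IsCone.bd_map {V W : C} {g : W ⟶ V} {A : ∀ k, Set (Sec K k V)} {n : ℕ}
    {v : E.obj (op V) → Sec K 0 W} {c : ∀ k, Sec K k V → Sec K (k + 1) W}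
    (hc : IsCone a g A (n + 1) v c) {z : FreeAbelianGroup (Sec K (n + 1) V)}
    (hz : z ∈ AddSubgroup.closure (FreeAbelianGroup.of '' (A (n + 1)))) :
    bd K (n + 1) W (FreeAbelianGroup.map (c (n + 1)) z) =
      FreeAbelianGroup.map (rs g) z - FreeAbelianGroup.map (c n) (bd K n V z) := by
  induction hz using AddSubgroup.closure_induction with
  | mem z hz =>
    obtain ⟨x, hx, rfl⟩ := hz
    rw [FreeAbelianGroup.map_of_apply, FreeAbelianGroup.map_of_apply, bd_of, bd_of,
      Fin.sum_univ_succ, map_sum]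
    simp only [Fin.val_zero, pow_zero, one_smul, hc.succ₀ n (Nat.lt_succ_self n) x hx,
      Fin.val_succ, hc.succ₁ n (Nat.lt_succ_self n) x hx, map_zsmul, FreeAbelianGroup.map_of_apply]
    rw [sub_eq_add_neg, ← Finset.sum_neg_distrib]
    congr 1
    refine Finset.sum_congr rfl fun i _ => ?_
    rw [pow_succ]
    simp
  | zero => simp
  | add x y _ _ hx hy =>
    rw [map_add, map_add, map_add, map_add, map_add, hx, hy]
    abel
  | neg x _ hx =>
    rw [map_neg, map_neg, map_neg, map_neg, map_neg, hx]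
    abel

/-- Every cycle is locally a boundary. -/
theorem cycle_locally_boundary (h : IsLocHyp J a) {V : C} {n : ℕ}
    (z : FreeAbelianGroup (Sec K (n + 1) V)) (hz : bd K n V z = 0) :
    Loc J V (fun W g => ∃ w : FreeAbelianGroup (Sec K (n + 2) W),
      bd K (n + 1) W w = FreeAbelianGroup.map (rs g) z) := by
  obtain ⟨s, hs, hz'⟩ := exists_finite_mem_closure z
  rcases s.eq_empty_or_nonempty with rfl | ⟨x₀, _⟩
  · obtain rfl : z = 0 := by simpa using hz'
    exact Loc.of_forall fun W g => ⟨0, by simp⟩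
  · let A : ∀ k, Set (Sec K k V) := fun k =>
      (fun p : Sec K (n + 1) V × (⦋k⦌ ⟶ ⦋n + 1⦌) => p.1 ≫ K.map p.2.op) '' (s ×ˢ Set.univ)
    have hA : ∀ k, (A k).Finite := fun k => (hs.prod Set.finite_univ).image _
    have hd : ∀ k, ∀ x ∈ A (k + 1), ∀ i, x ≫ K.δ i ∈ A k := by
      rintro k _ ⟨⟨y, σ⟩, ⟨hy, _⟩, rfl⟩ i
      refine ⟨⟨y, SimplexCategory.δ i ≫ σ⟩, ⟨hy, Set.mem_univ _⟩, ?_⟩
      dsimp only
      rw [op_comp, K.map_comp, Category.assoc]
      rfl
    have hsA : s ⊆ A (n + 1) := fun x hx => ⟨⟨x, 𝟙 _⟩, ⟨hx, Set.mem_univ _⟩, by simp⟩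
    refine (exists_local_cone h (x₀ ≫ K.map (SimplexCategory.const ⦋0⦌ ⦋n + 1⦌ 0).op) A hA hd
      (n + 1)).mono ?_
    rintro W g ⟨v, c, hc⟩
    refine ⟨FreeAbelianGroup.map (c (n + 1)) z, ?_⟩
    rw [hc.bd_map (AddSubgroup.closure_mono (Set.image_mono hsA) hz'), hz, map_zero, sub_zero]

end Sections

end Groth.Agent.CohtopB.LocTriv
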