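import Groth.Prelude.Def_Hyper
import Groth.Agent.CohtopB.HyperSR
import Groth.Agent.CohtopB.HypCosk
import Groth.Agent.CohtopB.LocTriv

/-!
# Hypercoverings are locally trivial
-/

set_option autoImplicit false

universe u

open CategoryTheory CategoryTheory.Limits Opposite Simplicial

namespace Groth.Agent.CohtopB.HypGlue

open HyperSR LocTriv

section adj

variable {D : Type u} [Category.{u} D]

/-- The constant family functor. -/
@[simps]
def constFam (A : D) : Type u ⥤ FormalCoproduct.{u} D where
  obj T := ⟨T, fun _ => A⟩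
  map f := ⟨f, fun _ => 𝟙 A⟩

/-- Constant families are left adjoint to sections. -/
def constFamAdj (A : D) :
    constFam A ⊣ coyoneda.obj (op ((FormalCoproduct.incl.{u} D).obj A)) :=
  Adjunction.mkOfHomEquiv
    { homEquiv := fun T L =>
        { toFun := fun f => ↾fun t => (⟨fun _ => f.f t, fun _ => f.φ t⟩ :
            (FormalCoproduct.incl.{u} D).obj A ⟶ L)
          invFun := fun g => ⟨fun t => (g t).f PUnit.unit, fun t => (g t).φ PUnit.unit⟩
          left_inv := fun f => rfl
          right_inv := fun g => rfl }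
      homEquiv_naturality_left_symm := fun f g => by
        refine FormalCoproduct.hom_ext rfl (fun i => ?_)
        refine (Category.comp_id _).trans ?_
        exact (Category.id_comp (((g (f i)).φ PUnit.unit))).symm
      homEquiv_naturality_right := fun f g => rfl }

end adj

section fill

variable {D : Type u} [Category.{u} D] {J : GrothendieckTopology D}

/-- Local filling of compatible boundaries from the coskeletal condition. -/
theorem loc_fill (K : SimplicialObject (FormalCoproduct.{u} D)) (n : ℕ)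
    [∀ (F : (SimplexCategory.Truncated n)ᵒᵖ ⥤ FormalCoproduct.{u} D),
      (SimplexCategory.Truncated.inclusion n).op.HasRightKanExtension F]
    (hK : Hyper.IsSRCovering J
      (((SimplicialObject.coskAdj n).unit.app K).app (op ⦋n + 1⦌)))
    {V : D} (x : Fin (n + 2) → Sec K n V)
    (hx : HypCosk.Compat (K ⋙ coyoneda.obj (op ((FormalCoproduct.incl.{u} D).obj V))) n x) :
    Loc J V (fun W g => ∃ z : Sec K (n + 1) W, ∀ i, z ≫ K.δ i = rs g (x i)) := by
  obtain ⟨c, hc⟩ := HypCosk.exists_section (constFamAdj V) n K x hx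
  rw [isSRCovering_iff] at hK
  refine ⟨_, hK V c, ?_⟩
  rintro W g ⟨z, hz⟩
  refine ⟨z, fun i => ?_⟩
  rw [← hc i, ← HypCosk.unit_comp_δ n K i]
  have e := congrArg (fun f => f ≫ (((SimplicialObject.Truncated.cosk n).obj
    ((SimplicialObject.truncation n).obj K)).δ i ≫ ((SimplicialObject.coskAdj n).counit.app
      ((SimplicialObject.truncation n).obj K)).app (op ⟨⦋n⦌, le_refl n⟩))) hz
  exact (Category.assoc _ _ _).symm.trans (e.trans (Category.assoc _ _ _))

/-- The augmentation to the final presheaf. -/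
@[simps]
def augPt (K : SimplicialObject (FormalCoproduct.{u} D)) :
    Augm K ((Functor.const Dᵒᵖ).obj PUnit.{u + 1}) where
  ε _ := PUnit.unit
  ε_rs _ _ := rfl
  ε_δ _ := rfl

theorem isLocHyp_augPt (K : SimplicialObject (FormalCoproduct.{u} D))
    [∀ (n : ℕ) (F : (SimplexCategory.Truncated n)ᵒᵖ ⥤ FormalCoproduct.{u} D),
      (SimplexCategory.Truncated.inclusion n).op.HasRightKanExtension F]
    (h0 : ∀ V, Loc J V (fun W _ => Nonempty (Sec K 0 W)))
    (hK : ∀ n, Hyper.IsSRCovering J
      (((SimplicialObject.coskAdj n).unit.app K).app (op ⦋n + 1⦌))) :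
    IsLocHyp J (augPt K) where
  zero V e := (h0 V).mono fun W g ⟨z⟩ => ⟨z, rfl⟩
  one V y₀ y₁ _ := by
    refine (loc_fill K 0 (hK 0) ![y₀, y₁] trivial).mono ?_
    rintro W g ⟨z, hz⟩
    exact ⟨z, hz 0, hz 1⟩
  succ n V y hy := loc_fill K (n + 1) (hK (n + 1)) y hy

end fill

section over

variable {C : Type u} [SmallCategory C]

/-- A local property over `X` gives a local property on the total object. -/
lemma loc_of_over {J : GrothendieckTopology C} {X : C} {A : Over X}
    {P : ∀ ⦃B : Over X⦄, (B ⟶ A) → Prop} (h : Loc (J.over X) A P) :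
    Loc J A.left (fun W g => P (Over.homMk g : Over.mk (g ≫ A.hom) ⟶ A)) := by
  obtain ⟨S, hS, h⟩ := h
  rw [GrothendieckTopology.mem_over_iff] at hS
  exact ⟨_, hS, fun W g hg => h _ ((Sieve.overEquiv_iff _ _).1 hg)⟩

/-- A local property on the total object gives a local property over `X`. -/
lemma over_of_loc {J : GrothendieckTopology C} {X : C} {A : Over X}
    {P : ∀ ⦃B : C⦄, (B ⟶ A.left) → Prop} (h : Loc J A.left P) :
    Loc (J.over X) A (fun W g => P g.left) := by
  obtain ⟨S, hS, h⟩ := h
  exact ⟨_, J.overEquiv_symm_mem_over A S hS, fun _ g hg => h _ ((Sieve.overEquiv_symm_iff _ _).1 hg)⟩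

variable (X : C)

/-- Forget the structure maps to `X`. -/
@[simps]
def fg : FormalCoproduct.{u} (Over X) ⥤ FormalCoproduct.{u} C where
  obj L := ⟨L.I, fun i => (L.obj i).left⟩
  map f := ⟨f.f, fun i => (f.φ i).left⟩

variable {X}

/-- The structure map of a section. -/
def str {L : FormalCoproduct.{u} (Over X)} {V : C}
    (x : (FormalCoproduct.incl.{u} C).obj V ⟶ (fg X).obj L) : V ⟶ X :=
  x.φ PUnit.unit ≫ (L.obj (x.f PUnit.unit)).hom

lemma str_comp {L L' : FormalCoproduct.{u} (Over X)} (f : L ⟶ L') {V : C}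
    (x : (FormalCoproduct.incl.{u} C).obj V ⟶ (fg X).obj L) :
    str (x ≫ (fg X).map f) = str x := by
  exact (Category.assoc _ _ _).trans
    (congrArg (fun t => x.φ PUnit.unit ≫ t) (Over.w (f.φ (x.f PUnit.unit))))

lemma str_rs {L : FormalCoproduct.{u} (Over X)} {V W : C} (g : W ⟶ V)
    (x : (FormalCoproduct.incl.{u} C).obj V ⟶ (fg X).obj L) :
    str ((FormalCoproduct.incl.{u} C).map g ≫ x) = g ≫ str x := by
  exact Category.assoc _ _ _

/-- Lift a section to the over category. -/
def up {L : FormalCoproduct.{u} (Over X)} (A : Over X)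
    (x : (FormalCoproduct.incl.{u} C).obj A.left ⟶ (fg X).obj L) (h : str x = A.hom) :
    (FormalCoproduct.incl.{u} (Over X)).obj A ⟶ L :=
  ⟨fun _ => x.f PUnit.unit, fun _ => Over.homMk (x.φ PUnit.unit) h⟩

/-- Forget. -/
def down {L : FormalCoproduct.{u} (Over X)} {A : Over X}
    (y : (FormalCoproduct.incl.{u} (Over X)).obj A ⟶ L) :
    (FormalCoproduct.incl.{u} C).obj A.left ⟶ (fg X).obj L :=
  ⟨fun _ => y.f PUnit.unit, fun _ => (y.φ PUnit.unit).left⟩

lemma down_up {L : FormalCoproduct.{u} (Over X)} (A : Over X)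
    (x : (FormalCoproduct.incl.{u} C).obj A.left ⟶ (fg X).obj L) (h : str x = A.hom) :
    down (up A x h) = x := rfl

lemma down_injective {L : FormalCoproduct.{u} (Over X)} {A : Over X}
    {y y' : (FormalCoproduct.incl.{u} (Over X)).obj A ⟶ L} (h : down y = down y') : y = y' := by
  rw [FormalCoproduct.hom_ext_iff'] at h
  obtain ⟨h1, h2⟩ := h PUnit.unit
  refine FormalCoproduct.hom_ext (funext fun _ => h1) (fun i => ?_)
  ext
  refine Eq.trans ?_ h2
  change _ = (y.φ PUnit.unit).left ≫ _
  rw [Over.comp_left]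
  congr 1
  simp
  rfl

lemma down_comp {L L' : FormalCoproduct.{u} (Over X)} {A : Over X}
    (y : (FormalCoproduct.incl.{u} (Over X)).obj A ⟶ L) (f : L ⟶ L') :
    down (y ≫ f) = down y ≫ (fg X).map f := rfl

lemma down_rs {L : FormalCoproduct.{u} (Over X)} {A B : Over X} (g : B ⟶ A)
    (y : (FormalCoproduct.incl.{u} (Over X)).obj A ⟶ L)  :
    down ((FormalCoproduct.incl.{u} (Over X)).map g ≫ y) =
      (FormalCoproduct.incl.{u} C).map g.left ≫ down y := rfl

/-- The augmentation of the simplicial object over `C` to the presheaf represented by `X`. -/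
def augOver (K : SimplicialObject (FormalCoproduct.{u} (Over X))) :
    Augm (((SimplicialObject.whiskering _ _).obj (fg X)).obj K) (yoneda.obj X) where
  ε x := str (L := K _⦋0⦌) x
  ε_rs g x := str_rs (L := K _⦋0⦌) g x
  ε_δ x := (str_comp (K.δ (1 : Fin 2)) x).trans (str_comp (K.δ (0 : Fin 2)) x).symm

theorem isLocHyp_augOver {J : GrothendieckTopology C}
    (K : SimplicialObject (FormalCoproduct.{u} (Over X)))
    (hK : IsLocHyp (J.over X) (augPt K)) : IsLocHyp J (augOver K) where
  zero V e := by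
    refine (loc_of_over (hK.zero (V := Over.mk e) PUnit.unit)).mono fun W g ⟨z, _⟩ => ?_
    exact ⟨down z, (Over.w (z.φ PUnit.unit))⟩
  one V y₀ y₁ h := by
    let A : Over X := Over.mk (str (L := K _⦋0⦌) y₀)
    let y'₀ : Sec K 0 A := up A y₀ rfl
    let y'₁ : Sec K 0 A := up A y₁ h.symm
    refine (loc_of_over (hK.one (V := A) y'₀ y'₁ rfl)).mono fun W g ⟨z, hz0, hz1⟩ => ?_
    exact ⟨down z, congrArg down hz0, congrArg down hz1⟩
  succ n V y hy := by
    let A : Over X := Over.mk (str (L := K _⦋n + 1⦌) (y 0))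
    have h : ∀ i, str (L := K _⦋n + 1⦌) (y i) = A.hom := by
      intro i
      induction i using Fin.cases with
      | zero => rfl
      | succ j =>
        have := congrArg (fun t => str (L := K _⦋n⦌) t) (hy 0 j (Fin.zero_le _))
        exact (str_comp (K.δ (0 : Fin (n + 2))) (y j.succ)).symm.trans
          (this.trans (str_comp (K.δ j) (y 0)))
    let y' : Fin (n + 3) → Sec K (n + 1) A := fun i => up A (y i) (h i)
    refine (loc_of_over (hK.succ (V := A) y' (fun i j hij => down_injective (hy i j hij)))).mono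
      fun W g ⟨z, hz⟩ => ?_
    exact ⟨down z, fun i => congrArg down (hz i)⟩

/-- A hypercovering of `X` is locally trivial over `X`. -/
theorem isLocHyp_of_isHypercovering [HasPullbacks C] {J : GrothendieckTopology C}
    (K : SimplicialObject (FormalCoproduct.{u} (Over X)))
    [∀ (n : ℕ) (F : (SimplexCategory.Truncated n)ᵒᵖ ⥤ FormalCoproduct.{u} (Over X)),
      (SimplexCategory.Truncated.inclusion n).op.HasRightKanExtension F]
    (hK : Hyper.IsHypercovering J X K) : IsLocHyp (J.over X) (augPt K) := by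
  refine isLocHyp_augPt K (fun A => ?_) hK.2
  have : Loc J A.left (fun W g => ∃ (i : (K _⦋0⦌).I) (h : W ⟶ ((K _⦋0⦌).obj i).left),
      h ≫ ((K _⦋0⦌).obj i).hom = g ≫ A.hom) := by
    refine ⟨_, J.pullback_stable A.hom hK.1, ?_⟩
    rintro W g ⟨T, b, c, ⟨i⟩, hb⟩
    exact ⟨i, b, hb⟩
  refine (over_of_loc this).mono ?_
  rintro W g ⟨i, h, hh⟩
  exact ⟨⟨fun _ => i, fun _ => Over.homMk h (hh.trans (Over.w g))⟩⟩

end over

end Groth.Agent.CohtopB.HypGlue
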