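import Groth.Agent.CohtopB.HypInj
import Mathlib.CategoryTheory.Sites.Sheaf
import Mathlib.CategoryTheory.Limits.Types.Limits

/-!
# Degree zero Cech cohomology for locally fillable simplicial objects
-/

set_option autoImplicit false

universe u

open CategoryTheory CategoryTheory.Limits Opposite Simplicial

namespace Groth.Agent.CohtopB.HypHZero

open LocTriv HypInj

section

variable {C : Type u} [SmallCategory C] {J : GrothendieckTopology C} {P : Cᵒᵖ ⥤ AddCommGrpCat.{u}}

/-- Elements of a sheaf which are locally equal are equal. -/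
lemma eq_of_loc (hP : Presheaf.IsSheaf J P) {V : C} {x y : P.obj (op V)}
    (h : Loc J V (fun _ g => P.map g.op x = P.map g.op y)) : x = y := by
  obtain ⟨S, hS, h⟩ := h
  have h1 := (isSheaf_iff_isSheaf_of_type _ _).1
    ((Presheaf.isSheaf_iff_isSheaf_forget J P (forget AddCommGrpCat.{u})).1 hP)
  exact (h1 S hS).isSeparatedFor.ext (fun W g hg => h g hg)

/-- Gluing of a family of sections on the members of a covering sieve. -/
lemma exists_glue (hP : Presheaf.IsSheaf J P) {V : C} (S : Sieve V) (hS : S ∈ J V)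
    (x : ∀ ⦃W : C⦄ (g : W ⟶ V), S g → P.obj (op W))
    (hx : ∀ ⦃W W' : C⦄ (g : W ⟶ V) (hg : S g) (g' : W' ⟶ W),
      P.map g'.op (x g hg) = x (g' ≫ g) (S.downward_closed hg g')) :
    ∃ t : P.obj (op V), ∀ ⦃W : C⦄ (g : W ⟶ V) (hg : S g), P.map g.op t = x g hg := by
  have h1 := (isSheaf_iff_isSheaf_of_type _ _).1
    ((Presheaf.isSheaf_iff_isSheaf_forget J P (forget AddCommGrpCat.{u})).1 hP)
  let x' : Presieve.FamilyOfElements (P ⋙ forget AddCommGrpCat.{u}) S.arrows :=
    fun W g hg => x g hg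
  have hx' : x'.Compatible := by
    rw [Presieve.compatible_iff_sieveCompatible]
    intro W W' g g' hg
    exact (hx g hg g').symm
  exact ⟨(h1 S hS).amalgamate x' hx', fun W g hg => (h1 S hS).valid_glue hx' g hg⟩

variable {K : SimplicialObject (FormalCoproduct.{u} C)} {E : Cᵒᵖ ⥤ Type u} {a : Augm K E}

lemma evh_apply_rs {n : ℕ} {V W : C} (g : W ⟶ V) (y : Sec K n V) (s : val P (K _⦋n⦌)) :
    evh P (rs g y) s = P.map g.op (evh P y s) := by
  rw [evh_rs]
  rfl

/-- A degree zero cocycle takes the same value on sections with the same augmentation. -/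
lemma evh_eq_of_cocycle (h : IsLocHyp J a) (hP : Presheaf.IsSheaf J P) (s : val P (K _⦋0⦌))
    (hs : dd K P 0 s = 0) {V : C} (y₀ y₁ : Sec K 0 V) (hy : a.ε y₀ = a.ε y₁) :
    evh P y₀ s = evh P y₁ s := by
  refine eq_of_loc hP ((h.one y₀ y₁ hy).mono (fun W g => ?_))
  rintro ⟨z, hz0, hz1⟩
  rw [← evh_apply_rs, ← evh_apply_rs, ← hz0, ← hz1]
  have h2 := evh_dd K P s z
  rw [hs, map_zero, Fin.sum_univ_two] at h2
  simp only [Fin.val_zero, pow_zero, one_smul, Fin.val_one, pow_one, neg_smul] at h2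
  exact (sub_eq_zero.1 (by rw [sub_eq_add_neg]; exact h2.symm))

/-- The section over `e` defined by a degree zero cocycle. -/
theorem exists_section_of_cocycle (h : IsLocHyp J a) (hP : Presheaf.IsSheaf J P)
    (s : val P (K _⦋0⦌)) (hs : dd K P 0 s = 0) {V : C} (e : E.obj (op V)) :
    ∃ t : P.obj (op V), ∀ ⦃W : C⦄ (g : W ⟶ V) (y : Sec K 0 W), a.ε y = E.map g.op e →
      P.map g.op t = evh P y s := by
  let S : Sieve V :=
    { arrows := fun W g => ∃ y : Sec K 0 W, a.ε y = E.map g.op e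
      downward_closed := by
        rintro W W' g ⟨y, hy⟩ g'
        refine ⟨rs g' y, ?_⟩
        rw [a.ε_rs, hy, op_comp, Functor.map_comp_apply] }
  have hS : S ∈ J V := by
    obtain ⟨R, hR, hR'⟩ := h.zero e
    exact J.superset_covering (fun W g hg => hR' g hg) hR
  obtain ⟨t, ht⟩ := exists_glue hP S hS (fun W g hg => evh P hg.choose s) (fun W W' g hg g' => by
    rw [← evh_apply_rs]
    refine evh_eq_of_cocycle h hP s hs _ _ ?_
    rw [a.ε_rs, hg.choose_spec, (S.downward_closed hg g').choose_spec, op_comp,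
      Functor.map_comp_apply])
  refine ⟨t, fun W g y hy => ?_⟩
  rw [ht g ⟨y, hy⟩]
  exact evh_eq_of_cocycle h hP s hs _ _ (Exists.choose_spec (⟨y, hy⟩ : S g) |>.trans hy.symm)

/-- Degree zero cohomology of the Cech complex from an augmentation. -/
theorem nonempty_homology_zero_iso {G : AddCommGrpCat.{u}} (α : G ⟶ val P (K _⦋0⦌))
    (hα : ∀ x : G, dd K P 0 (α x) = 0) (hinj : ∀ x : G, α x = 0 → x = 0)
    (hsurj : ∀ s : val P (K _⦋0⦌), dd K P 0 s = 0 → ∃ x : G, α x = s) :
    Nonempty ((cx K P).homology 0 ≅ G) := by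
  have hα' : α ≫ (cx K P).d 0 1 = 0 := by
    ext x
    rw [cx_d]
    exact hα x
  let S : ShortComplex AddCommGrpCat.{u} := ShortComplex.mk α ((cx K P).d 0 1) hα'
  have hS : S.Exact := by
    rw [ShortComplex.ab_exact_iff]
    intro s hs
    refine hsurj s ?_
    change (cx K P).d 0 1 s = 0 at hs
    rw [cx_d] at hs
    exact hs
  have : Mono S.f := by
    rw [AddCommGrpCat.mono_iff_injective]
    exact (injective_iff_map_eq_zero S.f.hom).2 hinj
  exact ⟨((cx K P).isoHomologyπ₀).symm ≪≫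
    IsLimit.conePointUniqueUpToIso ((cx K P).cyclesIsKernel 0 1 (by simp)) hS.fIsKernel⟩

end

end Groth.Agent.CohtopB.HypHZero
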