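import Mathlib.CategoryTheory.Sites.SheafCohomology.Cech
import Mathlib.Algebra.Category.Grp.Adjunctions
import Mathlib.Algebra.Category.Grp.Abelian
import Mathlib.Algebra.Category.Grp.Limits
import Mathlib.Algebra.Homology.ShortComplex.Ab
import Mathlib.Algebra.Homology.ShortComplex.Exact
import Mathlib.Algebra.Homology.ShortComplex.HomologicalComplex
import Mathlib.CategoryTheory.Abelian.Exact
import Mathlib.CategoryTheory.Abelian.FunctorCategory
import Mathlib.CategoryTheory.Limits.Shapes.ConcreteCategory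
import Groth.Agent.CohtopB.LocTriv

/-!
# Cech complexes of injective presheaves for locally trivial simplicial objects
-/

set_option autoImplicit false

universe u

open CategoryTheory CategoryTheory.Limits Opposite Simplicial

namespace Groth.Agent.CohtopB.HypInj

open LocTriv

section evh

variable {C : Type u} [SmallCategory C] (P : Cᵒᵖ ⥤ AddCommGrpCat.{u})

/-- The value of `P` on a formal coproduct. -/
noncomputable abbrev val (L : FormalCoproduct.{u} C) : AddCommGrpCat.{u} :=
  ((FormalCoproduct.evalOp.{u} C AddCommGrpCat.{u}).obj P).obj (op L)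

/-- The projections. -/
noncomputable def proj {L : FormalCoproduct.{u} C} (i : L.I) :
    val P L ⟶ P.obj (op (L.obj i)) :=
  Pi.π (fun i : L.I => P.obj (op (L.obj i))) i

/-- Evaluation at a section of a formal coproduct. -/
noncomputable def evh {L : FormalCoproduct.{u} C} {V : C}
    (x : (FormalCoproduct.incl.{u} C).obj V ⟶ L) : val P L ⟶ P.obj (op V) :=
  proj P (FormalCoproduct.Hom.asSigma x).1 ≫ P.map (FormalCoproduct.Hom.asSigma x).2.op

lemma map_proj {L L' : FormalCoproduct.{u} C} (f : L' ⟶ L) (i : L'.I) :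
    ((FormalCoproduct.evalOp.{u} C AddCommGrpCat.{u}).obj P).map f.op ≫ proj P i =
      proj P (f.f i) ≫ P.map (f.φ i).op :=
  Pi.lift_π _ _

lemma evh_rs {L : FormalCoproduct.{u} C} {V W : C} (g : W ⟶ V)
    (x : (FormalCoproduct.incl.{u} C).obj V ⟶ L) :
    evh P ((FormalCoproduct.incl.{u} C).map g ≫ x) = evh P x ≫ P.map g.op := by
  unfold evh
  rw [Category.assoc, ← P.map_comp]
  rfl

lemma map_evh {L L' : FormalCoproduct.{u} C} (f : L' ⟶ L) {V : C}
    (x : (FormalCoproduct.incl.{u} C).obj V ⟶ L') :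
    ((FormalCoproduct.evalOp.{u} C AddCommGrpCat.{u}).obj P).map f.op ≫ evh P x =
      evh P (x ≫ f) := by
  unfold evh
  rw [← Category.assoc, map_proj, Category.assoc, ← P.map_comp]
  rfl

lemma evh_fromIncl {L : FormalCoproduct.{u} C} (i : L.I) :
    evh P (FormalCoproduct.Hom.fromIncl i (𝟙 (L.obj i))) = proj P i := by
  unfold evh
  change proj P i ≫ P.map (𝟙 _) = _
  rw [P.map_id, Category.comp_id]

lemma val_ext {L : FormalCoproduct.{u} C} {s t : val P L}
    (h : ∀ i : L.I, evh P (FormalCoproduct.Hom.fromIncl i (𝟙 (L.obj i))) s =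
      evh P (FormalCoproduct.Hom.fromIncl i (𝟙 (L.obj i))) t) : s = t := by
  refine Concrete.limit_ext (Discrete.functor (fun i : L.I => P.obj (op (L.obj i)))) s t ?_
  rintro ⟨i⟩
  have := h i
  rw [evh_fromIncl] at this
  exact this

/-- Cochains from natural families. -/
lemma exists_val {L : FormalCoproduct.{u} C}
    (τ : ∀ ⦃V : C⦄, ((FormalCoproduct.incl.{u} C).obj V ⟶ L) → P.obj (op V))
    (hτ : ∀ ⦃V W : C⦄ (g : W ⟶ V) (x : (FormalCoproduct.incl.{u} C).obj V ⟶ L),
      τ ((FormalCoproduct.incl.{u} C).map g ≫ x) = P.map g.op (τ x)) :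
    ∃ s : val P L, ∀ ⦃V : C⦄ (x : (FormalCoproduct.incl.{u} C).obj V ⟶ L), evh P x s = τ x := by
  let s : val P L := (Concrete.productEquiv (fun i : L.I => P.obj (op (L.obj i)))).symm
    (fun i => τ (FormalCoproduct.Hom.fromIncl i (𝟙 (L.obj i))))
  have hs : ∀ i : L.I, proj P i s = τ (FormalCoproduct.Hom.fromIncl i (𝟙 (L.obj i))) := fun i =>
    Concrete.productEquiv_symm_apply_π (fun i : L.I => P.obj (op (L.obj i))) _ _
  refine ⟨s, fun V x => ?_⟩
  have hx : x = (FormalCoproduct.incl.{u} C).map (FormalCoproduct.Hom.asSigma x).2 ≫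
      FormalCoproduct.Hom.fromIncl (FormalCoproduct.Hom.asSigma x).1 (𝟙 _) := by
    refine FormalCoproduct.hom_ext rfl (fun i => ?_)
    change x.φ i ≫ 𝟙 _ = x.φ _ ≫ 𝟙 _
    rfl
  conv_rhs => rw [hx, hτ, ← hs]
  unfold evh
  rw [ConcreteCategory.comp_apply]

end evh

lemma hom_sum_apply {M N : AddCommGrpCat.{u}} {ι : Type*} (t : Finset ι) (f : ι → (M ⟶ N))
    (s : M) : (∑ i ∈ t, f i) s = ∑ i ∈ t, f i s := by
  let φ : (M ⟶ N) →+ N :=
    { toFun := fun g => g s
      map_zero' := rfl
      map_add' := fun _ _ => rfl }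
  exact map_sum φ f t

section cx

variable {C : Type u} [SmallCategory C] (K : SimplicialObject (FormalCoproduct.{u} C))
  (P : Cᵒᵖ ⥤ AddCommGrpCat.{u})

/-- The Cech complex. -/
noncomputable abbrev cx : CochainComplex AddCommGrpCat.{u} ℕ :=
  (FormalCoproduct.cochainComplexFunctor K).obj P

/-- The Cech differential. -/
noncomputable def dd (n : ℕ) : val P (K _⦋n⦌) ⟶ val P (K _⦋n + 1⦌) :=
  ∑ i : Fin (n + 2), (-1 : ℤ) ^ (i : ℕ) •
      ((FormalCoproduct.evalOp.{u} C AddCommGrpCat.{u}).obj P).map (K.δ i).op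

lemma cx_d (n : ℕ) : (cx K P).d n (n + 1) = dd K P n :=
  CochainComplex.of_d
    (fun n => ((FormalCoproduct.cosimplicialObjectFunctor K).obj P).obj ⦋n⦌)
    (AlgebraicTopology.AlternatingCofaceMapComplex.objD
      ((FormalCoproduct.cosimplicialObjectFunctor K).obj P)) n

lemma dd_evh (n : ℕ) {V : C} (x : Sec K (n + 1) V) :
    dd K P n ≫ evh P x =
      ∑ i : Fin (n + 2), (-1 : ℤ) ^ (i : ℕ) • evh P (x ≫ K.δ i) := by
  rw [dd, Preadditive.sum_comp]
  refine Finset.sum_congr rfl fun i _ => ?_
  rw [Preadditive.zsmul_comp, map_evh]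

lemma evh_dd {n : ℕ} (s : val P (K _⦋n⦌)) {V : C} (x : Sec K (n + 1) V) :
    evh P x (dd K P n s) = ∑ i : Fin (n + 2), (-1 : ℤ) ^ (i : ℕ) • evh P (x ≫ K.δ i) s := by
  rw [← ConcreteCategory.comp_apply, dd_evh]
  rw [hom_sum_apply]
  rfl

/-- Extension of a cochain to chains. -/
noncomputable def lin {n : ℕ} (s : val P (K _⦋n⦌)) (V : C) :
    FreeAbelianGroup (Sec K n V) →+ P.obj (op V) :=
  FreeAbelianGroup.lift (fun x => evh P x s)

lemma lin_bd {n : ℕ} (s : val P (K _⦋n⦌)) (V : C) (z : FreeAbelianGroup (Sec K (n + 1) V)) :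
    lin K P s V (bd K n V z) = lin K P (dd K P n s) V z := by
  have : (lin K P s V).comp (bd K n V) = lin K P (dd K P n s) V := by
    ext x
    rw [AddMonoidHom.comp_apply, bd_of, map_sum]
    simp only [map_zsmul, lin, FreeAbelianGroup.lift_apply_of, evh_dd]
  exact DFunLike.congr_fun this z

/-- Free abelian presheaf on the sections in degree `n`. -/
noncomputable def freeSec (n : ℕ) : Cᵒᵖ ⥤ AddCommGrpCat.{u} where
  obj V := AddCommGrpCat.of (FreeAbelianGroup (Sec K n V.unop))
  map g := AddCommGrpCat.ofHom (FreeAbelianGroup.map (rs g.unop))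
  map_id V := by
    ext x
    change FreeAbelianGroup.map (rs (𝟙 V.unop)) (FreeAbelianGroup.of x) = FreeAbelianGroup.of x
    rw [FreeAbelianGroup.map_of_apply]
    simp [rs]
  map_comp g g' := by
    ext x
    change FreeAbelianGroup.map (rs (g'.unop ≫ g.unop)) (FreeAbelianGroup.of x) =
      FreeAbelianGroup.map (rs g'.unop) (FreeAbelianGroup.map (rs g.unop) (FreeAbelianGroup.of x))
    rw [FreeAbelianGroup.map_of_apply, FreeAbelianGroup.map_of_apply,
      FreeAbelianGroup.map_of_apply, rs_comp]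

/-- The boundary as a morphism of presheaves. -/
noncomputable def bdHom (n : ℕ) : freeSec K (n + 1) ⟶ freeSec K n where
  app V := AddCommGrpCat.ofHom (bd K n V.unop)
  naturality V W g := by
    ext z
    change bd K n W.unop (FreeAbelianGroup.map (rs g.unop) z) =
      FreeAbelianGroup.map (rs g.unop) (bd K n V.unop z)
    have : (bd K n W.unop).comp (FreeAbelianGroup.map (rs g.unop)) =
        (FreeAbelianGroup.map (rs g.unop)).comp (bd K n V.unop) := by
      refine FreeAbelianGroup.lift_ext _ _ fun x => ?_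
      rw [AddMonoidHom.comp_apply, AddMonoidHom.comp_apply, FreeAbelianGroup.map_of_apply,
        bd_of, bd_of, map_sum]
      refine Finset.sum_congr rfl fun i _ => ?_
      rw [map_zsmul, FreeAbelianGroup.map_of_apply, rs_δ]
    exact DFunLike.congr_fun this z

/-- A cochain as a morphism of presheaves. -/
noncomputable def linHom {n : ℕ} (s : val P (K _⦋n⦌)) : freeSec K n ⟶ P where
  app V := AddCommGrpCat.ofHom (lin K P s V.unop)
  naturality V W g := by
    ext z
    change lin K P s W.unop (FreeAbelianGroup.map (rs g.unop) z) =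
      P.map g (lin K P s V.unop z)
    have : (lin K P s W.unop).comp (FreeAbelianGroup.map (rs g.unop)) =
        (P.map g).hom.comp (lin K P s V.unop) := by
      refine FreeAbelianGroup.lift_ext _ _ fun x => ?_
      rw [AddMonoidHom.comp_apply, AddMonoidHom.comp_apply, FreeAbelianGroup.map_of_apply]
      simp only [lin, FreeAbelianGroup.lift_apply_of]
      have := congrArg (fun f => f s) (evh_rs P g.unop x)
      exact this
    exact DFunLike.congr_fun this z

end cx

section main

variable {C : Type u} [SmallCategory C] {J : GrothendieckTopology C}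
  {K : SimplicialObject (FormalCoproduct.{u} C)} {E : Cᵒᵖ ⥤ Type u} {a : Augm K E}
  {P : Cᵒᵖ ⥤ AddCommGrpCat.{u}}

theorem exact_of_isLocHyp (h : IsLocHyp J a) [Injective P]
    (hsep : ∀ ⦃V : C⦄ (x : P.obj (op V)), Loc J V (fun W g => P.map g.op x = 0) → x = 0)
    {n : ℕ} (s : val P (K _⦋n + 1⦌)) (hs : dd K P (n + 1) s = 0) :
    ∃ t : val P (K _⦋n⦌), dd K P n t = s := by
  let S : ShortComplex (Cᵒᵖ ⥤ AddCommGrpCat.{u}) :=
    ShortComplex.mk (kernel.ι (bdHom K n)) (bdHom K n) (kernel.condition _)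
  have hS : S.Exact := ShortComplex.exact_kernel _
  have h0 : S.f ≫ linHom K P s = 0 := by
    ext V y
    change lin K P s V.unop ((kernel.ι (bdHom K n)).app V y) = 0
    apply hsep
    have hz : bd K n V.unop ((kernel.ι (bdHom K n)).app V y) = 0 := by
      have := congrArg (fun (f : kernel (bdHom K n) ⟶ _) => f.app V y)
        (kernel.condition (bdHom K n))
      exact this
    refine (cycle_locally_boundary h _ hz).mono ?_
    rintro W g ⟨w, hw⟩
    have := congrArg (fun f => f ((kernel.ι (bdHom K n)).app V y)) ((linHom K P s).naturality g.op)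
    refine this.symm.trans ?_
    change lin K P s W (FreeAbelianGroup.map (rs g) _) = 0
    rw [← hw, lin_bd, hs]
    have : lin K P (0 : val P (K _⦋n + 2⦌)) W = 0 := by
      refine FreeAbelianGroup.lift_ext _ _ fun x => ?_
      simp only [lin, FreeAbelianGroup.lift_apply_of]
      rw [map_zero]
      rfl
    rw [this]
    rfl
  let ψ : freeSec K n ⟶ P := hS.descToInjective (linHom K P s) h0
  have hψ : bdHom K n ≫ ψ = linHom K P s := hS.comp_descToInjective _ _
  obtain ⟨t, ht⟩ := exists_val P (L := K _⦋n⦌)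
    (fun V x => ψ.app (op V) (FreeAbelianGroup.of x)) (fun _ W g x => by
      have := congrArg (fun f => f (FreeAbelianGroup.of x)) (ψ.naturality g.op)
      refine Eq.trans ?_ this
      change _ = ψ.app (op W) (FreeAbelianGroup.map (rs g) (FreeAbelianGroup.of x))
      rw [FreeAbelianGroup.map_of_apply])
  refine ⟨t, val_ext P fun i => ?_⟩
  let x : Sec K (n + 1) ((K _⦋n + 1⦌).obj i) := FormalCoproduct.Hom.fromIncl i (𝟙 _)
  have h1 := congrArg (fun f => f.app (op ((K _⦋n + 1⦌).obj i)) (FreeAbelianGroup.of x)) hψ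
  change evh P x (dd K P n t) = evh P x s
  rw [evh_dd]
  simp only [ht]
  change ψ.app _ (bd K n _ (FreeAbelianGroup.of x)) = lin K P s _ (FreeAbelianGroup.of x) at h1
  rw [bd_of] at h1
  simp only [lin, FreeAbelianGroup.lift_apply_of] at h1
  rw [← h1]
  symm
  refine (map_sum (ψ.app (op ((K _⦋n + 1⦌).obj i))).hom _ _).trans ?_
  refine Finset.sum_congr rfl fun j _ => ?_
  exact map_zsmul (ψ.app (op ((K _⦋n + 1⦌).obj i))).hom _ _

theorem isZero_homology (h : IsLocHyp J a) [Injective P]
    (hsep : ∀ ⦃V : C⦄ (x : P.obj (op V)), Loc J V (fun W g => P.map g.op x = 0) → x = 0)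
    (p : ℕ) : IsZero ((cx K P).homology (p + 1)) := by
  rw [← HomologicalComplex.exactAt_iff_isZero_homology,
    (cx K P).exactAt_iff' p (p + 1) (p + 2) (by simp) (by simp), ShortComplex.ab_exact_iff]
  intro s hs
  change (cx K P).d (p + 1) (p + 2) s = 0 at hs
  rw [cx_d] at hs
  obtain ⟨t, ht⟩ := exact_of_isLocHyp h hsep s hs
  refine ⟨t, ?_⟩
  change (cx K P).d p (p + 1) t = s
  rw [cx_d]
  exact ht

end main

end Groth.Agent.CohtopB.HypInj
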