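import Groth.Prelude.Def_Hyper

/-!
# Sections of coproducts of representables

`FormalCoproduct.yoneda` is identified with the presheaf of morphisms from single-object formal coproducts.
-/

set_option autoImplicit false

universe u

open CategoryTheory CategoryTheory.Limits Opposite

namespace Groth.Agent.CohtopB.HypSec

variable {C : Type u} [SmallCategory C]

/-- The presheaf of sections of a formal coproduct: `V ↦ Hom (incl V, X)`. -/
abbrev secFunctor (C : Type u) [SmallCategory C] : FormalCoproduct.{u} C ⥤ Cᵒᵖ ⥤ Type u :=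
  yoneda ⋙ (Functor.whiskeringLeft _ _ _).obj (FormalCoproduct.incl.{u} C).op

/-- The cofan exhibiting `secFunctor.obj X` as a coproduct of representables. -/
def secCofan (X : FormalCoproduct.{u} C) : Cofan (fun i : X.I => yoneda.obj (X.obj i)) :=
  Cofan.mk ((secFunctor C).obj X) (fun i =>
    { app := fun _ => ↾fun f => FormalCoproduct.Hom.fromIncl i f
      naturality := fun _ _ _ => rfl })

lemma secCofan_inj_app (X : FormalCoproduct.{u} C) (i : X.I) (V : Cᵒᵖ) (f : V.unop ⟶ X.obj i) :
    ((secCofan X).inj i).app V f = FormalCoproduct.Hom.fromIncl i f := rfl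

lemma map_fromIncl (X : FormalCoproduct.{u} C) {V W : C} (g : W ⟶ V)
    (h : (FormalCoproduct.incl.{u} C).obj V ⟶ X) :
    (FormalCoproduct.incl.{u} C).map g ≫ h =
      FormalCoproduct.Hom.fromIncl (h.f PUnit.unit) (g ≫ h.φ PUnit.unit) := rfl

/-- `secFunctor.obj X` is a coproduct of representables. -/
def isColimitSecCofan (X : FormalCoproduct.{u} C) : IsColimit (secCofan X) :=
  Cofan.IsColimit.mk _
    (fun s =>
      { app := fun V => ↾fun (h : (FormalCoproduct.incl.{u} C).obj V.unop ⟶ X) =>
          (s.inj (h.f PUnit.unit)).app V (h.φ PUnit.unit)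
        naturality := fun V W g => by
          ext h
          exact ConcreteCategory.congr_hom ((s.inj (FormalCoproduct.Hom.f h PUnit.unit)).naturality g)
            (FormalCoproduct.Hom.φ h PUnit.unit) })
    (fun s i => rfl)
    (fun s m hm => by
      ext V h
      exact ConcreteCategory.congr_hom (NatTrans.congr_app (hm (FormalCoproduct.Hom.f h PUnit.unit)) V)
        (FormalCoproduct.Hom.φ h PUnit.unit))

/-- The inclusion of a component in `FormalCoproduct.yoneda.obj X`. -/
noncomputable def ι (X : FormalCoproduct.{u} C) (i : X.I) :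
    yoneda.obj (X.obj i) ⟶ (FormalCoproduct.yoneda.{u}).obj X :=
  Sigma.ι (fun i : X.I => yoneda.obj (X.obj i)) i

lemma ι_map {X Y : FormalCoproduct.{u} C} (f : X ⟶ Y) (i : X.I) :
    ι X i ≫ (FormalCoproduct.yoneda.{u}).map f = yoneda.map (f.φ i) ≫ ι Y (f.f i) :=
  Sigma.ι_desc _ _

lemma hom_ext' {X : FormalCoproduct.{u} C} {P : Cᵒᵖ ⥤ Type u}
    {f g : (FormalCoproduct.yoneda.{u}).obj X ⟶ P} (h : ∀ i, ι X i ≫ f = ι X i ≫ g) : f = g :=
  Sigma.hom_ext _ _ h

/-- Components of `yonedaIso`. -/
noncomputable def isoObj (X : FormalCoproduct.{u} C) :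
    (FormalCoproduct.yoneda.{u}).obj X ≅ (secFunctor C).obj X :=
  (coproductIsCoproduct (fun i : X.I => yoneda.obj (X.obj i))).coconePointUniqueUpToIso
      (isColimitSecCofan X)

lemma ι_isoObj_hom (X : FormalCoproduct.{u} C) (i : X.I) :
    ι X i ≫ (isoObj X).hom = (secCofan X).inj i :=
  (coproductIsCoproduct _).comp_coconePointUniqueUpToIso_hom (isColimitSecCofan X) ⟨i⟩

/-- `FormalCoproduct.yoneda` is isomorphic to `secFunctor`. -/
noncomputable def yonedaIso : FormalCoproduct.yoneda ≅ secFunctor C :=
  NatIso.ofComponents isoObj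
    (fun {X Y} f => by
      refine hom_ext' (fun i => ?_)
      rw [← Category.assoc, ι_map, Category.assoc, ι_isoObj_hom, ← Category.assoc, ι_isoObj_hom]
      rfl)

/-- The section of `X` over `V` defined by an element of the coproduct of representables. -/
noncomputable def secEquiv (X : FormalCoproduct.{u} C) (V : C) :
    ((FormalCoproduct.yoneda.{u}).obj X).obj (op V) ≃ ((FormalCoproduct.incl.{u} C).obj V ⟶ X) :=
  ((isoObj X).app (op V)).toEquiv

lemma secEquiv_map {X Y : FormalCoproduct.{u} C} (f : X ⟶ Y) (V : C)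
    (x : ((FormalCoproduct.yoneda.{u}).obj X).obj (op V)) :
    secEquiv Y V (((FormalCoproduct.yoneda.{u}).map f).app (op V) x) = secEquiv X V x ≫ f :=
  ConcreteCategory.congr_hom (NatTrans.congr_app (yonedaIso.hom.naturality f) (op V)) x

lemma secEquiv_res {X : FormalCoproduct.{u} C} {V W : C} (g : W ⟶ V)
    (x : ((FormalCoproduct.yoneda.{u}).obj X).obj (op V)) :
    secEquiv X W (((FormalCoproduct.yoneda.{u}).obj X).map g.op x) =
      (FormalCoproduct.incl.{u} C).map g ≫ secEquiv X V x :=
  ConcreteCategory.congr_hom ((isoObj X).hom.naturality g.op) x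

end Groth.Agent.CohtopB.HypSec
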