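import Groth.Agent.CohtopB.HypCone
import Groth.Agent.CohtopB.HypSec
import Groth.Agent.CohtopB.HypInj
import Groth.Agent.CurvesA.SiteZU

/-!
# The free abelian sheaf resolution attached to a locally fillable simplicial object
-/

set_option autoImplicit false

universe u

open CategoryTheory CategoryTheory.Limits Opposite Simplicial

namespace Groth.Agent.CohtopB.HypRes

open LocTriv

variable {C : Type u} [SmallCategory C] {J : GrothendieckTopology C}
  {K : SimplicialObject (FormalCoproduct.{u} C)} {E : Cᵒᵖ ⥤ Type u} (a : Augm K E)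

/-- The augmented semisimplicial presheaf attached to an augmentation. -/
def augSemi : HypCone.AugSemi.{u} C where
  Q
    | 0, V => E.obj (op V)
    | n + 1, V => Sec K n V
  res {n} {_ _} g := match n with
    | 0 => fun e => E.map g.op e
    | _ + 1 => fun x => rs g x
  res_comp {n} {_ _ _} f g x := match n with
    | 0 => (Functor.map_comp_apply E f.op g.op x).symm
    | _ + 1 => (rs_comp f g x).symm
  d {n} {_} i := match n with
    | 0 => fun x => a.ε x
    | _ + 1 => fun x => x ≫ K.δ i
  d_res {n} {_ _} f i x := match n with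
    | 0 => a.ε_rs f x
    | _ + 1 => rs_δ f x i
  d_comm {n} {_} i j hij x := match n with
    | 0 => by
      obtain rfl : i = 0 := Subsingleton.elim (α := Fin 1) _ _
      obtain rfl : j = 0 := Subsingleton.elim (α := Fin 1) _ _
      exact a.ε_δ x
    | _ + 1 => by
      change (x ≫ K.δ j.succ) ≫ K.δ i = (x ≫ K.δ i.castSucc) ≫ K.δ j
      rw [Category.assoc, Category.assoc, K.δ_comp_δ hij]

variable {a}

lemma locFill (h : IsLocHyp J a) : HypCone.LocFill J (augSemi a) where
  zero _ e := h.zero e
  succ n V x hx := by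
    cases n with
    | zero =>
      refine HypCone.Loc.mono (h.one (x 0) (x 1) (hx 0 0 le_rfl).symm) ?_
      rintro W g ⟨z, hz0, hz1⟩
      refine ⟨z, fun i => ?_⟩
      fin_cases i
      · exact hz0
      · exact hz1
    | succ n => exact h.succ x hx

lemma bd_augSemi_zero (V : C) : HypCone.bd (augSemi a) 0 V = FreeAbelianGroup.map a.ε := by
  refine FreeAbelianGroup.lift_ext _ _ fun x => ?_
  rw [HypCone.bd_of]
  refine (Fin.sum_univ_one _).trans ?_
  exact one_smul ℤ _

/-- Cycles of degree zero are locally boundaries. -/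
theorem cycle_zero_locally_boundary (h : IsLocHyp J a) {V : C}
    (z : FreeAbelianGroup (Sec K 0 V)) (hz : FreeAbelianGroup.map a.ε z = 0) :
    Loc J V (fun W g => ∃ w : FreeAbelianGroup (Sec K 1 W),
      bd K 0 W w = FreeAbelianGroup.map (rs g) z) := by
  have h1 := HypCone.exists_boundary (locFill h) (fun U hU m => by
    obtain ⟨p⟩ := hU
    cases m with
    | zero => exact ⟨a.ε p⟩
    | succ m => exact ⟨show Sec K m U from
        (show Sec K 0 U from p) ≫ K.map (SimplexCategory.const ⦋m⦌ ⦋0⦌ 0).op⟩) 0 V z ((DFunLike.congr_fun (bd_augSemi_zero V) z).trans hz)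
  exact h1

section presheaf

variable (K)

/-- The simplicial presheaf of free abelian groups on sections. -/
noncomputable abbrev PS : SimplicialObject (Cᵒᵖ ⥤ AddCommGrpCat.{u}) :=
  (K ⋙ HypSec.secFunctor C) ⋙ (Functor.whiskeringRight _ _ _).obj AddCommGrpCat.free.{u}

lemma sum_app_apply {P Q : Cᵒᵖ ⥤ AddCommGrpCat.{u}} {ι : Type*} (t : Finset ι) (c : ι → ℤ)
    (f : ι → (P ⟶ Q)) (V : Cᵒᵖ) (x : P.obj V) :
    (∑ i ∈ t, c i • f i).app V x = ∑ i ∈ t, c i • (f i).app V x := by
  let φ : (P ⟶ Q) →+ Q.obj V :=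
    { toFun := fun g => g.app V x
      map_zero' := rfl
      map_add' := fun _ _ => rfl }
  have := map_sum φ (fun i => c i • f i) t
  refine this.trans (Finset.sum_congr rfl fun i _ => ?_)
  exact map_zsmul φ (c i) (f i)

lemma d_app (n : ℕ) (V : C) (x : FreeAbelianGroup (Sec K (n + 1) V)) :
    (((AlgebraicTopology.alternatingFaceMapComplex _).obj (PS K)).d (n + 1) n).app (op V) x =
      bd K n V x := by
  rw [AlgebraicTopology.alternatingFaceMapComplex_obj_d,
    AlgebraicTopology.AlternatingFaceMapComplex.objD]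
  refine (sum_app_apply _ _ _ _ _).trans ?_
  rw [bd, AddMonoidHom.finsetSum_apply]
  rfl

end presheaf

section sheaf

variable (J K)

/-- The complex of free abelian sheaves on the sections of `K`. -/
noncomputable abbrev SC : ChainComplex (Sheaf J AddCommGrpCat.{u}) ℕ :=
  (AlgebraicTopology.alternatingFaceMapComplex _).obj (PS K ⋙ presheafToSheaf J AddCommGrpCat.{u})

lemma SC_eq : SC J K = ((presheafToSheaf J AddCommGrpCat.{u}).mapHomologicalComplex _).obj
    ((AlgebraicTopology.alternatingFaceMapComplex _).obj (PS K)) :=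
  (Functor.congr_obj (AlgebraicTopology.map_alternatingFaceMapComplex
    (presheafToSheaf J AddCommGrpCat.{u})) (PS K)).symm

variable {J K}

theorem exactAt_succ (h : IsLocHyp J a) (n : ℕ) : (SC J K).ExactAt (n + 1) := by
  rw [SC_eq, HomologicalComplex.exactAt_iff' _ (n + 2) (n + 1) n (by simp) (by simp)]
  refine CurvesA.SiteZU.exact_map_presheafToSheaf
    (((AlgebraicTopology.alternatingFaceMapComplex _).obj (PS K)).sc' (n + 2) (n + 1) n) ?_
  intro U x hx
  have hx' : bd K n U x = 0 := (d_app K n U x).symm.trans hx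
  obtain ⟨T, hT, h'⟩ := cycle_locally_boundary h x hx'
  refine ⟨T, hT, fun V f hf => ?_⟩
  obtain ⟨w, hw⟩ := h' f hf
  exact ⟨w, (d_app K (n + 1) V w).trans hw⟩

variable (a)

/-- The augmentation as a morphism of presheaves of sets. -/
noncomputable def augHom : (HypSec.secFunctor C).obj (K _⦋0⦌) ⟶ E where
  app V := ↾fun x => a.ε (V := V.unop) x
  naturality V W g := by
    ext x
    exact a.ε_rs g.unop x

/-- The augmentation on free abelian presheaves. -/
noncomputable def augFree : (PS K).obj (op ⦋0⦌) ⟶ E ⋙ AddCommGrpCat.free.{u} :=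
  Functor.whiskerRight (augHom a) AddCommGrpCat.free.{u}

lemma augFree_app (V : C) (x : FreeAbelianGroup (Sec K 0 V)) :
    (augFree a).app (op V) x = FreeAbelianGroup.map a.ε x := rfl

lemma d_augFree : ((AlgebraicTopology.alternatingFaceMapComplex _).obj (PS K)).d 1 0 ≫
    augFree a = 0 := by
  ext V x
  change (augFree a).app V ((((AlgebraicTopology.alternatingFaceMapComplex _).obj (PS K)).d 1 0).app
    (op V.unop) x) = 0
  rw [d_app]
  change FreeAbelianGroup.map a.ε (bd K 0 V.unop x) = 0
  have : (FreeAbelianGroup.map a.ε).comp (bd K 0 V.unop) = 0 := by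
    refine FreeAbelianGroup.lift_ext _ _ fun x => ?_
    rw [AddMonoidHom.comp_apply, bd_of, Fin.sum_univ_two]
    simp only [Fin.val_zero, pow_zero, one_smul, Fin.val_one, pow_one, neg_smul, map_add, map_neg,
      FreeAbelianGroup.map_of_apply, a.ε_δ]
    simp
  exact DFunLike.congr_fun this x

variable {a}

lemma exact_aug (h : IsLocHyp J a) :
    ((ShortComplex.mk _ _ (d_augFree a)).map (presheafToSheaf J AddCommGrpCat.{u})).Exact := by
  refine CurvesA.SiteZU.exact_map_presheafToSheaf _ ?_
  intro U x hx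
  obtain ⟨T, hT, h'⟩ := cycle_zero_locally_boundary h x hx
  refine ⟨T, hT, fun V f hf => ?_⟩
  obtain ⟨w, hw⟩ := h' f hf
  exact ⟨w, (d_app K 0 V w).trans hw⟩

lemma loc_surj_free (h : IsLocHyp J a) {U : C} (s : FreeAbelianGroup (E.obj (op U))) :
    Loc J U (fun V f => ∃ z : FreeAbelianGroup (Sec K 0 V),
      FreeAbelianGroup.map a.ε z = FreeAbelianGroup.map (E.map f.op) s) := by
  obtain ⟨S, hS, hs⟩ := exists_finite_mem_closure s
  refine (Loc.finite_forall hS (fun e _ => h.zero e)).mono ?_
  intro V f hf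
  induction hs using AddSubgroup.closure_induction with
  | mem s hs =>
    obtain ⟨e, he, rfl⟩ := hs
    obtain ⟨z, hz⟩ := hf e he
    refine ⟨FreeAbelianGroup.of z, ?_⟩
    rw [FreeAbelianGroup.map_of_apply, FreeAbelianGroup.map_of_apply, hz]
  | zero => exact ⟨0, by simp⟩
  | add x y _ _ hx hy =>
    obtain ⟨x', hx'⟩ := hx
    obtain ⟨y', hy'⟩ := hy
    exact ⟨x' + y', by rw [map_add, map_add, hx', hy']⟩
  | neg x _ hx =>
    obtain ⟨x', hx'⟩ := hx
    exact ⟨-x', by rw [map_neg, map_neg, hx']⟩

lemma epi_aug (h : IsLocHyp J a) : Epi ((presheafToSheaf J AddCommGrpCat.{u}).map (augFree a)) := by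
  rw [← Sheaf.isLocallySurjective_iff_epi',
      Presheaf.isLocallySurjective_presheafToSheaf_map_iff]
  refine ⟨fun {U} s => ?_⟩
  obtain ⟨T, hT, h'⟩ := loc_surj_free h (s : FreeAbelianGroup (E.obj (op U)))
  exact J.superset_covering (fun V f hf => h' f hf) hT

/-- The degree zero homology of the complex of free abelian sheaves. -/
theorem nonempty_homology_zero_iso (h : IsLocHyp J a) :
    Nonempty ((SC J K).homology 0 ≅
      (presheafToSheaf J AddCommGrpCat.{u}).obj (E ⋙ AddCommGrpCat.free.{u})) := by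
  rw [SC_eq]
  let L := ((presheafToSheaf J AddCommGrpCat.{u}).mapHomologicalComplex _).obj
    ((AlgebraicTopology.alternatingFaceMapComplex _).obj (PS K))
  have h1 := exact_aug h
  have : Epi ((ShortComplex.mk _ _ (d_augFree a)).map (presheafToSheaf J AddCommGrpCat.{u})).g :=
    epi_aug h
  exact ⟨ChainComplex.isoHomologyι₀ L ≪≫
    IsColimit.coconePointUniqueUpToIso
      (HomologicalComplex.opcyclesIsCokernel L 1 0 (by simp)) h1.gIsCokernel⟩

end sheaf

end Groth.Agent.CohtopB.HypRes
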