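import Groth.Agent.CohtopB.HypFill
import Groth.Agent.CohtopB.HypSec
import Groth.Agent.CohtopB.LocTriv

/-!
# Verdier hypercoverings have local fillings of compatible boundaries
-/

set_option autoImplicit false

universe u

open CategoryTheory CategoryTheory.Limits Opposite Simplicial

namespace Groth.Agent.CohtopB.HypSiteGlue

open LocTriv

variable {C : Type u} [SmallCategory C] {J : GrothendieckTopology C}

/-- Local lifting of sections from local surjectivity of the map on coproducts of representables. -/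
lemma loc_lift {K L : FormalCoproduct.{u} C} (f : K ⟶ L)
    (hf : Presheaf.IsLocallySurjective J (FormalCoproduct.yoneda.map f)) {V : C}
    (y : (FormalCoproduct.incl.{u} C).obj V ⟶ L) :
    Loc J V (fun W g => ∃ z : (FormalCoproduct.incl.{u} C).obj W ⟶ K,
      z ≫ f = (FormalCoproduct.incl.{u} C).map g ≫ y) := by
  refine ⟨_, hf.imageSieve_mem ((HypSec.secEquiv L V).symm y), fun W g hg => ?_⟩
  obtain ⟨t, ht⟩ := hg
  refine ⟨HypSec.secEquiv K W t, ?_⟩
  rw [← HypSec.secEquiv_map]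
  refine (congrArg (HypSec.secEquiv L W) ht).trans ?_
  rw [HypSec.secEquiv_res, Equiv.apply_symm_apply]

/-- The trivial augmentation. -/
def trivAugm (K : SimplicialObject (FormalCoproduct.{u} C)) :
    Augm K ((Functor.const Cᵒᵖ).obj PUnit.{u + 1}) where
  ε _ := PUnit.unit
  ε_rs _ _ := rfl
  ε_δ _ := rfl

variable (K : SimplicialObject (FormalCoproduct.{u} C))
    [∀ (n : ℕ) (F : (SimplexCategory.Truncated n)ᵒᵖ ⥤ Limits.FormalCoproduct.{u} C),
      (SimplexCategory.Truncated.inclusion n).op.HasRightKanExtension F]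

/-- Local filling in degrees `n + 2` for Verdier hypercoverings. -/
lemma loc_fill {K} {n : ℕ} (hn : Presheaf.IsLocallySurjective J
      (FormalCoproduct.yoneda.map (((SimplicialObject.coskAdj (n + 1)).unit.app K).app
        (op (SimplexCategory.mk (n + 2)))))) {V : C} (y : Fin (n + 3) → Sec K (n + 1) V)
    (hy : ∀ i j : Fin (n + 2), i ≤ j → y j.succ ≫ K.δ i = y i.castSucc ≫ K.δ j) :
    Loc J V (fun W g => ∃ z : Sec K (n + 2) W, ∀ i, z ≫ K.δ i = rs g (y i)) := by
  obtain ⟨c, hc⟩ := HypFill.exists_cosk_section (K := K) (n := n + 1) y hy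
  refine (loc_lift _ hn c).mono (fun W g => ?_)
  rintro ⟨z, hz⟩
  exact ⟨z, hc _ _ z hz⟩

theorem isLocHyp_of_site {K} (hK : Hyper.IsHypercoveringSite J K) : IsLocHyp J (trivAugm K) where
  zero V e := by
    let e' : (⊤_ (Cᵒᵖ ⥤ Type u)).obj (op V) :=
      (terminal.from ((Functor.const Cᵒᵖ).obj PUnit.{u + 1})).app (op V) PUnit.unit
    refine ⟨_, hK.1.imageSieve_mem e', fun W g hg => ?_⟩
    obtain ⟨t, _⟩ := hg
    exact ⟨HypSec.secEquiv _ W t, rfl⟩
  one V y₀ y₁ _ := by
    let P₀ := FormalCoproduct.yoneda.{u}.obj (K _⦋0⦌)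
    let y₀' : yoneda.obj V ⟶ P₀ := yonedaEquiv.symm ((HypSec.secEquiv _ V).symm y₀)
    let y₁' : yoneda.obj V ⟶ P₀ := yonedaEquiv.symm ((HypSec.secEquiv _ V).symm y₁)
    let c : (P₀ ⨯ P₀).obj (op V) := (prod.lift y₁' y₀').app (op V) (𝟙 V)
    have hfst : (prod.fst : P₀ ⨯ P₀ ⟶ P₀).app (op V) c = (HypSec.secEquiv _ V).symm y₁ := by
      have h1 : prod.lift y₁' y₀' ≫ prod.fst = y₁' := prod.lift_fst _ _
      have h2 := ConcreteCategory.congr_hom (NatTrans.congr_app h1 (op V)) (𝟙 V)
      exact h2.trans (yonedaEquiv.apply_symm_apply ((HypSec.secEquiv _ V).symm y₁))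
    have hsnd : (prod.snd : P₀ ⨯ P₀ ⟶ P₀).app (op V) c = (HypSec.secEquiv _ V).symm y₀ := by
      have h1 : prod.lift y₁' y₀' ≫ prod.snd = y₀' := prod.lift_snd _ _
      have h2 := ConcreteCategory.congr_hom (NatTrans.congr_app h1 (op V)) (𝟙 V)
      exact h2.trans (yonedaEquiv.apply_symm_apply ((HypSec.secEquiv _ V).symm y₀))
    refine ⟨_, hK.2.1.imageSieve_mem c, fun W g hg => ?_⟩
    obtain ⟨t, ht⟩ := hg
    have ht1 := congrArg ((prod.fst : P₀ ⨯ P₀ ⟶ P₀).app (op W)) ht
    have ht0 := congrArg ((prod.snd : P₀ ⨯ P₀ ⟶ P₀).app (op W)) ht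
    have e1 : (FormalCoproduct.yoneda.map (K.δ (1 : Fin 2))).app (op W) t =
        P₀.map g.op ((HypSec.secEquiv _ V).symm y₁) := by
      have h1 : prod.lift (FormalCoproduct.yoneda.map (K.δ (1 : Fin 2)))
          (FormalCoproduct.yoneda.map (K.δ (0 : Fin 2))) ≫ prod.fst =
          FormalCoproduct.yoneda.map (K.δ (1 : Fin 2)) := prod.lift_fst _ _
      refine (ConcreteCategory.congr_hom (NatTrans.congr_app h1 (op W)) t).symm.trans ?_
      refine ht1.trans ?_
      refine (ConcreteCategory.congr_hom ((prod.fst : P₀ ⨯ P₀ ⟶ P₀).naturality g.op) c).trans ?_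
      exact congrArg (P₀.map g.op) hfst
    have e0 : (FormalCoproduct.yoneda.map (K.δ (0 : Fin 2))).app (op W) t =
        P₀.map g.op ((HypSec.secEquiv _ V).symm y₀) := by
      have h1 : prod.lift (FormalCoproduct.yoneda.map (K.δ (1 : Fin 2)))
          (FormalCoproduct.yoneda.map (K.δ (0 : Fin 2))) ≫ prod.snd =
          FormalCoproduct.yoneda.map (K.δ (0 : Fin 2)) := prod.lift_snd _ _
      refine (ConcreteCategory.congr_hom (NatTrans.congr_app h1 (op W)) t).symm.trans ?_
      refine ht0.trans ?_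
      refine (ConcreteCategory.congr_hom ((prod.snd : P₀ ⨯ P₀ ⟶ P₀).naturality g.op) c).trans ?_
      exact congrArg (P₀.map g.op) hsnd
    refine ⟨HypSec.secEquiv _ W t, ?_, ?_⟩
    · rw [← HypSec.secEquiv_map]
      refine (congrArg (HypSec.secEquiv _ W) e0).trans ?_
      rw [HypSec.secEquiv_res, Equiv.apply_symm_apply]
    · rw [← HypSec.secEquiv_map]
      refine (congrArg (HypSec.secEquiv _ W) e1).trans ?_
      rw [HypSec.secEquiv_res, Equiv.apply_symm_apply]
  succ n V y hy := loc_fill (hK.2.2 (n + 1) (by omega)) y hy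

end Groth.Agent.CohtopB.HypSiteGlue
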