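import Groth.Agent.CohtopB.HyperTens

universe w v u

open CategoryTheory CategoryTheory.Limits Opposite
open Groth.Agent.CohtopB.HyperTens (Compat fillSieve)

namespace Groth.Agent.CohtopB.HyperExist

section Arr

variable {A : Type u} [Category.{v} A]

/-- the arrow datum of a functor from the opposite of a preorder -/
def ar {P : Type} [Preorder P] (s : Pᵒᵖ ⥤ A) (F G : P) (h : F ≤ G) : Arrow A :=
  Arrow.mk (s.map (homOfLE h).op)

lemma ar_congr {P : Type} [Preorder P] (s s' : Pᵒᵖ ⥤ A) {F G F' G' : P} (h : F ≤ G) (h' : F' ≤ G')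
    (hs : s = s') (hF : F = F') (hG : G = G') : ar s F G h = ar s' F' G' h' := by
  subst hs hF hG; rfl

lemma functor_ext_of_ar {P : Type} [Preorder P] {s s' : Pᵒᵖ ⥤ A}
    (h : ∀ (F G : P) (h : F ≤ G), ar s F G h = ar s' F G h) : s = s' := by
  apply Arrow.functor_ext
  rintro ⟨X⟩ ⟨Y⟩ f
  have : f = (homOfLE (leOfHom f.unop)).op := Subsingleton.elim _ _
  rw [this]
  exact h Y X _

/-- functor-like families of arrows on a preorder -/
structure IsDiag {P : Type} [Preorder P] (a : ∀ F G : P, F ≤ G → Arrow A) : Prop where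
  id : ∀ F, ∃ X : A, a F F le_rfl = Arrow.mk (𝟙 X)
  comp : ∀ (F G H : P) (h₁ : F ≤ G) (h₂ : G ≤ H), ∃ (X Y Z : A) (f : X ⟶ Y) (g : Y ⟶ Z),
    a G H h₂ = Arrow.mk f ∧ a F G h₁ = Arrow.mk g ∧ a F H (h₁.trans h₂) = Arrow.mk (f ≫ g)

lemma hom_eq_of_mk_eq {a : Arrow A} {X Y : A} {f : X ⟶ Y} (h : a = Arrow.mk f) :
    a.hom = eqToHom (by rw [h]; rfl) ≫ f ≫ eqToHom (by rw [h]; rfl) := by
  subst h; simp

section
variable {P : Type} [Preorder P] {a : ∀ F G : P, F ≤ G → Arrow A} (ha : IsDiag a)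

include ha in
lemma IsDiag.left_eq {F G : P} (h : F ≤ G) : (a F G h).left = (a G G le_rfl).left := by
  obtain ⟨X, Y, Z, f, g, h1, h2, h3⟩ := ha.comp F G G h le_rfl
  obtain ⟨W, hW⟩ := ha.id G
  rw [h3, h1]; rfl

include ha in
lemma IsDiag.right_eq {F G : P} (h : F ≤ G) : (a F G h).right = (a F F le_rfl).left := by
  obtain ⟨X, Y, Z, f, g, h1, h2, h3⟩ := ha.comp F F G le_rfl h
  obtain ⟨W, hW⟩ := ha.id F
  have h4 : (a F F le_rfl).left = (a F F le_rfl).right := by rw [hW]; rfl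
  rw [h4, h2, h1] 
  have := congrArg Comma.right (h1.symm.trans h3)
  exact this

/-- The functor attached to a functor-like family of arrows. -/
def IsDiag.functor : Pᵒᵖ ⥤ A where
  obj F := (a F.unop F.unop le_rfl).left
  map {F G} h := eqToHom (ha.left_eq (leOfHom h.unop)).symm ≫ (a G.unop F.unop (leOfHom h.unop)).hom ≫
    eqToHom (ha.right_eq (leOfHom h.unop))
  map_id F := by
    obtain ⟨W, hW⟩ := ha.id F.unop
    rw [hom_eq_of_mk_eq hW]
    simp
  map_comp {F G H} h h' := by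
    obtain ⟨X, Y, Z, f, g, h1, h2, h3⟩ := ha.comp H.unop G.unop F.unop (leOfHom h'.unop) (leOfHom h.unop)
    rw [hom_eq_of_mk_eq h1, hom_eq_of_mk_eq h2, hom_eq_of_mk_eq h3]
    simp

lemma IsDiag.ar_functor (F G : P) (h : F ≤ G) : ar ha.functor F G h = a F G h := by
  simp only [ar, IsDiag.functor]
  refine (Arrow.mk_eq_mk_iff _ (a F G h).hom).2 ⟨(ha.left_eq h).symm, (ha.right_eq h).symm, ?_⟩
  simp

end

end Arr


section Arr2

variable {A : Type u} [Category.{v} A]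

lemma eq_of_mk {X Y : A} {f f' : X ⟶ Y} (e : Arrow.mk f = Arrow.mk f') : f = f' := by
  obtain ⟨h1, h2, h3⟩ := (Arrow.mk_eq_mk_iff _ _).1 e
  simpa using h3

lemma mk_comp_eqToHom {X Y Y' : A} (f : X ⟶ Y) (h : Y = Y') : Arrow.mk (f ≫ eqToHom h) = Arrow.mk f := by
  subst h; simp

lemma mk_eqToHom_comp {X X' Y : A} (f : X ⟶ Y) (h : X' = X) : Arrow.mk (eqToHom h ≫ f) = Arrow.mk f := by
  subst h; simp

lemma comp_eqToHom_eq_of_mk {X Y Y' : A} {f : X ⟶ Y} {f' : X ⟶ Y'} (h : Y = Y') (e : Arrow.mk f = Arrow.mk f') :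
    f ≫ eqToHom h = f' := eq_of_mk (by rw [mk_comp_eqToHom, e])

lemma mk_comp_congr {X Y Z X' Y' Z' : A} {f : X ⟶ Y} {g : Y ⟶ Z} {f' : X' ⟶ Y'} {g' : Y' ⟶ Z'}
    (e : Arrow.mk f = Arrow.mk f') (e' : Arrow.mk g = Arrow.mk g') : Arrow.mk (f ≫ g) = Arrow.mk (f' ≫ g') := by
  obtain ⟨rfl, rfl, h3⟩ := (Arrow.mk_eq_mk_iff _ _).1 e
  obtain ⟨h1, rfl, h4⟩ := (Arrow.mk_eq_mk_iff _ _).1 e'
  simp at h3 h4
  rw [h3, h4]

lemma ar_self {P : Type} [Preorder P] (s : Pᵒᵖ ⥤ A) (F : P) : ar s F F le_rfl = Arrow.mk (𝟙 (s.obj (op F))) := by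
  rw [← s.map_id]; rfl

lemma ar_comp {P : Type} [Preorder P] (s : Pᵒᵖ ⥤ A) (F G H : P) (h : F ≤ G) (h' : G ≤ H) :
    ar s F H (h.trans h') = Arrow.mk (s.map (homOfLE h').op ≫ s.map (homOfLE h).op) := by
  rw [← s.map_comp]; rfl

end Arr2

section NSsec

open SimplexCategory Simplicial

/-- nonempty sets of vertices of the simplex `n` -/
def NS (n : SimplexCategory) : Type := {F : Set (Fin (n.len + 1)) // F.Nonempty}

instance (n : SimplexCategory) : PartialOrder (NS n) := inferInstanceAs (PartialOrder {F : Set (Fin (n.len + 1)) // F.Nonempty})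

instance (n : SimplexCategory) : OrderTop (NS n) where
  top := ⟨Set.univ, ⟨0, trivial⟩⟩
  le_top _ := Set.subset_univ _

instance (n : SimplexCategory) : Finite (NS n) := inferInstanceAs (Finite {F : Set (Fin (n.len + 1)) // F.Nonempty})

/-- image of a nonempty set of vertices -/
def NS.img {m n : SimplexCategory} (θ : m ⟶ n) (F : NS m) : NS n :=
  ⟨θ.toOrderHom '' F.1, F.2.image _⟩

lemma NS.img_mono {m n : SimplexCategory} (θ : m ⟶ n) : Monotone (NS.img θ) := fun _ _ h => Set.image_mono h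

lemma NS.img_id {n : SimplexCategory} (F : NS n) : NS.img (𝟙 n) F = F := by
  apply Subtype.ext
  simp [NS.img]

lemma NS.img_comp {m n k : SimplexCategory} (θ : m ⟶ n) (η : n ⟶ k) (F : NS m) :
    NS.img (θ ≫ η) F = NS.img η (NS.img θ F) := by
  apply Subtype.ext
  simp [NS.img, Set.image_image]

variable (A : Type u) [Category.{v} A]

/-- diagrams on the faces of the simplex `n` -/
abbrev S (n : SimplexCategory) := (NS n)ᵒᵖ ⥤ A

variable {A}

/-- restriction of diagrams -/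
def pull {m n : SimplexCategory} (θ : m ⟶ n) (s : S A n) : S A m := (NS.img_mono θ).functor.op ⋙ s

lemma ar_pull {m n : SimplexCategory} (θ : m ⟶ n) (s : S A n) (F G : NS m) (h : F ≤ G) :
    ar (pull θ s) F G h = ar s (NS.img θ F) (NS.img θ G) (NS.img_mono θ h) := rfl

lemma pull_id {n : SimplexCategory} (s : S A n) : pull (𝟙 n) s = s :=
  functor_ext_of_ar fun F G h => by
    rw [ar_pull]
    exact ar_congr _ _ _ _ rfl (NS.img_id F) (NS.img_id G)

lemma pull_comp {m n k : SimplexCategory} (θ : m ⟶ n) (η : n ⟶ k) (s : S A k) :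
    pull (θ ≫ η) s = pull θ (pull η s) :=
  functor_ext_of_ar fun F G h => by
    rw [ar_pull, ar_pull, ar_pull]
    exact ar_congr _ _ _ _ rfl (NS.img_comp _ _ F) (NS.img_comp _ _ G)

/-- top value -/
abbrev topv {n : SimplexCategory} (s : S A n) : A := s.obj (op ⊤)

/-- the transition map -/
def trans {m n : SimplexCategory} (θ : m ⟶ n) (s : S A n) : topv s ⟶ topv (pull θ s) :=
  s.map (homOfLE le_top).op

lemma mk_trans {m n : SimplexCategory} (θ : m ⟶ n) (s : S A n) :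
    Arrow.mk (trans θ s) = ar s (NS.img θ ⊤) ⊤ le_top := rfl

lemma mk_trans_id {n : SimplexCategory} (s : S A n) : Arrow.mk (trans (𝟙 n) s) = Arrow.mk (𝟙 (topv s)) := by
  rw [mk_trans, ← ar_self]
  exact ar_congr _ _ _ _ rfl (NS.img_id _) rfl

lemma mk_trans_comp {m n k : SimplexCategory} (θ : m ⟶ n) (η : n ⟶ k) (s : S A k) :
    Arrow.mk (trans (θ ≫ η) s) = Arrow.mk (trans η s ≫ trans θ (pull η s)) := by
  rw [mk_trans]
  trans ar s (NS.img η (NS.img θ ⊤)) ⊤ le_top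
  · exact ar_congr _ _ _ _ rfl (NS.img_comp _ _ _) rfl
  · exact ar_comp s (NS.img η (NS.img θ ⊤)) (NS.img η ⊤) ⊤ (NS.img_mono _ le_top) le_top

variable (Q : ∀ n : SimplexCategory, S A n → Prop)
  (hQ : ∀ {m n : SimplexCategory} (θ : m ⟶ n) (s : S A n), Q n s → Q m (pull θ s))

/-- The simplicial object attached to a class of diagrams -/
def K : SimplicialObject (FormalCoproduct.{max u v} A) where
  obj n := ⟨{s : S A n.unop // Q n.unop s}, fun s => topv s.1⟩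
  map {n m} θ := ⟨fun s => ⟨pull θ.unop s.1, hQ _ _ s.2⟩, fun s => trans θ.unop s.1⟩
  map_id n := FormalCoproduct.hom_ext (funext fun s => Subtype.ext (pull_id _)) fun s =>
      comp_eqToHom_eq_of_mk _ (mk_trans_id s.1)
  map_comp {n m k} θ η := FormalCoproduct.hom_ext (funext fun s => Subtype.ext (pull_comp _ _ _)) fun s =>
      comp_eqToHom_eq_of_mk _ (mk_trans_comp _ _ s.1)



/-- The poset of proper faces -/
def PF (n : SimplexCategory) : Type := {F : NS n // F ≠ ⊤}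

instance (n : SimplexCategory) : PartialOrder (PF n) := inferInstanceAs (PartialOrder {F : NS n // F ≠ ⊤})

instance (n : SimplexCategory) : Finite (PF n) := inferInstanceAs (Finite {F : NS n // F ≠ ⊤})

lemma ne_top_of_le {n : SimplexCategory} {F G : NS n} (h : F ≤ G) (hG : G ≠ ⊤) : F ≠ ⊤ := by
  rintro rfl
  exact hG (top_le_iff.1 h)

section ext

open Classical in
/-- arrows of the extended diagram -/
noncomputable def extArr {n : SimplexCategory} {r : (PF n)ᵒᵖ ⥤ A} (c : Cone r) (F G : NS n) (h : F ≤ G) : Arrow A :=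
  if hG : G = ⊤ then
    if hF : F = ⊤ then Arrow.mk (𝟙 c.pt) else Arrow.mk (c.π.app (op ⟨F, hF⟩))
  else ar r ⟨F, ne_top_of_le h hG⟩ ⟨G, hG⟩ h

lemma extArr_top {n : SimplexCategory} {r : (PF n)ᵒᵖ ⥤ A} (c : Cone r) :
    extArr c ⊤ ⊤ le_rfl = Arrow.mk (𝟙 c.pt) := by simp [extArr]

lemma extArr_le_top {n : SimplexCategory} {r : (PF n)ᵒᵖ ⥤ A} (c : Cone r) (F : NS n) (hF : F ≠ ⊤) :
    extArr c F ⊤ le_top = Arrow.mk (c.π.app (op ⟨F, hF⟩)) := by simp [extArr, hF]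

lemma extArr_of_ne {n : SimplexCategory} {r : (PF n)ᵒᵖ ⥤ A} (c : Cone r) (F G : NS n) (h : F ≤ G) (hG : G ≠ ⊤) :
    extArr c F G h = ar r ⟨F, ne_top_of_le h hG⟩ ⟨G, hG⟩ h := by simp [extArr, hG]

lemma isDiag_extArr {n : SimplexCategory} {r : (PF n)ᵒᵖ ⥤ A} (c : Cone r) : IsDiag (extArr c) where
  id F := by
    by_cases hF : F = ⊤
    · subst hF
      exact ⟨_, extArr_top c⟩
    · rw [extArr_of_ne c F F le_rfl hF]
      exact ⟨_, ar_self _ _⟩
  comp F G H h h' := by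
    by_cases hH : H = ⊤
    · subst hH
      by_cases hG : G = ⊤
      · subst hG
        by_cases hF : F = ⊤
        · subst hF
          refine ⟨_, _, _, 𝟙 _, 𝟙 _, extArr_top c, extArr_top c, ?_⟩
          rw [extArr_top, Category.comp_id]
        · refine ⟨_, _, _, 𝟙 _, c.π.app (op ⟨F, hF⟩), extArr_top c, extArr_le_top c F hF, ?_⟩
          rw [extArr_le_top c F hF, Category.id_comp]
      · have hF := ne_top_of_le h hG
        refine ⟨_, _, _, c.π.app (op ⟨G, hG⟩), r.map (homOfLE (show (⟨F, hF⟩ : PF n) ≤ ⟨G, hG⟩ from h)).op,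
          extArr_le_top c G hG, extArr_of_ne c F G h hG, ?_⟩
        rw [extArr_le_top c F hF, c.w]
        rfl
    · have hG := ne_top_of_le h' hH
      have hF := ne_top_of_le h hG
      refine ⟨_, _, _, r.map (homOfLE (show (⟨G, hG⟩ : PF n) ≤ ⟨H, hH⟩ from h')).op,
        r.map (homOfLE (show (⟨F, hF⟩ : PF n) ≤ ⟨G, hG⟩ from h)).op,
          extArr_of_ne c G H h' hH, extArr_of_ne c F G h hG, ?_⟩
      rw [extArr_of_ne c F H _ hH]
      exact ar_comp r _ _ _ _ _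

/-- the extended diagram -/
noncomputable def ext {n : SimplexCategory} {r : (PF n)ᵒᵖ ⥤ A} (c : Cone r) : S A n := (isDiag_extArr c).functor

lemma ar_ext {n : SimplexCategory} {r : (PF n)ᵒᵖ ⥤ A} (c : Cone r) (F G : NS n) (h : F ≤ G) :
    ar (ext c) F G h = extArr c F G h := IsDiag.ar_functor _ _ _ _

lemma topv_ext {n : SimplexCategory} {r : (PF n)ᵒᵖ ⥤ A} (c : Cone r) : topv (ext c) = c.pt := by
  have := ar_ext c ⊤ ⊤ le_rfl
  rw [ar_self, extArr_top] at this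
  exact congrArg Comma.left this

end ext

section glue

variable {n : ℕ}

/-- the preimage of a face by a coface map -/
def pre (i : Fin (n + 2)) (F : NS ⦋n + 1⦌) (hi : i ∉ F.1) : NS ⦋n⦌ :=
  ⟨(δ i).toOrderHom ⁻¹' F.1, by
    obtain ⟨x, hx⟩ := F.2
    have hxi : x ≠ i := fun h => hi (h ▸ hx)
    obtain ⟨y, rfl⟩ := Fin.exists_succAbove_eq hxi
    exact ⟨y, hx⟩⟩

lemma img_pre (i : Fin (n + 2)) (F : NS ⦋n + 1⦌) (hi : i ∉ F.1) : NS.img (δ i) (pre i F hi) = F := by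
  apply Subtype.ext
  apply Set.eq_of_subset_of_subset
  · rintro _ ⟨y, hy, rfl⟩
    exact hy
  · intro x hx
    have hxi : x ≠ i := fun h => hi (h ▸ hx)
    obtain ⟨y, rfl⟩ := Fin.exists_succAbove_eq hxi
    exact ⟨y, hx, rfl⟩

lemma notMem_img (i : Fin (n + 2)) (F : NS ⦋n⦌) : i ∉ (NS.img (δ i) F).1 := by
  rintro ⟨y, hy, h⟩
  exact Fin.succAbove_ne i y h

lemma δ_injective (i : Fin (n + 2)) : Function.Injective (δ i).toOrderHom := Fin.succAbove_right_injective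

lemma pre_img (i : Fin (n + 2)) (F : NS ⦋n⦌) : pre i (NS.img (δ i) F) (notMem_img i F) = F := by
  apply Subtype.ext
  exact Set.preimage_image_eq _ (δ_injective i)

lemma pre_mono (i : Fin (n + 2)) {F G : NS ⦋n + 1⦌} (h : F ≤ G) (hi : i ∉ G.1) :
    pre i F (fun h' => hi (h h')) ≤ pre i G hi := Set.preimage_mono h

lemma exists_range (G : NS ⦋n + 1⦌) (hG : G ≠ ⊤) :
    ∃ (m : ℕ) (_ : m ≤ n) (γ : ⦋m⦌ ⟶ ⦋n + 1⦌), Set.range γ.toOrderHom = G.1 := by
  classical
  have h1 : 0 < G.1.toFinset.card := by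
    rw [Finset.card_pos]
    exact Set.toFinset_nonempty.2 G.2
  have h2 : G.1.toFinset.card < n + 2 := by
    have : G.1.toFinset ≠ Finset.univ := by
      intro h
      apply hG
      apply Subtype.ext
      rw [← Set.coe_toFinset G.1, h, Finset.coe_univ]
      rfl
    have := (Finset.card_lt_iff_ne_univ G.1.toFinset).2 this
    exact Nat.lt_succ_of_le (by simpa using this)
  obtain ⟨m, hm⟩ : ∃ m, G.1.toFinset.card = m + 1 := ⟨G.1.toFinset.card - 1, by omega⟩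
  refine ⟨m, by omega, mkHom (G.1.toFinset.orderEmbOfFin hm).toOrderHom, ?_⟩
  have := Finset.range_orderEmbOfFin G.1.toFinset hm
  rw [Set.coe_toFinset] at this
  exact this

/-- the preimage of a face by an arbitrary map meeting it -/
lemma exists_factor {m : ℕ} (γ : ⦋m⦌ ⟶ ⦋n + 1⦌) (G : NS ⦋n + 1⦌) (hγ : Set.range γ.toOrderHom = G.1)
    (i : Fin (n + 2)) (hi : i ∉ G.1) : ∃ β : ⦋m⦌ ⟶ ⦋n⦌, γ = β ≫ δ i := by
  apply eq_comp_δ_of_not_surjective'
  intro x hx
  apply hi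
  rw [← hγ, ← hx]
  exact ⟨x, rfl⟩

/-- the preimage of a face -/
def preγ {m : ℕ} (γ : ⦋m⦌ ⟶ ⦋n + 1⦌) (F G : NS ⦋n + 1⦌) (h : F ≤ G) (hγ : Set.range γ.toOrderHom = G.1) : NS ⦋m⦌ :=
  ⟨γ.toOrderHom ⁻¹' F.1, by
    obtain ⟨x, hx⟩ := F.2
    have : x ∈ Set.range γ.toOrderHom := by rw [hγ]; exact h hx
    obtain ⟨y, rfl⟩ := this
    exact ⟨y, hx⟩⟩

lemma pre_eq_img {m : ℕ} (γ : ⦋m⦌ ⟶ ⦋n + 1⦌) (F G : NS ⦋n + 1⦌) (h : F ≤ G) (hγ : Set.range γ.toOrderHom = G.1)
    (i : Fin (n + 2)) (hi : i ∉ G.1) (β : ⦋m⦌ ⟶ ⦋n⦌) (hβ : γ = β ≫ δ i) :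
    pre i F (fun h' => hi (h h')) = NS.img β (preγ γ F G h hγ) := by
  apply Subtype.ext
  apply Set.eq_of_subset_of_subset
  · intro x hx
    have h1 : (δ i).toOrderHom x ∈ F.1 := hx
    have : (δ i).toOrderHom x ∈ Set.range γ.toOrderHom := by rw [hγ]; exact h h1
    obtain ⟨y, hy⟩ := this
    refine ⟨y, ?_, ?_⟩
    · change γ.toOrderHom y ∈ F.1
      rw [hy]; exact h1
    · apply δ_injective i
      rw [← hy, hβ]
      rfl
  · rintro _ ⟨y, hy, rfl⟩
    change (δ i).toOrderHom (β.toOrderHom y) ∈ F.1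
    have : γ.toOrderHom y ∈ F.1 := hy
    rw [hβ] at this
    exact this

lemma pre_eq_img_top {m : ℕ} (γ : ⦋m⦌ ⟶ ⦋n + 1⦌) (G : NS ⦋n + 1⦌) (hγ : Set.range γ.toOrderHom = G.1)
    (i : Fin (n + 2)) (hi : i ∉ G.1) (β : ⦋m⦌ ⟶ ⦋n⦌) (hβ : γ = β ≫ δ i) :
    pre i G hi = NS.img β ⊤ := by
  rw [pre_eq_img γ G G le_rfl hγ i hi β hβ]
  congr 1
  apply Subtype.ext
  apply Set.eq_univ_of_forall
  intro x
  change γ.toOrderHom x ∈ G.1
  rw [← hγ]
  exact ⟨x, rfl⟩

/-- compatible families of diagrams on the facets, with a compatible system of maps from `T` -/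
structure Bdry (T : A) (n : ℕ) where
  t : Fin (n + 2) → S A ⦋n⦌
  u : ∀ i, T ⟶ topv (t i)
  ht : ∀ (i j : Fin (n + 2)) (m : ℕ) (_ : m ≤ n) (β β' : ⦋m⦌ ⟶ ⦋n⦌), β ≫ δ i = β' ≫ δ j → pull β (t i) = pull β' (t j)
  hu : ∀ (i j : Fin (n + 2)) (m : ℕ) (_ : m ≤ n) (β β' : ⦋m⦌ ⟶ ⦋n⦌), β ≫ δ i = β' ≫ δ j →
    Arrow.mk (u i ≫ trans β (t i)) = Arrow.mk (u j ≫ trans β' (t j))

variable {T : A} (b : Bdry T n)

lemma Bdry.indep₁ (F G : NS ⦋n + 1⦌) (h : F ≤ G) (i j : Fin (n + 2)) (hi : i ∉ G.1) (hj : j ∉ G.1) :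
    ar (b.t i) (pre i F (fun h' => hi (h h'))) (pre i G hi) (pre_mono i h hi) =
      ar (b.t j) (pre j F (fun h' => hj (h h'))) (pre j G hj) (pre_mono j h hj) := by
  have hG : G ≠ ⊤ := by rintro rfl; exact hi trivial
  obtain ⟨m, hm, γ, hγ⟩ := exists_range G hG
  obtain ⟨β, hβ⟩ := exists_factor γ G hγ i hi
  obtain ⟨β', hβ'⟩ := exists_factor γ G hγ j hj
  have e := b.ht i j m hm β β' (hβ.symm.trans hβ')
  have h1 : ar (b.t i) (pre i F (fun h' => hi (h h'))) (pre i G hi) (pre_mono i h hi) =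
      ar (pull β (b.t i)) (preγ γ F G h hγ) ⊤ le_top := by
    rw [ar_pull]
    exact ar_congr _ _ _ _ rfl (pre_eq_img γ F G h hγ i hi β hβ) (pre_eq_img_top γ G hγ i hi β hβ)
  have h2 : ar (b.t j) (pre j F (fun h' => hj (h h'))) (pre j G hj) (pre_mono j h hj) =
      ar (pull β' (b.t j)) (preγ γ F G h hγ) ⊤ le_top := by
    rw [ar_pull]
    exact ar_congr _ _ _ _ rfl (pre_eq_img γ F G h hγ j hj β' hβ') (pre_eq_img_top γ G hγ j hj β' hβ')
  rw [h1, h2]
  exact ar_congr _ _ _ _ e rfl rfl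

lemma Bdry.indep₂ (F : NS ⦋n + 1⦌) (i j : Fin (n + 2)) (hi : i ∉ F.1) (hj : j ∉ F.1) :
    Arrow.mk (b.u i ≫ (b.t i).map (homOfLE (le_top : pre i F hi ≤ ⊤)).op) =
      Arrow.mk (b.u j ≫ (b.t j).map (homOfLE (le_top : pre j F hj ≤ ⊤)).op) := by
  have hF : F ≠ ⊤ := by rintro rfl; exact hi trivial
  obtain ⟨m, hm, γ, hγ⟩ := exists_range F hF
  obtain ⟨β, hβ⟩ := exists_factor γ F hγ i hi
  obtain ⟨β', hβ'⟩ := exists_factor γ F hγ j hj
  have e := b.hu i j m hm β β' (hβ.symm.trans hβ')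
  have h1 : Arrow.mk (b.u i ≫ (b.t i).map (homOfLE (le_top : pre i F hi ≤ ⊤)).op) =
      Arrow.mk (b.u i ≫ trans β (b.t i)) := by
    apply mk_comp_congr rfl
    exact ar_congr _ _ _ _ rfl (pre_eq_img_top γ F hγ i hi β hβ) rfl
  have h2 : Arrow.mk (b.u j ≫ (b.t j).map (homOfLE (le_top : pre j F hj ≤ ⊤)).op) =
      Arrow.mk (b.u j ≫ trans β' (b.t j)) := by
    apply mk_comp_congr rfl
    exact ar_congr _ _ _ _ rfl (pre_eq_img_top γ F hγ j hj β' hβ') rfl
  rw [h1, h2, e]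

/-- a vertex missed by a proper face -/
lemma exists_miss (G : PF ⦋n + 1⦌) : ∃ i, i ∉ G.1.1 := by
  by_contra! h
  exact G.2 (Subtype.ext (Set.eq_univ_of_forall h))

/-- a vertex missed by a proper face -/
noncomputable def miss (G : PF ⦋n + 1⦌) : Fin (n + 2) := (exists_miss G).choose

lemma miss_notMem (G : PF ⦋n + 1⦌) : miss G ∉ G.1.1 := (exists_miss G).choose_spec

/-- the glued arrows -/
noncomputable def Bdry.arr (F G : PF ⦋n + 1⦌) (h : F ≤ G) : Arrow A :=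
  ar (b.t (miss G)) (pre (miss G) F.1 (fun h' => miss_notMem G (h h'))) (pre (miss G) G.1 (miss_notMem G))
    (pre_mono (miss G) h (miss_notMem G))

lemma Bdry.arr_eq (F G : PF ⦋n + 1⦌) (h : F ≤ G) (i : Fin (n + 2)) (hi : i ∉ G.1.1) :
    b.arr F G h = ar (b.t i) (pre i F.1 (fun h' => hi (h h'))) (pre i G.1 hi) (pre_mono i h hi) :=
  b.indep₁ _ _ h _ _ _ _

lemma Bdry.isDiag : IsDiag b.arr where
  id F := by
    exact ⟨_, ar_self _ _⟩
  comp F G H h h' := by
    refine ⟨_, _, _, _, _, rfl, b.arr_eq F G h (miss H) (fun h'' => miss_notMem H (h' h'')), ?_⟩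
    exact ar_comp _ _ _ _ _ _

/-- the glued diagram on the proper faces -/
noncomputable def Bdry.diag : (PF ⦋n + 1⦌)ᵒᵖ ⥤ A := b.isDiag.functor

lemma Bdry.ar_diag (F G : PF ⦋n + 1⦌) (h : F ≤ G) (i : Fin (n + 2)) (hi : i ∉ G.1.1) :
    ar b.diag F G h = ar (b.t i) (pre i F.1 (fun h' => hi (h h'))) (pre i G.1 hi) (pre_mono i h hi) := by
  rw [← b.arr_eq]
  exact IsDiag.ar_functor _ _ _ _

lemma Bdry.diag_obj (F : PF ⦋n + 1⦌) (i : Fin (n + 2)) (hi : i ∉ F.1.1) :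
    b.diag.obj (op F) = (b.t i).obj (op (pre i F.1 hi)) := by
  have := b.ar_diag F F le_rfl i hi
  rw [ar_self, ar_self] at this
  exact congrArg Comma.left this

/-- the cone with apex `T` -/
noncomputable def Bdry.cone : Cone b.diag where
  pt := T
  π :=
    { app F := (b.u (miss F.unop) ≫ (b.t (miss F.unop)).map
        (homOfLE (le_top : pre (miss F.unop) F.unop.1 (miss_notMem F.unop) ≤ ⊤)).op) ≫
        eqToHom (b.diag_obj _ _ _).symm
      naturality := by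
        rintro ⟨G⟩ ⟨F⟩ f
        have h : F ≤ G := leOfHom f.unop
        obtain rfl : f = (homOfLE h).op := Subsingleton.elim _ _
        apply eq_of_mk
        dsimp only [Functor.const_obj_map, Functor.const_obj_obj]
        rw [Category.id_comp, mk_comp_eqToHom]
        rw [b.indep₂ F.1 (miss F) (miss G) (miss_notMem F) (fun h' => miss_notMem G (h h'))]
        refine Eq.symm (Eq.trans (mk_comp_congr (mk_comp_eqToHom _ _)
          (b.ar_diag F G h (miss G) (miss_notMem G))) ?_)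
        rw [Category.assoc, ← Functor.map_comp]
        rfl }

lemma Bdry.cone_π (F : PF ⦋n + 1⦌) (i : Fin (n + 2)) (hi : i ∉ F.1.1) :
    Arrow.mk (b.cone.π.app (op F)) =
      Arrow.mk (b.u i ≫ (b.t i).map (homOfLE (le_top : pre i F.1 hi ≤ ⊤)).op) := by
  rw [b.indep₂ F.1 i (miss F) hi (miss_notMem F)]
  exact mk_comp_eqToHom _ _

/-- a filling has the right faces -/
lemma Bdry.pull_ext (c : Cone b.diag) (i : Fin (n + 2)) : pull (δ i) (ext c) = b.t i := by
  apply functor_ext_of_ar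
  intro F G h
  have hG : NS.img (δ i) G ≠ ⊤ := by
    intro h
    have := notMem_img i G
    rw [h] at this
    exact this trivial
  rw [ar_pull, ar_ext, extArr_of_ne _ _ _ _ hG]
  refine (b.ar_diag ⟨_, ne_top_of_le (NS.img_mono _ h) hG⟩ ⟨_, hG⟩ (NS.img_mono _ h) i (notMem_img i G)).trans ?_
  exact ar_congr _ _ _ _ rfl (pre_img i F) (pre_img i G)

lemma Bdry.trans_ext (c : Cone b.diag) {T' : A} (w : T' ⟶ c.pt) (g : T' ⟶ T)
    (hw : ∀ F, w ≫ c.π.app F = g ≫ b.cone.π.app F) (i : Fin (n + 2)) :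
    Arrow.mk ((w ≫ eqToHom (topv_ext c).symm) ≫ trans (δ i) (ext c)) = Arrow.mk (g ≫ b.u i) := by
  have hG : NS.img (δ i) ⊤ ≠ ⊤ := by
    intro h
    have := notMem_img i (⊤ : NS ⦋n⦌)
    rw [h] at this
    exact this trivial
  trans Arrow.mk (w ≫ c.π.app (op ⟨_, hG⟩))
  · apply mk_comp_congr (mk_comp_eqToHom _ _)
    rw [mk_trans, ar_ext, extArr_le_top _ _ hG]
  · rw [hw]
    apply mk_comp_congr rfl
    refine (b.cone_π ⟨_, hG⟩ i (notMem_img i ⊤)).trans ?_
    trans Arrow.mk (b.u i ≫ 𝟙 _)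
    · apply mk_comp_congr rfl
      rw [← ar_self]
      exact ar_congr _ _ _ _ rfl (pre_img i ⊤) rfl
    · rw [Category.comp_id]

end glue

section chosen

/-- degenerate diagrams -/
def Deg {n : SimplexCategory} (s : S A n) : Prop :=
  ∃ (m : SimplexCategory) (π : n ⟶ m) (_ : Epi π) (_ : m.len < n.len) (t : S A m), s = pull π t

variable (Ch : ∀ (n : SimplexCategory) (r : (PF n)ᵒᵖ ⥤ A), Set (Cone r))

/-- Diagrams all of whose restrictions are degenerate or chosen -/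
def QQ (n : SimplexCategory) (s : S A n) : Prop :=
  ∀ (m : SimplexCategory) (θ : m ⟶ n), Deg (pull θ s) ∨
    ∃ (r : (PF m)ᵒᵖ ⥤ A) (c : Cone r) (_ : c ∈ Ch m r), pull θ s = ext c

lemma QQ_pull {m n : SimplexCategory} (θ : m ⟶ n) (s : S A n) (h : QQ Ch n s) : QQ Ch m (pull θ s) := by
  intro k η
  rw [← pull_comp]
  exact h k _

lemma QQ_ext_zero {r : (PF ⦋0⦌)ᵒᵖ ⥤ A} {c : Cone r} (hc : c ∈ Ch _ r) : QQ Ch ⦋0⦌ (ext c) := by
  intro m θ
  by_cases hm : 0 < m.len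
  · refine Or.inl ⟨_, θ, epi_iff_surjective.2 ?_, hm, _, rfl⟩
    intro x
    exact ⟨0, Subsingleton.elim (α := Fin 1) _ _⟩
  · right
    obtain rfl : m = ⦋0⦌ := SimplexCategory.ext (by simpa using hm)
    obtain rfl : θ = 𝟙 _ := by
      ext x : 3
      exact Subsingleton.elim (α := Fin 1) _ _
    rw [pull_id]
    exact ⟨r, c, hc, rfl⟩

lemma QQ_ext_succ {n : ℕ} {T : A} (b : Bdry T n) (hb : ∀ i, QQ Ch _ (b.t i)) {c : Cone b.diag} (hc : c ∈ Ch _ b.diag) :
    QQ Ch ⦋n + 1⦌ (ext c) := by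
  intro m θ
  by_cases hθ : Function.Surjective θ.toOrderHom
  · have : Epi θ := epi_iff_surjective.2 hθ
    by_cases hm : n + 1 < m.len
    · exact Or.inl ⟨_, θ, inferInstance, hm, _, rfl⟩
    · have h1 := len_le_of_epi θ
      obtain rfl : m = ⦋n + 1⦌ := SimplexCategory.ext (by simp at h1 ⊢; omega)
      obtain rfl : θ = 𝟙 _ := eq_id_of_epi θ
      rw [pull_id]
      exact Or.inr ⟨_, c, hc, rfl⟩
  · obtain ⟨i, θ', rfl⟩ := eq_comp_δ_of_not_surjective θ hθ
    rw [pull_comp, b.pull_ext]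
    exact hb i _ _

/-- The simplicial object attached to a class of chosen cones. -/
def KK : SimplicialObject (FormalCoproduct.{max u v} A) := K (QQ Ch) (QQ_pull Ch)

variable {Ch}

lemma KK_hom_ext {T : A} {n : SimplexCategory} {y y' : (FormalCoproduct.incl A).obj T ⟶ (KK Ch).obj (op n)}
    (h₁ : (y.f PUnit.unit).1 = (y'.f PUnit.unit).1)
    (h₂ : Arrow.mk (y.φ PUnit.unit) = Arrow.mk (y'.φ PUnit.unit)) : y = y' :=
  FormalCoproduct.hom_ext (funext fun _ => Subtype.ext h₁) (fun _ => comp_eqToHom_eq_of_mk _ h₂)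

/-- The boundary datum attached to a compatible family of maps to `KK`. -/
def bdryOf {T : A} {n : ℕ} (y : Fin (n + 2) → ((FormalCoproduct.incl A).obj T ⟶ (KK Ch).obj (op ⦋n⦌)))
    (hy : Compat (KK Ch) y) : Bdry T n where
  t i := ((y i).f PUnit.unit).1
  u i := (y i).φ PUnit.unit
  ht i j m hm β β' h := congrArg (fun z : (FormalCoproduct.incl A).obj T ⟶ (KK Ch).obj (op ⦋m⦌) =>
    (z.f PUnit.unit).1) (hy i j m hm β β' h)
  hu i j m hm β β' h := congrArg (fun z : (FormalCoproduct.incl A).obj T ⟶ (KK Ch).obj (op ⦋m⦌) =>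
    Arrow.mk (z.φ PUnit.unit)) (hy i j m hm β β' h)

/-- maps which locally lift to a chosen cone -/
def liftSieve {n : SimplexCategory} {r : (PF n)ᵒᵖ ⥤ A} (C : Set (Cone r)) (c : Cone r) : Sieve c.pt where
  arrows T' g := ∃ c' ∈ C, ∃ w : T' ⟶ c'.pt, ∀ F, w ≫ c'.π.app F = g ≫ c.π.app F
  downward_closed := by
    rintro Y Z f ⟨c', hc', w, hw⟩ g
    exact ⟨c', hc', g ≫ w, fun F => by simp [hw]⟩

theorem liftSieve_le_fillSieve {T : A} {n : ℕ} (y : Fin (n + 2) → ((FormalCoproduct.incl A).obj T ⟶ (KK Ch).obj (op ⦋n⦌)))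
    (hy : Compat (KK Ch) y) :
    liftSieve (Ch _ _) (bdryOf y hy).cone ≤ fillSieve y := by
  rintro T' g ⟨c', hc', w, hw⟩
  refine ⟨⟨fun _ => ⟨ext c', QQ_ext_succ Ch (bdryOf y hy) (fun i => ((y i).f PUnit.unit).2) hc'⟩,
    fun _ => w ≫ eqToHom (topv_ext c').symm⟩, fun i => ?_⟩
  apply KK_hom_ext
  · exact (bdryOf y hy).pull_ext c' i
  · exact (bdryOf y hy).trans_ext c' w g hw i

/-- maps from an object having a map to a given formal coproduct -/
def homSieve (T : A) (X : FormalCoproduct.{w} A) : Sieve T where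
  arrows T' g := Nonempty ((FormalCoproduct.incl A).obj T' ⟶ X)
  downward_closed := by
    rintro Y Z f ⟨x⟩ g
    exact ⟨(FormalCoproduct.incl A).map g ≫ x⟩

theorem liftSieve_le_homSieve (T : A) {r : (PF ⦋0⦌)ᵒᵖ ⥤ A} (c : Cone r) :
    liftSieve (Ch _ _) c ≤ homSieve c.pt ((KK Ch).obj (op ⦋0⦌)) := by
  rintro T' g ⟨c', hc', w, hw⟩
  exact ⟨⟨fun _ => ⟨ext c', QQ_ext_zero Ch hc'⟩, fun _ => w ≫ eqToHom (topv_ext c').symm⟩⟩

lemma QQ_of_QQ_pull_epi {m n : SimplexCategory} (π : n ⟶ m) [Epi π] (t : S A m) (h : QQ Ch n (pull π t)) :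
    QQ Ch m t := by
  have := isSplitEpi_of_epi π
  have h1 := QQ_pull Ch (section_ π) _ h
  rw [← pull_comp, IsSplitEpi.id, pull_id] at h1
  exact h1

lemma img_epi_top {m n : SimplexCategory} (π : n ⟶ m) [Epi π] : NS.img π ⊤ = ⊤ := by
  apply Subtype.ext
  have : Function.Surjective π.toOrderHom := epi_iff_surjective.1 inferInstance
  exact Set.image_univ_of_surjective this

/-- a property of the terms -/
lemma topv_property (P : A → Prop) (hP : ∀ n r, ∀ c ∈ Ch n r, P c.pt) {n : SimplexCategory} (s : S A n) (hs : QQ Ch n s) :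
    P (topv s) := by
  obtain ⟨k, hk⟩ : ∃ k, n.len = k := ⟨_, rfl⟩
  induction k using Nat.strong_induction_on generalizing n with
  | _ k ih =>
    rcases hs n (𝟙 n) with h | ⟨r, c, hc, h⟩
    · rw [pull_id] at h
      obtain ⟨m, π, hπ, hm, t, rfl⟩ := h
      have h1 := ih m.len (by omega) t (QQ_of_QQ_pull_epi π t hs) rfl
      have h2 : topv (pull π t) = topv t := by
        change t.obj (op (NS.img π ⊤)) = t.obj (op ⊤)
        rw [img_epi_top]
      rw [h2]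
      exact h1
    · rw [pull_id] at h
      subst h
      rw [topv_ext]
      exact hP _ _ _ hc

/-- restriction to the proper faces -/
def res {n : SimplexCategory} (s : S A n) : (PF n)ᵒᵖ ⥤ A :=
  (show Monotone (fun F : PF n => F.1) from fun _ _ h => h).functor.op ⋙ s

lemma ar_res {n : SimplexCategory} (s : S A n) (F G : PF n) (h : F ≤ G) : ar (res s) F G h = ar s F.1 G.1 h := rfl

lemma res_ext {n : SimplexCategory} {r : (PF n)ᵒᵖ ⥤ A} (c : Cone r) : res (ext c) = r :=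
  functor_ext_of_ar fun F G h => by
    rw [ar_res, ar_ext, extArr_of_ne _ _ _ _ G.2]
    rfl

lemma exists_range' {n : SimplexCategory} (G : NS n) (hG : G ≠ ⊤) :
    ∃ (m : ℕ) (_ : m < n.len) (γ : ⦋m⦌ ⟶ n), Set.range γ.toOrderHom = G.1 := by
  obtain ⟨k, hk⟩ : ∃ k, n.len = k := ⟨_, rfl⟩
  cases k with
  | zero =>
    exfalso
    obtain rfl : n = ⦋0⦌ := SimplexCategory.ext hk
    apply hG
    obtain ⟨x, hx⟩ := G.2
    apply Subtype.ext
    apply Set.eq_univ_of_forall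
    intro y
    have : y = x := Subsingleton.elim (α := Fin 1) _ _
    rw [this]
    exact hx
  | succ k =>
    obtain rfl : n = ⦋k + 1⦌ := SimplexCategory.ext hk
    obtain ⟨m, hm, γ, hγ⟩ := exists_range G hG
    exact ⟨m, Nat.lt_succ_of_le hm, γ, hγ⟩

/-- restriction to proper faces is determined by the facets -/
lemma res_eq_res {n : SimplexCategory} {s s' : S A n} (h : ∀ (k : ℕ) (_ : k < n.len) (γ : ⦋k⦌ ⟶ n), pull γ s = pull γ s') :
    res s = res s' := by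
  apply functor_ext_of_ar
  intro F G hFG
  obtain ⟨m, hm, γ, hγ⟩ := exists_range' G.1 G.2
  have hF : ∃ x, x ∈ γ.toOrderHom ⁻¹' F.1.1 := by
    obtain ⟨x, hx⟩ := F.1.2
    have : x ∈ Set.range γ.toOrderHom := by rw [hγ]; exact hFG hx
    obtain ⟨y, rfl⟩ := this
    exact ⟨y, hx⟩
  have h1 : NS.img γ ⟨_, hF⟩ = F.1 := by
    apply Subtype.ext
    change γ.toOrderHom '' (γ.toOrderHom ⁻¹' F.1.1) = F.1.1
    rw [Set.image_preimage_eq_inter_range, hγ]
    exact Set.inter_eq_left.2 hFG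
  have h2 : NS.img γ ⊤ = G.1 := by
    apply Subtype.ext
    change γ.toOrderHom '' Set.univ = G.1.1
    rw [Set.image_univ, hγ]
  have h3 : ∀ t : S A n, ar (res t) F G hFG = ar (pull γ t) ⟨_, hF⟩ ⊤ le_top := by
    intro t
    rw [ar_res, ar_pull]
    exact ar_congr _ _ _ _ rfl h1.symm h2.symm
  rw [h3, h3, h m hm γ]

theorem finite_QQ (hfin : ∀ n r, (Ch n r).Finite) (n : SimplexCategory) : {s : S A n | QQ Ch n s}.Finite := by
  obtain ⟨k, hk⟩ : ∃ k, n.len = k := ⟨_, rfl⟩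
  induction k using Nat.strong_induction_on generalizing n with
  | _ k ih =>
    have ih' : ∀ (j : Fin n.len), {s : S A ⦋j⦌ | QQ Ch ⦋j⦌ s}.Finite := fun j => ih j.1 (by omega) _ rfl
    -- the possible restrictions to the proper faces
    have hR : {r : (PF n)ᵒᵖ ⥤ A | ∃ s : S A n, QQ Ch n s ∧ res s = r}.Finite := by
      have : ∀ j : Fin n.len, Finite {s : S A ⦋j⦌ | QQ Ch ⦋j⦌ s} := fun j => ih' j
      let Φ : {r : (PF n)ᵒᵖ ⥤ A | ∃ s : S A n, QQ Ch n s ∧ res s = r} →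
          ((j : Fin n.len) → (⦋j⦌ ⟶ n) → {s : S A ⦋j⦌ | QQ Ch ⦋j⦌ s}) := fun r j γ =>
        ⟨pull γ r.2.choose, QQ_pull Ch γ _ r.2.choose_spec.1⟩
      have hΦ : Function.Injective Φ := by
        intro r r' h
        apply Subtype.ext
        rw [← r.2.choose_spec.2, ← r'.2.choose_spec.2]
        apply res_eq_res
        intro j hj γ
        exact congrArg Subtype.val (congrFun (congrFun h ⟨j, hj⟩) γ)
      exact Finite.of_injective Φ hΦ
    refine ((Set.finite_iUnion fun j : Fin n.len => Set.finite_iUnion fun π : n ⟶ ⦋j⦌ =>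
      (ih' j).image (pull π)).union (hR.biUnion fun r _ => (hfin n r).image ext)).subset ?_
    intro s hs
    rcases hs n (𝟙 n) with h | ⟨r, c, hc, h⟩
    · rw [pull_id] at h
      obtain ⟨m, π, hπ, hm, t, rfl⟩ := h
      induction m using SimplexCategory.rec with | _ m
      left
      simp only [Set.mem_iUnion]
      exact ⟨⟨m, hm⟩, π, t, QQ_of_QQ_pull_epi π t hs, rfl⟩
    · rw [pull_id] at h
      right
      simp only [Set.mem_iUnion]
      refine ⟨r, ⟨s, hs, ?_⟩, c, hc, h.symm⟩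
      rw [h, res_ext]

theorem finite_KK (hfin : ∀ n r, (Ch n r).Finite) (n : SimplexCategory) : Finite ((KK Ch).obj (op n)).I :=
  finite_QQ hfin n


end chosen

end NSsec

section final

open SimplexCategory Simplicial

variable {A : Type u} [SmallCategory A] (J : GrothendieckTopology A)
  {Ch : ∀ (n : SimplexCategory) (r : (PF n)ᵒᵖ ⥤ A), Set (Cone r)}
  (hCh : ∀ (n : SimplexCategory) (r : (PF n)ᵒᵖ ⥤ A) (c : Cone r), liftSieve (Ch n r) c ∈ J c.pt)

include hCh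

theorem fillSieve_mem {T : A} {n : ℕ} (y : Fin (n + 2) → ((FormalCoproduct.incl A).obj T ⟶ (KK Ch).obj (op ⦋n⦌)))
    (hy : Compat (KK Ch) y) : fillSieve y ∈ J T := by
  have h := hCh _ _ (bdryOf y hy).cone
  exact J.superset_covering (liftSieve_le_fillSieve y hy) h

theorem homSieve_mem (T : A) : homSieve T ((KK Ch).obj (op ⦋0⦌)) ∈ J T := by
  have h := hCh ⦋0⦌ ((Functor.const _).obj T) ⟨T, 𝟙 _⟩
  exact J.superset_covering (liftSieve_le_homSieve T (r := (Functor.const _).obj T) ⟨T, 𝟙 _⟩) h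

theorem isSRCovering_unit_KK (n : ℕ) [∀ F : (SimplexCategory.Truncated n)ᵒᵖ ⥤ FormalCoproduct.{u} A,
      (SimplexCategory.Truncated.inclusion n).op.HasRightKanExtension F] :
    Hyper.IsSRCovering J
      (((SimplicialObject.coskAdj n).unit.app (KK Ch)).app (op (SimplexCategory.mk (n + 1)))) :=
  Groth.Agent.CohtopB.HyperTens.isSRCovering_unit J (KK Ch) n fun _ y hy => fillSieve_mem J hCh y hy

omit hCh

theorem isHypercovering_KK {C : Type u} [SmallCategory C] (J : GrothendieckTopology C) (X : C)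
    [∀ (n : ℕ) (F : (SimplexCategory.Truncated n)ᵒᵖ ⥤ Limits.FormalCoproduct.{u} (Over X)),
      (SimplexCategory.Truncated.inclusion n).op.HasRightKanExtension F]
    {Ch : ∀ (n : SimplexCategory) (r : (PF n)ᵒᵖ ⥤ Over X), Set (Cone r)}
    (hCh : ∀ (n : SimplexCategory) (r : (PF n)ᵒᵖ ⥤ Over X) (c : Cone r), liftSieve (Ch n r) c ∈ J.over X c.pt) :
    Hyper.IsHypercovering J X (KK Ch) := by
  refine ⟨?_, fun n => isSRCovering_unit_KK (J.over X) hCh n⟩
  have h := homSieve_mem (J.over X) hCh (Over.mk (𝟙 X))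
  rw [GrothendieckTopology.mem_over_iff] at h
  refine J.superset_covering ?_ h
  intro Z f hf
  rw [Sieve.overEquiv_iff] at hf
  obtain ⟨x⟩ := hf
  have hw := Over.w (x.φ PUnit.unit)
  exact ⟨_, (x.φ PUnit.unit).left, _, Presieve.ofArrows.mk (x.f PUnit.unit), hw.trans (Category.comp_id f)⟩

end final

end Groth.Agent.CohtopB.HyperExist
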