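import Groth.Agent.CohtopB.HyperExist
import Mathlib.CategoryTheory.Limits.FunctorToTypes

universe w v u

open CategoryTheory CategoryTheory.Limits Opposite SimplexCategory Simplicial

namespace Groth.Agent.CohtopB.HyperSite

variable {A : Type u} [Category.{v} A]

/-- the canonical section of the presheaf attached to `incl T` over `T` -/
noncomputable def canon (T : A) : (FormalCoproduct.yoneda.obj ((FormalCoproduct.incl.{v} A).obj T)).obj (op T) :=
  (Sigma.ι (fun _ : PUnit.{v + 1} => yoneda.obj T) PUnit.unit).app (op T) (𝟙 T)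

/-- the section attached to a map -/
noncomputable def sec {T : A} {L : FormalCoproduct.{v} A} (y : (FormalCoproduct.incl A).obj T ⟶ L) :
    (FormalCoproduct.yoneda.obj L).obj (op T) :=
  (FormalCoproduct.yoneda.map y).app (op T) (canon T)

lemma ι_map {L K : FormalCoproduct.{v} A} (f : K ⟶ L) (i : K.I) :
    Sigma.ι (fun i => yoneda.obj (K.obj i)) i ≫ FormalCoproduct.yoneda.map f =
      yoneda.map (f.φ i) ≫ Sigma.ι (fun j => yoneda.obj (L.obj j)) (f.f i) :=
  Sigma.ι_desc _ _

lemma sec_eq {T : A} {L : FormalCoproduct.{v} A} (y : (FormalCoproduct.incl A).obj T ⟶ L) :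
    sec y = (Sigma.ι (fun j => yoneda.obj (L.obj j)) (y.f PUnit.unit)).app (op T) (y.φ PUnit.unit) := by
  have := congrArg (fun z => z.app (op T) (𝟙 T)) (ι_map y PUnit.unit)
  refine this.trans ?_
  change (Sigma.ι (fun j => yoneda.obj (L.obj j)) (y.f PUnit.unit)).app (op T) (𝟙 T ≫ y.φ PUnit.unit) = _
  rw [Category.id_comp]

lemma map_sec {T : A} {K L : FormalCoproduct.{v} A} (y : (FormalCoproduct.incl A).obj T ⟶ K) (f : K ⟶ L) :
    (FormalCoproduct.yoneda.map f).app (op T) (sec y) = sec (y ≫ f) := by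
  rw [sec, sec, Functor.map_comp]
  rfl

lemma res_sec {T T' : A} {L : FormalCoproduct.{v} A} (y : (FormalCoproduct.incl A).obj T ⟶ L) (g : T' ⟶ T) :
    (FormalCoproduct.yoneda.obj L).map g.op (sec y) = sec ((FormalCoproduct.incl A).map g ≫ y) := by
  rw [sec_eq, sec_eq]
  have := (Sigma.ι (fun j => yoneda.obj (L.obj j)) (y.f PUnit.unit)).naturality g.op
  exact (congrArg (fun z => z (y.φ PUnit.unit)) this).symm

lemma exists_sec {T : A} {L : FormalCoproduct.{v} A} (z : (FormalCoproduct.yoneda.obj L).obj (op T)) :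
    ∃ y : (FormalCoproduct.incl A).obj T ⟶ L, sec y = z := by
  obtain ⟨⟨j⟩, x, hx⟩ := CategoryTheory.FunctorToTypes.jointly_surjective (Discrete.functor fun j => yoneda.obj (L.obj j)) (op T)
    (coproductIsCoproduct (fun j => yoneda.obj (L.obj j))) z
  refine ⟨FormalCoproduct.Hom.fromIncl j x, ?_⟩
  rw [sec_eq]
  exact hx.symm

variable {A : Type v} [SmallCategory A] (J : GrothendieckTopology A)

theorem isLocallySurjective_yoneda_map {K L : FormalCoproduct.{v} A} (f : K ⟶ L)
    (h : ∀ (T : A) (y : (FormalCoproduct.incl A).obj T ⟶ L),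
      ∃ R ∈ J T, ∀ (T' : A) (g : T' ⟶ T), R g → ∃ x : (FormalCoproduct.incl A).obj T' ⟶ K,
        x ≫ f = (FormalCoproduct.incl A).map g ≫ y) :
    Presheaf.IsLocallySurjective J (FormalCoproduct.yoneda.map f) where
  imageSieve_mem {T} z := by
    obtain ⟨y, rfl⟩ := exists_sec z
    obtain ⟨R, hR, H⟩ := h T y
    refine J.superset_covering ?_ hR
    intro T' g hg
    obtain ⟨x, hx⟩ := H T' g hg
    refine ⟨sec x, ?_⟩
    refine (map_sec x f).trans ?_
    rw [hx]
    exact (res_sec y g).symm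

theorem isLocallySurjective_terminal {K : FormalCoproduct.{v} A} 
    (h : ∀ (T : A), ∃ R ∈ J T, ∀ (T' : A) (g : T' ⟶ T), R g → Nonempty ((FormalCoproduct.incl A).obj T' ⟶ K)) :
    Presheaf.IsLocallySurjective J (terminal.from (FormalCoproduct.yoneda.obj K)) where
  imageSieve_mem {T} z := by
    obtain ⟨R, hR, H⟩ := h T
    refine J.superset_covering ?_ hR
    intro T' g hg
    obtain ⟨x⟩ := H T' g hg
    refine ⟨sec x, ?_⟩
    apply yonedaEquiv.symm.injective
    exact Subsingleton.elim _ _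

theorem isLocallySurjective_prod {K L : FormalCoproduct.{v} A} (f₁ f₂ : K ⟶ L)
    (h : ∀ (T : A) (y₁ y₂ : (FormalCoproduct.incl A).obj T ⟶ L),
      ∃ R ∈ J T, ∀ (T' : A) (g : T' ⟶ T), R g → ∃ x : (FormalCoproduct.incl A).obj T' ⟶ K,
        x ≫ f₁ = (FormalCoproduct.incl A).map g ≫ y₁ ∧ x ≫ f₂ = (FormalCoproduct.incl A).map g ≫ y₂) :
    Presheaf.IsLocallySurjective J (prod.lift (FormalCoproduct.yoneda.map f₁) (FormalCoproduct.yoneda.map f₂)) where
  imageSieve_mem {T} z := by
    obtain ⟨y₁, hy₁⟩ := exists_sec ((prod.fst : FormalCoproduct.yoneda.obj L ⨯ FormalCoproduct.yoneda.obj L ⟶ _).app (op T) z)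
    obtain ⟨y₂, hy₂⟩ := exists_sec ((prod.snd : FormalCoproduct.yoneda.obj L ⨯ FormalCoproduct.yoneda.obj L ⟶ _).app (op T) z)
    obtain ⟨R, hR, H⟩ := h T y₁ y₂
    refine J.superset_covering ?_ hR
    intro T' g hg
    obtain ⟨x, hx₁, hx₂⟩ := H T' g hg
    refine ⟨sec x, ?_⟩
    apply yonedaEquiv.symm.injective
    apply Limits.prod.hom_ext
    · rw [yonedaEquiv_symm_naturality_right, yonedaEquiv_symm_naturality_right]
      congr 1
      rw [← NatTrans.comp_app_apply, prod.lift_fst]
      refine (map_sec x f₁).trans ?_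
      rw [hx₁]
      refine (res_sec y₁ g).symm.trans ?_
      rw [hy₁]
      exact (NatTrans.naturality_apply _ _ _).symm
    · rw [yonedaEquiv_symm_naturality_right, yonedaEquiv_symm_naturality_right]
      congr 1
      rw [← NatTrans.comp_app_apply, prod.lift_snd]
      refine (map_sec x f₂).trans ?_
      rw [hx₂]
      refine (res_sec y₂ g).symm.trans ?_
      rw [hy₂]
      exact (NatTrans.naturality_apply _ _ _).symm



open Groth.Agent.CohtopB.HyperExist Groth.Agent.CohtopB.HyperTens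

theorem isHypercoveringSite_KK
    {Ch : ∀ (n : SimplexCategory) (r : (PF n)ᵒᵖ ⥤ A), Set (Cone r)}
    (hCh : ∀ (n : SimplexCategory) (r : (PF n)ᵒᵖ ⥤ A) (c : Cone r), liftSieve (Ch n r) c ∈ J c.pt)
    [∀ (n : ℕ) (F : (SimplexCategory.Truncated n)ᵒᵖ ⥤ Limits.FormalCoproduct.{v} A),
      (SimplexCategory.Truncated.inclusion n).op.HasRightKanExtension F] :
    Hyper.IsHypercoveringSite J (KK Ch) := by
  refine ⟨?_, ?_, fun n hn => ?_⟩
  · apply isLocallySurjective_terminal
    intro T
    exact ⟨_, homSieve_mem J hCh T, fun T' g hg => hg⟩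
  · apply isLocallySurjective_prod
    intro T y₁ y₂
    let y : Fin 2 → ((FormalCoproduct.incl A).obj T ⟶ (KK Ch).obj (op ⦋0⦌)) := ![y₂, y₁]
    have hy : Compat (KK Ch) y := by
      intro i j m hm β β' h
      obtain rfl : m = 0 := by omega
      obtain rfl : β = 𝟙 _ := by
        ext x : 3
        exact Subsingleton.elim (α := Fin 1) _ _
      obtain rfl : β' = 𝟙 _ := by
        ext x : 3
        exact Subsingleton.elim (α := Fin 1) _ _
      rw [Category.id_comp, Category.id_comp] at h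
      obtain rfl : i = j := by
        have h1 := DFunLike.congr_fun (congrArg Hom.toOrderHom h) 0
        have h2 : i.succAbove 0 = j.succAbove 0 := h1
        revert h2
        fin_cases i <;> fin_cases j <;> simp
      rfl
    refine ⟨_, fillSieve_mem J hCh y hy, ?_⟩
    rintro T' g ⟨x, hx⟩
    exact ⟨x, hx 1, hx 0⟩
  · apply isLocallySurjective_yoneda_map
    intro T y
    refine ⟨_, fillSieve_mem J hCh _ (compat_facets (KK Ch) n y), ?_⟩
    rintro T' g ⟨x, hx⟩
    refine ⟨x, eq_of_faces (KK Ch) n ((FormalCoproduct.incl A).map g ≫ y) x fun i => ?_⟩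
    rw [hx, facets, facets, Category.assoc]

end Groth.Agent.CohtopB.HyperSite
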