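import Groth.Prelude.Def_Hyper

universe w v u

open CategoryTheory CategoryTheory.Limits Opposite SimplexCategory Simplicial

namespace Groth.Agent.CohtopB.HyperTens

variable {A : Type u} [Category.{v} A]

/-- The simplicial object `T ⊗ Δ[N]` in formal coproducts. -/
def tens (T : FormalCoproduct.{w} A) (N : SimplexCategory) : SimplicialObject (FormalCoproduct.{w} A) where
  obj m := ⟨(m.unop ⟶ N) × T.I, fun p => T.obj p.2⟩
  map θ := ⟨fun p => (θ.unop ≫ p.1, p.2), fun p => 𝟙 (T.obj p.2)⟩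
  map_id m := by
    refine (FormalCoproduct.hom_ext_iff' _ _).2 fun p => ⟨?_, ?_⟩
    · exact Prod.ext (Category.id_comp _) rfl
    · simp
  map_comp θ η := by
    refine (FormalCoproduct.hom_ext_iff' _ _).2 fun p => ⟨?_, ?_⟩
    · exact Prod.ext (Category.assoc _ _ _) rfl
    · simp

/-- The inclusion of the copy of `T` of index `γ`. -/
def tensι (T : FormalCoproduct.{w} A) {N m : SimplexCategory} (γ : m ⟶ N) : T ⟶ (tens T N).obj (op m) :=
  ⟨fun i => (γ, i), fun i => 𝟙 (T.obj i)⟩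

lemma tensι_map (T : FormalCoproduct.{w} A) {N m m' : SimplexCategory} (γ : m ⟶ N) (θ : m' ⟶ m) :
    tensι T γ ≫ (tens T N).map θ.op = tensι T (θ ≫ γ) := by
  refine (FormalCoproduct.hom_ext_iff' _ _).2 fun p => ⟨rfl, ?_⟩
  simp [tensι, tens]

lemma tens_hom_ext {T : FormalCoproduct.{w} A} {N m : SimplexCategory} {X : FormalCoproduct.{w} A}
    {f g : (tens T N).obj (op m) ⟶ X} (h : ∀ γ : m ⟶ N, tensι T γ ≫ f = tensι T γ ≫ g) : f = g := by
  refine (FormalCoproduct.hom_ext_iff' _ _).2 fun p => ?_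
  obtain ⟨h1, h2⟩ := (FormalCoproduct.hom_ext_iff' _ _).1 (h p.1) p.2
  refine ⟨h1, ?_⟩
  have h3 : (𝟙 (T.obj p.2) ≫ f.φ p) ≫ eqToHom (congrArg X.obj h1) = 𝟙 (T.obj p.2) ≫ g.φ p := h2
  rw [Category.id_comp, Category.id_comp] at h3
  exact h3

/-- A map out of a level of `T ⊗ Δ[N]` -/
def tensDescAux {T : FormalCoproduct.{w} A} {N m : SimplexCategory} {X : FormalCoproduct.{w} A}
    (a : (m ⟶ N) → (T ⟶ X)) : (tens T N).obj (op m) ⟶ X := ⟨fun p => (a p.1).f p.2, fun p => (a p.1).φ p.2⟩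

lemma tensι_descAux {T : FormalCoproduct.{w} A} {N m : SimplexCategory} {X : FormalCoproduct.{w} A}
    (a : (m ⟶ N) → (T ⟶ X)) (γ : m ⟶ N) : tensι T γ ≫ tensDescAux a = a γ := by
  refine (FormalCoproduct.hom_ext_iff' _ _).2 fun p => ⟨rfl, ?_⟩
  have : (𝟙 (T.obj p) ≫ (a γ).φ p) ≫ 𝟙 _ = (a γ).φ p := by simp
  exact this

/-- maps out of `T ⊗ Δ[N]` -/
def tensDesc {T : FormalCoproduct.{w} A} {N : SimplexCategory} {G : SimplicialObject (FormalCoproduct.{w} A)}
    (a : T ⟶ G.obj (op N)) : tens T N ⟶ G where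
  app m := tensDescAux (fun γ : m.unop ⟶ N => a ≫ G.map γ.op)
  naturality := by
    rintro ⟨m⟩ ⟨m'⟩ θ
    apply tens_hom_ext
    intro γ
    have h := tensι_map T γ θ.unop
    rw [Quiver.Hom.op_unop] at h
    rw [reassoc_of% h, tensι_descAux]
    erw [reassoc_of% (tensι_descAux (fun γ : m ⟶ N => a ≫ G.map γ.op) γ)]
    simp

lemma tensι_desc {T : FormalCoproduct.{w} A} {N m : SimplexCategory} {G : SimplicialObject (FormalCoproduct.{w} A)}
    (a : T ⟶ G.obj (op N)) (γ : m ⟶ N) : tensι T γ ≫ (tensDesc a).app (op m) = a ≫ G.map γ.op :=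
  tensι_descAux _ _

section

variable (n : ℕ) [∀ F : (SimplexCategory.Truncated n)ᵒᵖ ⥤ FormalCoproduct.{w} A,
      (SimplexCategory.Truncated.inclusion n).op.HasRightKanExtension F]

/-- The projection from the coskeleton to its low degree terms -/
noncomputable def ev (F : SimplicialObject.Truncated (FormalCoproduct.{w} A) n) (m : ℕ) (hm : m ≤ n) :
    ((SimplicialObject.Truncated.cosk n).obj F).obj (op ⦋m⦌) ⟶ F.obj (op ⟨⦋m⦌, hm⟩) :=
  ((SimplicialObject.coskAdj n).counit.app F).app (op ⟨⦋m⦌, hm⟩)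

/-- Maps to a coskeleton are determined by their components. -/
theorem cosk_hom_ext {F : SimplicialObject.Truncated (FormalCoproduct.{w} A) n} {T : FormalCoproduct.{w} A}
    {N : SimplexCategory} {a b : T ⟶ ((SimplicialObject.Truncated.cosk n).obj F).obj (op N)}
    (h : ∀ (m : ℕ) (hm : m ≤ n) (γ : ⦋m⦌ ⟶ N),
      a ≫ ((SimplicialObject.Truncated.cosk n).obj F).map γ.op ≫ ev n F m hm =
      b ≫ ((SimplicialObject.Truncated.cosk n).obj F).map γ.op ≫ ev n F m hm) : a = b := by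
  have key : tensDesc a = tensDesc b := by
    apply ((SimplicialObject.coskAdj n).homEquiv _ _).symm.injective
    rw [Adjunction.homEquiv_counit, Adjunction.homEquiv_counit]
    apply NatTrans.ext
    ext1 ⟨⟨m, hm⟩⟩
    induction m using SimplexCategory.rec with | _ m
    apply tens_hom_ext
    intro γ
    rw [NatTrans.comp_app, NatTrans.comp_app]
    change tensι T γ ≫ (tensDesc a).app (op ⦋m⦌) ≫ ev n F m hm = tensι T γ ≫ (tensDesc b).app (op ⦋m⦌) ≫ ev n F m hm
    have h1 := tensι_desc (m := ⦋m⦌) a γ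
    have h2 := tensι_desc (m := ⦋m⦌) b γ
    rw [reassoc_of% h1, reassoc_of% h2]
    exact h m hm γ
  have h1 := tensι_desc a (𝟙 _)
  have h2 := tensι_desc b (𝟙 _)
  rw [key, h2] at h1
  simpa using h1.symm

/-- The coskeleton `cosk_n sk_n K` -/
noncomputable abbrev csk (K : SimplicialObject (FormalCoproduct.{w} A)) : SimplicialObject (FormalCoproduct.{w} A) :=
  (SimplicialObject.Truncated.cosk n).obj ((SimplicialObject.truncation n).obj K)

/-- The projection from the coskeleton of `K` to its low degree terms -/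
noncomputable def evK (K : SimplicialObject (FormalCoproduct.{w} A)) (m : ℕ) (hm : m ≤ n) :
    (csk n K).obj (op ⦋m⦌) ⟶ K.obj (op ⦋m⦌) :=
  ((SimplicialObject.coskAdj n).counit.app ((SimplicialObject.truncation n).obj K)).app (op ⟨⦋m⦌, hm⟩)

/-- Maps to a coskeleton are determined by their components. -/
theorem csk_hom_ext {K : SimplicialObject (FormalCoproduct.{w} A)} {T : FormalCoproduct.{w} A}
    {N : SimplexCategory} {a b : T ⟶ (csk n K).obj (op N)}
    (h : ∀ (m : ℕ) (hm : m ≤ n) (γ : ⦋m⦌ ⟶ N),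
      a ≫ (csk n K).map γ.op ≫ evK n K m hm = b ≫ (csk n K).map γ.op ≫ evK n K m hm) : a = b :=
  cosk_hom_ext n h

lemma unit_evK (K : SimplicialObject (FormalCoproduct.{w} A)) (m : ℕ) (hm : m ≤ n) :
    ((SimplicialObject.coskAdj n).unit.app K).app (op ⦋m⦌) ≫ evK n K m hm =
      𝟙 (K.obj (op ⦋m⦌)) :=
  congrArg (fun z => z.app (op (⟨⦋m⦌, hm⟩ : SimplexCategory.Truncated n)))
    ((SimplicialObject.coskAdj n).left_triangle_components K)

/-- The components of the unit. -/
lemma unit_comp (K : SimplicialObject (FormalCoproduct.{w} A)) {N : SimplexCategory} (m : ℕ) (hm : m ≤ n)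
    (γ : ⦋m⦌ ⟶ N) : ((SimplicialObject.coskAdj n).unit.app K).app (op N) ≫
      (csk n K).map γ.op ≫ evK n K m hm = K.map γ.op := by
  have h' : K.map γ.op ≫ ((SimplicialObject.coskAdj n).unit.app K).app (op ⦋m⦌) =
      ((SimplicialObject.coskAdj n).unit.app K).app (op N) ≫
        (csk n K).map γ.op :=
    ((SimplicialObject.coskAdj n).unit.app K).naturality γ.op
  rw [← reassoc_of% h', unit_evK, Category.comp_id]

lemma map_evK (K : SimplicialObject (FormalCoproduct.{w} A)) (m k : ℕ) (hm : m ≤ n) (hk : k ≤ n) (β : ⦋m⦌ ⟶ ⦋k⦌) :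
    (csk n K).map β.op ≫ evK n K m hm = evK n K k hk ≫ K.map β.op :=
  ((SimplicialObject.coskAdj n).counit.app ((SimplicialObject.truncation n).obj K)).naturality
    (SimplexCategory.Truncated.Hom.tr β hm hk : (⟨⦋m⦌, hm⟩ : SimplexCategory.Truncated n) ⟶ ⟨⦋k⦌, hk⟩).op

end

/-- compatibility of a family of maps to `K_n` indexed by the facets of `Δ[n+1]` -/
def Compat {T : FormalCoproduct.{w} A} (K : SimplicialObject (FormalCoproduct.{w} A)) {n : ℕ}
    (y : Fin (n + 2) → (T ⟶ K.obj (op ⦋n⦌))) : Prop :=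
  ∀ (i j : Fin (n + 2)) (m : ℕ) (_ : m ≤ n) (β β' : ⦋m⦌ ⟶ ⦋n⦌), β ≫ δ i = β' ≫ δ j →
      y i ≫ K.map β.op = y j ≫ K.map β'.op

/-- maps which fill a boundary -/
def fillSieve {K : SimplicialObject (FormalCoproduct.{w} A)} {T : A} {n : ℕ}
    (y : Fin (n + 2) → ((FormalCoproduct.incl A).obj T ⟶ K.obj (op ⦋n⦌))) :
    Sieve T where
  arrows T' g := ∃ x : (FormalCoproduct.incl A).obj T' ⟶ K.obj (op ⦋n + 1⦌),
    ∀ i, x ≫ K.map (δ i).op = (FormalCoproduct.incl A).map g ≫ y i
  downward_closed := by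
    rintro Y Z f ⟨x, hx⟩ g
    exact ⟨(FormalCoproduct.incl A).map g ≫ x, fun i => by simp [hx]⟩

section

variable (K : SimplicialObject (FormalCoproduct.{w} A))
variable (n : ℕ) [∀ F : (SimplexCategory.Truncated n)ᵒᵖ ⥤ FormalCoproduct.{w} A,
      (SimplexCategory.Truncated.inclusion n).op.HasRightKanExtension F]

/-- the components on the facets of a map to `(cosk_n sk_n K)_{n+1}` -/
noncomputable def facets {T : FormalCoproduct.{w} A} (y : T ⟶ (csk n K).obj (op ⦋n + 1⦌))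
    (i : Fin (n + 2)) : T ⟶ K.obj (op ⦋n⦌) :=
  y ≫ (csk n K).map (δ i).op ≫ evK n K n le_rfl

lemma facets_map {T : FormalCoproduct.{w} A} (y : T ⟶ (csk n K).obj (op ⦋n + 1⦌))
    (i : Fin (n + 2)) (m : ℕ) (hm : m ≤ n) (β : ⦋m⦌ ⟶ ⦋n⦌) :
    facets K n y i ≫ K.map β.op = y ≫ (csk n K).map (β ≫ δ i).op ≫ evK n K m hm := by
  rw [facets, Category.assoc, Category.assoc, ← map_evK n K m n hm le_rfl, op_comp, Functor.map_comp, Category.assoc]

lemma compat_facets {T : FormalCoproduct.{w} A} (y : T ⟶ (csk n K).obj (op ⦋n + 1⦌)) : Compat K (facets K n y) := by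
  intro i j m hm β β' h
  rw [facets_map K n y i m hm, facets_map K n y j m hm, h]

/-- A map fills the boundary as soon as it has the right faces. -/
lemma eq_of_faces {T : FormalCoproduct.{w} A} (y : T ⟶ (csk n K).obj (op ⦋n + 1⦌))
    (x : T ⟶ K.obj (op ⦋n + 1⦌)) (hx : ∀ i, x ≫ K.map (δ i).op = facets K n y i) :
    x ≫ ((SimplicialObject.coskAdj n).unit.app K).app (op ⦋n + 1⦌) = y := by
  apply csk_hom_ext n
  intro m hm γ
  obtain ⟨i, γ', rfl⟩ := eq_comp_δ_of_not_surjective γ (by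
    intro h
    have : Epi γ := epi_iff_surjective.2 h
    have := len_le_of_epi γ
    simp at this
    omega)
  rw [← facets_map K n y i m hm γ', ← hx, Category.assoc, Category.assoc]
  have h := unit_comp n K (N := ⦋n + 1⦌) m hm (γ' ≫ δ i)
  erw [h]
  rw [op_comp, K.map_comp]

/-- covering criterion -/
theorem isSRCovering_of_forall {A : Type w} [SmallCategory A] (J : GrothendieckTopology A)
    {K L : FormalCoproduct.{w} A} (f : K ⟶ L)
    (h : ∀ (T : A) (y : (FormalCoproduct.incl A).obj T ⟶ L),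
      ∃ R ∈ J T, ∀ (T' : A) (g : T' ⟶ T), R g → ∃ x : (FormalCoproduct.incl A).obj T' ⟶ K,
        x ≫ f = (FormalCoproduct.incl A).map g ≫ y) : Hyper.IsSRCovering J f := by
  intro j
  obtain ⟨R, hR, H⟩ := h (L.obj j) (FormalCoproduct.Hom.fromIncl j (𝟙 _))
  refine J.superset_covering ?_ hR
  intro T' g hg
  obtain ⟨x, hx⟩ := H T' g hg
  obtain ⟨h1, h2⟩ := (FormalCoproduct.hom_ext_iff' _ _).1 hx PUnit.unit
  have h3 : f.f (x.f PUnit.unit) = j := h1
  have h4 : (x.φ PUnit.unit ≫ f.φ (x.f PUnit.unit)) ≫ eqToHom (congrArg L.obj h3) = g ≫ 𝟙 _ := h2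
  rw [Category.comp_id, Category.assoc] at h4
  exact ⟨_, x.φ PUnit.unit, _, Presieve.ofArrows.mk (⟨x.f PUnit.unit, h3⟩ : {i : K.I // f.f i = j}), h4⟩

end

section

variable {A : Type w} [SmallCategory A] (J : GrothendieckTopology A) (K : SimplicialObject (FormalCoproduct.{w} A))
variable (n : ℕ) [∀ F : (SimplexCategory.Truncated n)ᵒᵖ ⥤ FormalCoproduct.{w} A,
      (SimplexCategory.Truncated.inclusion n).op.HasRightKanExtension F]

theorem isSRCovering_unit (h : ∀ (T : A) (y : Fin (n + 2) → ((FormalCoproduct.incl A).obj T ⟶ K.obj (op ⦋n⦌))),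
      Compat K y → fillSieve y ∈ J T) :
    Hyper.IsSRCovering J (((SimplicialObject.coskAdj n).unit.app K).app (op (SimplexCategory.mk (n + 1)))) := by
  apply isSRCovering_of_forall
  intro T y
  refine ⟨_, h T _ (compat_facets K n y), ?_⟩
  rintro T' g ⟨x, hx⟩
  refine ⟨x, eq_of_faces K n ((FormalCoproduct.incl A).map g ≫ y) x fun i => ?_⟩
  rw [hx, facets, facets, Category.assoc]

end

end Groth.Agent.CohtopB.HyperTens
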