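import Mathlib.Algebra.Homology.GrothendieckAbelian
import Mathlib.Algebra.Homology.Double
import Mathlib.CategoryTheory.Abelian.GrothendieckCategory.EnoughInjectives
import Groth.Agent.CohtopB.CoconeSES

/-!
* An injective object of the category of cochain complexes is termwise injective and acyclic
  (`injective_X`, `acyclic_of_injective`).
* Functorial embeddings into injective objects in a Grothendieck abelian category (`injFunctor`).
* Functoriality of mapping cocones (`mapCocone`).
-/

set_option autoImplicit false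

universe w v u

open CategoryTheory CategoryTheory.Limits ZeroObject

namespace Groth.Agent.CohtopB.InjComplex

open CochainComplex HomComplex Groth.Agent.CohtopB.CoconeSES

section

variable {A : Type u} [Category.{v} A] [Abelian A]

/-- The morphism `double (𝟙 X) ⟶ double (𝟙 Y)` attached to `f : X ⟶ Y`. -/
noncomputable def doubleMap {X Y : A} (f : X ⟶ Y) (n : ℤ)
    (hr : (ComplexShape.up ℤ).Rel n (n + 1)) :
    HomologicalComplex.double (𝟙 X) hr ⟶ HomologicalComplex.double (𝟙 Y) hr :=
  HomologicalComplex.mkHomFromDouble hr (by lia)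
    (f ≫ (HomologicalComplex.doubleXIso₀ (𝟙 Y) hr).inv)
    (f ≫ (HomologicalComplex.doubleXIso₁ (𝟙 Y) hr (by lia)).inv) (by
      simp [HomologicalComplex.double_d (𝟙 Y) hr (by lia)]) (by
      intro k hk
      rw [HomologicalComplex.double_d_eq_zero₀ _ _ _ _ (by lia), comp_zero])

@[reassoc (attr := simp)]
lemma doubleMap_f₀ {X Y : A} (f : X ⟶ Y) (n : ℤ)
    (hr : (ComplexShape.up ℤ).Rel n (n + 1)) :
    (doubleMap f n hr).f n = (HomologicalComplex.doubleXIso₀ (𝟙 X) hr).hom ≫ f ≫
      (HomologicalComplex.doubleXIso₀ (𝟙 Y) hr).inv := by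
  simp [doubleMap]

@[reassoc (attr := simp)]
lemma doubleMap_f₁ {X Y : A} (f : X ⟶ Y) (n : ℤ)
    (hr : (ComplexShape.up ℤ).Rel n (n + 1)) :
    (doubleMap f n hr).f (n + 1) = (HomologicalComplex.doubleXIso₁ (𝟙 X) hr (by lia)).hom ≫ f ≫
      (HomologicalComplex.doubleXIso₁ (𝟙 Y) hr (by lia)).inv := by
  simp [doubleMap]

instance mono_doubleMap {X Y : A} (f : X ⟶ Y) [Mono f] (n : ℤ)
    (hr : (ComplexShape.up ℤ).Rel n (n + 1)) : Mono (doubleMap f n hr) := by
  apply HomologicalComplex.mono_of_mono_f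
  intro k
  by_cases h₀ : k = n
  · subst h₀
    rw [doubleMap_f₀]
    infer_instance
  · by_cases h₁ : k = n + 1
    · subst h₁
      rw [doubleMap_f₁]
      infer_instance
    · exact ⟨fun a b _ => (HomologicalComplex.isZero_double_X _ hr k h₀ h₁).eq_of_tgt _ _⟩

/-- The terms of an injective object of the category of cochain complexes are injective. -/
lemma injective_X (K : CochainComplex A ℤ) [Injective K] (n : ℤ) : Injective (K.X n) where
  factors {X Y} g f _ := by
    have hn : n ≠ n + 1 := by lia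
    have hr : (ComplexShape.up ℤ).Rel n (n + 1) := rfl
    let h : HomologicalComplex.double (𝟙 X) hr ⟶ K :=
      HomologicalComplex.mkHomFromDouble hr hn g (g ≫ K.d _ _) (by simp) (by simp)
    let h' := Injective.factorThru h (doubleMap f n hr)
    have fac : doubleMap f n hr ≫ h' = h := Injective.comp_factorThru _ _
    refine ⟨(HomologicalComplex.doubleXIso₀ (𝟙 Y) hr).inv ≫ h'.f n, ?_⟩
    have := congr_arg (fun (φ : HomologicalComplex.double (𝟙 X) hr ⟶ K) => φ.f n) fac
    dsimp [h] at this
    rw [doubleMap_f₀, HomologicalComplex.mkHomFromDouble_f₀, Category.assoc, Category.assoc,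
      Iso.cancel_iso_hom_left] at this
    exact this

/-- An injective object of the category of cochain complexes is acyclic. -/
lemma acyclic_of_injective (K : CochainComplex A ℤ) [Injective K] : K.Acyclic := by
  intro n
  have : Mono (mappingCone.inr (𝟙 K)) :=
    HomologicalComplex.mono_of_mono_f _ (fun n => AcyclicCoprod.mono_inr _ n)
  let r : mappingCone (𝟙 K) ⟶ K := Injective.factorThru (𝟙 K) (mappingCone.inr (𝟙 K))
  have hr : mappingCone.inr (𝟙 K) ≫ r = 𝟙 K := Injective.comp_factorThru _ _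
  rw [HomologicalComplex.exactAt_iff_isZero_homology, IsZero.iff_id_eq_zero,
    ← HomologicalComplex.homologyMap_id, ← hr, HomologicalComplex.homologyMap_comp]
  have h0 : IsZero ((mappingCone (𝟙 K)).homology n) := by
    rw [IsZero.iff_id_eq_zero, ← HomologicalComplex.homologyMap_id,
      (mappingCone.homotopyToZeroOfId K).homologyMap_eq, HomologicalComplex.homologyMap_zero]
  rw [h0.eq_of_tgt (HomologicalComplex.homologyMap (mappingCone.inr (𝟙 K)) n) 0, zero_comp]

variable {K₁ L₁ K₂ L₂ K₃ L₃ : CochainComplex A ℤ} (φ₁ : K₁ ⟶ L₁) (φ₂ : K₂ ⟶ L₂) (φ₃ : K₃ ⟶ L₃)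
  (a : K₁ ⟶ K₂) (b : L₁ ⟶ L₂) (comm : φ₁ ≫ b = a ≫ φ₂)

/-- The morphism of mapping cocones induced by a commutative square. -/
noncomputable def mapCocone (comm : φ₁ ≫ b = a ≫ φ₂) : mappingCocone φ₁ ⟶ mappingCocone φ₂ :=
  mappingCocone.lift φ₂ (mappingCocone.fst φ₁ ≫ a)
    ((mappingCocone.snd φ₁).comp (Cochain.ofHom b) (add_zero _)) (by
      rw [δ_comp_ofHom, δ_snd]
      simp [← comm])

@[reassoc (attr := simp)]
lemma mapCocone_f_fst (n : ℤ) : (mapCocone φ₁ φ₂ a b comm).f n ≫ (mappingCocone.fst φ₂).f n =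
    (mappingCocone.fst φ₁).f n ≫ a.f n := by
  simp [mapCocone]

@[reassoc (attr := simp)]
lemma mapCocone_f_snd (n m : ℤ) (h : n + (-1) = m) :
    (mapCocone φ₁ φ₂ a b comm).f n ≫ (mappingCocone.snd φ₂).v n m h =
      (mappingCocone.snd φ₁).v n m h ≫ b.f m := by
  simp [mapCocone]

lemma mapCocone_id (φ : K₁ ⟶ L₁) (h : φ ≫ 𝟙 L₁ = 𝟙 K₁ ≫ φ) :
    mapCocone φ φ (𝟙 _) (𝟙 _) h = 𝟙 _ := by
  apply hom_ext_to
  · intro n; simp
  · intro n m h; simp

lemma mapCocone_comp (a' : K₂ ⟶ K₃) (b' : L₂ ⟶ L₃) (comm' : φ₂ ≫ b' = a' ≫ φ₃)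
    (comm'' : φ₁ ≫ (b ≫ b') = (a ≫ a') ≫ φ₃) :
    mapCocone φ₁ φ₃ (a ≫ a') (b ≫ b') comm'' =
      mapCocone φ₁ φ₂ a b comm ≫ mapCocone φ₂ φ₃ a' b' comm' := by
  apply hom_ext_to
  · intro n; simp
  · intro n m h; simp

end

section

variable (C : Type u) [Category.{v} C] [Abelian C] [IsGrothendieckAbelian.{w} C]

open MorphismProperty

/-- The functor `X ↦ (0 : X ⟶ 0)`. -/
noncomputable def toArrow : C ⥤ Arrow C where
  obj X := Arrow.mk (0 : X ⟶ (0 : C))
  map f := Arrow.homMk f (𝟙 _) (by simp)

/-- Functorial embeddings into injective objects: the functor. -/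
noncomputable def injFunctor : C ⥤ C :=
  toArrow C ⋙ (functorialFactorizationData (monomorphisms C) (monomorphisms C).rlp).Z

/-- Functorial embeddings into injective objects: the natural transformation. -/
noncomputable def injι : 𝟭 C ⟶ injFunctor C :=
  Functor.whiskerLeft (toArrow C)
    (functorialFactorizationData (monomorphisms C) (monomorphisms C).rlp).i

instance mono_injι_app (X : C) : Mono ((injι C).app X) :=
  (functorialFactorizationData (monomorphisms C) (monomorphisms C).rlp).hi _

instance injective_injFunctor_obj (X : C) : Injective ((injFunctor C).obj X) := by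
  rw [injective_iff_rlp_monomorphisms_zero]
  have h := (functorialFactorizationData (monomorphisms C) (monomorphisms C).rlp).hp
    ((toArrow C).obj X)
  have e : (functorialFactorizationData (monomorphisms C) (monomorphisms C).rlp).p.app
    ((toArrow C).obj X) = (0 : _ ⟶ (0 : C)) := (isZero_zero C).eq_of_tgt _ _
  rw [e] at h
  exact h

end

end Groth.Agent.CohtopB.InjComplex
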