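import Mathlib.CategoryTheory.Abelian.GrothendieckCategory.EnoughInjectives
import Mathlib.CategoryTheory.Abelian.GrothendieckAxioms.FunctorCategory
import Mathlib.CategoryTheory.Generator.Presheaf
import Mathlib.CategoryTheory.Generator.Preadditive

/-!
# Functorial injective embeddings in Grothendieck abelian categories
-/

set_option autoImplicit false
universe w v u

open CategoryTheory CategoryTheory.Limits ZeroObject

namespace Groth.Agent.CohtopB.InjEmb

/-- Any Grothendieck abelian category has functorial injective embeddings. -/
theorem exists_functorial_injective_embedding (A : Type u) [Category.{v} A] [Abelian A]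
    [IsGrothendieckAbelian.{w} A] :
    ∃ (J : A ⥤ A) (j : 𝟭 A ⟶ J), ∀ X : A, Injective (J.obj X) ∧ Mono (j.app X) := by
  let data := MorphismProperty.functorialFactorizationData
    (MorphismProperty.monomorphisms A) (MorphismProperty.monomorphisms A).rlp
  let toArr : A ⥤ Arrow A :=
    { obj := fun X => Arrow.mk (0 : X ⟶ (0 : A))
      map := fun {X Y} f => Arrow.homMk f (𝟙 _) (by simp)
      map_id := fun X => by ext <;> simp
      map_comp := fun f g => by ext <;> simp }
  refine ⟨toArr ⋙ data.Z, { app := fun X => data.i.app (toArr.obj X), naturality := ?_ }, ?_⟩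
  · intro X Y f
    exact data.i.naturality (toArr.map f)
  · intro X
    refine ⟨?_, data.hi (toArr.obj X)⟩
    have h1 : (MorphismProperty.monomorphisms A).rlp (data.p.app (toArr.obj X)) :=
      data.hp (toArr.obj X)
    have h2 : data.p.app (toArr.obj X) = 0 := (isZero_zero A).eq_of_tgt _ _
    rw [h2] at h1
    exact (injective_iff_rlp_monomorphisms_zero _).2 h1

instance isGrothendieckAbelian_presheaf (C : Type w) [SmallCategory C]
    (A : Type u) [Category.{v} A] [Abelian A] [IsGrothendieckAbelian.{w} A] :
    IsGrothendieckAbelian.{w} (Cᵒᵖ ⥤ A) where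
  ab5OfSize := { ofShape := fun _ _ _ => inferInstance }

end Groth.Agent.CohtopB.InjEmb
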