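import Groth.Agent.CohtopB.FreeSheafHom
import Groth.Agent.LoccohB.HomCls

/-!
# Hypercohomology of a K-injective complex of sheaves in terms of sections

For a complex of abelian sheaves `I` on a site and an object `U`, `secCls I n U` is the additive map
from the group `ZS I n U` of sections `s` of `I.X n` over `U` with `d s = 0` to `H^n(U, Q I)`.  When
`I` is K-injective it is surjective, with kernel the sections `d t` for `t ∈ I.X (n - 1)` over `U`.
-/

set_option autoImplicit false

universe w u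

open CategoryTheory CategoryTheory.Limits Opposite DerivedCategory

namespace Groth.Agent.CohtopB.KInjSect

open FreeSheafHom Groth.Agent.LoccohB.HomCls

variable {C : Type u} [SmallCategory C] {J : GrothendieckTopology C}

/-- The sections `s` of `I.X n` over `U` with `d s = 0`. -/
def ZS (I : CochainComplex (Sheaf J AddCommGrpCat.{u}) ℤ) (n : ℤ) (U : C) :
    AddSubgroup ((I.X n).obj.obj (op U)) :=
  ((I.d n (n + 1)).hom.app (op U)).hom.ker

lemma mem_ZS_iff {I : CochainComplex (Sheaf J AddCommGrpCat.{u}) ℤ} {n : ℤ} {U : C}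
    (s : (I.X n).obj.obj (op U)) : s ∈ ZS I n U ↔ ((I.d n (n + 1)).hom.app (op U)).hom s = 0 :=
  Iff.rfl

lemma homMk_comp {F G : Sheaf J AddCommGrpCat.{u}} {U : C} (s : F.obj.obj (op U)) (g : F ⟶ G) :
    homMk s ≫ g = homMk ((g.hom.app (op U)).hom s) := by
  apply hom_ext
  rw [homMk_app_gen]
  change (g.hom.app (op U)).hom (((homMk s).hom.app (op U)).hom (gen J U)) = _
  rw [homMk_app_gen]

lemma homMk_add {F : Sheaf J AddCommGrpCat.{u}} {U : C} (s t : F.obj.obj (op U)) :
    homMk (s + t) = homMk s + homMk t :=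
  (homEquivSections U F).symm.map_add s t

lemma homMk_zero {F : Sheaf J AddCommGrpCat.{u}} {U : C} :
    homMk (0 : F.obj.obj (op U)) = 0 :=
  (homEquivSections U F).symm.map_zero

lemma homMk_injective {F : Sheaf J AddCommGrpCat.{u}} {U : C} {s t : F.obj.obj (op U)}
    (h : homMk s = homMk t) : s = t :=
  (homEquivSections U F).symm.injective h

lemma exists_homMk {F : Sheaf J AddCommGrpCat.{u}} {U : C} (f : CohCx.freeSheaf J U ⟶ F) :
    ∃ s, homMk s = f :=
  (homEquivSections U F).symm.surjective f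

lemma freeSheafMap_homMk {F : Sheaf J AddCommGrpCat.{u}} {U V : C} (g : V ⟶ U)
    (s : F.obj.obj (op U)) :
    CohCx.freeSheafMap J g ≫ homMk s = homMk ((F.obj.map g.op).hom s) := by
  apply hom_ext
  rw [freeSheafMap_comp_app_gen, homMk_app_gen, homMk_app_gen]

lemma homMk_d {I : CochainComplex (Sheaf J AddCommGrpCat.{u}) ℤ} {n : ℤ} {U : C} (s : ZS I n U) :
    homMk s.1 ≫ I.d n (n + 1) = 0 := by
  rw [homMk_comp, (mem_ZS_iff s.1).1 s.2, homMk_zero]

variable [HasDerivedCategory.{w} (Sheaf J AddCommGrpCat.{u})]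
  (I : CochainComplex (Sheaf J AddCommGrpCat.{u}) ℤ) (n : ℤ)

/-- The class in `H^n(U, Q I)` of a section `s` of `I.X n` over `U` with `d s = 0`. -/
noncomputable def secCls (U : C) : ZS I n U →+ CohCx.HDU (Q.obj I) n U where
  toFun s := scls (homMk s.1) (homMk_d s)
  map_zero' := by
    have : homMk (0 : (I.X n).obj.obj (op U)) = 0 := homMk_zero
    refine scls_eq_zero_of_exists _ _ ⟨0, ?_⟩
    rw [zero_comp]
    exact this.symm
  map_add' s t := by
    have h := scls_add _ _ (homMk_d s) (homMk_d t)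
    rw [← h]
    congr 1
    exact homMk_add s.1 t.1

lemma secCls_apply {U : C} (s : ZS I n U) :
    secCls I n U s = scls (homMk s.1) (homMk_d s) := rfl

lemma secCls_surjective [I.IsKInjective] (U : C) : Function.Surjective (secCls I n U) := by
  intro x
  obtain ⟨f, hf, hx⟩ := scls_surjective x
  obtain ⟨s, rfl⟩ := exists_homMk f
  refine ⟨⟨s, ?_⟩, hx⟩
  rw [mem_ZS_iff]
  rw [homMk_comp] at hf
  exact homMk_injective (hf.trans homMk_zero.symm)

lemma secCls_eq_zero_iff [I.IsKInjective] {U : C} (s : ZS I n U) :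
    secCls I n U s = 0 ↔ ∃ t : (I.X (n - 1)).obj.obj (op U),
      ((I.d (n - 1) n).hom.app (op U)).hom t = s.1 := by
  rw [secCls_apply, scls_eq_zero_iff]
  constructor
  · rintro ⟨g, hg⟩
    obtain ⟨t, rfl⟩ := exists_homMk g
    refine ⟨t, ?_⟩
    rw [homMk_comp] at hg
    exact homMk_injective hg
  · rintro ⟨t, ht⟩
    exact ⟨homMk t, by rw [homMk_comp, ht]⟩

/-- restriction of cocycles -/
def resZS {I : CochainComplex (Sheaf J AddCommGrpCat.{u}) ℤ} {n : ℤ} {U V : C} (g : V ⟶ U)
    (s : ZS I n U) : ZS I n V :=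
  ⟨((I.X n).obj.map g.op).hom s.1, by
    rw [mem_ZS_iff]
    have h := ConcreteCategory.congr_hom ((I.d n (n + 1)).hom.naturality g.op) s.1
    refine h.trans ?_
    have h2 := (mem_ZS_iff s.1).1 s.2
    exact (congrArg _ h2).trans (map_zero ((I.X (n + 1)).obj.map g.op).hom)⟩

lemma secCls_res {U V : C} (g : V ⟶ U) (s : ZS I n U) :
    CohCx.HDUres (Q.obj I) n g (secCls I n U s) = secCls I n V (resZS g s) := by
  rw [secCls_apply, secCls_apply]
  refine (scls_precomp (CohCx.freeSheafMap J g) (homMk s.1) (homMk_d s)).symm.trans ?_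
  congr 1
  exact freeSheafMap_homMk g s.1

end Groth.Agent.CohtopB.KInjSect
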