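import Mathlib.Algebra.Homology.Embedding.CochainComplex
import Mathlib.Algebra.Homology.Embedding.HomEquiv
import Mathlib.Algebra.Homology.Embedding.StupidTrunc
import Mathlib.Algebra.Homology.QuasiIso
import Mathlib.Algebra.Homology.Refinements
import Mathlib.CategoryTheory.Abelian.Basic
import Mathlib.CategoryTheory.Abelian.Refinements

/-!
Left resolutions of complexes by objects of a class `P` such that every object is a quotient of
an object in `P`.
-/

set_option autoImplicit false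
universe v u

open CategoryTheory CategoryTheory.Limits

namespace Groth.Agent.CohtopB.LeftRes

variable {A : Type u} [Category.{v} A] [Abelian A]

section

variable (P : A → Prop) (K : ChainComplex A ℕ)

/-- The state of the construction in degree `n`. -/
structure St (n : ℕ) where
  Y : A
  hY : P Y
  α : Y ⟶ K.X n
  T : A
  i : T ⟶ Y
  mono_i : Mono i
  epi_α : Epi α
  hi : i ≫ α ≫ K.d n ((ComplexShape.down ℕ).next n) = 0
  ex : ∀ ⦃Z : A⦄ (x : Z ⟶ K.X n), x ≫ K.d n ((ComplexShape.down ℕ).next n) = 0 →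
    ∃ (Z' : A) (p : Z' ⟶ Z) (_ : Epi p) (t : Z' ⟶ T), p ≫ x = t ≫ i ≫ α

variable (hP : ∀ X : A, ∃ (Y : A) (π : Y ⟶ X), P Y ∧ Epi π)

/-- initial state -/
noncomputable def St.init : St P K 0 where
  Y := (hP (K.X 0)).choose
  hY := (hP (K.X 0)).choose_spec.choose_spec.1
  α := (hP (K.X 0)).choose_spec.choose
  T := (hP (K.X 0)).choose
  i := 𝟙 _
  mono_i := inferInstance
  epi_α := (hP (K.X 0)).choose_spec.choose_spec.2
  hi := by
    rw [K.shape _ _ (by simp [ComplexShape.next_eq_self'] ), comp_zero, comp_zero]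
  ex := by
    intro Z x _
    have := (hP (K.X 0)).choose_spec.choose_spec.2
    obtain ⟨Z', p, hp, t, ht⟩ := surjective_up_to_refinements_of_epi
      ((hP (K.X 0)).choose_spec.choose) x
    exact ⟨Z', p, hp, t, by simpa using ht⟩

variable {P K}

section

variable {n : ℕ} (s : St P K n)

/-- The pullback. -/
noncomputable abbrev St.W : A := pullback (s.i ≫ s.α) (K.d (n + 1) n)

/-- next object -/
noncomputable def St.nY : A := (hP s.W).choose
/-- next projection -/
noncomputable def St.nπ : s.nY hP ⟶ s.W := (hP s.W).choose_spec.choose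
lemma St.nhY : P (s.nY hP) := (hP s.W).choose_spec.choose_spec.1
instance St.epi_nπ : Epi (s.nπ hP) := (hP s.W).choose_spec.choose_spec.2

/-- next differential (corestricted) -/
noncomputable def St.nδ : s.nY hP ⟶ s.T := s.nπ hP ≫ pullback.fst _ _

/-- next component of the augmentation -/
noncomputable def St.nα : s.nY hP ⟶ K.X (n + 1) := s.nπ hP ≫ pullback.snd _ _

lemma St.nδ_comp : s.nδ hP ≫ s.i ≫ s.α = s.nα hP ≫ K.d (n + 1) n := by
  simp only [St.nδ, St.nα, Category.assoc]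
  congr 1
  simpa using pullback.condition (f := s.i ≫ s.α) (g := K.d (n + 1) n)

lemma St.nlift ⦃Z : A⦄ (t : Z ⟶ s.T) (x : Z ⟶ K.X (n + 1))
    (h : t ≫ s.i ≫ s.α = x ≫ K.d (n + 1) n) :
    ∃ (Z' : A) (p : Z' ⟶ Z) (_ : Epi p) (y : Z' ⟶ s.nY hP),
      p ≫ t = y ≫ s.nδ hP ∧ p ≫ x = y ≫ s.nα hP := by
  obtain ⟨Z', p, hp, y, hy⟩ := surjective_up_to_refinements_of_epi (s.nπ hP)
    (pullback.lift t x h)
  refine ⟨Z', p, hp, y, ?_, ?_⟩
  · have := hy =≫ pullback.fst _ _
    rw [Category.assoc, Category.assoc, pullback.lift_fst] at this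
    exact this
  · have := hy =≫ pullback.snd _ _
    rw [Category.assoc, Category.assoc, pullback.lift_snd] at this
    exact this

/-- next state -/
noncomputable def St.next : St P K (n + 1) where
  Y := s.nY hP
  hY := s.nhY hP
  α := s.nα hP
  T := kernel (s.nδ hP)
  i := kernel.ι (s.nδ hP)
  mono_i := inferInstance
  epi_α := by
    rw [epi_iff_surjective_up_to_refinements]
    intro Z x
    obtain ⟨Z', p, hp, t, ht⟩ := s.ex (x ≫ K.d (n + 1) n) (by
      rw [Category.assoc, K.d_comp_d, comp_zero])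
    obtain ⟨Z'', p', hp', y, h1, h2⟩ := s.nlift hP t (p ≫ x) (by rw [← ht, Category.assoc])
    exact ⟨Z'', p' ≫ p, inferInstance, y, by simpa using h2⟩
  hi := by
    have h : (ComplexShape.down ℕ).next (n + 1) = n := by simp
    rw [h, ← s.nδ_comp hP, kernel.condition_assoc, zero_comp]
  ex := by
    have h : (ComplexShape.down ℕ).next (n + 1) = n := by simp
    intro Z x hx
    rw [h] at hx
    obtain ⟨Z', p, hp, y, h1, h2⟩ := s.nlift hP (0 : Z ⟶ s.T) x (by rw [hx, zero_comp])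
    rw [comp_zero] at h1
    refine ⟨Z', p, hp, kernel.lift _ y h1.symm, ?_⟩
    rw [kernel.lift_ι_assoc, h2]

end

variable (P K)

/-- The sequence of states. -/
noncomputable def St.seq : (n : ℕ) → St P K n
  | 0 => St.init P K hP
  | n + 1 => (St.seq n).next hP

include hP in
lemma exists_system : ∃ (Y T : ℕ → A) (i : ∀ n, T n ⟶ Y n) (α : ∀ n, Y n ⟶ K.X n)
    (δ : ∀ n, Y (n + 1) ⟶ T n),
    (∀ n, P (Y n)) ∧ (∀ n, Mono (i n)) ∧ (∀ n, Epi (α n)) ∧ Epi (i 0) ∧
    (∀ n ⦃Z : A⦄ (x : Z ⟶ K.X n), x ≫ K.d n ((ComplexShape.down ℕ).next n) = 0 →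
      ∃ (Z' : A) (p : Z' ⟶ Z) (_ : Epi p) (t : Z' ⟶ T n), p ≫ x = t ≫ i n ≫ α n) ∧
    (∀ n, δ n ≫ i n ≫ α n = α (n + 1) ≫ K.d (n + 1) n) ∧
    (∀ n, i (n + 1) ≫ δ n = 0) ∧
    (∀ n ⦃Z : A⦄ (x : Z ⟶ Y (n + 1)), x ≫ δ n = 0 → ∃ t, x = t ≫ i (n + 1)) ∧
    (∀ n ⦃Z : A⦄ (t : Z ⟶ T n) (x : Z ⟶ K.X (n + 1)), (t ≫ i n ≫ α n = x ≫ K.d (n + 1) n) →
    ∃ (Z' : A) (p : Z' ⟶ Z) (_ : Epi p) (y : Z' ⟶ Y (n + 1)),
      p ≫ t = y ≫ δ n ∧ p ≫ x = y ≫ α (n + 1)) :=
  ⟨fun n => (St.seq P K hP n).Y, fun n => (St.seq P K hP n).T, fun n => (St.seq P K hP n).i,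
    fun n => (St.seq P K hP n).α, fun n => (St.seq P K hP n).nδ hP,
    fun n => (St.seq P K hP n).hY, fun n => (St.seq P K hP n).mono_i,
    fun n => (St.seq P K hP n).epi_α, (inferInstance : Epi (𝟙 _)),
    fun n => (St.seq P K hP n).ex, fun n => (St.seq P K hP n).nδ_comp hP,
    fun n => kernel.condition ((St.seq P K hP n).nδ hP),
    fun n _ x hx => ⟨kernel.lift ((St.seq P K hP n).nδ hP) x hx, (kernel.lift_ι _ _ _).symm⟩,
    fun n => (St.seq P K hP n).nlift hP⟩

include hP in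
/-- Left resolutions of chain complexes indexed by `ℕ`. -/
theorem exists_chain : ∃ (Q : ChainComplex A ℕ) (α : Q ⟶ K),
    (∀ n, P (Q.X n)) ∧ (∀ n, Epi (α.f n)) ∧ QuasiIso α := by
  obtain ⟨Y, T, i, α, δ, hY, hi, hα, hi0, hex, hcomm, hiδ, hker, hlift⟩ := exists_system P K hP
  let Q : ChainComplex A ℕ := ChainComplex.of Y (fun n => δ n ≫ i n) (fun n => by
    rw [Category.assoc, reassoc_of% (hiδ n), zero_comp, comp_zero])
  have Q_d (n : ℕ) : Q.d (n + 1) n = δ n ≫ i n := ChainComplex.of_d Y (fun n => δ n ≫ i n) n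
  let φ : Q ⟶ K := ChainComplex.ofHom α (fun n => by
    rw [Q_d, Category.assoc, hcomm n])
  have hker' (n : ℕ) {Z : A} (x : Z ⟶ Y n) (hx : x ≫ Q.d n ((ComplexShape.down ℕ).next n) = 0) :
      ∃ t : Z ⟶ T n, x = t ≫ i n := by
    match n, x, hx with
    | 0, x, _ =>
      have : IsIso (i 0) := isIso_of_mono_of_epi _
      exact ⟨x ≫ inv (i 0), by simp⟩
    | n + 1, x, hx =>
      have h : (ComplexShape.down ℕ).next (n + 1) = n := by simp
      rw [h, Q_d, ← Category.assoc, ← zero_comp (f := i n), cancel_mono] at hx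
      exact hker n x hx
  have hid (n : ℕ) : i n ≫ Q.d n ((ComplexShape.down ℕ).next n) = 0 := by
    match n with
    | 0 => rw [Q.shape _ _ (by simp [ComplexShape.next_eq_self']), comp_zero]
    | n + 1 =>
      have h : (ComplexShape.down ℕ).next (n + 1) = n := by simp
      rw [h, Q_d, reassoc_of% (hiδ n), zero_comp]
  refine ⟨Q, φ, hY, hα, ⟨fun n => ?_⟩⟩
  rw [quasiIsoAt_iff_isIso_homologyMap]
  have h1 : Mono (HomologicalComplex.homologyMap φ n) := by
    rw [HomologicalComplex.mono_homologyMap_iff_up_to_refinements _ (n + 1) n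
      ((ComplexShape.down ℕ).next n) (by simp) rfl]
    intro Z x hx y hy
    obtain ⟨t, rfl⟩ := hker' n x hx
    obtain ⟨Z', p, hp, z, h1, h2⟩ := hlift n t y
      (by rw [← hy]; exact (Category.assoc _ _ _).symm)
    refine ⟨Z', p, hp, z, ?_⟩
    rw [Q_d, ← Category.assoc, h1, Category.assoc]
  have h2 : Epi (HomologicalComplex.homologyMap φ n) := by
    rw [HomologicalComplex.epi_homologyMap_iff_up_to_refinements _ (n + 1) n
      ((ComplexShape.down ℕ).next n) (by simp) rfl]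
    intro Z y hy
    obtain ⟨Z', p, hp, t, ht⟩ := hex n y hy
    refine ⟨Z', p, hp, t ≫ i n, ?_, 0, ?_⟩
    · rw [Category.assoc, hid, comp_zero]
    · rw [zero_comp, add_zero, Category.assoc]
      exact ht
  exact isIso_of_mono_of_epi _

end

/-- Replace the terms of a complex by isomorphic ones. -/
theorem exists_iso_of_X {ι : Type*} {c : ComplexShape ι} (K : HomologicalComplex A c)
    (X : ι → A) (e : ∀ i, X i ≅ K.X i) :
    ∃ (L : HomologicalComplex A c) (_ : L ≅ K), ∀ i, L.X i = X i := by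
  let L : HomologicalComplex A c :=
    { X := X
      d := fun i j => (e i).hom ≫ K.d i j ≫ (e j).inv
      shape := fun i j h => by rw [K.shape i j h, zero_comp, comp_zero]
      d_comp_d' := fun i j k _ _ => by simp }
  exact ⟨L, HomologicalComplex.Hom.isoOfComponents e (fun i j _ => by simp [L]), fun i => rfl⟩

/-- Stacks 05T7 (1). -/
theorem exists_left_resolution (P : A → Prop)
    (hP0 : ∃ Z : A, Limits.IsZero Z ∧ P Z) (hP : ∀ X : A, ∃ (Y : A) (π : Y ⟶ X), P Y ∧ Epi π)
    (K : CochainComplex A ℤ) (a : ℤ) [K.IsStrictlyLE a] :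
    ∃ (Q : CochainComplex A ℤ) (α : Q ⟶ K), Q.IsStrictlyLE a ∧ (∀ n, P (Q.X n)) ∧
      (∀ n, Epi (α.f n)) ∧ QuasiIso α := by
  let e := ComplexShape.embeddingUpIntLE a
  have hlift : e.HasLift (𝟙 (K.restriction e)) := by
    intro j hj i' hi'
    exact hj.false_of_isTruncLE.elim
  obtain ⟨Q, α, h1, h2, h3⟩ := exists_chain P (K.restriction e) hP
  let β : K ⟶ (K.restriction e).extend e := e.liftExtend (𝟙 _) hlift
  have hβ : IsIso β := by
    have : ∀ i', IsIso (β.f i') := by
      intro i'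
      by_cases hi : ∃ i, e.f i = i'
      · obtain ⟨i, hi⟩ := hi
        rw [e.isIso_liftExtend_f_iff _ _ hi]
        exact inferInstanceAs (IsIso (𝟙 _))
      · push Not at hi
        exact ⟨0, (K.isZero_X_of_isStrictlySupported e i' hi).eq_of_src _ _,
          ((K.restriction e).isZero_extend_X e i' hi).eq_of_src _ _⟩
    exact HomologicalComplex.Hom.isIso_of_components β
  let γ : Q.extend e ⟶ K := HomologicalComplex.extendMap α e ≫ inv β
  have hγ : QuasiIso γ := by
    have : QuasiIso (HomologicalComplex.extendMap α e) := inferInstance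
    exact inferInstanceAs (QuasiIso (_ ≫ _))
  have hγ' (n : ℤ) : Epi (γ.f n) := by
    by_cases hi : ∃ i, e.f i = n
    · obtain ⟨i, hi⟩ := hi
      have : Epi ((HomologicalComplex.extendMap α e).f n) := by
        rw [HomologicalComplex.extendMap_f α e hi]
        have := h2 i
        infer_instance
      have : IsIso ((inv β).f n) := inferInstance
      exact inferInstanceAs (Epi (_ ≫ _))
    · push Not at hi
      have h := K.isZero_X_of_isStrictlySupported e n hi
      exact ⟨fun a b _ => h.eq_of_src a b⟩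
  obtain ⟨Z, hZ, hPZ⟩ := hP0
  have key (n : ℤ) : ∃ X : A, P X ∧ Nonempty (X ≅ (Q.extend e).X n) := by
    by_cases hi : ∃ i, e.f i = n
    · obtain ⟨i, hi⟩ := hi
      exact ⟨_, h1 i, ⟨(Q.extendXIso e hi).symm⟩⟩
    · push Not at hi
      exact ⟨Z, hPZ, ⟨hZ.iso (Q.isZero_extend_X e n hi)⟩⟩
  choose X hX iX using key
  obtain ⟨L, eL, hL⟩ := exists_iso_of_X (Q.extend e) X (fun n => (iX n).some)
  refine ⟨L, eL.hom ≫ γ, ?_, fun n => ?_, fun n => ?_, inferInstance⟩
  · have : CochainComplex.IsStrictlyLE (Q.extend e) a :=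
      inferInstanceAs ((Q.extend e).IsStrictlySupported e)
    exact CochainComplex.isStrictlyLE_of_iso eL.symm a
  · rw [hL n]; exact hX n
  · have := hγ' n
    rw [HomologicalComplex.comp_f]
    infer_instance

/-- Stacks 05T7 (2). -/
theorem exists_left_resolution' (P : A → Prop)
    (hP0 : ∃ Z : A, Limits.IsZero Z ∧ P Z) (hP : ∀ X : A, ∃ (Y : A) (π : Y ⟶ X), P Y ∧ Epi π)
    (K : CochainComplex A ℤ) (a : ℤ) (hK : ∀ n : ℤ, a < n → Limits.IsZero (K.homology n)) :
    ∃ (Q : CochainComplex A ℤ) (α : Q ⟶ K), Q.IsStrictlyLE a ∧ (∀ n, P (Q.X n)) ∧ QuasiIso α := by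
  have : K.IsLE a := by
    rw [CochainComplex.isLE_iff]
    intro i hi
    rw [HomologicalComplex.exactAt_iff_isZero_homology]
    exact hK i hi
  obtain ⟨Q, α, h1, h2, h3, h4⟩ := exists_left_resolution P hP0 hP (K.truncLE a) a
  exact ⟨Q, α ≫ K.ιTruncLE a, h1, h2, inferInstance⟩

end Groth.Agent.CohtopB.LeftRes
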