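import Groth.Agent.CohtopB.OpSeq
import Groth.Agent.CohtopB.ClassAb

/-!
# Cohomology of the limit of an inverse system of complexes of abelian groups
-/

set_option autoImplicit false

universe u

open CategoryTheory CategoryTheory.Limits Opposite
open Groth.Agent.CohtopB.OpSeq Groth.Agent.CohtopB.ClassAb

namespace Groth.Agent.CohtopB.LimHomology

section

variable (A : ℕ → AddCommGrpCat.{u}) (s : ∀ n, A (n + 1) ⟶ A n)

/-- If the transition maps to `A n₀` are isomorphisms, every element of `A n₀` extends to a compatible family. -/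
lemma exists_compatible (n₀ : ℕ) (hs : ∀ k, IsIso (CohCx.transition A s n₀ k)) (a : A n₀) :
    ∃ x : ∀ n, A n, (∀ n, s n (x (n + 1)) = x n) ∧ x n₀ = a := by
  have hs' : ∀ n (h : n₀ ≤ n), Function.Bijective (tr A s h) := by
    intro n h
    obtain ⟨k, rfl⟩ := Nat.exists_eq_add_of_le h
    rw [← transition_eq]
    have := hs k
    exact ConcreteCategory.bijective_of_isIso _
  have key : ∀ n, ∃ x : A n, (∀ h : n₀ ≤ n, tr A s h x = a) ∧ (∀ h : n ≤ n₀, tr A s h a = x) := by
    intro n
    by_cases h : n₀ ≤ n
    · obtain ⟨x, hx⟩ := (hs' n h).2 a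
      refine ⟨x, fun _ => hx, fun h' => ?_⟩
      obtain rfl : n₀ = n := le_antisymm h h'
      rw [tr_self] at hx ⊢
      exact hx.symm
    · exact ⟨tr A s (le_of_not_ge h) a, fun h' => absurd h' h, fun _ => rfl⟩
  choose x hx hx' using key
  refine ⟨x, ?_, ?_⟩
  · intro n
    by_cases h : n₀ ≤ n
    · apply (hs' n h).1
      rw [hx n h, ← ConcreteCategory.comp_apply, tr_succ_comp]
      exact hx (n + 1) _
    · have h1 : n + 1 ≤ n₀ := by omega
      rw [← hx' (n + 1) h1, ← hx' n (by omega), ← tr_comp A s (Nat.le_succ n) h1, tr_succ]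
      rfl
  · have := hx' n₀ le_rfl
    rw [← this, tr_self]
    rfl

end

/-- Cohomology of the termwise limit of an inverse system of complexes of abelian groups. -/
theorem isIso_homologyMap_of_lim
    (F : ℕ → CochainComplex AddCommGrpCat.{u} ℤ) (t : ∀ n, F (n + 1) ⟶ F n) (m : ℤ) (n₀ : ℕ)
    (L : CochainComplex AddCommGrpCat.{u} ℤ) (π : ∀ n, L ⟶ F n)
    (hπ : ∀ n, π (n + 1) ≫ t n = π n)
    (hext : ∀ j (x y : L.X j), (∀ n, (π n).f j x = (π n).f j y) → x = y)
    (hex : ∀ j (x : ∀ n, (F n).X j), (∀ n, (t n).f j (x (n + 1)) = x n) → ∃ y : L.X j, ∀ n, (π n).f j y = x n)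
    (ha : ∀ j : ℤ, (j = m - 2 ∨ j = m - 1) →
      CohCx.LimOneIsZero (fun n => (F n).X j) (fun n => ((t n).f j).hom))
    (hb : CohCx.LimOneIsZero (fun n => (F n).homology (m - 1))
      (fun n => (HomologicalComplex.homologyMap (t n) (m - 1)).hom))
    (hc : ∀ k : ℕ, IsIso (HomologicalComplex.homologyMap (CohCx.transition F t n₀ k) m)) :
    IsIso (HomologicalComplex.homologyMap (π n₀) m) := by
  have p1 : (ComplexShape.up ℤ).prev m = m - 1 := by simp
  have p2 : (ComplexShape.up ℤ).prev (m - 1) = m - 2 := by simp; ring
  have q1 : (ComplexShape.up ℤ).next m = m + 1 := by simp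
  have q2 : (ComplexShape.up ℤ).next (m - 1) = m := by simp
  have comm : ∀ {K K' : CochainComplex AddCommGrpCat.{u} ℤ} (φ : K ⟶ K') (i j : ℤ) (x : K.X i),
      φ.f j (K.d i j x) = K'.d i j (φ.f i x) := by
    intro K K' φ i j x
    rw [← ConcreteCategory.comp_apply, ← ConcreteCategory.comp_apply, φ.comm]
  have hc' : ∀ k, IsIso (CohCx.transition (fun n => (F n).homology m)
      (fun n => HomologicalComplex.homologyMap (t n) m) n₀ k) := by
    intro k
    have := hc k
    have e := map_transition F t (HomologicalComplex.homologyFunctor AddCommGrpCat.{u} (ComplexShape.up ℤ) m) n₀ k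
    exact e ▸ this
  have hππ : ∀ n j (y : L.X j), (t n).f j ((π (n + 1)).f j y) = (π n).f j y := by
    intro n j y
    rw [← hπ n]
    rfl
  rw [ConcreteCategory.isIso_iff_bijective]
  constructor
  · rw [injective_homologyMap_iff (π n₀) (m - 1) (m + 1) p1 q1]
    intro z hz hz0
    -- every `π n z` is a boundary
    let P : ℕ → Prop := fun n => ∃ w : (F n).X (m - 1), (F n).d (m - 1) m w = (π n).f m z
    have step1 : ∀ n, P n := by
      have down : ∀ n, P (n + 1) → P n := by
        rintro n ⟨w, hw⟩
        refine ⟨(t n).f (m - 1) w, ?_⟩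
        rw [← comm, hw]
        exact hππ n m z
      have up : ∀ k, P (n₀ + k) := by
        intro k
        have inj := (ConcreteCategory.bijective_of_isIso
          (HomologicalComplex.homologyMap (CohCx.transition F t n₀ k) m)).1
        rw [injective_homologyMap_iff _ (m - 1) (m + 1) p1 q1] at inj
        apply inj
        · rw [← comm, hz, map_zero]
        · have : (CohCx.transition F t n₀ k).f m ((π (n₀ + k)).f m z) = (π n₀).f m z := by
            have e : π (n₀ + k) ≫ CohCx.transition F t n₀ k = π n₀ := by
              clear inj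
              induction k with
              | zero => exact Category.comp_id _
              | succ k ih =>
                rw [CohCx.transition, ← Category.assoc]
                exact (congrArg (· ≫ CohCx.transition F t n₀ k) (hπ (n₀ + k))).trans ih
            rw [← e]
            rfl
          rw [this]
          exact hz0
      have down' : ∀ k n, P (n + k) → P n := by
        intro k
        induction k with
        | zero => intro n h; exact h
        | succ k ih => intro n h; exact ih n (down (n + k) h)
      intro n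
      exact down' n₀ n ((Nat.add_comm n₀ n) ▸ up n)
    choose w hw using step1
    -- correct `w` by cocycles and boundaries
    have step2 : ∀ n, ∃ c, IsClass (F n) (m - 1) ((t n).f (m - 1) (w (n + 1)) - w n) c := by
      intro n
      refine exists_class m q2 ?_
      rw [map_sub, ← comm, hw, hw, hππ, sub_self]
    choose c hc0 using step2
    obtain ⟨b, hb0⟩ := hb c
    choose b' hb' using fun n => IsClass.exists (b n)
    have step3 : ∀ n, ∃ v : (F n).X (m - 2), (F n).d (m - 2) (m - 1) v =
        (b' n - (t n).f (m - 1) (b' (n + 1))) - ((t n).f (m - 1) (w (n + 1)) - w n) := by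
      intro n
      have h1 := (hb' n).sub ((hb' (n + 1)).map (t n))
      have h2 := hc0 n
      have h3 : b n - HomologicalComplex.homologyMap (t n) (m - 1) (b (n + 1)) = c n := congrFun hb0 n
      rw [h3] at h1
      exact h1.sub_boundary h2 _ p2
    choose v hv using step3
    obtain ⟨e, he⟩ := ha (m - 2) (Or.inl rfl) v
    obtain ⟨y, hy⟩ := hex (m - 1) (fun n => w n + b' n - (F n).d (m - 2) (m - 1) (e n)) (by
      intro n
      have he' : e n - (t n).f (m - 2) (e (n + 1)) = v n := congrFun he n
      have := hv n
      rw [← he', map_sub, ← comm] at this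
      rw [map_sub, map_add]
      rw [sub_eq_iff_eq_add] at this
      rw [this]
      abel)
    refine ⟨y, hext _ _ _ fun n => ?_⟩
    rw [comm, hy, map_sub, map_add, hw, (hb' n).d_eq_zero, ← ConcreteCategory.comp_apply,
      HomologicalComplex.d_comp_d]
    change (π n).f m z + 0 - 0 = _
    rw [add_zero, sub_zero]
  · intro a
    obtain ⟨ζ, hζ, rfl⟩ := exists_compatible (fun n => (F n).homology m)
      (fun n => HomologicalComplex.homologyMap (t n) m) n₀ hc' a
    choose z hz using fun n => IsClass.exists (ζ n)
    have step1 : ∀ n, ∃ w : (F n).X (m - 1), (F n).d (m - 1) m w = z n - (t n).f m (z (n + 1)) := by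
      intro n
      have h1 := (hz (n + 1)).map (t n)
      have h2 := hz n
      rw [hζ n] at h1
      exact h2.sub_boundary h1 _ p1
    choose w hw using step1
    obtain ⟨e, he⟩ := ha (m - 1) (Or.inr rfl) w
    obtain ⟨y, hy⟩ := hex m (fun n => z n - (F n).d (m - 1) m (e n)) (by
      intro n
      have he' : e n - (t n).f (m - 1) (e (n + 1)) = w n := congrFun he n
      have := hw n
      rw [← he', map_sub, ← comm] at this
      rw [map_sub]
      rw [eq_sub_iff_add_eq] at this
      rw [← this]
      abel)
    have hdy : L.d m (m + 1) y = 0 := by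
      apply hext
      intro n
      rw [comm, hy, map_sub, (hz n).d_eq_zero, ← ConcreteCategory.comp_apply,
        HomologicalComplex.d_comp_d, map_zero]
      change (0 : (F n).X (m + 1)) - 0 = 0
      rw [sub_zero]
    obtain ⟨ξ, hξ⟩ := exists_class (m + 1) q1 hdy
    refine ⟨ξ, ?_⟩
    have h1 := hξ.map (π n₀)
    rw [hy] at h1
    have h2 := (hz n₀).sub (isClass_boundary (K := F n₀) (j := m) (m - 1) (e n₀))
    rw [sub_zero] at h2
    exact h1.unique h2

end Groth.Agent.CohtopB.LimHomology
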