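import Mathlib.CategoryTheory.Abelian.RightDerived
import Mathlib.Algebra.Homology.HomologicalComplexBiprod
import Mathlib.Algebra.Homology.HomologicalComplexAbelian
import Mathlib.Algebra.Homology.HomologySequence
import Mathlib.Algebra.Homology.HomologySequenceLemmas
import Mathlib.Algebra.Homology.ExactSequence

/-!
# Long exact Mayer-Vietoris type sequences of right derived functors

Given additive functors `F₀ ⟶ F₁ × F₂ ⟶ F₃` between abelian categories such that
`0 ⟶ F₀ I ⟶ F₁ I ⊞ F₂ I ⟶ F₃ I ⟶ 0` is short exact for injective `I`, we construct the long exact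
sequence `R^n F₀ X ⟶ R^n F₁ X ⊞ R^n F₂ X ⟶ R^n F₃ X ⟶ R^{n+1} F₀ X`.
-/

set_option autoImplicit false

open CategoryTheory CategoryTheory.Limits

namespace Groth.Agent.CohtopB.MVDerived

section Complexes

variable {D : Type*} [Category* D] [Abelian D] {ι : Type*} {c : ComplexShape ι}

lemma shortExact_biprod {K₀ K₁ K₂ K₃ : HomologicalComplex D c}
    (a₁ : K₀ ⟶ K₁) (a₂ : K₀ ⟶ K₂) (b₁ : K₁ ⟶ K₃) (b₂ : K₂ ⟶ K₃)
    (w : biprod.lift a₁ a₂ ≫ biprod.desc b₁ b₂ = 0)
    (h : ∀ n, ∃ (w' : biprod.lift (a₁.f n) (a₂.f n) ≫ biprod.desc (b₁.f n) (b₂.f n) = 0),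
      (ShortComplex.mk _ _ w').ShortExact) : (ShortComplex.mk _ _ w).ShortExact := by
  apply HomologicalComplex.shortExact_of_degreewise_shortExact
  intro n
  obtain ⟨w', h'⟩ := h n
  refine ShortComplex.shortExact_of_iso ?_ h'
  let e : K₁.X n ⊞ K₂.X n ≅ (K₁ ⊞ K₂).X n := (HomologicalComplex.biprodXIso K₁ K₂ n).symm
  have he₁ : e.hom ≫ (biprod.fst : K₁ ⊞ K₂ ⟶ K₁).f n = biprod.fst := by
    rw [← Iso.eq_inv_comp]
    exact (HomologicalComplex.biprodXIso_hom_fst K₁ K₂ n).symm
  have he₂ : e.hom ≫ (biprod.snd : K₁ ⊞ K₂ ⟶ K₂).f n = biprod.snd := by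
    rw [← Iso.eq_inv_comp]
    exact (HomologicalComplex.biprodXIso_hom_snd K₁ K₂ n).symm
  have he₃ : biprod.inl ≫ e.hom = (biprod.inl : K₁ ⟶ K₁ ⊞ K₂).f n :=
    HomologicalComplex.inl_biprodXIso_inv K₁ K₂ n
  have he₄ : biprod.inr ≫ e.hom = (biprod.inr : K₂ ⟶ K₁ ⊞ K₂).f n :=
    HomologicalComplex.inr_biprodXIso_inv K₁ K₂ n
  refine ShortComplex.isoMk (Iso.refl _) e (Iso.refl _) ?_ ?_
  · change 𝟙 (K₀.X n) ≫ (biprod.lift a₁ a₂).f n = biprod.lift (a₁.f n) (a₂.f n) ≫ e.hom
    rw [Category.id_comp]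
    apply HomologicalComplex.biprodX_ext_to
    · rw [HomologicalComplex.biprod_lift_fst_f, Category.assoc, he₁, biprod.lift_fst]
    · rw [HomologicalComplex.biprod_lift_snd_f, Category.assoc, he₂, biprod.lift_snd]
  · change e.hom ≫ (biprod.desc b₁ b₂).f n = biprod.desc (b₁.f n) (b₂.f n) ≫ 𝟙 (K₃.X n)
    rw [Category.comp_id]
    apply biprod.hom_ext'
    · rw [biprod.inl_desc, reassoc_of% he₃, HomologicalComplex.biprod_inl_desc_f]
    · rw [biprod.inr_desc, reassoc_of% he₄, HomologicalComplex.biprod_inr_desc_f]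

instance (n : ι) : PreservesBinaryBiproducts (HomologicalComplex.homologyFunctor D c n) :=
  preservesBinaryBiproducts_of_preservesBiproducts _

/-- Homology commutes with binary biproducts. -/
noncomputable def homologyBiprodIso (K₁ K₂ : HomologicalComplex D c) (n : ι) :
    K₁.homology n ⊞ K₂.homology n ≅ (K₁ ⊞ K₂).homology n :=
  ((HomologicalComplex.homologyFunctor D c n).mapBiprod K₁ K₂).symm

@[reassoc (attr := simp)]
lemma inl_homologyBiprodIso_hom (K₁ K₂ : HomologicalComplex D c) (n : ι) :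
    biprod.inl ≫ (homologyBiprodIso K₁ K₂ n).hom = HomologicalComplex.homologyMap biprod.inl n := by
  rw [homologyBiprodIso, Iso.symm_hom, Functor.mapBiprod_inv]
  exact biprod.inl_desc _ _

@[reassoc (attr := simp)]
lemma inr_homologyBiprodIso_hom (K₁ K₂ : HomologicalComplex D c) (n : ι) :
    biprod.inr ≫ (homologyBiprodIso K₁ K₂ n).hom = HomologicalComplex.homologyMap biprod.inr n := by
  rw [homologyBiprodIso, Iso.symm_hom, Functor.mapBiprod_inv]
  exact biprod.inr_desc _ _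

@[reassoc (attr := simp)]
lemma homologyBiprodIso_hom_fst (K₁ K₂ : HomologicalComplex D c) (n : ι) :
    (homologyBiprodIso K₁ K₂ n).hom ≫ HomologicalComplex.homologyMap biprod.fst n = biprod.fst := by
  rw [← Iso.eq_inv_comp, homologyBiprodIso, Iso.symm_inv, Functor.mapBiprod_hom]
  exact (biprod.lift_fst _ _).symm

@[reassoc (attr := simp)]
lemma homologyBiprodIso_hom_snd (K₁ K₂ : HomologicalComplex D c) (n : ι) :
    (homologyBiprodIso K₁ K₂ n).hom ≫ HomologicalComplex.homologyMap biprod.snd n = biprod.snd := by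
  rw [← Iso.eq_inv_comp, homologyBiprodIso, Iso.symm_inv, Functor.mapBiprod_hom]
  exact (biprod.lift_snd _ _).symm

@[reassoc]
lemma lift_homologyBiprodIso_hom {K₀ K₁ K₂ : HomologicalComplex D c}
    (a₁ : K₀ ⟶ K₁) (a₂ : K₀ ⟶ K₂) (n : ι) :
    biprod.lift (HomologicalComplex.homologyMap a₁ n) (HomologicalComplex.homologyMap a₂ n) ≫
      (homologyBiprodIso K₁ K₂ n).hom = HomologicalComplex.homologyMap (biprod.lift a₁ a₂) n := by
  rw [← Iso.eq_comp_inv]
  apply biprod.hom_ext
  · rw [biprod.lift_fst, Category.assoc, ← homologyBiprodIso_hom_fst, Iso.inv_hom_id_assoc,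
      ← HomologicalComplex.homologyMap_comp, biprod.lift_fst]
  · rw [biprod.lift_snd, Category.assoc, ← homologyBiprodIso_hom_snd, Iso.inv_hom_id_assoc,
      ← HomologicalComplex.homologyMap_comp, biprod.lift_snd]

@[reassoc]
lemma homologyBiprodIso_hom_desc {K₁ K₂ K₃ : HomologicalComplex D c}
    (b₁ : K₁ ⟶ K₃) (b₂ : K₂ ⟶ K₃) (n : ι) :
    (homologyBiprodIso K₁ K₂ n).hom ≫ HomologicalComplex.homologyMap (biprod.desc b₁ b₂) n =
    biprod.desc (HomologicalComplex.homologyMap b₁ n) (HomologicalComplex.homologyMap b₂ n) := by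
  apply biprod.hom_ext'
  · rw [inl_homologyBiprodIso_hom_assoc, ← HomologicalComplex.homologyMap_comp, biprod.inl_desc,
      biprod.inl_desc]
  · rw [inr_homologyBiprodIso_hom_assoc, ← HomologicalComplex.homologyMap_comp, biprod.inr_desc,
      biprod.inr_desc]

end Complexes

variable {C D : Type*} [Category* C] [Category* D] [Abelian C] [HasInjectiveResolutions C]
  [Abelian D] {F₀ F₁ F₂ F₃ : C ⥤ D} [F₀.Additive] [F₁.Additive] [F₂.Additive] [F₃.Additive]
  (α₁ : F₀ ⟶ F₁) (α₂ : F₀ ⟶ F₂) (β₁ : F₁ ⟶ F₃) (β₂ : F₂ ⟶ F₃)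

omit [Abelian C] [HasInjectiveResolutions C] [F₀.Additive] [F₁.Additive] [F₂.Additive]
  [F₃.Additive] in
lemma w_app (w : α₁ ≫ β₁ = α₂ ≫ β₂) (X : C) :
    biprod.lift (α₁.app X) (α₂.app X) ≫ biprod.desc (β₁.app X) (-(β₂.app X)) = 0 := by
  have := congrArg (fun t => t.app X) w
  simp only [NatTrans.comp_app] at this
  simp [this]

omit [HasInjectiveResolutions C] in
lemma w_cx (w : α₁ ≫ β₁ = α₂ ≫ β₂) (K : CochainComplex C ℕ) :
    biprod.lift ((NatTrans.mapHomologicalComplex α₁ _).app K)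
        ((NatTrans.mapHomologicalComplex α₂ _).app K) ≫
      biprod.desc ((NatTrans.mapHomologicalComplex β₁ _).app K)
        (-((NatTrans.mapHomologicalComplex β₂ _).app K)) = 0 := by
  have : (NatTrans.mapHomologicalComplex α₁ _).app K ≫ (NatTrans.mapHomologicalComplex β₁ _).app K =
      (NatTrans.mapHomologicalComplex α₂ _).app K ≫ (NatTrans.mapHomologicalComplex β₂ _).app K := by
    rw [← NatTrans.comp_app, ← NatTrans.comp_app, ← NatTrans.mapHomologicalComplex_comp, w,
      NatTrans.mapHomologicalComplex_comp]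
  simp [this]

/-- The short complex of cochain complexes. -/
noncomputable abbrev cx (w : α₁ ≫ β₁ = α₂ ≫ β₂) (K : CochainComplex C ℕ) :
    ShortComplex (CochainComplex D ℕ) :=
  ShortComplex.mk _ _ (w_cx α₁ α₂ β₁ β₂ w K)

omit [HasInjectiveResolutions C] in
lemma cx_shortExact (w : α₁ ≫ β₁ = α₂ ≫ β₂)
    (h : ∀ (I : C) [Injective I], (ShortComplex.mk _ _ (w_app α₁ α₂ β₁ β₂ w I)).ShortExact)
    (K : CochainComplex C ℕ) [∀ n, Injective (K.X n)] :
    (cx α₁ α₂ β₁ β₂ w K).ShortExact :=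
  shortExact_biprod _ _ _ _ _ (fun n => ⟨w_app α₁ α₂ β₁ β₂ w (K.X n), h (K.X n)⟩)

/-- Typed version of `InjectiveResolution.isoRightDerivedObj`. -/
noncomputable def rIso {X : C} (P : InjectiveResolution X) (F : C ⥤ D) [F.Additive] (n : ℕ) :
    (F.rightDerived n).obj X ≅
      ((F.mapHomologicalComplex (ComplexShape.up ℕ)).obj P.cocomplex).homology n :=
  P.isoRightDerivedObj F n

lemma rightDerived_app_eq {X : C} (P : InjectiveResolution X) {F G : C ⥤ D} [F.Additive]
    [G.Additive] (α : F ⟶ G) (n : ℕ) :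
    (NatTrans.rightDerived α n).app X = (rIso P F n).hom ≫
      HomologicalComplex.homologyMap ((NatTrans.mapHomologicalComplex α _).app P.cocomplex) n ≫
        (rIso P G n).inv :=
  P.rightDerived_app_eq α n

/-- The connecting morphism. -/
noncomputable def δ (w : α₁ ≫ β₁ = α₂ ≫ β₂)
    (h : ∀ (I : C) [Injective I], (ShortComplex.mk _ _ (w_app α₁ α₂ β₁ β₂ w I)).ShortExact)
    {X : C} (P : InjectiveResolution X) (n : ℕ) :
    (F₃.rightDerived n).obj X ⟶ (F₀.rightDerived (n + 1)).obj X :=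
  (rIso P F₃ n).hom ≫
    (cx_shortExact α₁ α₂ β₁ β₂ w h P.cocomplex).δ n (n + 1) (by simp) ≫
      (rIso P F₀ (n + 1)).inv

variable {α₁ α₂ β₁ β₂} (w : α₁ ≫ β₁ = α₂ ≫ β₂)
    (h : ∀ (I : C) [Injective I], (ShortComplex.mk _ _ (w_app α₁ α₂ β₁ β₂ w I)).ShortExact)
    {X : C} (P : InjectiveResolution X)

/-- The iso on the biproducts of homologies. -/
noncomputable def biprodIso (n : ℕ) :
    (F₁.rightDerived n).obj X ⊞ (F₂.rightDerived n).obj X ≅
      (cx α₁ α₂ β₁ β₂ w P.cocomplex).X₂.homology n :=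
  biprod.mapIso (rIso P F₁ n) (rIso P F₂ n) ≪≫ homologyBiprodIso _ _ n

lemma comm_f (n : ℕ) :
    biprod.lift ((NatTrans.rightDerived α₁ n).app X) ((NatTrans.rightDerived α₂ n).app X) ≫
      (biprodIso w P n).hom = (rIso P F₀ n).hom ≫
        HomologicalComplex.homologyMap (cx α₁ α₂ β₁ β₂ w P.cocomplex).f n := by
  have : biprod.lift ((NatTrans.rightDerived α₁ n).app X) ((NatTrans.rightDerived α₂ n).app X) ≫
      (biprod.mapIso (rIso P F₁ n) (rIso P F₂ n)).hom =
      (rIso P F₀ n).hom ≫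
        biprod.lift (HomologicalComplex.homologyMap
          ((NatTrans.mapHomologicalComplex α₁ _).app P.cocomplex) n)
        (HomologicalComplex.homologyMap
          ((NatTrans.mapHomologicalComplex α₂ _).app P.cocomplex) n) := by
    apply biprod.hom_ext
    · simp [rightDerived_app_eq P]
    · simp [rightDerived_app_eq P]
  rw [biprodIso, Iso.trans_hom, reassoc_of% this, lift_homologyBiprodIso_hom]

lemma comm_g (n : ℕ) :
    biprod.desc ((NatTrans.rightDerived β₁ n).app X) (-(NatTrans.rightDerived β₂ n).app X) ≫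
      (rIso P F₃ n).hom = (biprodIso w P n).hom ≫
        HomologicalComplex.homologyMap (cx α₁ α₂ β₁ β₂ w P.cocomplex).g n := by
  rw [biprodIso, Iso.trans_hom, Category.assoc, homologyBiprodIso_hom_desc,
    HomologicalComplex.homologyMap_neg]
  apply biprod.hom_ext'
  · simp [rightDerived_app_eq P]
  · simp [rightDerived_app_eq P]

include h P in
theorem mono_lift :
    Mono (biprod.lift ((NatTrans.rightDerived α₁ 0).app X) ((NatTrans.rightDerived α₂ 0).app X)) := by
  have hm : Mono (HomologicalComplex.homologyMap (cx α₁ α₂ β₁ β₂ w P.cocomplex).f 0) := by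
    have := (cx_shortExact α₁ α₂ β₁ β₂ w h P.cocomplex).mono_f
    exact HomologicalComplex.mono_homologyMap_of_mono_of_not_rel _ 0 (by simp)
  have := comm_f w P 0
  rw [← Iso.eq_comp_inv] at this
  rw [this]
  infer_instance

omit h in
include w P in
theorem lift_desc (n : ℕ) :
    biprod.lift ((NatTrans.rightDerived α₁ n).app X) ((NatTrans.rightDerived α₂ n).app X) ≫
      biprod.desc ((NatTrans.rightDerived β₁ n).app X) (-(NatTrans.rightDerived β₂ n).app X) = 0 := by
  rw [← cancel_mono (rIso P F₃ n).hom, Category.assoc, comm_g w P n, reassoc_of% (comm_f w P n),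
    ← HomologicalComplex.homologyMap_comp, (cx α₁ α₂ β₁ β₂ w P.cocomplex).zero]
  simp

include h P in
theorem exact₂ (n : ℕ) :
    (ComposableArrows.mk₂
      (biprod.lift ((NatTrans.rightDerived α₁ n).app X) ((NatTrans.rightDerived α₂ n).app X))
      (biprod.desc ((NatTrans.rightDerived β₁ n).app X)
        (-(NatTrans.rightDerived β₂ n).app X))).Exact := by
  refine ComposableArrows.exact₂_mk _ (lift_desc w P n) ?_
  refine ShortComplex.exact_of_iso ?_ ((cx_shortExact α₁ α₂ β₁ β₂ w h P.cocomplex).homology_exact₂ n)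
  exact (ShortComplex.isoMk (rIso P F₀ n) (biprodIso w P n) (rIso P F₃ n) (comm_f w P n).symm
    (comm_g w P n).symm).symm

lemma comm_δ (n : ℕ) : (rIso P F₃ n).hom ≫
    (cx_shortExact α₁ α₂ β₁ β₂ w h P.cocomplex).δ n (n + 1) (by simp) =
      δ α₁ α₂ β₁ β₂ w h P n ≫ (rIso P F₀ (n + 1)).hom := by
  rw [δ, Category.assoc, Category.assoc, Iso.inv_hom_id, Category.comp_id]

theorem exact₃ (n : ℕ) :
    (ComposableArrows.mk₂
      (biprod.desc ((NatTrans.rightDerived β₁ n).app X) (-(NatTrans.rightDerived β₂ n).app X))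
      (δ α₁ α₂ β₁ β₂ w h P n)).Exact := by
  have h0 : biprod.desc ((NatTrans.rightDerived β₁ n).app X) (-(NatTrans.rightDerived β₂ n).app X) ≫
      δ α₁ α₂ β₁ β₂ w h P n = 0 := by
    have hd := (cx_shortExact α₁ α₂ β₁ β₂ w h P.cocomplex).comp_δ n (n + 1) (by simp)
    rw [δ, ← Category.assoc, comm_g w P n, Category.assoc, ← Category.assoc (HomologicalComplex.homologyMap _ _),
      hd, zero_comp, comp_zero]
  refine ComposableArrows.exact₂_mk _ h0 ?_
  refine ShortComplex.exact_of_iso ?_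
    ((cx_shortExact α₁ α₂ β₁ β₂ w h P.cocomplex).homology_exact₃ n (n + 1) (by simp))
  exact (ShortComplex.isoMk (biprodIso w P n) (rIso P F₃ n) (rIso P F₀ (n + 1))
    (comm_g w P n).symm (comm_δ w h P n)).symm

theorem exact₁ (n : ℕ) :
    (ComposableArrows.mk₂ (δ α₁ α₂ β₁ β₂ w h P n)
      (biprod.lift ((NatTrans.rightDerived α₁ (n + 1)).app X)
        ((NatTrans.rightDerived α₂ (n + 1)).app X))).Exact := by
  have h0 : δ α₁ α₂ β₁ β₂ w h P n ≫ biprod.lift ((NatTrans.rightDerived α₁ (n + 1)).app X)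
        ((NatTrans.rightDerived α₂ (n + 1)).app X) = 0 := by
    have hd := (cx_shortExact α₁ α₂ β₁ β₂ w h P.cocomplex).δ_comp n (n + 1) (by simp)
    rw [← cancel_mono (biprodIso w P (n + 1)).hom, Category.assoc, comm_f w P (n + 1),
      ← Category.assoc, ← comm_δ, Category.assoc, hd, zero_comp, comp_zero]
  refine ComposableArrows.exact₂_mk _ h0 ?_
  refine ShortComplex.exact_of_iso ?_
    ((cx_shortExact α₁ α₂ β₁ β₂ w h P.cocomplex).homology_exact₁ n (n + 1) (by simp))
  exact (ShortComplex.isoMk (rIso P F₃ n) (rIso P F₀ (n + 1)) (biprodIso w P (n + 1))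
    (comm_δ w h P n) (comm_f w P (n + 1)).symm).symm

end Groth.Agent.CohtopB.MVDerived
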