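import Groth.Agent.CohtopB.EpiSheaf
import Mathlib.Algebra.Category.ModuleCat.Sheaf.Abelian
import Mathlib.Algebra.Category.ModuleCat.Presheaf.Free
import Mathlib.Algebra.Category.ModuleCat.Presheaf.Abelian
import Mathlib.CategoryTheory.Sites.Pullback
import Mathlib.CategoryTheory.Sites.CoverPreserving

/-!
# Cech complexes of the direct image of an injective sheaf of modules
-/

set_option autoImplicit false
universe w v u

open CategoryTheory CategoryTheory.Limits Opposite Simplicial

namespace Groth.Agent.CohtopB.ModPush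

open CechCrit NerveHK

section Transfer

variable {𝒮 : Type*} [Category* 𝒮] {𝒜₁ : Type*} [Category* 𝒜₁] [Abelian 𝒜₁]
  {𝒜₂ : Type*} [Category* 𝒜₂] [Abelian 𝒜₂] (X : SimplicialObject 𝒮) (L₁ : 𝒮 ⥤ 𝒜₁) (L₂ : 𝒮 ⥤ 𝒜₂)
  {F₁ : 𝒜₁} {F₂ : 𝒜₂}

lemma d_comp_transfer (θ : ∀ S : 𝒮, (L₁.obj S ⟶ F₁) ≃+ (L₂.obj S ⟶ F₂))
    (hθ : ∀ {S S' : 𝒮} (g : S ⟶ S') (x : L₁.obj S' ⟶ F₁), θ S (L₁.map g ≫ x) = L₂.map g ≫ θ S' x) (n : ℕ)
    (x : L₁.obj (X _⦋n⦌) ⟶ F₁) :
    θ _ (((AlgebraicTopology.alternatingFaceMapComplex 𝒜₁).obj (X ⋙ L₁)).d (n + 1) n ≫ x) =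
      ((AlgebraicTopology.alternatingFaceMapComplex 𝒜₂).obj (X ⋙ L₂)).d (n + 1) n ≫ θ _ x := by
  rw [AlgebraicTopology.alternatingFaceMapComplex_obj_d, AlgebraicTopology.alternatingFaceMapComplex_obj_d]
  dsimp only [AlgebraicTopology.AlternatingFaceMapComplex.objD]
  rw [Preadditive.sum_comp, Preadditive.sum_comp]
  erw [map_sum]
  refine Finset.sum_congr rfl fun i _ => ?_
  rw [Preadditive.zsmul_comp, Preadditive.zsmul_comp]
  erw [map_zsmul]
  congr 1
  exact hθ (X.δ i) x

/-- Transfer of exactness along natural additive isomorphisms of `Hom` groups. -/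
lemma homExact_transfer (θ : ∀ S : 𝒮, (L₁.obj S ⟶ F₁) ≃+ (L₂.obj S ⟶ F₂))
    (hθ : ∀ {S S' : 𝒮} (g : S ⟶ S') (x : L₁.obj S' ⟶ F₁), θ S (L₁.map g ≫ x) = L₂.map g ≫ θ S' x) (n : ℕ)
    (h : HomExact ((AlgebraicTopology.alternatingFaceMapComplex 𝒜₁).obj (X ⋙ L₁)) F₁ n) :
    HomExact ((AlgebraicTopology.alternatingFaceMapComplex 𝒜₂).obj (X ⋙ L₂)) F₂ n := by
  intro x hx
  obtain ⟨y, hy⟩ := h ((θ _).symm x) (by
    apply (θ _).injective
    rw [map_zero]
    refine (d_comp_transfer X L₁ L₂ θ hθ (n + 1) ((θ _).symm x)).trans ?_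
    rw [AddEquiv.apply_symm_apply]
    exact hx)
  refine ⟨θ _ y, ?_⟩
  refine (d_comp_transfer X L₁ L₂ θ hθ n y).symm.trans ?_
  rw [hy]
  exact AddEquiv.apply_symm_apply _ _

end Transfer

section PMod

variable {C : Type u} [SmallCategory C] {J : GrothendieckTopology C} (R : Cᵒᵖ ⥤ RingCat.{u})

lemma jointly_evaluation_mod :
    JointlyReflectIsomorphisms (fun U : Cᵒᵖ => PresheafOfModules.evaluation.{u} R U) where
  isIso {X Y} f h := by
    have : IsIso ((PresheafOfModules.toPresheaf R).map f) := by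
      rw [NatTrans.isIso_iff_isIso_app]
      intro U
      have := h U
      exact inferInstanceAs (IsIso ((forget₂ _ AddCommGrpCat).map ((PresheafOfModules.evaluation.{u} R U).map f)))
    exact isIso_of_reflects_iso f (PresheafOfModules.toPresheaf R)

/-- Exactness of the free presheaves of modules on the image of a Cech nerve. -/
lemma exactAt_free {𝒮 : Type*} [Category* 𝒮] (f : Arrow 𝒮)
    [∀ n : ℕ, HasWidePullback.{0} f.right (fun _ : Fin (n + 1) => f.left) fun _ => f.hom]
    (Γ : 𝒮 ⥤ Cᵒᵖ ⥤ Type u)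
    [∀ n : ℕ, PreservesLimit (WidePullbackShape.wideCospan.{0} f.right
      (fun _ : Fin (n + 1) => f.left) fun _ => f.hom) Γ] (n : ℕ) :
    ((AlgebraicTopology.alternatingFaceMapComplex (PresheafOfModules.{u} R)).obj
      (f.cechNerve ⋙ Γ ⋙ PresheafOfModules.free R)).ExactAt (n + 1) :=
  exactAt_of_jointly f (Γ ⋙ PresheafOfModules.free R) (fun U => PresheafOfModules.evaluation.{u} R U)
    (jointly_evaluation_mod R) (fun U => Γ ⋙ (evaluation Cᵒᵖ (Type u)).obj U)
    (fun U => ModuleCat.free (R.obj U)) (fun _ => Iso.refl _) n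

variable (R' : Sheaf J RingCat.{u})

/-- The presheaf of modules underlying a sheaf of modules (as it occurs in the sheafification adjunction). -/
noncomputable abbrev under (I : SheafOfModules.{u} R') : PresheafOfModules.{u} R'.obj :=
  (SheafOfModules.forget R' ⋙ PresheafOfModules.restrictScalars (𝟙 R'.obj)).obj I

lemma injective_under (I : SheafOfModules.{u} R') [Injective I] : Injective (under R' I) :=
  have : (PresheafOfModules.sheafification.{u} (𝟙 R'.obj)).PreservesMonomorphisms := by
    have : PreservesLimitsOfShape WalkingCospan (PresheafOfModules.sheafification.{u} (𝟙 R'.obj)) :=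
      PreservesFiniteLimits.preservesFiniteLimits _
    exact preservesMonomorphisms_of_preservesLimitsOfShape _
  Injective.injective_of_adjoint (PresheafOfModules.sheafificationAdjunction.{u} (𝟙 R'.obj)) I

end PMod

section Add

variable {C : Type u} [SmallCategory C]

/-- Pointwise sum of two maps from a presheaf of sets to (the presheaf of sets underlying) an abelian presheaf. -/
def addHom {P : Cᵒᵖ ⥤ Type u} {A : Cᵒᵖ ⥤ AddCommGrpCat.{u}} (x y : P ⟶ A ⋙ forget AddCommGrpCat.{u}) :
    P ⟶ A ⋙ forget AddCommGrpCat.{u} where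
  app U := ↾(fun s => (show A.obj U from x.app U s) + (show A.obj U from y.app U s))
  naturality U V g := by
    ext s
    have h1 := ConcreteCategory.congr_hom (x.naturality g) s
    have h2 := ConcreteCategory.congr_hom (y.naturality g) s
    exact (congrArg₂ (fun (a b : A.obj V) => a + b) h1 h2).trans (map_add (A.map g).hom _ _).symm

lemma freeHomEquiv_add {R : Cᵒᵖ ⥤ RingCat.{u}} {P : Cᵒᵖ ⥤ Type u} {G : PresheafOfModules.{u} R}
    (x y : PresheafOfModules.freeObj P ⟶ G) :
    PresheafOfModules.freeHomEquiv (x + y) =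
      addHom (PresheafOfModules.freeHomEquiv x) (PresheafOfModules.freeHomEquiv y) := rfl

variable (J : GrothendieckTopology C)

lemma zAdj_homEquiv_add {X : Sheaf J (Type u)} {F : Sheaf J AddCommGrpCat.{u}} (x y : (ZSh J).obj X ⟶ F) :
    ((zAdj J).homEquiv X F (x + y)).hom = addHom ((zAdj J).homEquiv X F x).hom ((zAdj J).homEquiv X F y).hom := by
  simp only [Adjunction.homEquiv_unit]
  rfl

end Add

section Push

variable {C D : Type u} [SmallCategory C] [SmallCategory D]
    {J : GrothendieckTopology C} {K : GrothendieckTopology D} (u : D ⥤ C)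
    [u.IsContinuous K J]
    (R : Sheaf J RingCat.{u}) (I : SheafOfModules.{u} R)

/-- the sheaf of sets underlying `I` -/
noncomputable abbrev setSh : Sheaf J (Type u) :=
  (sheafCompose J (forget AddCommGrpCat.{u})).obj ((SheafOfModules.toSheaf R).obj I)

/-- `X ↦ (g⁻¹ X)` as a presheaf -/
noncomputable abbrev Γ : Sheaf K (Type u) ⥤ (Cᵒᵖ ⥤ Type u) :=
  u.sheafPullback (Type u) K J ⋙ sheafToPresheaf J (Type u)

variable (K) in
/-- the composite of the hom-equivalences -/
noncomputable def thetaEquiv (X : Sheaf K (Type u)) :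
    (((Γ (J := J) u) ⋙ PresheafOfModules.free R.obj).obj X ⟶ under R I) ≃
      ((ZSh K).obj X ⟶ (CohSite.push J K u).obj ((SheafOfModules.toSheaf R).obj I)) :=
  (PresheafOfModules.freeHomEquiv (R := R.obj) (F := ((Γ (J := J) u).obj X)) (G := under R I)).trans
    (((fullyFaithfulSheafToPresheaf J (Type u)).homEquiv (X := (u.sheafPullback (Type u) K J).obj X)
      (Y := setSh R I)).symm.trans
    (((u.sheafAdjunctionContinuous (Type u) K J).homEquiv X (setSh R I)).trans
      ((zAdj K).homEquiv X ((CohSite.push J K u).obj ((SheafOfModules.toSheaf R).obj I))).symm))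

variable (K) in
/-- the map of sheaves of sets corresponding to a map of presheaves of modules -/
noncomputable def thetaAux {X : Sheaf K (Type u)}
    (x : ((Γ (J := J) u) ⋙ PresheafOfModules.free R.obj).obj X ⟶ under R I) :
    (u.sheafPullback (Type u) K J).obj X ⟶ setSh R I :=
  ⟨PresheafOfModules.freeHomEquiv (R := R.obj) (F := ((Γ (J := J) u).obj X)) (G := under R I) x⟩

lemma zAdj_thetaEquiv {X : Sheaf K (Type u)}
    (x : ((Γ (J := J) u) ⋙ PresheafOfModules.free R.obj).obj X ⟶ under R I) :
    (zAdj K).homEquiv X ((CohSite.push J K u).obj ((SheafOfModules.toSheaf R).obj I)) (thetaEquiv K u R I X x) =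
      (u.sheafAdjunctionContinuous (Type u) K J).homEquiv X (setSh R I) (thetaAux K u R I x) :=
  Equiv.apply_symm_apply _ _

lemma homEquiv_add (X : Sheaf K (Type u)) (x y z : (u.sheafPullback (Type u) K J).obj X ⟶ setSh R I)
    (h : z.hom = addHom (A := ((SheafOfModules.toSheaf R).obj I).obj) x.hom y.hom) :
    ((u.sheafAdjunctionContinuous (Type u) K J).homEquiv X (setSh R I) z).hom =
      addHom (A := ((CohSite.push J K u).obj ((SheafOfModules.toSheaf R).obj I)).obj)
        ((u.sheafAdjunctionContinuous (Type u) K J).homEquiv X (setSh R I) x).hom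
        ((u.sheafAdjunctionContinuous (Type u) K J).homEquiv X (setSh R I) y).hom := by
  simp only [Adjunction.homEquiv_unit]
  ext V s
  have := congrArg (fun φ => φ.app (op (u.obj V.unop))
    (((u.sheafAdjunctionContinuous (Type u) K J).unit.app X).hom.app V s)) h
  exact this

lemma thetaEquiv_add (X : Sheaf K (Type u))
    (x y : ((Γ (J := J) u) ⋙ PresheafOfModules.free R.obj).obj X ⟶ under R I) :
    thetaEquiv K u R I X (x + y) = thetaEquiv K u R I X x + thetaEquiv K u R I X y := by
  apply ((zAdj K).homEquiv X ((CohSite.push J K u).obj ((SheafOfModules.toSheaf R).obj I))).injective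
  ext1
  rw [zAdj_homEquiv_add, zAdj_thetaEquiv, zAdj_thetaEquiv, zAdj_thetaEquiv]
  refine homEquiv_add u R I X _ _ _ ?_
  exact freeHomEquiv_add x y

lemma thetaEquiv_naturality {X Y : Sheaf K (Type u)} (g : X ⟶ Y)
    (x : ((Γ (J := J) u) ⋙ PresheafOfModules.free R.obj).obj Y ⟶ under R I) :
    thetaEquiv K u R I X (((Γ (J := J) u) ⋙ PresheafOfModules.free R.obj).map g ≫ x) =
      (ZSh K).map g ≫ thetaEquiv K u R I Y x := by
  apply ((zAdj K).homEquiv X ((CohSite.push J K u).obj ((SheafOfModules.toSheaf R).obj I))).injective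
  have h1 := (zAdj K).homEquiv_naturality_left g (thetaEquiv K u R I Y x)
  have h2 := zAdj_thetaEquiv u R I (((Γ (J := J) u) ⋙ PresheafOfModules.free R.obj).map g ≫ x)
  have h3 := zAdj_thetaEquiv u R I x
  have h4 := (u.sheafAdjunctionContinuous (Type u) K J).homEquiv_naturality_left g (thetaAux K u R I x)
  refine h2.trans (Eq.trans ?_ h1.symm)
  rw [h3]
  refine Eq.trans ?_ h4
  congr 1
  ext1
  have h5 := (PresheafOfModules.freeAdjunction R.obj).homEquiv_naturality_left ((Γ (J := J) (K := K) u).map g)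
    (g := x)
  rw [PresheafOfModules.freeAdjunction_homEquiv, PresheafOfModules.freeAdjunction_homEquiv] at h5
  exact h5

/-- `thetaEquiv` as an additive equivalence -/
noncomputable def theta (X : Sheaf K (Type u)) :
    (((Γ (J := J) u) ⋙ PresheafOfModules.free R.obj).obj X ⟶ under R I) ≃+
      ((ZSh K).obj X ⟶ (CohSite.push J K u).obj ((SheafOfModules.toSheaf R).obj I)) :=
  { thetaEquiv K u R I X with map_add' := thetaEquiv_add u R I X }

lemma preservesFiniteLimits_pullType [RepresentablyFlat u] :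
    PreservesFiniteLimits (u.sheafPullback (Type u) K J) := by
  have h3 : HasSheafify K (Type u) := inferInstance
  have h4 : HasSheafify J (Type u) := inferInstance
  have h6 : PreservesFiniteLimits (u.op.lan : (Dᵒᵖ ⥤ Type u) ⥤ _) := inferInstance
  have h5 : ∀ (F : Dᵒᵖ ⥤ Type u), u.op.HasLeftKanExtension F := inferInstance
  exact Functor.sheafPullbackConstruction.preservesFiniteLimits (G := u) (A := Type u) K J

/-- Cech complexes (for arbitrary morphisms of sheaves of sets) of the direct image of an injective sheaf of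
modules are exact in positive degrees. -/
lemma isZero_homology_cechNerveCx_push [RepresentablyFlat u] [Injective I] {X' X : Sheaf K (Type u)} (f : X' ⟶ X)
    (n : ℕ) : IsZero ((CohCx.cechNerveCx ((CohSite.push J K u).obj ((SheafOfModules.toSheaf R).obj I)) f).homology
      (n + 1)) := by
  rw [isZero_homology_cechNerveCx_iff]
  have h0 := preservesFiniteLimits_pullType (J := J) (K := K) u
  have h1 : PreservesFiniteLimits (Γ (J := J) (K := K) u) := comp_preservesFiniteLimits _ _
  have h2 := exactAt_free R.obj (Arrow.mk f) (Γ (J := J) (K := K) u) n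
  have h3 := injective_under R I
  exact homExact_transfer (Arrow.mk f).cechNerve ((Γ (J := J) u) ⋙ PresheafOfModules.free R.obj) (ZSh K)
    (theta u R I) (fun g x => thetaEquiv_naturality u R I g x) n (homExact_of_injective _ _ n h2)

end Push

end Groth.Agent.CohtopB.ModPush
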