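import Groth.Agent.CohtopB.KInjSect
import Groth.Agent.CohtopB.TopPull
import Groth.Agent.CohtopB.AcycFamily
import Groth.Agent.CohtopB.BasisCover
import Groth.Agent.CohtopB.Detect
import Groth.Agent.PerfB.DQAdj
import Groth.Agent.CohtopA.DerProd
import Mathlib.Algebra.Homology.Embedding.CochainComplex

/-!
# Vanishing of negative cohomology on a basis
-/

set_option autoImplicit false

universe w v u

open CategoryTheory CategoryTheory.Limits Opposite DerivedCategory

namespace Groth.Agent.CohtopB.NegVanish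

section abelian

variable {A : Type u} [Category.{v} A] [Abelian A]

/-- A K-injective complex which is exact in negative degrees is a homotopy retract of a complex
which is zero in negative degrees. -/
lemma exists_retract (K : CochainComplex A ℤ) [K.IsKInjective] (hK : ∀ i : ℤ, i < 0 → K.ExactAt i) :
    ∃ (L : CochainComplex A ℤ) (p : K ⟶ L) (s : L ⟶ K), (∀ i : ℤ, i < 0 → IsZero (L.X i)) ∧
      Nonempty (Homotopy (𝟙 K) (p ≫ s)) := by
  let _ := HasDerivedCategory.standard A
  have : K.IsGE 0 := (K.isGE_iff 0).2 hK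
  obtain ⟨s, hs⟩ := Groth.Agent.PerfB.DQAdj.exists_Q_map_eq (X := K.truncGE 0) (I := K)
    (inv (Q.map (K.πTruncGE 0)))
  refine ⟨K.truncGE 0, K.πTruncGE 0, s,
    fun i hi => (K.truncGE 0).isZero_of_isStrictlyGE 0 i hi, ?_⟩
  apply Groth.Agent.PerfB.DQAdj.homotopic_of_Q_map_eq
  rw [Functor.map_comp, hs, IsIso.hom_inv_id, CategoryTheory.Functor.map_id]

end abelian

section site

variable {C : Type u} [SmallCategory C] {J : GrothendieckTopology C}

open SectHomology FreeSheafHom KInjSect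

/-- A short complex of abelian sheaves is exact if every section `s` of the middle term with
`g s = 0` over a member of a covering class is of the form `f t`. -/
lemma exact_of_sections {B : Set C} (hB : IsCovering J B)
    (S : ShortComplex (Sheaf J AddCommGrpCat.{u}))
    (h : ∀ U ∈ B, ∀ s : S.X₂.obj.obj (op U), (S.g.hom.app (op U)).hom s = 0 →
      ∃ t : S.X₁.obj.obj (op U), (S.f.hom.app (op U)).hom t = s) : S.Exact := by
  rw [ShortComplex.exact_iff_epi_kernel_lift]
  refine AcycFamily.epi_of_lift hB _ (fun U hU s => ?_)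
  obtain ⟨x, hx⟩ := exists_homMk (s ≫ kernel.ι S.g)
  have hx0 : (S.g.hom.app (op U)).hom x = 0 := by
    apply homMk_injective
    rw [homMk_zero, ← homMk_comp, hx, Category.assoc, kernel.condition, comp_zero]
  obtain ⟨t, ht⟩ := h U hU x hx0
  refine ⟨homMk t, ?_⟩
  rw [← cancel_mono (kernel.ι S.g), Category.assoc, kernel.lift_ι, ← hx, homMk_comp, ht]

/-- A complex of sheaves is exact at `n` if every section `s` with `d s = 0` over a member of a
covering class is of the form `d t`. -/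
lemma exactAt_of_sections {B : Set C} (hB : IsCovering J B)
    (K : CochainComplex (Sheaf J AddCommGrpCat.{u}) ℤ) (n : ℤ)
    (h : ∀ U ∈ B, ∀ s : ZS K n U, ∃ t : (K.X (n - 1)).obj.obj (op U),
      ((K.d (n - 1) n).hom.app (op U)).hom t = s.1) : K.ExactAt n := by
  rw [K.exactAt_iff' (n - 1) n (n + 1) (by simp) (by simp)]
  exact exact_of_sections hB _ (fun U hU s hs => h U hU ⟨s, hs⟩)

end site

section retract

universe t

variable {C : Type u} [Category.{v} C] {J : GrothendieckTopology C}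

lemma isSheafFor_of_retract {P G : Cᵒᵖ ⥤ Type t} (i : P ⟶ G) (r : G ⟶ P) (h : i ≫ r = 𝟙 P)
    {X : C} (R : Presieve X) (hG : R.IsSheafFor G) : R.IsSheafFor P := by
  have hir : ∀ (Z : Cᵒᵖ) (x : P.obj Z), r.app Z (i.app Z x) = x := fun Z x => by
    have := ConcreteCategory.congr_hom (congr_app h Z) x
    exact this
  intro x hx
  have hxi : (Presieve.FamilyOfElements.map x i).Compatible := hx.map i
  obtain ⟨a, ha, hu⟩ := hG (Presieve.FamilyOfElements.map x i) hxi
  refine ⟨r.app _ a, ?_, ?_⟩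
  · intro Y g hg
    have h1 := ha g hg
    have h2 := ConcreteCategory.congr_hom (r.naturality g.op) a
    refine h2.symm.trans ?_
    refine (congrArg (r.app (op Y)) h1).trans ?_
    exact hir _ _
  · intro y hy
    have h1 := hu (i.app _ y) (fun Y g hg => by
      have h2 := ConcreteCategory.congr_hom (i.naturality g.op) y
      refine h2.symm.trans ?_
      exact congrArg (i.app (op Y)) (hy g hg))
    dsimp only at h1
    rw [← h1]
    exact (hir _ _).symm

lemma isSheaf_of_retract {A : Type*} [Category* A] {P : Cᵒᵖ ⥤ A} {G : Cᵒᵖ ⥤ A}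
    (hG : Presheaf.IsSheaf J G) (i : P ⟶ G) (r : G ⟶ P) (h : i ≫ r = 𝟙 P) :
    Presheaf.IsSheaf J P := by
  intro E X S hS
  refine isSheafFor_of_retract (Functor.whiskerRight i (coyoneda.obj (op E)))
    (Functor.whiskerRight r (coyoneda.obj (op E))) ?_ _ (hG E S hS)
  rw [← Functor.whiskerRight_comp, h, Functor.whiskerRight_id']

end retract

section classes

variable {C : Type u} [SmallCategory C] {J : GrothendieckTopology C}

open SectHomology FreeSheafHom KInjSect

variable (K : CochainComplex (Sheaf J AddCommGrpCat.{u}) ℤ) (P : Cᵒᵖ ⥤ AddCommGrpCat.{u})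
  (c : ∀ U : C, ZS K 0 U →+ P.obj (op U)) (hsurj : ∀ U, Function.Surjective (c U))
  (hker : ∀ (U : C) (s : ZS K 0 U), c U s = 0 ↔ ∃ t : (K.X (0 - 1)).obj.obj (op U),
    ((K.d (0 - 1) 0).hom.app (op U)).hom t = s.1)
  (hres : ∀ {U V : C} (g : V ⟶ U) (s : ZS K 0 U), (P.map g.op).hom (c U s) = c V (resZS g s))

/-- The action of a morphism of complexes on cocycles. -/
def mapZS {K L : CochainComplex (Sheaf J AddCommGrpCat.{u}) ℤ} (p : K ⟶ L) (n : ℤ) (U : C) :
    ZS K n U →+ ZS L n U :=
  (((p.f n).hom.app (op U)).hom.comp (ZS K n U).subtype).codRestrict (ZS L n U) (by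
    intro s
    rw [mem_ZS_iff]
    have h1 := congrArg (fun t => (t.hom.app (op U)).hom s.1) (p.comm n (n + 1))
    refine h1.trans ?_
    have h2 := (mem_ZS_iff s.1).1 s.2
    exact (congrArg ((p.f (n + 1)).hom.app (op U)).hom h2).trans (map_zero _))

lemma mapZS_val {K L : CochainComplex (Sheaf J AddCommGrpCat.{u}) ℤ} (p : K ⟶ L) (n : ℤ) (U : C)
    (s : ZS K n U) : (mapZS p n U s).1 = ((p.f n).hom.app (op U)).hom s.1 := rfl

/-- homotopic maps differ by coboundaries on cocycles. -/
lemma exists_of_homotopy {K L : CochainComplex (Sheaf J AddCommGrpCat.{u}) ℤ} {p q : K ⟶ L}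
    (H : Homotopy p q) (n : ℤ) (U : C) (s : ZS K n U) :
    ∃ t : (L.X (n - 1)).obj.obj (op U), ((L.d (n - 1) n).hom.app (op U)).hom t =
      ((p.f n).hom.app (op U)).hom s.1 - ((q.f n).hom.app (op U)).hom s.1 := by
  refine ⟨((H.hom n (n - 1)).hom.app (op U)).hom s.1, ?_⟩
  have h1 := H.comm n
  rw [dNext_eq H.hom (show (ComplexShape.up ℤ).Rel n (n + 1) by simp),
    prevD_eq H.hom (show (ComplexShape.up ℤ).Rel (n - 1) n by simp)] at h1
  have h2 := congrArg (fun t => (t.hom.app (op U)).hom s.1) h1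
  rw [eq_sub_iff_add_eq]
  refine Eq.trans ?_ h2.symm
  change _ = ((H.hom (n + 1) n).hom.app (op U)).hom (((K.d n (n + 1)).hom.app (op U)).hom s.1) +
    ((L.d (n - 1) n).hom.app (op U)).hom (((H.hom n (n - 1)).hom.app (op U)).hom s.1) +
      ((q.f n).hom.app (op U)).hom s.1
  rw [(mem_ZS_iff s.1).1 s.2, map_zero, zero_add]

include hsurj hker hres in
/-- If `P(U)` is the group of cocycles of degree `0` of `K(U)` modulo coboundaries, where `K` is a
homotopy retract of a complex which is zero in negative degrees, then `P` is a sheaf. -/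
lemma isSheaf_of_classes {L : CochainComplex (Sheaf J AddCommGrpCat.{u}) ℤ} (p : K ⟶ L) (s : L ⟶ K)
    (H : Homotopy (𝟙 K) (p ≫ s)) (hL : ∀ i : ℤ, i < 0 → IsZero (L.X i)) :
    Presheaf.IsSheaf J P := by
  have hzL : ∀ (U : C) (t : (L.X (0 - 1)).obj.obj (op U)), t = 0 := by
    intro U t
    have h1 := (hL (0 - 1) (by simp)).eq_of_src (𝟙 _) 0
    exact congrArg (fun f => (f.hom.app (op U)).hom t) h1
  have hle : ∀ U : C, (c U).ker ≤ (((p.f 0).hom.app (op U)).hom.comp (ZS K 0 U).subtype).ker := by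
    intro U x hx
    rw [AddMonoidHom.mem_ker] at hx ⊢
    obtain ⟨t, ht⟩ := (hker U x).1 hx
    change ((p.f 0).hom.app (op U)).hom x.1 = 0
    rw [← ht]
    have h1 := congrArg (fun f => (f.hom.app (op U)).hom t) (p.comm (0 - 1) 0)
    refine h1.symm.trans ?_
    change ((L.d (0 - 1) 0).hom.app (op U)).hom (((p.f (0 - 1)).hom.app (op U)).hom t) = 0
    rw [hzL U (((p.f (0 - 1)).hom.app (op U)).hom t), map_zero]
  let i₀ : ∀ U : C, P.obj (op U) →+ (L.X 0).obj.obj (op U) := fun U =>
    (c U).liftOfSurjective (hsurj U) ⟨_, hle U⟩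
  have hi₀ : ∀ (U : C) (x : ZS K 0 U), i₀ U (c U x) = ((p.f 0).hom.app (op U)).hom x.1 := fun U x =>
    AddMonoidHom.liftOfRightInverse_comp_apply (c U) _ _ ⟨_, hle U⟩ x
  let i' : P ⟶ (L.X 0).obj :=
    { app := fun U => AddCommGrpCat.ofHom (i₀ U.unop)
      naturality := by
        intro U V g
        refine AddCommGrpCat.hom_ext (AddMonoidHom.ext fun x => ?_)
        obtain ⟨a, rfl⟩ := hsurj U.unop x
        change i₀ V.unop ((P.map g.unop.op).hom (c U.unop a)) =
          ((L.X 0).obj.map g).hom (i₀ U.unop (c U.unop a))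
        rw [hres, hi₀, hi₀]
        exact ConcreteCategory.congr_hom ((p.f 0).hom.naturality g) a.1 }
  have hi'0 : i' ≫ (sheafToPresheaf J AddCommGrpCat.{u}).map (L.d 0 (0 + 1)) = 0 := by
    ext U x
    obtain ⟨a, rfl⟩ := hsurj U.unop x
    change ((L.d 0 (0 + 1)).hom.app (op U.unop)).hom (i₀ U.unop (c U.unop a)) = 0
    rw [hi₀]
    exact (mapZS p 0 U.unop a).2
  let hG := KernelFork.mapIsLimit _ (kernelIsKernel (L.d 0 (0 + 1)))
    (sheafToPresheaf J AddCommGrpCat.{u})
  obtain ⟨i, hi⟩ := KernelFork.IsLimit.lift' hG i' hi'0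
  let ιZ : ∀ U : C, (kernel (L.d 0 (0 + 1))).obj.obj (op U) →+ ZS L 0 U := fun U =>
    ((kernel.ι (L.d 0 (0 + 1))).hom.app (op U)).hom.codRestrict (ZS L 0 U) (fun x => by
      rw [mem_ZS_iff]
      exact congrArg (fun f => (f.hom.app (op U)).hom x) (kernel.condition (L.d 0 (0 + 1))))
  let r : (kernel (L.d 0 (0 + 1))).obj ⟶ P :=
    { app := fun U => AddCommGrpCat.ofHom ((c U.unop).comp ((mapZS s 0 U.unop).comp (ιZ U.unop)))
      naturality := by
        intro U V g
        refine AddCommGrpCat.hom_ext (AddMonoidHom.ext fun x => ?_)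
        change c V.unop _ = (P.map g.unop.op).hom (c U.unop _)
        rw [hres]
        refine congrArg (c V.unop) (Subtype.ext ?_)
        exact ConcreteCategory.congr_hom ((kernel.ι (L.d 0 (0 + 1)) ≫ s.f 0).hom.naturality g) x }
  refine isSheaf_of_retract (kernel (L.d 0 (0 + 1))).property i r ?_
  ext U x
  obtain ⟨a, rfl⟩ := hsurj U.unop x
  change c U.unop (mapZS s 0 U.unop (ιZ U.unop ((i.app (op U.unop)).hom (c U.unop a)))) =
    c U.unop a
  have h1 : ιZ U.unop ((i.app (op U.unop)).hom (c U.unop a)) = mapZS p 0 U.unop a := by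
    apply Subtype.ext
    have h2 := ConcreteCategory.congr_hom (congr_app hi (op U.unop)) (c U.unop a)
    exact h2.trans (hi₀ _ _)
  rw [h1]
  symm
  rw [← sub_eq_zero, ← map_sub, hker]
  exact exists_of_homotopy H 0 U.unop a

end classes

section top

open SectHomology FreeSheafHom KInjSect TopologicalSpace

variable {X Y : TopCat.{u}} (f : X ⟶ Y) [HasDerivedCategory.{u} (CohTop.Ab X)]

/-- Direct image of complexes. -/
noncomputable abbrev pushCx : CochainComplex (CohTop.Ab X) ℤ ⥤ CochainComplex (CohTop.Ab Y) ℤ :=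
  (CohTop.push f).mapHomologicalComplex _

theorem main_aux (I : CochainComplex (CohTop.Ab X) ℤ) [I.IsKInjective] (B : Set (Opens Y))
    (hB : Opens.IsBasis B)
    (h : ∀ V ∈ B, ∀ i : ℤ, i < 0 → Subsingleton (CohCx.HDU (Q.obj I) i ((Opens.map f).obj V))) :
    (∀ (V : Opens Y) (i : ℤ), i < 0 →
      Subsingleton (CohCx.HDU (Q.obj I) i ((Opens.map f).obj V))) ∧
    Presheaf.IsSheaf (Opens.grothendieckTopology Y)
      ((Opens.map f).op ⋙ CohCx.HDUPresheaf (Q.obj I) 0) := by
  let K := (pushCx f).obj I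
  have hKI : K.IsKInjective :=
    Groth.Agent.PerfB.DQAdj.isKInjective_mapCx (TopPull.adj f) I
  let c : ∀ (i : ℤ) (V : Opens Y), ZS K i V →+ CohCx.HDU (Q.obj I) i ((Opens.map f).obj V) :=
    fun i V => secCls I i ((Opens.map f).obj V)
  have hsurj : ∀ (i : ℤ) (V : Opens Y), Function.Surjective (c i V) := fun i V =>
    secCls_surjective I i ((Opens.map f).obj V)
  have hker : ∀ (i : ℤ) (V : Opens Y) (s : ZS K i V), c i V s = 0 ↔
      ∃ t : (K.X (i - 1)).obj.obj (op V), ((K.d (i - 1) i).hom.app (op V)).hom t = s.1 :=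
    fun i V s => secCls_eq_zero_iff I i (U := (Opens.map f).obj V) s
  have hex : ∀ i : ℤ, i < 0 → K.ExactAt i := by
    intro i hi
    refine exactAt_of_sections (BasisCover.isCovering_of_isBasis hB) K i (fun V hV s => ?_)
    have := h V hV i hi
    exact (hker i V s).1 (Subsingleton.elim _ _)
  obtain ⟨L, p, s, hL, ⟨H⟩⟩ := exists_retract K hex
  refine ⟨fun V i hi => subsingleton_of_forall_eq 0 (fun x => ?_), ?_⟩
  · obtain ⟨a, rfl⟩ := hsurj i V x
    rw [hker]
    obtain ⟨t, ht⟩ := exists_of_homotopy H i V a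
    refine ⟨t, ht.trans ?_⟩
    have h1 : ((p.f i).hom.app (op V)).hom a.1 = 0 := by
      have h2 := (hL i hi).eq_of_tgt (p.f i) 0
      exact congrArg (fun f => (f.hom.app (op V)).hom a.1) h2
    change a.1 - ((s.f i).hom.app (op V)).hom (((p.f i).hom.app (op V)).hom a.1) = a.1
    rw [h1, map_zero, sub_zero]
  · exact isSheaf_of_classes K ((Opens.map f).op ⋙ CohCx.HDUPresheaf (Q.obj I) 0)
      (c 0) (hsurj 0) (hker 0) (fun g s => secCls_res I 0 ((Opens.map f).map g) s) p s H hL

theorem main (B : Set (Opens Y)) (hB : Opens.IsBasis B) (K : DerivedCategory (CohTop.Ab X))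
    (h : ∀ V ∈ B, ∀ i : ℤ, i < 0 → Subsingleton (CohCx.HDU K i ((Opens.map f).obj V))) :
    (∀ (V : Opens Y) (i : ℤ), i < 0 → Subsingleton (CohCx.HDU K i ((Opens.map f).obj V))) ∧
    Presheaf.IsSheaf (Opens.grothendieckTopology Y) ((Opens.map f).op ⋙ CohCx.HDUPresheaf K 0) := by
  obtain ⟨I, hI, ⟨e⟩⟩ := Groth.Agent.CohtopA.DerProd.exists_kInjective_iso.{u, u} K
  have key : ∀ {M N : DerivedCategory (CohTop.Ab X)} (e : M ≅ N) (i : ℤ) (U : Opens X)
      (_ : Subsingleton (CohCx.HDU M i U)), Subsingleton (CohCx.HDU N i U) := by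
    intro M N e i U hM
    refine subsingleton_of_forall_eq 0 (fun x => ?_)
    have h1 : x ≫ (shiftFunctor _ i).map e.inv = 0 := Subsingleton.elim _ _
    rw [← cancel_mono ((shiftFunctor _ i).map e.inv), h1, zero_comp]
  obtain ⟨h1, h2⟩ := main_aux f I B hB (fun V hV i hi => key e i _ (h V hV i hi))
  refine ⟨fun V i hi => key e.symm i _ (h1 V i hi), ?_⟩
  have e' : CohCx.HDUPresheaf K 0 ≅ CohCx.HDUPresheaf (Q.obj I) 0 :=
    Functor.isoWhiskerLeft _ (preadditiveYoneda.mapIso ((shiftFunctor _ (0 : ℤ)).mapIso e))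
  exact (Presheaf.isSheaf_of_iso_iff (Functor.isoWhiskerLeft (Opens.map f).op e')).2 h2

end top

end Groth.Agent.CohtopB.NegVanish
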