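import Groth.Prelude.Def_CohCx
import Mathlib.CategoryTheory.Limits.Types.Limits

/-!
# Inverse systems `K (n+1) ⟶ K n`: transitions and elements of limits
-/

set_option autoImplicit false

universe u v v' u' w

open CategoryTheory CategoryTheory.Limits Opposite

namespace Groth.Agent.CohtopB.OpSeq

section

variable {T : Type u'} [Category.{v'} T] (K : ℕ → T) (t : ∀ n, K (n + 1) ⟶ K n)

/-- The map `K m ⟶ K n` of the inverse system for `n ≤ m`. -/
noncomputable def tr {n m : ℕ} (h : n ≤ m) : K m ⟶ K n :=
  (CohCx.opSequence K t).map (homOfLE h).op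

lemma tr_self (n : ℕ) : tr K t (le_refl n) = 𝟙 _ :=
  (CohCx.opSequence K t).map_id (op n)

lemma tr_comp {n m k : ℕ} (h : n ≤ m) (h' : m ≤ k) : tr K t h' ≫ tr K t h = tr K t (h.trans h') :=
  ((CohCx.opSequence K t).map_comp (homOfLE h').op (homOfLE h).op).symm

lemma tr_succ (n : ℕ) : tr K t (Nat.le_succ n) = t n :=
  Functor.ofOpSequence_map_homOfLE_succ t n

lemma tr_succ_comp {n m : ℕ} (h : n ≤ m) : t m ≫ tr K t h = tr K t (Nat.le_succ_of_le h) := by
  rw [← tr_succ K t m, tr_comp]

lemma transition_eq (n k : ℕ) :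
    CohCx.transition K t n k = tr K t (Nat.le_add_right n k) := by
  induction k with
  | zero => exact (tr_self K t n).symm
  | succ k ih => rw [CohCx.transition, ih, tr_succ_comp]

/-- Transition maps are compatible with functors. -/
lemma map_transition {T' : Type u} [Category.{v} T'] (G : T ⥤ T') (n k : ℕ) :
    G.map (CohCx.transition K t n k) = CohCx.transition (fun n => G.obj (K n)) (fun n => G.map (t n)) n k := by
  induction k with
  | zero => exact G.map_id _
  | succ k ih => rw [CohCx.transition, CohCx.transition, G.map_comp, ih]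

lemma map_tr {T' : Type u} [Category.{v} T'] (G : T ⥤ T') {n m : ℕ} (h : n ≤ m) :
    G.map (tr K t h) = tr (fun n => G.obj (K n)) (fun n => G.map (t n)) h := by
  obtain ⟨k, rfl⟩ := Nat.exists_eq_add_of_le h
  rw [← transition_eq, map_transition, transition_eq]

/-- `G` applied to an inverse system. -/
noncomputable def opSequenceComp {T' : Type u} [Category.{v} T'] (G : T ⥤ T') :
    CohCx.opSequence K t ⋙ G ≅ CohCx.opSequence (fun n => G.obj (K n)) (fun n => G.map (t n)) :=
  NatIso.ofComponents (fun n => Iso.refl _) (by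
    rintro ⟨i⟩ ⟨j⟩ ⟨f⟩
    exact (Category.comp_id _).trans ((map_tr K t G (leOfHom f)).trans (Category.id_comp _).symm))

end

section elements

variable {T : Type u'} [Category.{v'} T] (K : ℕ → T) (t : ∀ n, K (n + 1) ⟶ K n)

lemma limit_π_tr [HasLimit (CohCx.opSequence K t)] {n m : ℕ} (h : n ≤ m) :
    limit.π (CohCx.opSequence K t) (op m) ≫ tr K t h = limit.π (CohCx.opSequence K t) (op n) :=
  limit.w (CohCx.opSequence K t) (homOfLE h).op

lemma limit_π_succ [HasLimit (CohCx.opSequence K t)] (n : ℕ) :
    limit.π (CohCx.opSequence K t) (op (n + 1)) ≫ t n = limit.π (CohCx.opSequence K t) (op n) := by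
  rw [← limit_π_tr K t (Nat.le_succ n), tr_succ]

lemma tr_apply (A : ℕ → AddCommGrpCat.{u}) (s : ∀ n, A (n + 1) ⟶ A n) (x : ∀ n, A n)
    (hx : ∀ n, s n (x (n + 1)) = x n) {n m : ℕ} (h : n ≤ m) : tr A s h (x m) = x n := by
  obtain ⟨k, rfl⟩ := Nat.exists_eq_add_of_le h
  induction k with
  | zero => rw [tr_self]; rfl
  | succ k ih =>
    rw [← tr_succ_comp A s (Nat.le_add_right n k), ConcreteCategory.comp_apply]
    exact (congrArg _ (hx (n + k))).trans (ih _)

variable (G : T ⥤ AddCommGrpCat.{u}) [HasLimit (CohCx.opSequence K t)]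
  [PreservesLimit (CohCx.opSequence K t) G]

/-- Compatible families of elements come from unique elements of the limit. -/
lemma existsUnique_limit (x : ∀ n, G.obj (K n)) (hx : ∀ n, G.map (t n) (x (n + 1)) = x n) :
    ∃! y : G.obj (limit (CohCx.opSequence K t)),
      ∀ n, G.map (limit.π (CohCx.opSequence K t) (op n)) y = x n := by
  have hl := isLimitOfPreserves (G ⋙ forget AddCommGrpCat.{u}) (limit.isLimit (CohCx.opSequence K t))
  have := (Types.isLimit_iff _).1 ⟨hl⟩ (fun n => x n.unop) (by
    rintro ⟨i⟩ ⟨j⟩ ⟨f⟩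
    have e : G.map (tr K t (leOfHom f)) (x i) = x j := by
      rw [map_tr]
      exact tr_apply _ _ x hx _
    exact e)
  obtain ⟨y, hy, hy'⟩ := this
  exact ⟨y, fun n => hy (op n), fun z hz => hy' z fun n => hz n.unop⟩

lemma limit_elem_ext {x y : G.obj (limit (CohCx.opSequence K t))}
    (h : ∀ n, G.map (limit.π (CohCx.opSequence K t) (op n)) x = G.map (limit.π (CohCx.opSequence K t) (op n)) y) :
    x = y := by
  refine (existsUnique_limit K t G (fun n => G.map (limit.π (CohCx.opSequence K t) (op n)) y) ?_).unique h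
    (fun _ => rfl)
  intro n
  have e : G.map (limit.π (CohCx.opSequence K t) (op (n + 1))) ≫ G.map (t n) =
      G.map (limit.π (CohCx.opSequence K t) (op n)) := by
    rw [← limit_π_succ K t n]
    exact (G.map_comp _ _).symm
  exact ConcreteCategory.congr_hom e y

end elements

end Groth.Agent.CohtopB.OpSeq
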