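import Groth.Agent.CohtopB.OpSeq
import Mathlib.Algebra.Homology.ShortComplex.Exact
import Mathlib.CategoryTheory.Abelian.Exact

/-!
# Maps into the limit of an inverse system and the sequence `0 ⟶ lim K ⟶ ∏ K ⟶ ∏ K`
-/

set_option autoImplicit false

universe u v v' u' w

open CategoryTheory CategoryTheory.Limits Opposite

namespace Groth.Agent.CohtopB.OpSeqHom

open OpSeq

section

variable {T : Type u'} [Category.{v'} T] (K : ℕ → T) (t : ∀ n, K (n + 1) ⟶ K n)

lemma hom_tr {Z : T} (x : ∀ n, Z ⟶ K n) (hx : ∀ n, x (n + 1) ≫ t n = x n) {n m : ℕ} (h : n ≤ m) :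
    x m ≫ tr K t h = x n := by
  obtain ⟨k, rfl⟩ := Nat.exists_eq_add_of_le h
  induction k with
  | zero => rw [tr_self]; exact Category.comp_id _
  | succ k ih =>
    rw [← tr_succ_comp K t (Nat.le_add_right n k), ← Category.assoc]
    exact (congrArg (· ≫ tr K t (Nat.le_add_right n k)) (hx (n + k))).trans (ih _)

/-- The cone over the inverse system given by a compatible family of maps. -/
noncomputable def coneOf {Z : T} (x : ∀ n, Z ⟶ K n) (hx : ∀ n, x (n + 1) ≫ t n = x n) :
    Cone (CohCx.opSequence K t) where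
  pt := Z
  π :=
    { app := fun n => x n.unop
      naturality := by
        rintro ⟨i⟩ ⟨j⟩ ⟨f⟩
        exact (Category.id_comp _).trans (hom_tr K t x hx (leOfHom f)).symm }

variable [HasLimit (CohCx.opSequence K t)]

/-- The projections `lim K ⟶ K n`. -/
noncomputable def limπ (n : ℕ) : limit (CohCx.opSequence K t) ⟶ K n :=
  limit.π (CohCx.opSequence K t) (op n)

@[reassoc]
lemma limπ_succ (n : ℕ) : limπ K t (n + 1) ≫ t n = limπ K t n := limit_π_succ K t n

/-- The map into the limit given by a compatible family. -/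
noncomputable def limLift {Z : T} (x : ∀ n, Z ⟶ K n) (hx : ∀ n, x (n + 1) ≫ t n = x n) :
    Z ⟶ limit (CohCx.opSequence K t) :=
  limit.lift _ (coneOf K t x hx)

@[reassoc]
lemma limLift_π {Z : T} (x : ∀ n, Z ⟶ K n) (hx : ∀ n, x (n + 1) ≫ t n = x n) (n : ℕ) :
    limLift K t x hx ≫ limπ K t n = x n :=
  limit.lift_π (coneOf K t x hx) (op n)

lemma lim_hom_ext {Z : T} {f g : Z ⟶ limit (CohCx.opSequence K t)}
    (h : ∀ n, f ≫ limπ K t n = g ≫ limπ K t n) : f = g :=
  limit.hom_ext fun n => h n.unop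

end

section

variable {T : Type u'} [Category.{v'} T] [Preadditive T] (K : ℕ → T) (t : ∀ n, K (n + 1) ⟶ K n) [HasProduct K]

/-- `id - shift` on the product. -/
noncomputable def oneSubShift : ∏ᶜ K ⟶ ∏ᶜ K := Pi.lift fun n => Pi.π K n - Pi.π K (n + 1) ≫ t n

@[reassoc]
lemma oneSubShift_π (n : ℕ) : oneSubShift K t ≫ Pi.π K n = Pi.π K n - Pi.π K (n + 1) ≫ t n :=
  Pi.lift_π _ _

variable [HasLimit (CohCx.opSequence K t)]

/-- `lim K ⟶ ∏ K`. -/
noncomputable def limToPi : limit (CohCx.opSequence K t) ⟶ ∏ᶜ K :=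
  Pi.lift fun n => limπ K t n

omit [Preadditive T] in
@[reassoc]
lemma limToPi_π (n : ℕ) : limToPi K t ≫ Pi.π K n = limπ K t n :=
  Pi.lift_π _ _

instance : Mono (limToPi K t) :=
  ⟨fun f g h => lim_hom_ext K t fun n => by
    have := congrArg (· ≫ Pi.π K n) h
    simp only [Category.assoc, limToPi_π] at this
    exact this⟩

@[reassoc]
lemma limToPi_oneSubShift : limToPi K t ≫ oneSubShift K t = 0 := by
  apply Limits.Pi.hom_ext
  intro n
  rw [Category.assoc, oneSubShift_π, Preadditive.comp_sub, limToPi_π, limToPi_π_assoc, limπ_succ,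
    sub_self, zero_comp]

/-- The complex `lim K ⟶ ∏ K ⟶ ∏ K`. -/
noncomputable abbrev limSeq : ShortComplex T :=
  ShortComplex.mk (limToPi K t) (oneSubShift K t) (limToPi_oneSubShift K t)

/-- `lim K` is the kernel of `id - shift`. -/
noncomputable def isKernel :
    IsLimit (KernelFork.ofι (limToPi K t) (limToPi_oneSubShift K t)) :=
  KernelFork.IsLimit.ofι' _ _ (fun {Z} f hf => ⟨limLift K t (fun n => f ≫ Pi.π K n) (by
    intro n
    have := congrArg (· ≫ Pi.π K n) hf
    simp only [Category.assoc, oneSubShift_π, Preadditive.comp_sub, zero_comp, sub_eq_zero] at this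
    rw [Category.assoc, this]), by
      apply Limits.Pi.hom_ext
      intro n
      rw [Category.assoc, limToPi_π, limLift_π]⟩)

end

/-- In an abelian category `lim K ⟶ ∏ K ⟶ ∏ K` is exact. -/
lemma limSeq_exact {T : Type u'} [Category.{v'} T] [Abelian T] (K : ℕ → T) (t : ∀ n, K (n + 1) ⟶ K n)
    [HasProduct K] [HasLimit (CohCx.opSequence K t)] : (limSeq K t).Exact :=
  ShortComplex.exact_of_f_is_kernel _ (isKernel K t)

/-- If `id - shift` is epi then `0 ⟶ lim K ⟶ ∏ K ⟶ ∏ K ⟶ 0` is short exact. -/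
lemma limSeq_shortExact {T : Type u'} [Category.{v'} T] [Abelian T] (K : ℕ → T) (t : ∀ n, K (n + 1) ⟶ K n)
    [HasProduct K] [HasLimit (CohCx.opSequence K t)] (h : Epi (oneSubShift K t)) : (limSeq K t).ShortExact where
  exact := limSeq_exact K t
  mono_f := inferInstanceAs (Mono (limToPi K t))
  epi_g := h

end Groth.Agent.CohtopB.OpSeqHom
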