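import Mathlib.Topology.Spectral.ConstructibleTopology
import Mathlib.Topology.Spectral.Hom
import Mathlib.Topology.QuasiSeparated

/-!
# Directed intersections of quasi-compact opens in a spectral space
-/

set_option autoImplicit false

open Topology TopologicalSpace Set

namespace Groth.Agent.CohtopB.SpecTop

variable {X : Type*} [TopologicalSpace X]

theorem compactSpace_constructible [CompactSpace X] [QuasiSober X] [PrespectralSpace X]
    [QuasiSeparatedSpace X] : @CompactSpace X (constructibleTopology X) := by
  have h : CompactSpace (WithConstructibleTopology X) := inferInstance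
  exact @Function.Surjective.compactSpace _ _ _ (constructibleTopology X) _
      (WithTopology.continuous_ofTopology (constructibleTopology X)) h
      (WithTopology.ofTopology_surjective _)

theorem isOpen_constructible_of_isOpen [PrespectralSpace X] {O : Set X} (hO : IsOpen O) :
    IsOpen[constructibleTopology X] O := by
  obtain ⟨S, hS, rfl⟩ := (PrespectralSpace.isTopologicalBasis (X := X)).open_eq_sUnion hO
  refine @isOpen_sUnion X (constructibleTopology X) S (fun t ht => ?_)
  exact (hS ht).2.isOpen_constructibleTopology_of_isOpen (hS ht).1

/-- A directed intersection `⋂ U k` of quasi-compact opens meeting a quasi-compact open `A` inside an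
open `O`: some `A ∩ U k` is already inside `O`. -/
theorem exists_inter_subset [CompactSpace X] [QuasiSober X] [PrespectralSpace X]
    [QuasiSeparatedSpace X] {κ : Type*} [Nonempty κ] (U : κ → Set X) (hU : ∀ k, IsOpen (U k))
    (hU' : ∀ k, IsCompact (U k)) (hdir : Directed (· ⊇ ·) U) {A : Set X} (hA : IsOpen A)
    (hA' : IsCompact A) {O : Set X} (hO : IsOpen O) (h : A ∩ ⋂ k, U k ⊆ O) :
    ∃ k, A ∩ U k ⊆ O := by
  have hc : @IsCompact X (constructibleTopology X) univ :=
    (@compactSpace_constructible X _ _ _ _ _).isCompact_univ
  have hcl : ∀ {B : Set X}, IsOpen B → IsCompact B → IsClosed[constructibleTopology X] B := by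
    intro B h1 h2
    rw [← @isOpen_compl_iff X _ (constructibleTopology X)]
    refine IsCompact.isOpen_constructibleTopology_of_isClosed ?_ h1.isClosed_compl
    rwa [compl_compl]
  obtain ⟨k, hk⟩ := @IsCompact.elim_directed_family_closed X (constructibleTopology X) univ κ _ hc
    (fun k => A ∩ U k ∩ Oᶜ) (fun k => by
      refine @IsClosed.inter X _ _ (constructibleTopology X)
        (@IsClosed.inter X _ _ (constructibleTopology X) (hcl hA hA') (hcl (hU k) (hU' k))) ?_
      rw [← @isOpen_compl_iff X _ (constructibleTopology X), compl_compl]
      exact isOpen_constructible_of_isOpen hO)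
    (by
      rw [univ_inter]
      ext x
      simp only [mem_iInter, mem_inter_iff, mem_compl_iff, mem_empty_iff_false, iff_false,
        not_forall]
      by_contra! hx
      have hx0 := hx (Classical.arbitrary κ)
      exact hx0.2 (h ⟨hx0.1.1, mem_iInter.2 fun k => (hx k).1.2⟩))
    (by
      intro i j
      obtain ⟨k, hik, hjk⟩ := hdir i j
      exact ⟨k, inter_subset_inter_left _ (inter_subset_inter_right _ hik),
        inter_subset_inter_left _ (inter_subset_inter_right _ hjk)⟩)
  refine ⟨k, fun x hx => ?_⟩
  by_contra hxO
  rw [univ_inter] at hk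
  exact (Set.mem_empty_iff_false x).1 (hk ▸ ⟨hx, hxO⟩ : x ∈ (∅ : Set X))

end Groth.Agent.CohtopB.SpecTop
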