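import Groth.Agent.CohtopB.PullSect
import Groth.Agent.CohtopB.SpecTop
import Mathlib.Topology.Sheaves.Flasque

/-!
# Sections over a directed intersection of quasi-compact opens of a spectral space

`Y` is (pre)spectral, `U k` a directed family of quasi-compact opens, `f : X ⟶ Y` inducing with image
`⋂ U k`.
-/

set_option autoImplicit false
universe u

open CategoryTheory TopologicalSpace Opposite CategoryTheory.Limits Topology
open Groth.Agent.CohtopA.Sec Groth.Agent.CohtopB.TopPull Groth.Agent.CohtopB.PullSect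
open Groth.Agent.CohtopB.SpecTop

namespace Groth.Agent.CohtopB.ProOpen

variable {X Y : TopCat.{u}} [CompactSpace Y] [QuasiSober Y] [PrespectralSpace Y]
  [QuasiSeparatedSpace Y] {κ : Type*} [Nonempty κ] (U : κ → Opens Y)
  (hU : ∀ k, IsCompact (U k : Set Y)) (hdir : Directed (· ≥ ·) U)
  (f : X ⟶ Y) (hf : IsInducing f) (hr : Set.range f = ⋂ k, (U k : Set Y))

include hU hdir in
theorem exists_le {A O : Opens Y} (hA : IsCompact (A : Set Y))
    (h : (A : Set Y) ∩ ⋂ k, (U k : Set Y) ⊆ O) : ∃ k, A ⊓ U k ≤ O := by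
  obtain ⟨k, hk⟩ := exists_inter_subset (fun k => (U k : Set Y)) (fun k => (U k).isOpen) hU
    (fun i j => by
      obtain ⟨k, h1, h2⟩ := hdir i j
      exact ⟨k, h1, h2⟩) A.isOpen hA O.isOpen h
  exact ⟨k, hk⟩

include hU hdir hr in
theorem exists_le_of_map_le {A O : Opens Y} (hA : IsCompact (A : Set Y))
    (h : (Opens.map f).obj A ≤ (Opens.map f).obj O) : ∃ k, A ⊓ U k ≤ O := by
  refine exists_le U hU hdir hA ?_
  rintro y ⟨hy, hy'⟩
  rw [← hr] at hy'
  obtain ⟨x, rfl⟩ := hy'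
  exact h hy

omit [CompactSpace Y] [QuasiSober Y] [PrespectralSpace Y] [QuasiSeparatedSpace Y] [Nonempty κ] in
include hr in
theorem map_le (k : κ) (A : Opens Y) : (Opens.map f).obj A ≤ (Opens.map f).obj (A ⊓ U k) := by
  intro x hx
  refine ⟨hx, ?_⟩
  have : f x ∈ Set.range f := ⟨x, rfl⟩
  rw [hr] at this
  exact Set.mem_iInter.1 this k

include hf hU hdir hr in
theorem isCompact_map {A : Opens Y} (hA : IsCompact (A : Set Y)) :
    IsCompact ((Opens.map f).obj A : Set X) := by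
  rw [isCompact_iff_finite_subcover]
  intro ι V hV hcov
  choose O hO hO' using fun i => hf.isOpen_iff.1 (hV i)
  obtain ⟨k, hk⟩ := exists_le_of_map_le U hU hdir f hr (A := A) (O := ⟨⋃ i, O i, isOpen_iUnion hO⟩) hA
    (by
      intro x hx
      obtain ⟨i, hi⟩ := Set.mem_iUnion.1 (hcov hx)
      rw [← hO' i] at hi
      exact Set.mem_iUnion.2 ⟨i, hi⟩)
  have hc : IsCompact ((A ⊓ U k : Opens Y) : Set Y) :=
    QuasiSeparatedSpace.inter_isCompact _ _ A.isOpen hA (U k).isOpen (hU k)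
  obtain ⟨t, ht⟩ := hc.elim_finite_subcover O hO hk
  refine ⟨t, fun x hx => ?_⟩
  obtain ⟨i, hi, hx'⟩ := Set.mem_iUnion₂.1 (ht (map_le U f hr k A hx))
  refine Set.mem_iUnion₂.2 ⟨i, hi, ?_⟩
  rw [← hO' i]
  exact hx'

include hf hU hdir hr in
theorem isSpectralMap : IsSpectralMap f := by
  refine ⟨hf.continuous, fun s hs hs' => ?_⟩
  exact isCompact_map U hU hdir f hf hr (A := ⟨s, hs⟩) hs'

include hf hU hdir hr in
theorem compactSpace : CompactSpace X := by
  refine ⟨?_⟩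
  have := isCompact_map U hU hdir f hf hr (A := ⊤) isCompact_univ
  exact this

include hf hU hdir hr in
theorem prespectralSpace : PrespectralSpace X :=
  PrespectralSpace.of_isInducing f hf (isSpectralMap U hU hdir f hf hr)

omit [CompactSpace Y] [QuasiSober Y] [QuasiSeparatedSpace Y] [Nonempty κ] in
include hf in
theorem exists_compact_open {V : Opens X} (hV : IsCompact (V : Set X)) :
    ∃ A : Opens Y, IsCompact (A : Set Y) ∧ V = (Opens.map f).obj A := by
  obtain ⟨O, hO, hO'⟩ := hf.isOpen_iff.1 V.isOpen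
  have hb := PrespectralSpace.isTopologicalBasis (X := Y)
  have h1 : ∀ x : V, ∃ B : Set Y, (IsOpen B ∧ IsCompact B) ∧ f x.1 ∈ B ∧ B ⊆ O := by
    intro x
    refine hb.exists_subset_of_mem_open ?_ hO
    have : x.1 ∈ f ⁻¹' O := by rw [hO']; exact x.2
    exact this
  choose B hB hxB hBO using h1
  obtain ⟨t, ht⟩ := hV.elim_finite_subcover (fun x => f ⁻¹' (B x))
    (fun x => (hB x).1.preimage hf.continuous) (fun x hx => Set.mem_iUnion.2 ⟨⟨x, hx⟩, hxB ⟨x, hx⟩⟩)
  refine ⟨⟨⋃ x ∈ t, B x, isOpen_biUnion fun x _ => (hB x).1⟩,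
    t.finite_toSet.isCompact_biUnion fun x _ => (hB x).2, ?_⟩
  refine le_antisymm (fun x hx => ?_) (fun x hx => ?_)
  · obtain ⟨i, hi, hx'⟩ := Set.mem_iUnion₂.1 (ht hx)
    exact Set.mem_iUnion₂.2 ⟨i, hi, hx'⟩
  · obtain ⟨i, hi, hx'⟩ := Set.mem_iUnion₂.1 (show f x ∈ ⋃ x ∈ t, B x from hx)
    have : x ∈ f ⁻¹' O := hBO _ hx'
    rw [hO'] at this
    exact this

include hf hU hdir hr in
theorem quasiSeparatedSpace : QuasiSeparatedSpace X := by
  refine ⟨fun V V' hV hV' hV'' hV''' => ?_⟩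
  obtain ⟨A, hA, eA⟩ := exists_compact_open f hf (V := ⟨V, hV⟩) hV'
  obtain ⟨A', hA', eA'⟩ := exists_compact_open f hf (V := ⟨V', hV''⟩) hV'''
  have e1 : V = ((Opens.map f).obj A : Set X) := congrArg (fun t : Opens X => (t : Set X)) eA
  have e2 : V' = ((Opens.map f).obj A' : Set X) := congrArg (fun t : Opens X => (t : Set X)) eA'
  have := isCompact_map U hU hdir f hf hr (A := A ⊓ A')
    (QuasiSeparatedSpace.inter_isCompact _ _ A.isOpen hA A'.isOpen hA')
  rw [e1, e2]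
  exact this

include hf hU hdir hr in
/-- Sections of `f⁻¹F` over `f⁻¹A`, `A` quasi-compact open, come from a section of `F` over some
`A ∩ U k`. -/
theorem exists_sect (F : CohTop.Ab Y) {A : Opens Y} (hA : IsCompact (A : Set Y))
    (t : Γs ((CohTop.pull f).obj F) ((Opens.map f).obj A)) :
    ∃ (k : κ) (w : Γs F (A ⊓ U k)),
      r _ (map_mono inf_le_left) t = ρ f F (A ⊓ U k) w := by
  classical
  -- local representatives over quasi-compact opens
  have h1 : ∀ x : (Opens.map f).obj A, ∃ (O : Opens Y) (s : Γs F O)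
      (h : (Opens.map f).obj O ≤ (Opens.map f).obj A), IsCompact (O : Set Y) ∧ f x.1 ∈ O ∧ O ≤ A ∧
      r _ h t = ρ f F O s := by
    intro x
    obtain ⟨O, s, h, hx, hOA, e⟩ := exists_local_rep' hf F t x.1 x.2 A x.2
    obtain ⟨B, hB, hxB, hBO⟩ := (PrespectralSpace.isTopologicalBasis (X := Y)).exists_subset_of_mem_open
      (show f x.1 ∈ (O : Set Y) from hx) O.isOpen
    let B' : Opens Y := ⟨B, hB.1⟩
    have hBO' : B' ≤ O := hBO
    refine ⟨B', r F hBO' s, (map_mono hBO').trans h, hB.2, hxB, hBO'.trans hOA, ?_⟩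
    rw [ρ_r, ← e, r_r]
  choose O s hOA hOc hxO hOA' e using h1
  -- shrink to a finite cover
  obtain ⟨k₀, hk₀⟩ := exists_le_of_map_le U hU hdir f hr (A := A) (O := ⨆ x, O x) hA (by
    intro x hx
    exact Opens.mem_iSup.2 ⟨⟨x, hx⟩, hxO ⟨x, hx⟩⟩)
  have hc : IsCompact ((A ⊓ U k₀ : Opens Y) : Set Y) :=
    QuasiSeparatedSpace.inter_isCompact _ _ A.isOpen hA (U k₀).isOpen (hU k₀)
  obtain ⟨T, hT⟩ := hc.elim_finite_subcover (fun x => (O x : Set Y)) (fun x => (O x).isOpen) (by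
    intro y hy
    obtain ⟨i, hi⟩ := Opens.mem_iSup.1 (hk₀ hy)
    exact Set.mem_iUnion.2 ⟨i, hi⟩)
  -- compatibility on a smaller `U k`
  have h2 : ∀ p : T × T, ∃ k, ∃ (h1 : O p.1.1 ⊓ O p.2.1 ⊓ U k ≤ O p.1.1)
      (h2 : O p.1.1 ⊓ O p.2.1 ⊓ U k ≤ O p.2.1), r F h1 (s p.1.1) = r F h2 (s p.2.1) := by
    rintro ⟨i, j⟩
    obtain ⟨W, w1, w2, hW, eW⟩ := exists_eq_of_ρ (f := f) F (s i.1) (s j.1)
      (V := (Opens.map f).obj (O i.1 ⊓ O j.1)) (map_mono inf_le_left) (map_mono inf_le_right) (by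
        rw [← e i.1, ← e j.1, r_r, r_r])
    obtain ⟨k, hk⟩ := exists_le_of_map_le U hU hdir f hr (A := O i.1 ⊓ O j.1) (O := W)
      (QuasiSeparatedSpace.inter_isCompact _ _ (O i.1).isOpen (hOc _) (O j.1).isOpen (hOc _)) hW
    refine ⟨k, hk.trans w1, hk.trans w2, ?_⟩
    have := congrArg (r F hk) eW
    rw [r_r, r_r] at this
    exact this
  choose K hK1 hK2 hK using h2
  obtain ⟨k₁, hk₁⟩ := hdir.finset_le (Finset.univ.image K)
  obtain ⟨k, hkk₀, hkk₁⟩ := hdir k₀ k₁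
  have hKk : ∀ p, U k ≤ U (K p) := fun p =>
    le_trans hkk₁ (hk₁ (K p) (Finset.mem_image_of_mem _ (Finset.mem_univ _)))
  -- glue
  obtain ⟨w, hw, ew, -⟩ := exists_glue (f := f) F (V := (Opens.map f).obj A) t
    (fun i : T => O i.1 ⊓ U k) (fun i => r F inf_le_left (s i.1))
    (fun i => (map_mono inf_le_left).trans (hOA i.1)) (fun i => by
      rw [ρ_r, ← e i.1, r_r])
    (fun i j => by
      rw [r_r, r_r]
      have h3 : O i.1 ⊓ U k ⊓ (O j.1 ⊓ U k) ≤ O i.1 ⊓ O j.1 ⊓ U (K (i, j)) := by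
        intro y hy
        exact ⟨⟨hy.1.1, hy.2.1⟩, hKk (i, j) hy.1.2⟩
      have := congrArg (r F h3) (hK (i, j))
      rw [r_r, r_r] at this
      exact this)
  have h4 : A ⊓ U k ≤ ⨆ i : T, O i.1 ⊓ U k := by
    intro y hy
    obtain ⟨i, hi, hy'⟩ := Set.mem_iUnion₂.1 (hT ⟨hy.1, hkk₀ hy.2⟩)
    exact Opens.mem_iSup.2 ⟨⟨i, hi⟩, hy', hy.2⟩
  refine ⟨k, r F h4 w, ?_⟩
  rw [ρ_r, ← ew, r_r]

include hU hdir hr in
/-- A section over `A ∩ U k` dying in `f⁻¹F` dies on a smaller `A ∩ U k'`. -/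
theorem exists_zero (F : CohTop.Ab Y) {A : Opens Y} (hA : IsCompact (A : Set Y)) (k : κ)
    (s : Γs F (A ⊓ U k)) (hs : ρ f F (A ⊓ U k) s = 0) :
    ∃ (k' : κ) (h : U k' ≤ U k), r F (inf_le_inf_left A h) s = 0 := by
  obtain ⟨W, w1, w2, hW, e⟩ := exists_eq_of_ρ (f := f) F s 0
    (V := (Opens.map f).obj (A ⊓ U k)) le_rfl le_rfl (by rw [hs, map_zero, map_zero, map_zero])
  obtain ⟨k₁, hk₁⟩ := exists_le_of_map_le U hU hdir f hr (A := A) (O := W) hA
    ((map_le U f hr k A).trans hW)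
  obtain ⟨k', h1, h2⟩ := hdir k k₁
  refine ⟨k', h1, ?_⟩
  have h3 : A ⊓ U k' ≤ W := (inf_le_inf_left A h2).trans hk₁
  have := congrArg (r F h3) e
  rw [r_r, r_r, map_zero] at this
  exact this

include hf hU hdir hr in
/-- The inverse image of a flasque sheaf has surjective restriction maps between quasi-compact
opens. -/
theorem surjective_of_flasque (F : CohTop.Ab Y) [TopCat.Sheaf.IsFlasque F] {V W : Opens X}
    (h : W ≤ V) (hV : IsCompact (V : Set X)) (hW : IsCompact (W : Set X)) :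
    Function.Surjective (r ((CohTop.pull f).obj F) h) := by
  intro t
  obtain ⟨A, hA, rfl⟩ := exists_compact_open f hf hV
  obtain ⟨B, hB, rfl⟩ := exists_compact_open f hf hW
  obtain ⟨k, w, e⟩ := exists_sect U hU hdir f hf hr F hB t
  have h1 := (AddCommGrpCat.epi_iff_surjective _).1
    (TopCat.Presheaf.IsFlasque.epi (F := F.obj) (homOfLE (le_top : B ⊓ U k ≤ ⊤)).op)
  obtain ⟨w', hw'⟩ := h1 w
  refine ⟨r _ (show (Opens.map f).obj A ≤ (Opens.map f).obj ⊤ from map_mono le_top) (ρ f F ⊤ w'), ?_⟩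
  have h2 : r F (le_top : B ⊓ U k ≤ ⊤) w' = w := hw'
  rw [← h2, ρ_r] at e
  have h3 := congrArg (r _ (map_le U f hr k B)) e
  rw [r_r, r_r, r_self] at h3
  rw [r_r]
  exact h3.symm

end Groth.Agent.CohtopB.ProOpen
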