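import Groth.Agent.CohtopB.EffComp
import Groth.Agent.CohtopB.H0Iso

/-!
# The shifting families given by sheaf cohomology

* `isShift_presheaf` : `F ↦ (U ↦ H^n(U, F))` is a shifting family (see `EffComp.IsShift`) with `G F = F`.
* `isShift_H` : `F ↦ H^n(C, L F)`, for `L` exact carrying injectives to acyclic sheaves.
-/

set_option autoImplicit false
universe v' u' u

open CategoryTheory TopologicalSpace Opposite CategoryTheory.Limits Abelian
open Groth.Agent.CohtopB.EffComp Groth.Agent.CohtopB.H0Iso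

noncomputable section

namespace Groth.Agent.CohtopB.SheafShift

variable {C : Type u} [SmallCategory C] (J : GrothendieckTopology C)
  [HasSheafify J AddCommGrpCat.{u}] [HasExt.{u} (Sheaf J AddCommGrpCat.{u})]

theorem coh_eq (n : ℕ) : Sheaf.cohomologyPresheafFunctor.{u} J n =
    extFlip.{u} (yoneda ⋙ (Functor.whiskeringRight _ _ _).obj
      AddCommGrpCat.free ⋙ presheafToSheaf J AddCommGrpCat.{u}) n := rfl

theorem isShift_presheaf₀ : IsShift (Sheaf.cohomologyPresheafFunctor J 0)
    (fun n F => (Sheaf.cohomologyPresheafFunctor J n).obj F) := by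
  simp only [coh_eq]
  exact isShift_extFlip.{u} (yoneda ⋙ (Functor.whiskeringRight _ _ _).obj
      AddCommGrpCat.free ⋙ presheafToSheaf J AddCommGrpCat.{u})

theorem isShift_presheaf : IsShift (sheafToPresheaf J AddCommGrpCat.{u})
    (fun n F => (Sheaf.cohomologyPresheafFunctor J n).obj F) :=
  (isShift_presheaf₀ J).of_iso (h0Iso J) (fun _ _ => ⟨Iso.refl _⟩)

variable {J}

theorem isShift_H {A : Type u'} [Category.{v'} A] [Abelian A] (L : A ⥤ Sheaf J AddCommGrpCat.{u})
    [L.Additive] [PreservesFiniteLimits L] [PreservesFiniteColimits L] {T : C} (hT : IsTerminal T)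
    (hL : ∀ (I : A), Injective I → ∀ n, Subsingleton (Sheaf.H.{u} (L.obj I) (n + 1))) :
    IsShift (L ⋙ evF J T) (fun n F => AddCommGrpCat.of (Sheaf.H.{u} (L.obj F) n)) :=
  (isShift_ext ((constantSheaf J AddCommGrpCat.{u}).obj (AddCommGrpCat.of (ULift.{u} ℤ)))
    L hL).of_iso (Functor.isoWhiskerLeft L (h0TopIso J hT)) (fun _ _ => ⟨Iso.refl _⟩)

end Groth.Agent.CohtopB.SheafShift
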