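import Groth.Agent.CohtopB.PullColim
import Groth.Agent.CohtopB.SheafShift

/-!
# `H^n(X, f⁻¹F)` as a colimit of `H^n(U, F)`: the theorem

See `PullColim`.
-/

set_option autoImplicit false
universe u

open CategoryTheory TopologicalSpace Opposite CategoryTheory.Limits Abelian
open Groth.Agent.CohtopA.Sec Groth.Agent.CohtopB.TopPull Groth.Agent.CohtopB.PullSect
open Groth.Agent.CohtopB.EffComp Groth.Agent.CohtopA Groth.Agent.CohtopB.H0Iso
open Groth.Agent.CohtopB.PullColim Groth.Agent.CohtopB.SheafShift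

namespace Groth.Agent.CohtopB.PullColim2

/-- An isomorphism of abelian groups as an additive equivalence. -/
noncomputable def addEquivOfIso {A B : AddCommGrpCat.{u}} (e : A ≅ B) : A ≃+ B where
  toFun := e.hom
  invFun := e.inv
  left_inv x := ConcreteCategory.congr_hom e.hom_inv_id x
  right_inv x := ConcreteCategory.congr_hom e.inv_hom_id x
  map_add' := map_add e.hom.hom

variable {X Y : TopCat.{u}} (f : X ⟶ Y) {N : Type u} [SmallCategory N]
  (Q : N ⥤ (Opens Y)ᵒᵖ) (hQ : ∀ k, (⊤ : Opens X) ≤ (Opens.map f).obj (Q.obj k).unop)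
  [IsFiltered N]

/-- `F ↦ H^n(X, f⁻¹F)` shifts if `f⁻¹` carries injectives to acyclics. -/
theorem isShift_pull (f : X ⟶ Y)
    (ha : ∀ (I : CohTop.Ab Y), Injective I → ∀ n, Subsingleton
      (CohTop.H ((CohTop.pull f).obj I) (n + 1))) :
    IsShift (CohTop.pull f ⋙ evF (Opens.grothendieckTopology X) ⊤)
      (fun n F => AddCommGrpCat.of (CohTop.H ((CohTop.pull f).obj F) n)) :=
  isShift_H (CohTop.pull f) (isTerminalTop : IsTerminal (⊤ : Opens X)) ha

include hQ in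
/-- If `T` is a shifting family with `T 0 F = colim F(Q k)`, then `T n F ≃+ H^n(X, f⁻¹F)`. -/
theorem nonempty_addEquiv_of_isShift {T : ℕ → CohTop.Ab Y → AddCommGrpCat.{u}}
    (hT : IsShift (sheafToPresheaf (Opens.grothendieckTopology Y) AddCommGrpCat.{u} ⋙ colimQ Q) T)
    (hs : ∀ (F : CohTop.Ab Y) (t : Γs ((CohTop.pull f).obj F) ⊤),
      ∃ (k : N) (s : Γs F (Q.obj k).unop), r _ (hQ k) (ρ f F _ s) = t)
    (hi : ∀ (F : CohTop.Ab Y) (k : N) (s : Γs F (Q.obj k).unop),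
      r _ (hQ k) (ρ f F _ s) = 0 → ∃ (k' : N) (g : k ⟶ k'), F.obj.map (Q.map g) s = 0)
    (ha : ∀ (I : CohTop.Ab Y), Injective I → ∀ n, Subsingleton
      (CohTop.H ((CohTop.pull f).obj I) (n + 1)))
    (F : CohTop.Ab Y) (n : ℕ) :
    Nonempty (T n F ≃+ CohTop.H ((CohTop.pull f).obj F) n) := by
  have := isIso_comparison f Q hQ hs hi
  obtain ⟨e⟩ := hT.comparison (isShift_pull f ha) (asIso (comparison f Q hQ)) n F
  exact ⟨addEquivOfIso e⟩

include hQ in
/-- `colim H^n(Q k, F) ≃+ H^n(X, f⁻¹F)` -/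
theorem nonempty_colimit_addEquiv
    (hs : ∀ (F : CohTop.Ab Y) (t : Γs ((CohTop.pull f).obj F) ⊤),
      ∃ (k : N) (s : Γs F (Q.obj k).unop), r _ (hQ k) (ρ f F _ s) = t)
    (hi : ∀ (F : CohTop.Ab Y) (k : N) (s : Γs F (Q.obj k).unop),
      r _ (hQ k) (ρ f F _ s) = 0 → ∃ (k' : N) (g : k ⟶ k'), F.obj.map (Q.map g) s = 0)
    (ha : ∀ (I : CohTop.Ab Y), Injective I → ∀ n, Subsingleton
      (CohTop.H ((CohTop.pull f).obj I) (n + 1)))
    (F : CohTop.Ab Y) (n : ℕ) :
    Nonempty ((colimit (Q ⋙ (Sheaf.cohomologyPresheafFunctor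
      (Opens.grothendieckTopology Y) n).obj F) : AddCommGrpCat.{u}) ≃+
        CohTop.H ((CohTop.pull f).obj F) n) :=
  nonempty_addEquiv_of_isShift f Q hQ
    ((isShift_presheaf (Opens.grothendieckTopology Y)).comp (colimQ Q)) hs hi ha F n

end Groth.Agent.CohtopB.PullColim2
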