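import Groth.Agent.CohtopB.ProOpen
import Groth.Agent.CohtopB.PullColim2
import Groth.Agent.CohtopA.QFlasque

/-!
# Cohomology of a directed intersection of quasi-compact opens of a spectral space

`nonempty_addEquiv` : `colim H^n(Q k, F) ≃+ H^n(X, f⁻¹F)` (and the version for an arbitrary shifting family) where
`f : X ⟶ Y` is inducing with image the intersection of a directed family `U` of quasi-compact opens and
`Q : N ⥤ (Opens Y)ᵒᵖ` is cofinal with `U`.
-/

set_option autoImplicit false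
universe u

open CategoryTheory TopologicalSpace Opposite CategoryTheory.Limits Topology
open Groth.Agent.CohtopA.Sec Groth.Agent.CohtopB.TopPull Groth.Agent.CohtopB.PullSect
open Groth.Agent.CohtopB.SpecTop Groth.Agent.CohtopB.ProOpen Groth.Agent.CohtopB.EffComp
open Groth.Agent.CohtopB.PullColim Groth.Agent.CohtopB.PullColim2
open Groth.Agent.CohtopA.QFlasque

namespace Groth.Agent.CohtopB.ProOpen2

variable {X Y : TopCat.{u}} [CompactSpace Y] [QuasiSober Y] [PrespectralSpace Y]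
  [QuasiSeparatedSpace Y] {κ : Type*} [Nonempty κ] (U : κ → Opens Y)
  (hU : ∀ k, IsCompact (U k : Set Y)) (hdir : Directed (· ≥ ·) U)
  (f : X ⟶ Y) (hf : IsInducing f) (hr : Set.range f = ⋂ k, (U k : Set Y))

include hf hU hdir hr in
theorem exists_sect_top (F : CohTop.Ab Y) (t : Γs ((CohTop.pull f).obj F) ⊤) :
    ∃ (k : κ) (w : Γs F (U k)), ∀ (h : ⊤ ≤ (Opens.map f).obj (U k)), r _ h (ρ f F (U k) w) = t := by
  obtain ⟨k, w, e⟩ := exists_sect U hU hdir f hf hr F (A := ⊤) isCompact_univ t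
  have h1 : U k ≤ ⊤ ⊓ U k := le_inf le_top le_rfl
  refine ⟨k, r F h1 w, fun h => ?_⟩
  rw [ρ_r, ← e, r_r]
  exact (r_r (F := (CohTop.pull f).obj F) (U := ⊤) _ _ t).trans (r_self _ _)

include hU hdir hr in
theorem exists_zero_top (F : CohTop.Ab Y) (k : κ) (s : Γs F (U k))
    (h : ⊤ ≤ (Opens.map f).obj (U k)) (hs : r _ h (ρ f F (U k) s) = 0) :
    ∃ (k' : κ) (h : U k' ≤ U k), r F h s = 0 := by
  have h1 : ⊤ ⊓ U k ≤ U k := inf_le_right
  obtain ⟨k', h', e⟩ := exists_zero U hU hdir f hr F (A := ⊤) isCompact_univ k (r F h1 s) (by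
    have h2 : (Opens.map f).obj (⊤ ⊓ U k) ≤ ⊤ := le_top
    have := congrArg (r _ h2) hs
    rw [r_r, map_zero] at this
    rw [ρ_r]
    exact this)
  refine ⟨k', h', ?_⟩
  have h3 : U k' ≤ ⊤ ⊓ U k' := le_inf le_top le_rfl
  have := congrArg (r F h3) e
  rw [r_r, r_r, map_zero] at this
  exact this

include hf hU hdir hr in
theorem subsingleton_H (I : CohTop.Ab Y) (hI : Injective I) (n : ℕ) :
    Subsingleton (CohTop.H ((CohTop.pull f).obj I) (n + 1)) := by
  have h1 := compactSpace U hU hdir f hf hr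
  have h2 := prespectralSpace U hU hdir f hf hr
  have h3 := quasiSeparatedSpace U hU hdir f hf hr
  have h4 := Groth.Agent.CohtopA.Flasque.isFlasque_of_injective I
  refine subsingleton_H_succ _ ?_ n
  intro V W h hV hW
  exact surjective_of_flasque U hU hdir f hf hr I h hV hW

variable {N : Type u} [SmallCategory N] [IsFiltered N]
  (Q : N ⥤ (Opens Y)ᵒᵖ) (hQ : ∀ j, (⊤ : Opens X) ≤ (Opens.map f).obj (Q.obj j).unop)
  (hQU : ∀ k : κ, ∃ j : N, (Q.obj j).unop ≤ U k)
  (hUQ : ∀ j : N, ∃ k : κ, U k ≤ (Q.obj j).unop)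

include hf hU hdir hr hQ hQU hUQ in
/-- Any shifting family with `T 0 F = colim F(Q j)` is `H^n(X, f⁻¹F)`. -/
theorem nonempty_addEquiv {T : ℕ → CohTop.Ab Y → AddCommGrpCat.{u}}
    (hT : IsShift (sheafToPresheaf (Opens.grothendieckTopology Y) AddCommGrpCat.{u} ⋙ colimQ Q) T)
    (F : CohTop.Ab Y) (n : ℕ) :
    Nonempty (T n F ≃+ CohTop.H ((CohTop.pull f).obj F) n) := by
  refine nonempty_addEquiv_of_isShift f Q hQ hT ?_ ?_ ?_ F n
  · intro F t
    obtain ⟨k, w, hw⟩ := exists_sect_top U hU hdir f hf hr F t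
    obtain ⟨j, hj⟩ := hQU k
    refine ⟨j, r F hj w, ?_⟩
    have h : (⊤ : Opens X) ≤ (Opens.map f).obj (U k) := (hQ j).trans (map_mono hj)
    rw [ρ_r, r_r, ← hw h]
  · intro F j s hs
    obtain ⟨k, hk⟩ := hUQ j
    have h : (⊤ : Opens X) ≤ (Opens.map f).obj (U k) := by
      intro x _
      have : f x ∈ Set.range f := ⟨x, rfl⟩
      rw [hr] at this
      exact Set.mem_iInter.1 this k
    obtain ⟨k', h', e⟩ := exists_zero_top U hU hdir f hr F k (r F hk s) h (by
      rw [ρ_r, r_r, ← hs])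
    rw [r_r] at e
    obtain ⟨j₁, hj₁⟩ := hQU k'
    have hg : (Q.obj (IsFiltered.max j j₁)).unop ≤ U k' :=
      (leOfHom (Q.map (IsFiltered.rightToMax j j₁)).unop).trans hj₁
    refine ⟨IsFiltered.max j j₁, IsFiltered.leftToMax j j₁, ?_⟩
    have := congrArg (r F hg) e
    rw [r_r, map_zero] at this
    exact this
  · intro I hI n
    exact subsingleton_H U hU hdir f hf hr I hI n

end Groth.Agent.CohtopB.ProOpen2
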