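import Groth.Agent.Cohder.ProdExact
import Mathlib.Algebra.Homology.DerivedCategory.Fractions
import Mathlib.Algebra.Homology.DerivedCategory.HomologySequence

/-!
# Products in the derived category

Let `C` be an abelian category with exact products of shape `J`.  Then the localization functor
`DerivedCategory.Q` preserves products of shape `J`; in particular products of shape `J` exist in
`DerivedCategory C`.
-/

set_option autoImplicit false
universe w' w v u t

open CategoryTheory CategoryTheory.Limits DerivedCategory Pretriangulated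

namespace Groth.Agent.CohtopB.ProdDerived285

variable {C : Type u} [Category.{v} C] [Abelian C]

/-- A null-homotopic morphism factors through an acyclic complex. -/
theorem exists_factor_of_homotopy [HasDerivedCategory.{t} C] {F K : CochainComplex C ℤ} (f : F ⟶ K)
    (h : Homotopy f 0) :
    ∃ (A : CochainComplex C ℤ) (i : F ⟶ A) (p : A ⟶ K), i ≫ p = f ∧ IsZero (Q.obj A) := by
  refine ⟨CochainComplex.mappingCone (𝟙 F), CochainComplex.mappingCone.inr (𝟙 F),
    CochainComplex.mappingCone.desc (𝟙 F) (CochainComplex.HomComplex.Cochain.ofHomotopy h) f (by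
      simp), by simp, ?_⟩
  have h := mappingCone_triangle_distinguished (𝟙 F)
  exact Triangle.isZero₃_of_isIso₁ _ h (inferInstanceAs (IsIso (Q.map (𝟙 F))))

/-- If a morphism of complexes becomes zero in the derived category, then it becomes null-homotopic, hence
factors through an acyclic complex, after composing with a quasi-isomorphism. -/
theorem exists_postcomp_factor [HasDerivedCategory.{t} C] {F K : CochainComplex C ℤ} (f : F ⟶ K)
    (hf : Q.map f = 0) :
    ∃ (K' A : CochainComplex C ℤ) (s : K ⟶ K') (i : F ⟶ A) (p : A ⟶ K'), QuasiIso s ∧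
      f ≫ s = i ≫ p ∧ IsZero (Q.obj A) := by
  have h : Qh.map ((HomotopyCategory.quotient C (ComplexShape.up ℤ)).map f) =
      Qh.map ((HomotopyCategory.quotient C (ComplexShape.up ℤ)).map (0 : F ⟶ K)) := by
    have h1 := quotientCompQhIso_hom_naturality f
    have h2 := quotientCompQhIso_hom_naturality (0 : F ⟶ K)
    rw [← cancel_mono ((quotientCompQhIso C).hom.app K), h1, h2, hf, Functor.map_zero]
  rw [MorphismProperty.map_eq_iff_postcomp Qh
    (HomotopyCategory.quasiIso C (ComplexShape.up ℤ))] at h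
  obtain ⟨K', s, hs, fac⟩ := h
  obtain ⟨K', rfl⟩ := HomotopyCategory.quotient_obj_surjective K'
  obtain ⟨s, rfl⟩ := (HomotopyCategory.quotient _ _).map_surjective s
  rw [HomotopyCategory.quotient_map_mem_quasiIso_iff] at hs
  rw [← Functor.map_comp, ← Functor.map_comp, zero_comp] at fac
  obtain ⟨A, i, p, hip, hA⟩ := exists_factor_of_homotopy (f ≫ s) (HomotopyCategory.homotopyOfEq _ _ fac)
  exact ⟨K', A, s, i, p, hs, hip.symm, hA⟩

section Products

variable {J : Type w} [HasProductsOfShape J C] [HasExactLimitsOfShape (Discrete J) C]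

/-- A product of quasi-isomorphisms is a quasi-isomorphism. -/
theorem quasiIso_piMap {F G : J → CochainComplex C ℤ} (s : ∀ j, F j ⟶ G j)
    (hs : ∀ j, QuasiIso (s j)) : QuasiIso (Limits.Pi.map s) :=
  Cohder.ProdExact.quasiIso_of_isLimit_fan s hs (Pi.π F) (productIsProduct F) (Pi.π G)
    (productIsProduct G) _ (by simp)

variable [HasDerivedCategory.{t} C]

/-- A product of acyclic complexes is acyclic. -/
theorem isZero_Q_pi {A : J → CochainComplex C ℤ} (hA : ∀ j, IsZero (Q.obj (A j))) :
    IsZero (Q.obj (∏ᶜ A)) := by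
  obtain ⟨Z, hZ⟩ := HasZeroObject.zero (C := CochainComplex C ℤ)
  have h : QuasiIso (Limits.Pi.map fun j => (0 : A j ⟶ Z)) := by
    apply quasiIso_piMap
    intro j
    rw [← isIso_Q_map_iff_quasiIso]
    exact isIso_of_source_target_iso_zero _ (hA j).isoZero (Functor.map_isZero Q hZ).isoZero
  have h0 : IsZero (∏ᶜ fun _ : J => Z) := by
    rw [IsZero.iff_id_eq_zero]
    apply Pi.hom_ext
    intro j
    exact hZ.eq_of_tgt _ _
  rw [← isIso_Q_map_iff_quasiIso] at h
  exact (Functor.map_isZero Q h0).of_iso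
    (asIso (Q.map (Limits.Pi.map fun j => (0 : A j ⟶ Z))))

theorem hom_ext_Q_pi (F : J → CochainComplex C ℤ) {Y : DerivedCategory C}
    (φ ψ : Y ⟶ Q.obj (∏ᶜ F)) (h : ∀ j, φ ≫ Q.map (Pi.π F j) = ψ ≫ Q.map (Pi.π F j)) : φ = ψ := by
  obtain ⟨K, ⟨e⟩⟩ : ∃ K, Nonempty (Q.obj K ≅ Y) := ⟨_, ⟨Q.objObjPreimageIso Y⟩⟩
  suffices ∀ φ : Q.obj K ⟶ Q.obj (∏ᶜ F), (∀ j, φ ≫ Q.map (Pi.π F j) = 0) → φ = 0 by
    rw [← sub_eq_zero, ← cancel_epi e.hom, comp_zero]
    apply this
    intro j
    rw [Category.assoc, Preadditive.sub_comp, h j, sub_self, comp_zero]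
  intro φ hφ
  obtain ⟨K', s, hs, g, rfl⟩ := right_fac φ
  have hg : ∀ j, Q.map (g ≫ Pi.π F j) = 0 := by
    intro j
    have := hφ j
    rwa [Category.assoc, ← cancel_epi (Q.map s), ← Category.assoc, IsIso.hom_inv_id,
      Category.id_comp, comp_zero, ← Functor.map_comp] at this
  choose F' A t i p ht fac hA using fun j => exists_postcomp_factor _ (hg j)
  have hT := quasiIso_piMap t ht
  rw [← isIso_Q_map_iff_quasiIso] at hT
  have hfac : g ≫ Limits.Pi.map t = Limits.Pi.lift i ≫ Limits.Pi.map p := by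
    apply Pi.hom_ext
    intro j
    simp only [Category.assoc, Pi.map_π, Pi.lift_π_assoc]
    rw [← Category.assoc, fac]
  have hz : Q.map g ≫ Q.map (Limits.Pi.map t) = 0 := by
    rw [← Functor.map_comp, hfac, Functor.map_comp, (isZero_Q_pi hA).eq_of_tgt (Q.map _) 0,
      zero_comp]
  have : Q.map g = 0 := by
    rw [← cancel_mono (Q.map (Limits.Pi.map t)), hz, zero_comp]
  rw [this, comp_zero]

theorem exists_lift_Q_pi (F : J → CochainComplex C ℤ) {Y : DerivedCategory C}
    (f : ∀ j, Y ⟶ Q.obj (F j)) :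
    ∃ φ : Y ⟶ Q.obj (∏ᶜ F), ∀ j, φ ≫ Q.map (Pi.π F j) = f j := by
  obtain ⟨K, ⟨e⟩⟩ : ∃ K, Nonempty (Q.obj K ≅ Y) := ⟨_, ⟨Q.objObjPreimageIso Y⟩⟩
  choose F' g s hs fac using fun j => left_fac (e.hom ≫ f j)
  have hS : IsIso (Q.map (Limits.Pi.map s)) := by
    rw [isIso_Q_map_iff_quasiIso]
    exact quasiIso_piMap s (fun j => by rw [← isIso_Q_map_iff_quasiIso]; exact hs j)
  refine ⟨e.inv ≫ Q.map (Limits.Pi.lift g) ≫ inv (Q.map (Limits.Pi.map s)), fun j => ?_⟩
  have h1 : inv (Q.map (Limits.Pi.map s)) ≫ Q.map (Pi.π F j) =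
      Q.map (Pi.π F' j) ≫ inv (Q.map (s j)) := by
    rw [IsIso.inv_comp_eq, ← Category.assoc, IsIso.eq_comp_inv, ← Functor.map_comp,
      ← Functor.map_comp]
    simp
  rw [Category.assoc, Category.assoc, h1, ← Category.assoc (Q.map (Pi.lift g)),
    ← Functor.map_comp, Pi.lift_π, ← fac, e.inv_hom_id_assoc]

/-- `Q : CochainComplex C ℤ ⥤ DerivedCategory C` preserves exact products. -/
noncomputable def isLimitQFan (F : J → CochainComplex C ℤ) :
    IsLimit (Fan.mk (Q.obj (∏ᶜ F)) (fun j => Q.map (Pi.π F j))) :=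
  Fan.IsLimit.mk _ (fun s => (exists_lift_Q_pi F (fun j => s.proj j)).choose)
    (fun s => (exists_lift_Q_pi F (fun j => s.proj j)).choose_spec)
    (fun s _ hm => hom_ext_Q_pi F _ _ (fun j => (hm j).trans
      ((exists_lift_Q_pi F (fun j => s.proj j)).choose_spec j).symm))

/-- `DerivedCategory.Q` preserves exact products. -/
theorem preservesLimitsOfShape_Q : PreservesLimitsOfShape (Discrete J) (DerivedCategory.Q (C := C)) := by
  suffices h : ∀ (M : J → CochainComplex C ℤ), PreservesLimit
      (Discrete.functor M) (DerivedCategory.Q (C := C)) by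
    constructor
    intro K
    have := h (fun j => K.obj ⟨j⟩)
    exact preservesLimit_of_iso_diagram (K₁ := Discrete.functor
      (fun j => K.obj ⟨j⟩)) _ Discrete.natIsoFunctor.symm
  intro M
  exact preservesLimit_of_preserves_limit_cone (productIsProduct M)
    ((Limits.isLimitMapConeFanMkEquiv _ _ _).symm (isLimitQFan M))

instance hasProduct_derivedCategory (K : J → DerivedCategory C) : HasProduct K := by
  have e : ∀ j, Q.obj (Q.objPreimage (K j)) ≅ K j := fun j => Q.objObjPreimageIso (K j)
  have : HasProduct (fun j => Q.obj (Q.objPreimage (K j))) :=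
    ⟨⟨⟨_, isLimitQFan (fun j => Q.objPreimage (K j))⟩⟩⟩
  exact hasLimit_of_iso (F := Discrete.functor (fun j => Q.obj (Q.objPreimage (K j))))
    (G := Discrete.functor K) (Discrete.natIso fun j => e j.as)

instance hasProductsOfShape_derivedCategory : HasProductsOfShape J (DerivedCategory C) where
  has_limit _ := hasLimit_of_iso Discrete.natIsoFunctor.symm

end Products

end Groth.Agent.CohtopB.ProdDerived285
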