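import Mathlib.CategoryTheory.Triangulated.Pretriangulated
import Mathlib.CategoryTheory.Triangulated.TriangleShift
import Mathlib.CategoryTheory.Limits.Shapes.Products
import Groth.Prelude.Def_CohCx

/-!
# Maps into a derived limit

The Milnor sequence for maps from an object `P` of a pretriangulated category into the shifts of a
derived limit (`CohCx.IsRlimVia`), in the form of two statements: compatible families lift, and the
lift is unique when the `R^1 lim` of the system one degree below vanishes.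
-/

set_option autoImplicit false

universe w v' u' u

open CategoryTheory CategoryTheory.Limits CategoryTheory.Pretriangulated

namespace Groth.Agent.CohtopB.RlimHom

section Prod

variable {T : Type u'} [Category.{v'} T] {T' : Type*} [Category* T']

/-- A functor preserving the product `∏ᶜ K`: maps into `G (∏ᶜ K)` are determined by their projections. -/
lemma map_prod_hom_ext {ι : Type*} (K : ι → T) [HasProduct K] (G : T ⥤ T')
    [PreservesLimit (Discrete.functor K) G] {P : T'} {f g : P ⟶ G.obj (∏ᶜ K)}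
    (h : ∀ i, f ≫ G.map (Pi.π K i) = g ≫ G.map (Pi.π K i)) : f = g := by
  refine (isLimitOfPreserves G (limit.isLimit (Discrete.functor K))).hom_ext ?_
  rintro ⟨i⟩
  exact h i

/-- A functor preserving the product `∏ᶜ K`: maps into `G (∏ᶜ K)` can be constructed from projections. -/
lemma exists_map_prod_lift {ι : Type*} (K : ι → T) [HasProduct K] (G : T ⥤ T')
    [PreservesLimit (Discrete.functor K) G] {P : T'} (x : ∀ i, P ⟶ G.obj (K i)) :
    ∃ f : P ⟶ G.obj (∏ᶜ K), ∀ i, f ≫ G.map (Pi.π K i) = x i := by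
  let c : Cone (Discrete.functor K ⋙ G) :=
    { pt := P
      π := Discrete.natTrans (fun i => x i.as) }
  refine ⟨(isLimitOfPreserves G (limit.isLimit (Discrete.functor K))).lift c, fun i => ?_⟩
  exact (isLimitOfPreserves G (limit.isLimit (Discrete.functor K))).fac c ⟨i⟩

end Prod

variable {T : Type u'} [Category.{v'} T] [Preadditive T] [HasZeroObject T] [HasShift T ℤ]
  [∀ n : ℤ, (shiftFunctor T n).Additive] [Pretriangulated T]

/-- Exactness of `Hom(P, X⟦m⟧) ⟶ Hom(P, Y⟦m⟧) ⟶ Hom(P, Z⟦m⟧)` for a distinguished triangle. -/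
lemma coyoneda_shift_exact₂ {X Y Z : T} {f : X ⟶ Y} {g : Y ⟶ Z} {h : Z ⟶ X⟦(1 : ℤ)⟧}
    (hT : Triangle.mk f g h ∈ distTriang T) {P : T} {m : ℤ} (x : P ⟶ Y⟦m⟧)
    (hx : x ≫ (shiftFunctor T m).map g = 0) : ∃ y : P ⟶ X⟦m⟧, y ≫ (shiftFunctor T m).map f = x := by
  have hd := Triangle.shift_distinguished _ hT m
  have hx' : x ≫ (m.negOnePow • (shiftFunctor T m).map g) = 0 := by
    rw [Linear.comp_units_smul, hx, smul_zero]
  obtain ⟨y, hy⟩ := Triangle.coyoneda_exact₂ _ hd x hx'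
  change P ⟶ X⟦m⟧ at y
  change x = y ≫ (m.negOnePow • (shiftFunctor T m).map f) at hy
  refine ⟨m.negOnePow • y, ?_⟩
  rw [hy, Linear.comp_units_smul, Linear.units_smul_comp]

/-- The connecting map `Z⟦n⟧ ⟶ X⟦m⟧` (up to sign) for a distinguished triangle and `n + 1 = m`, with
the exactness it satisfies. -/
lemma coyoneda_shift_exact₁ {X Y Z : T} {f : X ⟶ Y} {g : Y ⟶ Z} {h : Z ⟶ X⟦(1 : ℤ)⟧}
    (hT : Triangle.mk f g h ∈ distTriang T) (n m : ℤ) (hn : n + 1 = m) :
    ∃ δ : Z⟦n⟧ ⟶ X⟦m⟧, (shiftFunctor T n).map g ≫ δ = 0 ∧ δ ≫ (shiftFunctor T m).map f = 0 ∧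
      (∀ {P : T} (y : P ⟶ X⟦m⟧), y ≫ (shiftFunctor T m).map f = 0 → ∃ z : P ⟶ Z⟦n⟧, z ≫ δ = y) ∧
      (∀ {P : T} (z : P ⟶ Z⟦n⟧), z ≫ δ = 0 → ∃ x : P ⟶ Y⟦n⟧, x ≫ (shiftFunctor T n).map g = z) := by
  have hd := Triangle.shift_distinguished _ hT n
  let e := shiftFunctorAdd' T n 1 m (by omega)
  let T' := (shiftFunctor (Triangle T) n).obj (Triangle.mk f g h)
  let d : Z⟦n⟧ ⟶ (X⟦n⟧)⟦(1 : ℤ)⟧ := T'.mor₃
  have h23 : (n.negOnePow • (shiftFunctor T n).map g) ≫ d = 0 := comp_distTriang_mor_zero₂₃ _ hd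
  have h31 : d ≫ (shiftFunctor T (1 : ℤ)).map (n.negOnePow • (shiftFunctor T n).map f) = 0 :=
    comp_distTriang_mor_zero₃₁ _ hd
  rw [Linear.units_smul_comp, smul_eq_zero_iff_eq] at h23
  rw [Functor.map_units_smul, Linear.comp_units_smul, smul_eq_zero_iff_eq] at h31
  have hnat : (shiftFunctor T m).map f ≫ e.hom.app Y = e.hom.app X ≫
    (shiftFunctor T (1 : ℤ)).map ((shiftFunctor T n).map f) := e.hom.naturality f
  refine ⟨d ≫ e.inv.app X, ?_, ?_, ?_, ?_⟩
  · rw [reassoc_of% h23, zero_comp]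
  · rw [← cancel_mono (e.hom.app Y), Category.assoc, Category.assoc, hnat, zero_comp]
    erw [e.inv_hom_id_app_assoc]
    exact h31
  · intro P y hy
    have hy' : (y ≫ e.hom.app X) ≫
        (shiftFunctor T (1 : ℤ)).map (n.negOnePow • (shiftFunctor T n).map f) = 0 := by
      rw [Functor.map_units_smul, Linear.comp_units_smul, Category.assoc, ← hnat,
        reassoc_of% hy, zero_comp, smul_zero]
    obtain ⟨z, hz⟩ := Triangle.coyoneda_exact₁ _ hd (y ≫ e.hom.app X) hy'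
    change P ⟶ Z⟦n⟧ at z
    change y ≫ e.hom.app X = z ≫ d at hz
    refine ⟨z, ?_⟩
    rw [← Category.assoc, ← hz, Category.assoc]
    simp
  · intro P z hz
    have hz' : z ≫ d = 0 := by
      rw [← cancel_mono (e.inv.app X), Category.assoc, hz, zero_comp]
    obtain ⟨x, hx⟩ := Triangle.coyoneda_exact₃ _ hd z hz'
    change P ⟶ Y⟦n⟧ at x
    change z = x ≫ (n.negOnePow • (shiftFunctor T n).map g) at hx
    refine ⟨n.negOnePow • x, ?_⟩
    rw [hx, Linear.comp_units_smul, Linear.units_smul_comp]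

/-- Compatible families of maps into the shifts `K n⟦m⟧` lift to the shift `L⟦m⟧` of a derived limit. -/
lemma exists_lift {K : ℕ → T} {t : ∀ n, K (n + 1) ⟶ K n} [HasProduct K] {L : T} {a : ∀ n, L ⟶ K n}
    (hL : CohCx.IsRlimVia K t L a) (P : T) (m : ℤ) (x : ∀ n, P ⟶ (K n)⟦m⟧)
    (hx : ∀ n, x (n + 1) ≫ (shiftFunctor T m).map (t n) = x n) :
    ∃ y : P ⟶ L⟦m⟧, ∀ n, y ≫ (shiftFunctor T m).map (a n) = x n := by
  obtain ⟨c, hc⟩ := hL
  obtain ⟨f, hf⟩ := exists_map_prod_lift K (shiftFunctor T m) x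
  obtain ⟨y, hy⟩ := coyoneda_shift_exact₂ hc f (by
    refine map_prod_hom_ext K (shiftFunctor T m) (fun n => ?_)
    rw [Category.assoc, ← Functor.map_comp, zero_comp, limit.lift_π]
    dsimp
    rw [Functor.map_sub, Preadditive.comp_sub, Functor.map_comp, ← Category.assoc, hf, hf, hx,
      sub_self])
  refine ⟨y, fun n => ?_⟩
  rw [← hf, ← hy, Category.assoc, ← Functor.map_comp, limit.lift_π]
  rfl

/-- Uniqueness of lifts to a derived limit when `R^1 lim` one degree below vanishes. -/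
lemma eq_zero_of_limOne {K : ℕ → T} {t : ∀ n, K (n + 1) ⟶ K n} [HasProduct K] {L : T}
    {a : ∀ n, L ⟶ K n} (hL : CohCx.IsRlimVia K t L a) (P : T) (m : ℤ)
    (h1 : ∀ x : ∀ n, P ⟶ (K n)⟦m - 1⟧, ∃ y : ∀ n, P ⟶ (K n)⟦m - 1⟧,
      ∀ n, y n - y (n + 1) ≫ (shiftFunctor T (m - 1)).map (t n) = x n)
    (y : P ⟶ L⟦m⟧) (hy : ∀ n, y ≫ (shiftFunctor T m).map (a n) = 0) : y = 0 := by
  obtain ⟨c, hc⟩ := hL
  obtain ⟨δ, hδ₁, -, hδ₃, -⟩ := coyoneda_shift_exact₁ hc (m - 1) m (by omega)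
  obtain ⟨g, rfl⟩ := hδ₃ y (by
    refine map_prod_hom_ext K (shiftFunctor T m) (fun n => ?_)
    rw [Category.assoc, ← Functor.map_comp, zero_comp, ← hy n, limit.lift_π]
    rfl)
  obtain ⟨z, hz⟩ := h1 (fun n => g ≫ (shiftFunctor T (m - 1)).map (Pi.π K n))
  obtain ⟨f, hf⟩ := exists_map_prod_lift K (shiftFunctor T (m - 1)) z
  have hgf : g = f ≫ (shiftFunctor T (m - 1)).map
      (Pi.lift fun n => Pi.π K n - Pi.π K (n + 1) ≫ t n) := by
    refine map_prod_hom_ext K (shiftFunctor T (m - 1)) (fun n => ?_)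
    rw [← hz n, Category.assoc, ← Functor.map_comp, limit.lift_π]
    dsimp
    rw [Functor.map_sub, Preadditive.comp_sub, Functor.map_comp, ← Category.assoc, hf, hf]
  rw [hgf, Category.assoc, hδ₁, comp_zero]

end Groth.Agent.CohtopB.RlimHom
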