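import Groth.Agent.CohtopB.Detect
import Groth.Agent.CohtopB.AcycFamily
import Groth.Agent.CohtopB.DTrunc
import Groth.Agent.CohtopB.RlimHom

/-!
# Products of acyclic sheaves in the derived category

For a covering class `B` and a family of `B`-acyclic abelian sheaves `F i`, the product of the `F i` in the derived
category is the sheaf product `∏ F i`.
-/

set_option autoImplicit false

universe u v w

open CategoryTheory CategoryTheory.Limits Opposite DerivedCategory

namespace Groth.Agent.CohtopB.ProdSingle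

open SectHomology AcycFamily RlimHom

section general

variable {A : Type u} [Category.{v} A] [Abelian A] [HasDerivedCategory.{w} A]

/-- `Y ≅ Y⟦0⟧`. -/
noncomputable def e0 (Y : DerivedCategory A) : Y ≅ Y⟦(0 : ℤ)⟧ :=
  ((shiftFunctorZero (DerivedCategory A) ℤ).app Y).symm

lemma e0_nat {Y Z : DerivedCategory A} (φ : Y ⟶ Z) :
    (e0 Y).hom ≫ (shiftFunctor (DerivedCategory A) (0 : ℤ)).map φ = φ ≫ (e0 Z).hom :=
  ((shiftFunctorZero (DerivedCategory A) ℤ).inv.naturality φ).symm

/-- The map `X[0] ⟶ Y[0]⟦0⟧` attached to a map `X ⟶ Y`. -/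
noncomputable def single0 {X Y : A} (f : X ⟶ Y) :
    (singleFunctor A 0).obj X ⟶ ((singleFunctor A 0).obj Y)⟦(0 : ℤ)⟧ :=
  (singleFunctor A 0).map f ≫ (e0 _).hom

/-- Maps `X[0] ⟶ Y[0]⟦0⟧` come from maps `X ⟶ Y`. -/
lemma exists_eq_single0 {X Y : A} (z : (singleFunctor A 0).obj X ⟶ ((singleFunctor A 0).obj Y)⟦(0 : ℤ)⟧) :
    ∃ f : X ⟶ Y, z = single0 f := by
  obtain ⟨f, hf⟩ := (singleFunctor A 0).map_surjective (z ≫ (e0 _).inv)
  refine ⟨f, ?_⟩
  rw [single0, hf, Category.assoc, Iso.inv_hom_id, Category.comp_id]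

lemma single0_comp {X Y Z : A} (f : X ⟶ Y) (g : Y ⟶ Z) :
    single0 f ≫ (shiftFunctor (DerivedCategory A) (0 : ℤ)).map ((singleFunctor A 0).map g) =
    single0 (f ≫ g) := by
  rw [single0, Category.assoc, e0_nat, single0, Functor.map_comp, Category.assoc]

lemma single0_inj {X Y : A} {f g : X ⟶ Y} (h : single0 f = single0 g) : f = g := by
  apply (singleFunctor A 0).map_injective
  rwa [single0, single0, cancel_mono] at h

end general

variable {C : Type u} [SmallCategory C] {J : GrothendieckTopology C}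
  [HasDerivedCategory.{u} (Sheaf J AddCommGrpCat.{u})]

/-- Hypercohomology of an acyclic sheaf vanishes in nonzero degrees. -/
lemma hdu_single_eq_zero {B : Set C} {G : Sheaf J AddCommGrpCat.{u}} (hG : Acyc B G) {U : C} (hU : U ∈ B)
    {q : ℤ} (hq : q ≠ 0) (z : CohCx.HDU ((singleFunctor _ 0).obj G) q U) : z = 0 := by
  by_cases h : q < 0
  · exact DTrunc.hom_eq_zero_of_isGE _ _ 0 q h z
  · obtain ⟨k, rfl⟩ : ∃ k : ℕ, q = ((k + 1 : ℕ) : ℤ) := ⟨(q - 1).toNat, by omega⟩
    exact DTrunc.single_hom_eq_zero _ _ 0 _ (k + 1) (by simp)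
      (subsingleton_of_forall_eq 0 (hG U hU k)) z

variable {ι : Type v} [HasProductsOfShape ι (Sheaf J AddCommGrpCat.{u})] (F : ι → Sheaf J AddCommGrpCat.{u})
  [HasProduct fun i => (singleFunctor (Sheaf J AddCommGrpCat.{u}) 0).obj (F i)]

/-- The comparison map `(∏ F)[0] ⟶ ∏ (F i)[0]` in the derived category. -/
noncomputable def comparison :
    (singleFunctor (Sheaf J AddCommGrpCat.{u}) 0).obj (∏ᶜ F) ⟶
      ∏ᶜ fun i => (singleFunctor (Sheaf J AddCommGrpCat.{u}) 0).obj (F i) :=
  Pi.lift fun i => (singleFunctor _ 0).map (Pi.π F i)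

@[reassoc]
lemma comparison_π (i : ι) : comparison F ≫ Pi.π _ i = (singleFunctor _ 0).map (Pi.π F i) :=
  Pi.lift_π _ _

lemma comp_comparison_π {P : DerivedCategory (Sheaf J AddCommGrpCat.{u})} (q : ℤ) (i : ι)
    (x : P ⟶ (shiftFunctor _ q).obj ((singleFunctor (Sheaf J AddCommGrpCat.{u}) 0).obj (∏ᶜ F))) :
    (x ≫ (shiftFunctor _ q).map (comparison F)) ≫ (shiftFunctor _ q).map (Pi.π _ i) =
      x ≫ (shiftFunctor _ q).map ((singleFunctor _ 0).map (Pi.π F i)) := by
  rw [Category.assoc, ← Functor.map_comp, comparison_π]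

/-- For a family of `B`-acyclic sheaves, the sheaf product is the product in the derived category. -/
theorem isIso_comparison {B : Set C} (hB : IsCovering J B) (h : ∀ i, Acyc B (F i)) : IsIso (comparison F) := by
  refine Detect.isIso_of_bijective hB _ fun U hU q => ?_
  have hP := acyc_prod hB F h
  by_cases hq : q = 0
  · subst hq
    constructor
    · intro x y hxy
      obtain ⟨f, rfl⟩ := exists_eq_single0 x
      obtain ⟨g, rfl⟩ := exists_eq_single0 y
      have : f = g := by
        apply Limits.Pi.hom_ext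
        intro i
        have e := congrArg (· ≫ (shiftFunctor _ (0 : ℤ)).map (Pi.π _ i)) hxy
        dsimp only at e
        rw [comp_comparison_π, comp_comparison_π, single0_comp, single0_comp] at e
        exact single0_inj e
      rw [this]
    · intro z
      choose f hf using fun i => exists_eq_single0 (z ≫ (shiftFunctor _ (0 : ℤ)).map (Pi.π _ i))
      refine ⟨single0 (Pi.lift f), ?_⟩
      refine map_prod_hom_ext _ (shiftFunctor _ (0 : ℤ)) fun i => ?_
      dsimp only
      rw [comp_comparison_π, single0_comp, Pi.lift_π]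
      exact (hf i).symm
  · constructor
    · intro x y _
      rw [hdu_single_eq_zero hP hU hq x, hdu_single_eq_zero hP hU hq y]
    · intro z
      refine ⟨0, ?_⟩
      refine map_prod_hom_ext _ (shiftFunctor _ q) fun i => ?_
      rw [hdu_single_eq_zero (h i) hU hq (z ≫ (shiftFunctor _ q).map (Pi.π _ i))]
      simp

end Groth.Agent.CohtopB.ProdSingle
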