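import Groth.Agent.CohtopB.TopPull
import Groth.Agent.CohtopA.Sec

/-!
# Sections of the inverse image of an abelian sheaf

For `f : X ⟶ Y` and `F` on `Y`, `ρ f F U : F(U) →+ (f⁻¹F)(f⁻¹U)` is the unit of the adjunction.
* every section of `f⁻¹F` is locally of the form `ρ s` (`exists_local_rep`);
* if `ρ s` and `ρ s'` agree near `x` then `s` and `s'` agree near `f x` (`exists_eq_nhds`);
* `exists_glue` : gluing local representatives which are compatible on `Y`.
-/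

set_option autoImplicit false
universe u

open CategoryTheory TopologicalSpace Opposite CategoryTheory.Limits
open Groth.Agent.CohtopA.Sec Groth.Agent.CohtopB.TopPull

namespace Groth.Agent.CohtopB.PullSect

variable {X Y : TopCat.{u}} (f : X ⟶ Y)

/-- The map `F(U) → (f⁻¹F)(f⁻¹U)`. -/
noncomputable def ρ (F : CohTop.Ab Y) (U : Opens Y) :
    Γs F U →+ Γs ((CohTop.pull f).obj F) ((Opens.map f).obj U) :=
  (((adj f).unit.app F).hom.app (op U)).hom

variable {f}

theorem map_mono {U V : Opens Y} (h : V ≤ U) : (Opens.map f).obj V ≤ (Opens.map f).obj U :=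
  fun _ hx => h hx

theorem ρ_r (F : CohTop.Ab Y) {U V : Opens Y} (h : V ≤ U) (s : Γs F U) :
    ρ f F V (r F h s) = r ((CohTop.pull f).obj F) (map_mono h) (ρ f F U s) :=
  ConcreteCategory.congr_hom (((adj f).unit.app F).hom.naturality (homOfLE h).op) s

theorem ρ_m {F G : CohTop.Ab Y} (φ : F ⟶ G) (U : Opens Y) (s : Γs F U) :
    ρ f G U (m φ U s) = m ((CohTop.pull f).map φ) ((Opens.map f).obj U) (ρ f F U s) := by
  have h1 := (adj f).unit.naturality φ
  have h2 := congrArg (fun t => t.hom.app (op U)) h1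
  exact ConcreteCategory.congr_hom h2 s

/-- The germ of a section of an abelian sheaf, as an additive map. -/
noncomputable def gm (F : CohTop.Ab X) (U : Opens X) (x : X) (hx : x ∈ U) :
    Γs F U →+ ((stalkF x).obj F : AddCommGrpCat.{u}) :=
  (germ F U x hx).hom

theorem gm_r (F : CohTop.Ab X) {U V : Opens X} (h : V ≤ U) (x : X) (hx : x ∈ V) (s : Γs F U) :
    gm F V x hx (r F h s) = gm F U x (h hx) s :=
  TopCat.Presheaf.germ_res_apply (C := AddCommGrpCat.{u}) (X := X) F.obj (homOfLE h) x hx s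

theorem exists_gm_eq (F : CohTop.Ab X) (x : X) (t : ((stalkF x).obj F : AddCommGrpCat.{u})) :
    ∃ (U : Opens X) (hx : x ∈ U) (s : Γs F U), gm F U x hx s = t :=
  TopCat.Presheaf.exists_germ_eq (C := AddCommGrpCat.{u}) (X := X) F.obj t

theorem gm_eq (F : CohTop.Ab X) {U V : Opens X} (x : X) (hU : x ∈ U) (hV : x ∈ V) (s : Γs F U)
    (t : Γs F V) (h : gm F U x hU s = gm F V x hV t) :
    ∃ (W : Opens X) (h1 : W ≤ U) (h2 : W ≤ V), x ∈ W ∧ r F h1 s = r F h2 t := by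
  obtain ⟨W, hW, i1, i2, e⟩ :=
    TopCat.Presheaf.germ_eq (C := AddCommGrpCat.{u}) (X := X) F.obj x hU hV s t h
  exact ⟨W, leOfHom i1, leOfHom i2, hW, e⟩

theorem m_gm {F G : CohTop.Ab X} (φ : F ⟶ G) (U : Opens X) (x : X) (hx : x ∈ U) (s : Γs F U) :
    gm G U x hx (m φ U s) = ((stalkF x).map φ).hom (gm F U x hx s) :=
  (ConcreteCategory.congr_hom (germ_map φ U x hx) s).symm

variable (f) in
/-- the stalk comparison map `F_{f x} → (f⁻¹F)_x` -/
noncomputable def σ (x : X) (F : CohTop.Ab Y) :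
    ((stalkF (f x)).obj F : AddCommGrpCat.{u}) →+
      ((stalkF x).obj ((CohTop.pull f).obj F) : AddCommGrpCat.{u}) :=
  ((stalkComp f x).app F).hom

variable (f) in
theorem σ_bijective (x : X) (F : CohTop.Ab Y) : Function.Bijective (σ f x F) :=
  ConcreteCategory.bijective_of_isIso ((stalkComp f x).app F)

theorem σ_gm (F : CohTop.Ab Y) (U : Opens Y) (x : X) (hx : f x ∈ U) (s : Γs F U) :
    σ f x F (gm F U (f x) hx s) =
      gm ((CohTop.pull f).obj F) ((Opens.map f).obj U) x hx (ρ f F U s) :=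
  ConcreteCategory.congr_hom (germ_stalkComp f x F U hx) s

/-- Every section of `f⁻¹F` is locally the pullback of a section of `F`. -/
theorem exists_local_rep (F : CohTop.Ab Y) {V : Opens X} (t : Γs ((CohTop.pull f).obj F) V)
    (x : X) (hx : x ∈ V) :
    ∃ (U : Opens Y) (s : Γs F U) (W : Opens X) (h1 : W ≤ V) (h2 : W ≤ (Opens.map f).obj U),
      x ∈ W ∧ r _ h1 t = r _ h2 (ρ f F U s) := by
  obtain ⟨τ, hτ⟩ := (σ_bijective f x F).2 (gm _ V x hx t)
  obtain ⟨U, hU, s, rfl⟩ := exists_gm_eq F (f x) τ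
  rw [σ_gm] at hτ
  obtain ⟨W, h1, h2, hW, e⟩ := gm_eq _ x _ _ _ _ hτ.symm
  exact ⟨U, s, W, h1, h2, hW, e⟩

/-- If `ρ s` and `ρ s'` agree near `x` then `s` and `s'` agree near `f x`. -/
theorem exists_eq_nhds (F : CohTop.Ab Y) {U U' : Opens Y} (s : Γs F U) (s' : Γs F U') (x : X)
    {V : Opens X} (hV : V ≤ (Opens.map f).obj U) (hV' : V ≤ (Opens.map f).obj U') (hx : x ∈ V)
    (h : r _ hV (ρ f F U s) = r _ hV' (ρ f F U' s')) :
    ∃ (W : Opens Y) (h1 : W ≤ U) (h2 : W ≤ U'), f x ∈ W ∧ r F h1 s = r F h2 s' := by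
  refine gm_eq F (f x) (hV hx) (hV' hx) s s' ((σ_bijective f x F).1 ?_)
  rw [σ_gm F U x (hV hx) s, σ_gm F U' x (hV' hx) s', ← gm_r _ hV x hx, ← gm_r _ hV' x hx, h]

/-- The largest open on which two sections agree. -/
theorem exists_eq_locus (F : CohTop.Ab Y) {U U' : Opens Y} (s : Γs F U) (s' : Γs F U') :
    ∃ (E : Opens Y) (h1 : E ≤ U) (h2 : E ≤ U'), r F h1 s = r F h2 s' ∧
      ∀ (W : Opens Y) (h1 : W ≤ U) (h2 : W ≤ U'), r F h1 s = r F h2 s' → W ≤ E := by
  let E : Opens Y := sSup {W | ∃ (h1 : W ≤ U) (h2 : W ≤ U'), r F h1 s = r F h2 s'}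
  refine ⟨E, sSup_le fun W hW => hW.1, sSup_le fun W hW => hW.2.1, ?_,
    fun W h1 h2 h => le_sSup ⟨h1, h2, h⟩⟩
  refine sep _ _ fun x hx => ?_
  obtain ⟨W, ⟨h1, h2, h⟩, hxW⟩ := Opens.mem_sSup.1 hx
  refine ⟨W, le_sSup ⟨h1, h2, h⟩, hxW, ?_⟩
  rw [r_r, r_r]
  exact h

/-- If `ρ s` and `ρ s'` agree on `V` then `s` and `s'` agree on an open containing `f(V)`. -/
theorem exists_eq_of_ρ (F : CohTop.Ab Y) {U U' : Opens Y} (s : Γs F U) (s' : Γs F U')
    {V : Opens X} (hV : V ≤ (Opens.map f).obj U) (hV' : V ≤ (Opens.map f).obj U')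
    (h : r _ hV (ρ f F U s) = r _ hV' (ρ f F U' s')) :
    ∃ (W : Opens Y) (h1 : W ≤ U) (h2 : W ≤ U'), V ≤ (Opens.map f).obj W ∧
      r F h1 s = r F h2 s' := by
  obtain ⟨E, h1, h2, e, hE⟩ := exists_eq_locus F s s'
  refine ⟨E, h1, h2, fun x hx => ?_, e⟩
  obtain ⟨W, w1, w2, hxW, e⟩ := exists_eq_nhds F s s' x hV hV' hx h
  exact hE W w1 w2 e hxW

/-- Local representatives over opens of the target, for `f` inducing. -/
theorem exists_local_rep' (hf : Topology.IsInducing f) (F : CohTop.Ab Y) {V : Opens X}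
    (t : Γs ((CohTop.pull f).obj F) V) (x : X) (hx : x ∈ V) (N : Opens Y) (hN : f x ∈ N) :
    ∃ (U : Opens Y) (s : Γs F U) (h : (Opens.map f).obj U ≤ V), f x ∈ U ∧ U ≤ N ∧
      r _ h t = ρ f F U s := by
  obtain ⟨U, s, W, h1, h2, hW, e⟩ := exists_local_rep F t x hx
  obtain ⟨O, hO, hO'⟩ := hf.isOpen_iff.1 W.isOpen
  let O' : Opens Y := ⟨O, hO⟩ ⊓ U ⊓ N
  have hOW : (Opens.map f).obj O' ≤ W := by
    intro z hz
    have : z ∈ f ⁻¹' O := hz.1.1
    rw [hO'] at this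
    exact this
  refine ⟨O', r F (inf_le_left.trans inf_le_right) s, hOW.trans h1,
    ⟨⟨?_, h2 hW⟩, hN⟩, inf_le_right, ?_⟩
  · have : x ∈ (W : Set X) := hW
    rw [← hO'] at this
    exact this
  · rw [ρ_r]
    have := congrArg (r _ hOW) e
    rw [r_r, r_r] at this
    exact this

/-- Gluing of representatives: if `t` is a section of `f⁻¹F` over `V = f⁻¹(⋃ O i)`, with
representatives `s i` over `O i` compatible on the overlaps, then `t` comes from a section of `F`. -/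
theorem exists_glue (F : CohTop.Ab Y) {V : Opens X} (t : Γs ((CohTop.pull f).obj F) V)
    {ι : Type*} (O : ι → Opens Y) (s : ∀ i, Γs F (O i)) (hO : ∀ i, (Opens.map f).obj (O i) ≤ V)
    (ht : ∀ i, r _ (hO i) t = ρ f F (O i) (s i))
    (hs : ∀ i j, r F (inf_le_left : O i ⊓ O j ≤ O i) (s i) =
      r F (inf_le_right : O i ⊓ O j ≤ O j) (s j)) :
    ∃ (w : Γs F (iSup O)) (h : (Opens.map f).obj (iSup O) ≤ V),
      r _ h t = ρ f F (iSup O) w ∧ ∀ i, r F (le_iSup O i) w = s i := by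
  obtain ⟨w, hw⟩ := glue O s hs
  have h : (Opens.map f).obj (iSup O) ≤ V := by
    intro x hx
    obtain ⟨i, hi⟩ := Opens.mem_iSup.1 hx
    exact hO i hi
  refine ⟨w, h, ?_, hw⟩
  refine sep _ _ fun x hx => ?_
  obtain ⟨i, hi⟩ := Opens.mem_iSup.1 hx
  refine ⟨(Opens.map f).obj (O i), map_mono (le_iSup O i), hi, ?_⟩
  rw [r_r, ← ρ_r F (le_iSup O i), hw i]
  exact ht i

end Groth.Agent.CohtopB.PullSect
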