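import Groth.Agent.CohtopB.EffComp
import Groth.Agent.CohtopB.PullSect
import Groth.Agent.CohtopB.H0Iso
import Groth.Agent.CohtopA.FiltColim

/-!
# `H^n(X, f⁻¹F)` as a colimit of `H^n(U, F)`

Let `f : X ⟶ Y` be a map of spaces and `Q : N ⥤ (Opens Y)ᵒᵖ` a filtered system of opens containing the
image of `f`.  If `colim F(Q k) → (f⁻¹F)(⊤)` is bijective for all `F` and `f⁻¹I` is acyclic for `I`
injective, then `colim H^n(Q k, F) ≃+ H^n(X, f⁻¹F)` (`nonempty_colimit_addEquiv`).
-/

set_option autoImplicit false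
universe u

open CategoryTheory TopologicalSpace Opposite CategoryTheory.Limits Abelian
open Groth.Agent.CohtopA.Sec Groth.Agent.CohtopB.TopPull Groth.Agent.CohtopB.PullSect
open Groth.Agent.CohtopB.EffComp Groth.Agent.CohtopA Groth.Agent.CohtopB.H0Iso

namespace Groth.Agent.CohtopB.PullColim

variable {X Y : TopCat.{u}} (f : X ⟶ Y) {N : Type u} [SmallCategory N]
  (Q : N ⥤ (Opens Y)ᵒᵖ) (hQ : ∀ k, (⊤ : Opens X) ≤ (Opens.map f).obj (Q.obj k).unop)

/-- The cocone `F(Q k) → (f⁻¹F)(⊤)`. -/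
noncomputable def cocone (F : CohTop.Ab Y) : Cocone (Q ⋙ F.obj) where
  pt := ((CohTop.pull f).obj F).obj.obj (op ⊤)
  ι :=
    { app := fun k => AddCommGrpCat.ofHom
        ((r ((CohTop.pull f).obj F) (hQ k)).comp (ρ f F (Q.obj k).unop))
      naturality := fun k k' g => by
        ext s
        have h := ρ_r (f := f) F (leOfHom (Q.map g).unop) s
        change r ((CohTop.pull f).obj F) (hQ k') (ρ f F (Q.obj k').unop
          (r F (leOfHom (Q.map g).unop) s)) = r ((CohTop.pull f).obj F) (hQ k) (ρ f F _ s)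
        rw [h, r_r] }

/-- restriction to `Q` followed by the colimit -/
noncomputable abbrev colimQ : ((Opens Y)ᵒᵖ ⥤ AddCommGrpCat.{u}) ⥤ AddCommGrpCat.{u} :=
  (Functor.whiskeringLeft N (Opens Y)ᵒᵖ AddCommGrpCat.{u}).obj Q ⋙ colim

/-- The comparison transformation `colim F(Q k) → (f⁻¹F)(⊤)`. -/
noncomputable def comparison :
    sheafToPresheaf (Opens.grothendieckTopology Y) AddCommGrpCat.{u} ⋙ colimQ Q ⟶
    CohTop.pull f ⋙ evF (Opens.grothendieckTopology X) ⊤ where
  app F := colimit.desc (Q ⋙ F.obj) (cocone f Q hQ F)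
  naturality F G φ := by
    refine colimit.hom_ext (fun k => ?_)
    change colimit.ι (Q ⋙ F.obj) k ≫ colimMap (Functor.whiskerLeft Q φ.hom) ≫
      colimit.desc (Q ⋙ G.obj) (cocone f Q hQ G) =
      colimit.ι (Q ⋙ F.obj) k ≫ colimit.desc (Q ⋙ F.obj) (cocone f Q hQ F) ≫ _
    rw [ι_colimMap_assoc, colimit.ι_desc]
    refine Eq.trans ?_ (colimit.ι_desc_assoc (cocone f Q hQ F) k
      ((CohTop.pull f ⋙ evF (Opens.grothendieckTopology X) ⊤).map φ)).symm
    refine AddCommGrpCat.hom_ext (AddMonoidHom.ext fun s => ?_)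
    have h1 := congrArg (r ((CohTop.pull f).obj G) (hQ k)) (ρ_m (f := f) φ (Q.obj k).unop s)
    rw [← m_r] at h1
    exact h1

instance additive_colimQ : (colimQ Q : ((Opens Y)ᵒᵖ ⥤ AddCommGrpCat.{u}) ⥤ _).Additive where
  map_add {P P' α β} := by
    refine colimit.hom_ext (fun k => ?_)
    change colimit.ι (Q ⋙ P) k ≫ colimMap (Functor.whiskerLeft Q (α + β)) =
      colimit.ι (Q ⋙ P) k ≫ (colimMap (Functor.whiskerLeft Q α) + colimMap (Functor.whiskerLeft Q β))
    rw [Preadditive.comp_add, ι_colimMap, ι_colimMap, ι_colimMap, ← Preadditive.add_comp]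
    rfl

instance preservesColimits_colimQ :
    PreservesFiniteColimits (colimQ Q : ((Opens Y)ᵒᵖ ⥤ AddCommGrpCat.{u}) ⥤ _) := by
  have : PreservesFiniteColimits
    ((Functor.whiskeringLeft N (Opens Y)ᵒᵖ AddCommGrpCat.{u}).obj Q) := inferInstance
  have : PreservesFiniteColimits (colim (J := N) (C := AddCommGrpCat.{u})) := inferInstance
  exact comp_preservesFiniteColimits _ _

variable [IsFiltered N]

include hQ in
theorem isIso_comparison
    (hs : ∀ (F : CohTop.Ab Y) (t : Γs ((CohTop.pull f).obj F) ⊤),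
      ∃ (k : N) (s : Γs F (Q.obj k).unop), r _ (hQ k) (ρ f F _ s) = t)
    (hi : ∀ (F : CohTop.Ab Y) (k : N) (s : Γs F (Q.obj k).unop),
      r _ (hQ k) (ρ f F _ s) = 0 → ∃ (k' : N) (g : k ⟶ k'), F.obj.map (Q.map g) s = 0) :
    IsIso (comparison f Q hQ) := by
  have : ∀ F, IsIso ((comparison f Q hQ).app F) := by
    intro F
    obtain ⟨hc⟩ := FiltColim.nonempty_isColimit_of_elements (cocone f Q hQ F) (hs F) (hi F)
    have : (comparison f Q hQ).app F =
      ((colimit.isColimit (Q ⋙ F.obj)).coconePointUniqueUpToIso hc).hom := by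
      refine colimit.hom_ext (fun k => ?_)
      refine (colimit.ι_desc _ _).trans ?_
      exact ((colimit.isColimit (Q ⋙ F.obj)).comp_coconePointUniqueUpToIso_hom hc k).symm
    rw [this]
    exact Iso.isIso_hom _
  exact NatIso.isIso_of_isIso_app _

end Groth.Agent.CohtopB.PullColim
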