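import Mathlib.Algebra.Homology.DerivedCategory.RightDerivedFunctorPlus

/-!
# Composition of right derived functors on bounded below derived categories
-/

set_option autoImplicit false
universe w₁ w₂ w₃ v₁ v₂ v₃ u₁ u₂ u₃
open CategoryTheory

namespace Groth.Agent.CohtopB.RDPComp

variable {C : Type u₁} {D : Type u₂} {E : Type u₃} [Category.{v₁} C] [Category.{v₂} D]
  [Category.{v₃} E] [Abelian C] [Abelian D] [Abelian E]
  [HasDerivedCategory.{w₁} C] [HasDerivedCategory.{w₂} D] [HasDerivedCategory.{w₃} E]
  (F : C ⥤ D) (G : D ⥤ E) (H : C ⥤ E) [F.Additive] [G.Additive] [H.Additive] (e : F ⋙ G ≅ H)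
  [EnoughInjectives C] [EnoughInjectives D]

/-- The unit for the composite of derived functors. -/
noncomputable def unitComp :
    H.mapHomotopyCategoryPlus ⋙ DerivedCategory.Plus.Qh ⟶
      DerivedCategory.Plus.Qh ⋙ (F.rightDerivedFunctorPlus ⋙ G.rightDerivedFunctorPlus) :=
  Functor.whiskerRight (Functor.mapHomotopyCategoryPlusCompIso e).inv DerivedCategory.Plus.Qh ≫
    (Functor.associator _ _ _).hom ≫
    Functor.whiskerLeft F.mapHomotopyCategoryPlus G.rightDerivedFunctorPlusUnit ≫
    (Functor.associator _ _ _).inv ≫
    Functor.whiskerRight F.rightDerivedFunctorPlusUnit G.rightDerivedFunctorPlus ≫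
    (Functor.associator _ _ _).hom

/-- If `F` sends injectives to injectives, then `RF ⋙ RG` is the right derived functor of `F ⋙ G`. -/
theorem isRightDerivedFunctor_comp (hF : ∀ I : C, Injective I → Injective (F.obj I)) :
    (F.rightDerivedFunctorPlus ⋙ G.rightDerivedFunctorPlus).IsRightDerivedFunctor
      (unitComp F G H e) (HomotopyCategory.Plus.quasiIso C) := by
  refine (HomotopyCategory.Plus.localizerMorphism_derives _).isRightDerivedFunctor_of_isIso _
    (fun X => ?_)
  have h1 : IsIso (G.rightDerivedFunctorPlusUnit.app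
      (F.mapHomotopyCategoryPlus.obj ((InjectiveObject.ι C).mapHomotopyCategoryPlus.obj X))) := by
    have : ∀ n : ℤ, Injective ((F.mapHomotopyCategoryPlus.obj
        ((InjectiveObject.ι C).mapHomotopyCategoryPlus.obj X)).obj.as.X n) := fun n =>
      hF _ (inferInstance : Injective
        (((InjectiveObject.ι C).mapHomotopyCategoryPlus.obj X).obj.as.X n))
    infer_instance
  have h2 : IsIso (F.rightDerivedFunctorPlusUnit.app
      ((InjectiveObject.ι C).mapHomotopyCategoryPlus.obj X)) := by
    infer_instance
  dsimp [unitComp]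
  infer_instance

include e in
/-- Composite of right derived functors on bounded below derived categories. -/
theorem nonempty_iso (hF : ∀ I : C, Injective I → Injective (F.obj I)) :
    Nonempty (F.rightDerivedFunctorPlus ⋙ G.rightDerivedFunctorPlus ≅
      H.rightDerivedFunctorPlus) := by
  have := isRightDerivedFunctor_comp F G H e hF
  exact ⟨Functor.rightDerivedUnique _ _ (unitComp F G H e) H.rightDerivedFunctorPlusUnit
    (HomotopyCategory.Plus.quasiIso C)⟩

end Groth.Agent.CohtopB.RDPComp
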