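import Groth.Agent.CohtopB.ExtRD
import Groth.Agent.CohtopA.FreeYo
import Mathlib.CategoryTheory.Abelian.GrothendieckCategory.HasExt
import Mathlib.CategoryTheory.Abelian.GrothendieckAxioms.Sheaf
import Mathlib.CategoryTheory.Sites.Continuous
import Mathlib.Algebra.Category.Grp.AB

/-!
# Higher direct images as sheafification of the cohomology presheaves, as functors

For a continuous functor `u : D ⥤ C` of sites and a family of objects `Z : C ⥤ Sheaf J Ab` with
`Hom(Z U, F) = F(U)` naturally, `rpushIso` is a natural isomorphism between `R^n u_*` and the functor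
`F ↦ (V ↦ Ext^n(Z (u V), F))^#`.
-/

set_option autoImplicit false
universe w v v' u u'

open CategoryTheory CategoryTheory.Limits CategoryTheory.Abelian Opposite

namespace Groth.Agent.CohtopB.RPushExt

open ExtRD

variable {C : Type w} [Category.{v} C] (J : GrothendieckTopology C)
  [HasSheafify J AddCommGrpCat.{w}]
  {D : Type u'} [Category.{v'} D] (K : GrothendieckTopology D) [HasSheafify K AddCommGrpCat.{w}]
  (u : D ⥤ C) [u.IsContinuous K J]

/-- Precomposition with `u` followed by sheafification. -/
noncomputable abbrev preSh : (Cᵒᵖ ⥤ AddCommGrpCat.{w}) ⥤ Sheaf K AddCommGrpCat.{w} :=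
  (Functor.whiskeringLeft Dᵒᵖ Cᵒᵖ AddCommGrpCat.{w}).obj u.op ⋙ presheafToSheaf K AddCommGrpCat.{w}

variable [HasExt.{w} (Sheaf J AddCommGrpCat.{w})] [EnoughInjectives (Sheaf J AddCommGrpCat.{w})]
  (Z : C ⥤ Sheaf J AddCommGrpCat.{w})

omit [HasExt.{w} (Sheaf J AddCommGrpCat.{w})] [EnoughInjectives (Sheaf J AddCommGrpCat.{w})] in
/-- The direct image in terms of `Hom(Z, -)`. -/
noncomputable def pushIso (e : homPre Z ≅ sheafToPresheaf J AddCommGrpCat.{w}) :
    homPre Z ⋙ preSh K u ≅ u.sheafPushforwardContinuous AddCommGrpCat.{w} K J :=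
  Functor.isoWhiskerRight e _ ≪≫
    (Functor.associator _ _ _).symm ≪≫
    Functor.isoWhiskerRight
      (u.sheafPushforwardContinuousCompSheafToPresheafIso AddCommGrpCat.{w} K J).symm _ ≪≫
    Functor.associator _ _ _ ≪≫
    Functor.isoWhiskerLeft _ (asIso (sheafificationAdjunction K AddCommGrpCat.{w}).counit) ≪≫
    Functor.rightUnitor _

/-- The `n`-th higher direct image of `F` is the sheaf associated to `V ↦ Ext^n(Z (u V), F)`,
naturally in `F`. -/
noncomputable def rpushIso [(u.sheafPushforwardContinuous AddCommGrpCat.{w} K J).Additive]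
    (e : homPre Z ≅ sheafToPresheaf J AddCommGrpCat.{w}) (n : ℕ) :
    (u.sheafPushforwardContinuous AddCommGrpCat.{w} K J).rightDerived n ≅
      extPre Z n ⋙ preSh K u :=
  compExact (pushIso J K u Z e) n ≪≫ Functor.isoWhiskerRight (extPreIso Z n) _

end Groth.Agent.CohtopB.RPushExt

namespace Groth.Agent.CohtopB.RPushExt

open ExtRD Groth.Agent.CohtopA.FreeYo

section small

variable {C : Type u} [SmallCategory C] (J : GrothendieckTopology C)

/-- `Hom(ℤ[U]^#, F) = F(U)`, naturally in `U` and `F`. -/
noncomputable def homPreFree : homPre (freeShF J) ≅ sheafToPresheaf J AddCommGrpCat.{u} :=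
  NatIso.ofComponents (fun F => NatIso.ofComponents
    (fun U => (homEquiv J U.unop F).toAddCommGrpIso) (fun {U V} f => by
      ext x
      exact homEquiv_precomp J f.unop (F := F) x)) (fun {F G} g => by
      ext U x
      rfl)

variable {D : Type u} [SmallCategory D] (K : GrothendieckTopology D)
  (u : D ⥤ C) [u.IsContinuous K J]

/-- The `n`-th higher direct image of `F` is the sheaf associated to `V ↦ H^n(u V, F)`,
naturally in `F`. -/
noncomputable def siteIso [(u.sheafPushforwardContinuous AddCommGrpCat.{u} K J).Additive] (n : ℕ) :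
    (u.sheafPushforwardContinuous AddCommGrpCat.{u} K J).rightDerived n ≅
      Sheaf.cohomologyPresheafFunctor.{u} J n ⋙ preSh K u :=
  rpushIso J K u (freeShF J) (homPreFree J) n

end small

end Groth.Agent.CohtopB.RPushExt
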