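import Groth.Prelude.Def_CohCx
import Groth.Agent.CohtopB.MVDerived
import Groth.Agent.CohtopA.Flasque
import Mathlib.Topology.Sheaves.MayerVietoris
import Mathlib.CategoryTheory.Abelian.CommSq

/-!
# The Mayer-Vietoris short exact sequence of push-forwards of an injective sheaf
-/

set_option autoImplicit false
universe u

open CategoryTheory CategoryTheory.Limits TopologicalSpace Opposite

noncomputable section

namespace Groth.Agent.CohtopB.RelMV

variable {X Y : TopCat.{u}} (f : X ⟶ Y) (U V : Opens X)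

lemma w : CohCx.pushToRestrPush f U ≫
      CohCx.restrPushToRestrPush f (inf_le_left : U ⊓ V ≤ U) =
    CohCx.pushToRestrPush f V ≫ CohCx.restrPushToRestrPush f (inf_le_right : U ⊓ V ≤ V) := by
  ext F : 4
  funext W
  change F.obj.map _ ≫ F.obj.map _ = F.obj.map _ ≫ F.obj.map _
  rw [← F.obj.map_comp, ← F.obj.map_comp]
  rfl

variable {U V} in
lemma isPullback (hUV : U ⊔ V = ⊤) (F : CohTop.Ab X) :
    IsPullback ((CohCx.pushToRestrPush f U).app F) ((CohCx.pushToRestrPush f V).app F)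
      ((CohCx.restrPushToRestrPush f (inf_le_left : U ⊓ V ≤ U)).app F)
      ((CohCx.restrPushToRestrPush f (inf_le_right : U ⊓ V ≤ V)).app F) := by
  have hw : (CohCx.pushToRestrPush f U).app F ≫
      (CohCx.restrPushToRestrPush f (inf_le_left : U ⊓ V ≤ U)).app F =
    (CohCx.pushToRestrPush f V).app F ≫
      (CohCx.restrPushToRestrPush f (inf_le_right : U ⊓ V ≤ V)).app F := by
    rw [← NatTrans.comp_app, ← NatTrans.comp_app, w]
  refine IsPullback.of_map (sheafToPresheaf _ _) hw ?_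
  refine IsPullback.of_forall_isPullback_app ?_
  intro W
  let sq : Square (Opens X) :=
    { X₄ := (Opens.map f).obj W.unop
      X₂ := (Opens.isOpenEmbedding U).functor.obj ((Opens.map (CohCx.incl U ≫ f)).obj W.unop)
      X₃ := (Opens.isOpenEmbedding V).functor.obj ((Opens.map (CohCx.incl V ≫ f)).obj W.unop)
      X₁ := (Opens.isOpenEmbedding (U ⊓ V)).functor.obj
        ((Opens.map (CohCx.incl (U ⊓ V) ≫ f)).obj W.unop)
      f₁₂ := homOfLE (by rintro _ ⟨x, hx, rfl⟩; exact ⟨⟨x.1, x.2.1⟩, hx, rfl⟩)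
      f₁₃ := homOfLE (by rintro _ ⟨x, hx, rfl⟩; exact ⟨⟨x.1, x.2.2⟩, hx, rfl⟩)
      f₂₄ := homOfLE (by rintro _ ⟨x, hx, rfl⟩; exact hx)
      f₃₄ := homOfLE (by rintro _ ⟨x, hx, rfl⟩; exact hx)
      fac := Subsingleton.elim _ _ }
  have h₄ : sq.X₄ = sq.X₂ ⊔ sq.X₃ := by
    ext x
    constructor
    · intro hx
      have : x ∈ U ⊔ V := by rw [hUV]; trivial
      rcases this with h | h
      · exact Or.inl ⟨⟨x, h⟩, hx, rfl⟩
      · exact Or.inr ⟨⟨x, h⟩, hx, rfl⟩
    · rintro (⟨x, hx, rfl⟩ | ⟨x, hx, rfl⟩)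
      · exact hx
      · exact hx
  have h₁ : sq.X₁ = sq.X₂ ⊓ sq.X₃ := by
    ext x
    constructor
    · rintro ⟨x, hx, rfl⟩
      exact ⟨⟨⟨x.1, x.2.1⟩, hx, rfl⟩, ⟨⟨x.1, x.2.2⟩, hx, rfl⟩⟩
    · rintro ⟨⟨x, hx, rfl⟩, ⟨y, hy, hxy⟩⟩
      have hxy' : y.1 = x.1 := hxy
      exact ⟨⟨x.1, x.2, hxy' ▸ y.2⟩, hx, rfl⟩
  have := (Opens.mayerVietorisSquare' sq h₄ h₁).sheafCondition_of_sheaf F
  exact this

lemma epi_restrPush {U V : Opens X} (h : V ≤ U) (F : CohTop.Ab X) [TopCat.Sheaf.IsFlasque F] :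
    Epi ((CohCx.restrPushToRestrPush f h).app F) := by
  have : Epi ((sheafToPresheaf _ _).map ((CohCx.restrPushToRestrPush f h).app F)) := by
    rw [NatTrans.epi_iff_epi_app]
    intro W
    exact TopCat.Presheaf.IsFlasque.epi (F := F.obj) _
  exact (sheafToPresheaf _ _).epi_of_epi_map this

lemma shortExact {U V : Opens X} (hUV : U ⊔ V = ⊤) (F : CohTop.Ab X) [Injective F] :
    (ShortComplex.mk _ _ (MVDerived.w_app _ _ _ _ (w f U V) F)).ShortExact := by
  have hp := isPullback f hUV F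
  have hf := hp.mono_shortComplex'_f
  have hfl := Groth.Agent.CohtopA.Flasque.isFlasque_of_injective F
  have he := epi_restrPush f (inf_le_left : U ⊓ V ≤ U) F
  refine { exact := hp.exact_shortComplex', mono_f := hf, epi_g := ?_ }
  exact epi_of_epi_fac (f := biprod.inl) (biprod.inl_desc _ _)

end Groth.Agent.CohtopB.RelMV
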