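import Mathlib.Algebra.Homology.Embedding.CochainComplex
import Mathlib.Algebra.Homology.QuasiIso
import Mathlib.Algebra.Homology.Homotopy
import Mathlib.CategoryTheory.Abelian.Basic
import Mathlib.Algebra.Homology.Augment

/-!
# A relative resolution of bounded below complexes

Given objects maps `η A : A ⟶ T A`, any bounded below complex `F` maps to a bounded below complex
`G` with terms of the form `T (P n)`, and for any additive functor preserving pushouts and for which the
images of the maps `η (P n)` are split, the image of `F ⟶ G` is a homotopy equivalence.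
-/

set_option autoImplicit false
universe v u v' u'
open CategoryTheory CategoryTheory.Limits

namespace Groth.Agent.CohtopB.RelRes

section IntRec

variable {S : ℤ → Type u} (a : ℤ) (s0 : ∀ n, S n) (nxt : ∀ n, S n → S (n + 1))

/-- Recursion on `ℤ` from a starting point. -/
def intSeq (n : ℤ) : S n :=
  if _h : n < a then s0 n
  else cast (congrArg S (by omega : n - 1 + 1 = n)) (nxt (n - 1) (intSeq (n - 1)))
termination_by (n - a + 1).toNat
decreasing_by omega

theorem intSeq_lt (n : ℤ) (h : n < a) : intSeq a s0 nxt n = s0 n := by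
  rw [intSeq, dif_pos h]

theorem intSeq_succ (n : ℤ) (h : a ≤ n + 1) :
    intSeq a s0 nxt (n + 1) = nxt n (intSeq a s0 nxt n) := by
  rw [intSeq, dif_neg (by omega)]
  have : ∀ (m : ℤ) (hm : m = n) (h' : S (m + 1) = S (n + 1)),
      cast h' (nxt m (intSeq a s0 nxt m)) = nxt n (intSeq a s0 nxt n) := by
    rintro m rfl _
    rfl
  exact this _ (by omega) _

include a s0 in
/-- Recursion on `ℤ` from a starting point, existence form. -/
theorem exists_int_rec (R : ∀ n, S n → S (n + 1) → Prop)
    (h0 : ∀ n, n + 1 < a → R n (s0 n) (s0 (n + 1)))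
    (h1 : ∀ n (s : S n), ∃ s', R n s s') :
    ∃ s : ∀ n, S n, (∀ n, R n (s n) (s (n + 1))) ∧ ∀ n < a, s n = s0 n := by
  choose nxt hnxt using h1
  refine ⟨intSeq a s0 nxt, fun n => ?_, fun n hn => intSeq_lt a s0 nxt n hn⟩
  by_cases h : n + 1 < a
  · rw [intSeq_lt a s0 nxt (n + 1) h, intSeq_lt a s0 nxt n (by omega)]
    exact h0 n h
  · rw [intSeq_succ a s0 nxt n (by omega)]
    exact hnxt _ _

end IntRec

variable {A : Type u} [Category.{v} A] [Preadditive A] [HasZeroObject A] [HasPushouts A]
  (T : A → A) (η : ∀ X : A, X ⟶ T X) (F : CochainComplex A ℤ)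

/-- The data at a stage of the construction. -/
structure State (n : ℤ) where
  /-- the object -/
  P : A
  /-- the map from the term of the complex -/
  u : F.X n ⟶ P
  /-- the map to the next term of the complex -/
  e : P ⟶ F.X (n + 1)
  ue : u ≫ e = F.d n (n + 1)
  ed : e ≫ F.d (n + 1) (n + 1 + 1) = 0

/-- The relation between two successive stages. -/
def IsStep (n : ℤ) (s : State F n) (s' : State F (n + 1)) : Prop :=
  ∃ v : T s.P ⟶ s'.P, IsPushout s.e (η s.P) s'.u v ∧ v ≫ s'.e = 0

theorem exists_step (n : ℤ) (s : State F n) : ∃ s', IsStep T η F n s s' := by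
  refine ⟨{ P := pushout s.e (η s.P)
            u := pushout.inl _ _
            e := pushout.desc (F.d (n + 1) (n + 1 + 1)) 0 (by rw [s.ed, comp_zero])
            ue := pushout.inl_desc _ _ _
            ed := by
              apply pushout.hom_ext
              · rw [pushout.inl_desc_assoc, HomologicalComplex.d_comp_d, comp_zero]
              · rw [pushout.inr_desc_assoc, zero_comp, comp_zero] }, pushout.inr _ _,
            IsPushout.of_hasPushout _ _, pushout.inr_desc _ _ _⟩

/-- The trivial state. -/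
def trivState (n : ℤ) (Z : A) (h : IsZero (F.X n)) : State F n where
  P := Z
  u := 0
  e := 0
  ue := h.eq_of_src _ _
  ed := by simp

theorem isPushout_of_isZero {X Y Z W : A} (f : X ⟶ Y) (g : X ⟶ Z) (h : Y ⟶ W) (k : Z ⟶ W)
    (hX : IsZero X) (hY : IsZero Y) (hZ : IsZero Z) (hW : IsZero W) : IsPushout f g h k := by
  refine ⟨⟨hX.eq_of_src _ _⟩, ⟨PushoutCocone.IsColimit.mk _ (fun s => 0) ?_ ?_ ?_⟩⟩
  · intro s
    exact hY.eq_of_src _ _
  · intro s
    exact hZ.eq_of_src _ _
  · intro s m _ _
    exact hW.eq_of_src _ _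

open ZeroObject in
open scoped Classical in
/-- Existence of a sequence of states. -/
theorem exists_states (hT : ∀ X, IsZero X → IsZero (T X)) (a : ℤ)
    (hF : ∀ n < a, IsZero (F.X n)) :
    ∃ s : ∀ n, State F n, (∀ n, IsStep T η F n (s n) (s (n + 1))) ∧ ∀ n < a, IsZero (s n).P := by
  let s0 : ∀ n, State F n := fun n => if h : IsZero (F.X n) then trivState F n 0 h else
    { P := F.X n
      u := 𝟙 _
      e := F.d n (n + 1)
      ue := by simp
      ed := by simp }
  have hs0 : ∀ n < a, IsZero (s0 n).P := fun n hn => by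
    have : s0 n = trivState F n 0 (hF n hn) := dif_pos (hF n hn)
    rw [this]
    exact isZero_zero _
  obtain ⟨s, hs, hs'⟩ := exists_int_rec a s0 (IsStep T η F)
    (fun n hn => ⟨0, isPushout_of_isZero _ _ _ _ (hs0 n (by omega))
      (hF _ hn) (hT _ (hs0 n (by omega))) (hs0 _ hn),
      by simp⟩) (exists_step T η F)
  exact ⟨s, hs, fun n hn => by rw [hs' n hn]; exact hs0 n hn⟩

/-- The resolution data. -/
structure ResData where
  P : ℤ → A
  u : ∀ n, F.X n ⟶ P n
  e : ∀ n, P n ⟶ F.X (n + 1)
  v : ∀ n, T (P n) ⟶ P (n + 1)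
  ue : ∀ n, u n ≫ e n = F.d n (n + 1)
  ve : ∀ n, v n ≫ e (n + 1) = 0
  sq : ∀ n, IsPushout (e n) (η (P n)) (u (n + 1)) (v n)

theorem exists_resData (hT : ∀ X, IsZero X → IsZero (T X)) (a : ℤ)
    (hF : ∀ n < a, IsZero (F.X n)) :
    ∃ D : ResData T η F, ∀ n < a, IsZero (D.P n) := by
  obtain ⟨s, hs, hs'⟩ := exists_states T η F hT a hF
  choose v hv using hs
  exact ⟨{ P := fun n => (s n).P, u := fun n => (s n).u, e := fun n => (s n).e, v := v,
           ue := fun n => (s n).ue, ve := fun n => (hv n).2, sq := fun n => (hv n).1 }, hs'⟩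

namespace ResData

variable {T η F} (D : ResData T η F)

omit [HasZeroObject A] [HasPushouts A]

theorem v_η_v (n : ℤ) :
    (D.v n ≫ η (D.P (n + 1))) ≫ (D.v (n + 1) ≫ η (D.P (n + 1 + 1))) = 0 := by
  have h1 := (D.sq (n + 1)).w
  have h2 := D.ve n
  rw [Category.assoc, ← reassoc_of% h1, reassoc_of% h2, zero_comp]

/-- The resolving complex. -/
noncomputable def G : CochainComplex A ℤ :=
  CochainComplex.of (fun n => T (D.P n)) (fun n => D.v n ≫ η (D.P (n + 1))) D.v_η_v

theorem G_X (n : ℤ) : D.G.X n = T (D.P n) := rfl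

theorem G_d (n : ℤ) : D.G.d n (n + 1) = (D.v n ≫ η (D.P (n + 1)) :) :=
  CochainComplex.of_d _ (fun n => D.v n ≫ η (D.P (n + 1))) n

theorem u_η_v (i : ℤ) :
    (D.u i ≫ η (D.P i)) ≫ (D.v i ≫ η (D.P (i + 1))) =
      F.d i (i + 1) ≫ (D.u (i + 1) ≫ η (D.P (i + 1))) := by
  have h1 := (D.sq i).w
  have h2 := D.ue i
  rw [Category.assoc, ← reassoc_of% h1, reassoc_of% h2]

/-- The morphism to the resolving complex. -/
noncomputable def φ : F ⟶ D.G where
  f n := (D.u n ≫ η (D.P n) :)
  comm' i j hij := by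
    obtain rfl : i + 1 = j := hij
    rw [G_d]
    exact D.u_η_v i

theorem φ_f (n : ℤ) : D.φ.f n = (D.u n ≫ η (D.P n) :) := rfl

end ResData

end Groth.Agent.CohtopB.RelRes
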