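import Groth.Agent.CohtopB.RelRes

/-!
# A relative resolution of bounded below complexes: the homotopy equivalence
-/

set_option autoImplicit false
universe v u v' u'
open CategoryTheory CategoryTheory.Limits

namespace Groth.Agent.CohtopB.RelRes

section

variable {B : Type u} [Category.{v} B] [Preadditive B] {F G : CochainComplex B ℤ} (φ : F ⟶ G)
  (P : ℤ → B) (x : ∀ n, F.X n ⟶ P n) (e : ∀ n, P n ⟶ F.X (n + 1))
  (η : ∀ n, P n ⟶ G.X n) (y : ∀ n, G.X n ⟶ P (n + 1)) (ρ : ∀ n, G.X n ⟶ P n)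

theorem exists_homotopyEquiv
    (hxe : ∀ n, x n ≫ e n = F.d n (n + 1)) (hye : ∀ n, y n ≫ e (n + 1) = 0)
    (sq : ∀ n, IsPushout (e n) (η n) (x (n + 1)) (y n))
    (hG : ∀ n, G.d n (n + 1) = y n ≫ η (n + 1))
    (hρ : ∀ n, η n ≫ ρ n = 𝟙 _)
    (hφ : ∀ n, φ.f n = x n ≫ η n) :
    ∃ E : HomotopyEquiv F G, E.hom = φ := by
  let y' : ∀ (m n : ℤ) (_ : m + 1 = n), G.X m ⟶ P n := fun m n h => by subst h; exact y m
  let e' : ∀ (m n : ℤ) (_ : m + 1 = n), P m ⟶ F.X n := fun m n h => by subst h; exact e m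
  have hed : ∀ n, e n ≫ F.d (n + 1) (n + 1 + 1) = 0 := fun n => by
    rw [← hxe (n + 1), reassoc_of% (sq n).w, hye, comp_zero]
  have H1 : ∀ n, ∃ ψ : P n ⟶ F.X n, x n ≫ ψ = 𝟙 _ ∧
      ∀ m (h : m + 1 = n), y' m n h ≫ ψ = ρ m ≫ e' m n h := by
    intro n
    obtain ⟨m, rfl⟩ : ∃ m, m + 1 = n := ⟨n - 1, by omega⟩
    refine ⟨(sq m).desc (𝟙 _) (ρ m ≫ e m) (by rw [Category.comp_id, reassoc_of% hρ m]),
      (sq m).inl_desc _ _ _, ?_⟩
    intro m' h
    obtain rfl : m' = m := by omega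
    exact (sq m').inr_desc _ _ _
  choose ψ hψ1 hψ2 using H1
  have hψ3 : ∀ n, ψ n ≫ F.d n (n + 1) = e n := by
    intro n
    obtain ⟨m, rfl⟩ : ∃ m, m + 1 = n := ⟨n - 1, by omega⟩
    refine (sq m).hom_ext ?_ ?_
    · rw [reassoc_of% hψ1 (m + 1), hxe]
    · have := hψ2 (m + 1) m rfl
      change y m ≫ ψ (m + 1) = ρ m ≫ e m at this
      rw [reassoc_of% this, hed, comp_zero, hye]
  have H2 : ∀ m n (h : m + 1 = n), ∃ σ : P n ⟶ G.X m, x n ≫ σ = 0 ∧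
      y' m n h ≫ σ = 𝟙 _ - ρ m ≫ η m := by
    rintro m n rfl
    refine ⟨(sq m).desc 0 (𝟙 _ - ρ m ≫ η m) ?_, (sq m).inl_desc _ _ _, (sq m).inr_desc _ _ _⟩
    rw [comp_zero, Preadditive.comp_sub, Category.comp_id, reassoc_of% hρ m, sub_self]
  choose σ hσ1 hσ2 using H2
  have K : ∀ m n (h : m + 1 = n), σ m n h ≫ y' m n h + ψ n ≫ x n = 𝟙 (P n) := by
    rintro m n rfl
    refine (sq m).hom_ext ?_ ?_
    · rw [Preadditive.comp_add, reassoc_of% hσ1 m (m + 1) rfl, reassoc_of% hψ1 (m + 1), zero_comp,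
        zero_add, Category.comp_id]
    · have h1 := hσ2 m (m + 1) rfl
      change y m ≫ σ m (m + 1) rfl = 𝟙 _ - ρ m ≫ η m at h1
      have h2 := hψ2 (m + 1) m rfl
      change y m ≫ ψ (m + 1) = ρ m ≫ e m at h2
      change y m ≫ (σ m (m + 1) rfl ≫ y m + ψ (m + 1) ≫ x (m + 1)) = y m ≫ 𝟙 _
      rw [Preadditive.comp_add, reassoc_of% h1, reassoc_of% h2, (sq m).w, Preadditive.sub_comp,
        Category.id_comp, Category.comp_id, Category.assoc, sub_add_cancel]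
  let r : G ⟶ F :=
    { f := fun n => ρ n ≫ ψ n
      comm' := by
        rintro n _ rfl
        have h2 := hψ2 (n + 1) n rfl
        change y n ≫ ψ (n + 1) = ρ n ≫ e n at h2
        rw [Category.assoc, hψ3, hG, Category.assoc, reassoc_of% hρ (n + 1), h2] }
  have hr : φ ≫ r = 𝟙 F := by
    ext n
    change φ.f n ≫ ρ n ≫ ψ n = 𝟙 _
    rw [hφ, Category.assoc, reassoc_of% hρ n, hψ1]
  let h : Homotopy (𝟙 G) (r ≫ φ) :=
    { hom := fun i j => if hij : j + 1 = i then ρ i ≫ σ j i hij else 0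
      zero := fun i j hij => dif_neg hij
      comm := by
        intro n
        obtain ⟨m, rfl⟩ : ∃ m, m + 1 = n := ⟨n - 1, by omega⟩
        rw [dNext_eq _ (show (ComplexShape.up ℤ).Rel (m + 1) (m + 1 + 1) from rfl),
          prevD_eq _ (show (ComplexShape.up ℤ).Rel m (m + 1) from rfl)]
        rw [dif_pos rfl, dif_pos rfl, hG, hG]
        have h1 := hσ2 (m + 1) (m + 1 + 1) rfl
        change y (m + 1) ≫ σ (m + 1) (m + 1 + 1) rfl = 𝟙 _ - ρ (m + 1) ≫ η (m + 1) at h1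
        have hK := K m (m + 1) rfl
        change σ m (m + 1) rfl ≫ y m + ψ (m + 1) ≫ x (m + 1) = 𝟙 (P (m + 1)) at hK
        change 𝟙 _ = (y (m + 1) ≫ η (m + 1 + 1)) ≫ ρ (m + 1 + 1) ≫ σ (m + 1) (m + 1 + 1) rfl +
          (ρ (m + 1) ≫ σ m (m + 1) rfl) ≫ y m ≫ η (m + 1) + (ρ (m + 1) ≫ ψ (m + 1)) ≫ φ.f (m + 1)
        have h3 : ρ (m + 1) ≫ η (m + 1) = (ρ (m + 1) ≫ σ m (m + 1) rfl) ≫ y m ≫ η (m + 1) +
            (ρ (m + 1) ≫ ψ (m + 1)) ≫ φ.f (m + 1) := by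
          rw [hφ]
          calc ρ (m + 1) ≫ η (m + 1) = ρ (m + 1) ≫ (σ m (m + 1) rfl ≫ y m +
              ψ (m + 1) ≫ x (m + 1)) ≫ η (m + 1) := by rw [hK, Category.id_comp]
            _ = _ := by
              simp only [Preadditive.add_comp, Preadditive.comp_add, Category.assoc]
        rw [add_assoc, ← h3, Category.assoc, reassoc_of% hρ (m + 1 + 1), h1, sub_add_cancel] }
  exact ⟨{ hom := φ, inv := r, homotopyHomInvId := Homotopy.ofEq hr,
           homotopyInvHomId := h.symm }, rfl⟩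

end

end Groth.Agent.CohtopB.RelRes
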