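import Groth.Prelude.Def_CohTop
import Groth.Agent.CohtopA.RestrCoh
import Groth.Agent.Sga4h.RDExact

/-!
# Higher direct images are local on the base
-/

set_option autoImplicit false
universe u

open CategoryTheory CategoryTheory.Limits Opposite TopologicalSpace

namespace Groth.Agent.CohtopB.RestrPush

variable {X Y : TopCat.{u}} (f : X ⟶ Y) (V : Opens Y)

/-- The restriction of `f` to `f⁻¹ V → V`. -/
abbrev g : TopCat.of ((Opens.map f).obj V) ⟶ TopCat.of V :=
  TopCat.ofHom ⟨(V : Set Y).restrictPreimage f, f.hom.continuous.restrictPreimage⟩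

lemma obj_eq (W : Opens (TopCat.of V)) :
    (Opens.map f).obj (V.isOpenEmbedding.functor.obj W) =
      ((Opens.map f).obj V).isOpenEmbedding.functor.obj ((Opens.map (g f V)).obj W) := by
  ext x
  constructor
  · rintro ⟨y, hy, hxy⟩
    have hx : f x ∈ V := by
      rw [← hxy]; exact y.2
    refine ⟨⟨x, hx⟩, ?_, rfl⟩
    have : (g f V) ⟨x, hx⟩ = y := Subtype.ext hxy.symm
    change (g f V) ⟨x, hx⟩ ∈ W
    rw [this]
    exact hy
  · rintro ⟨y, hy, rfl⟩
    exact ⟨(g f V) y, hy, rfl⟩

/-- Direct image commutes with restriction to opens. -/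
noncomputable def isoFunctor : CohTop.push f ⋙ CohTop.restrFunctor V ≅
    CohTop.restrFunctor ((Opens.map f).obj V) ⋙ CohTop.push (g f V) :=
  NatIso.ofComponents (fun F => (fullyFaithfulSheafToPresheaf _ _).preimageIso
    (NatIso.ofComponents (fun W => F.obj.mapIso (eqToIso (obj_eq f V W.unop)).op.symm)
      (fun {W W'} h => by
        change F.obj.map _ ≫ F.obj.map _ = F.obj.map _ ≫ F.obj.map _
        rw [← F.obj.map_comp, ← F.obj.map_comp]
        congr 1))) (fun {F G} h => by
      ext W : 3
      exact (h.hom.naturality _).symm)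

instance : (CohTop.push (g f V)).Additive := CohTop.instAdditiveAbPush _

instance : (CohTop.restrFunctor ((Opens.map f).obj V) ⋙ CohTop.push (g f V)).Additive :=
  inferInstance

/-- Stacks 01E5. -/
noncomputable def iso (p : ℕ) : CohTop.Rpush f p ⋙ CohTop.restrFunctor V ≅
    CohTop.restrFunctor ((Opens.map f).obj V) ⋙ CohTop.Rpush (g f V) p :=
  (Sga4h.RDExact.postIso (CohTop.push f) (CohTop.restrFunctor V) p).symm ≪≫
    Sga4h.RDExact.congrIso (isoFunctor f V) p ≪≫
    Sga4h.RDExact.preIso (CohTop.restrFunctor ((Opens.map f).obj V)) (CohTop.push (g f V))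
      (fun I _ => CohtopA.RestrCoh.injective_restr _ I) p

end Groth.Agent.CohtopB.RestrPush
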