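import Groth.Agent.CohtopB.RlimHom
import Groth.Agent.CohtopB.CanonMap

/-!
# Local injectivity statements for derived limits of sheaves

* `comp_t_eq`: the maps `a n` of a derived limit are compatible with the transition maps.
* `comp_transition_eq`: the same for the composite transition maps.
* `eq_zero_of_injective`: uniqueness part of the Milnor sequence together with eventual injectivity.
* `exists_cover_class`: a section of `H^m(L)` killed in `H^m(K')` comes locally from a class of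
  `H^m(W, L)` killed in `H^m(W, K')`.
-/

set_option autoImplicit false

universe w v' u' u

open CategoryTheory CategoryTheory.Limits CategoryTheory.Pretriangulated Opposite

namespace Groth.Agent.CohtopB.RlimLocal

section Triang

variable {T : Type u'} [Category.{v'} T] [Preadditive T] [HasZeroObject T] [HasShift T ℤ]
  [∀ n : ℤ, (shiftFunctor T n).Additive] [Pretriangulated T]

lemma comp_t_eq {K : ℕ → T} {t : ∀ n, K (n + 1) ⟶ K n} [HasProduct K] {L : T}
    {a : ∀ n, L ⟶ K n} (hL : CohCx.IsRlimVia K t L a) (n : ℕ) : a (n + 1) ≫ t n = a n := by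
  obtain ⟨c, hc⟩ := hL
  have h : Pi.lift a ≫ (Pi.lift fun n => Pi.π K n - Pi.π K (n + 1) ≫ t n) = 0 :=
    comp_distTriang_mor_zero₁₂ _ hc
  have h' := congr_arg (fun f => f ≫ Pi.π K n) h
  simp only [Category.assoc, zero_comp, limit.lift_π, Fan.mk_π_app, Preadditive.comp_sub,
    limit.lift_π_assoc, sub_eq_zero] at h'
  exact h'.symm

omit [HasZeroObject T] [∀ n : ℤ, (shiftFunctor T n).Additive] [Pretriangulated T] [HasShift T ℤ]
  [Preadditive T] in
lemma comp_transition_eq {K : ℕ → T} {t : ∀ n, K (n + 1) ⟶ K n} {L : T}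
    {a : ∀ n, L ⟶ K n} (ha : ∀ n, a (n + 1) ≫ t n = a n) (n k : ℕ) :
    a (n + k) ≫ CohCx.transition K t n k = a n := by
  induction k with
  | zero => exact Category.comp_id _
  | succ k ih =>
    change a (n + k + 1) ≫ t (n + k) ≫ CohCx.transition K t n k = a n
    rw [← Category.assoc, ha, ih]

/-- A class in `Hom(P, L⟦m⟧)` killed in `Hom(P, K N⟦m⟧)` is zero if the `R^1 lim` in degree `m - 1`
vanishes and the maps `Hom(P, K (N + k)⟦m⟧) ⟶ Hom(P, K N⟦m⟧)` are injective. -/
lemma eq_zero_of_injective {K : ℕ → T} {t : ∀ n, K (n + 1) ⟶ K n} [HasProduct K] {L : T}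
    {a : ∀ n, L ⟶ K n} (hL : CohCx.IsRlimVia K t L a) (P : T) (m : ℤ) (N : ℕ)
    (h1 : ∀ x : ∀ n, P ⟶ (K n)⟦m - 1⟧, ∃ y : ∀ n, P ⟶ (K n)⟦m - 1⟧,
      ∀ n, y n - y (n + 1) ≫ (shiftFunctor T (m - 1)).map (t n) = x n)
    (h2 : ∀ (k : ℕ) (z : P ⟶ (K (N + k))⟦m⟧),
      z ≫ (shiftFunctor T m).map (CohCx.transition K t N k) = 0 → z = 0)
    (y : P ⟶ L⟦m⟧) (hy : y ≫ (shiftFunctor T m).map (a N) = 0) : y = 0 := by
  have ha := comp_t_eq hL
  refine RlimHom.eq_zero_of_limOne hL P m h1 y (fun n => ?_)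
  rcases le_total N n with hn | hn
  · obtain ⟨k, rfl⟩ := Nat.exists_eq_add_of_le hn
    apply h2
    rw [Category.assoc, ← Functor.map_comp, comp_transition_eq ha, hy]
  · obtain ⟨k, rfl⟩ := Nat.exists_eq_add_of_le hn
    rw [← comp_transition_eq ha n k, Functor.map_comp, ← Category.assoc, hy, zero_comp]

end Triang

variable {C : Type u} [SmallCategory C] {J : GrothendieckTopology C}
  [HasDerivedCategory.{w} (Sheaf J AddCommGrpCat.{u})]

open CanonMap

omit [HasDerivedCategory.{w} (Sheaf J AddCommGrpCat.{u})] in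
/-- A section of an abelian sheaf vanishing on a covering is zero. -/
lemma section_eq_zero (F : Sheaf J AddCommGrpCat.{u}) {U : C} {T : Sieve U} (hT : T ∈ J U)
    (s : F.obj.obj (op U))
    (h : ∀ ⦃W : C⦄ (g : W ⟶ U), T.arrows g → (F.obj.map g.op).hom s = 0) : s = 0 := by
  have hsep := ((isSheaf_iff_isSheaf_of_type J _).1
    ((sheafCompose J (forget AddCommGrpCat.{u})).obj F).property).isSeparated
  refine (hsep T hT).ext (t₁ := s) (t₂ := (0 : F.obj.obj (op U))) ?_
  intro W g hg
  change (F.obj.map g.op).hom s = (F.obj.map g.op).hom 0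
  rw [h g hg, map_zero]

omit [HasDerivedCategory.{w} (Sheaf J AddCommGrpCat.{u})] in
/-- A section of an abelian sheaf vanishing on the members of a covering family is zero. -/
lemma section_eq_zero' (F : Sheaf J AddCommGrpCat.{u}) {U : C} {ι : Type u} {Y : ι → C}
    {f : ∀ i, Y i ⟶ U} (hY : Sieve.ofArrows Y f ∈ J U) (s : F.obj.obj (op U))
    (h : ∀ i, (F.obj.map (f i).op).hom s = 0) : s = 0 := by
  refine section_eq_zero F hY s ?_
  rintro W _ ⟨W', g', _, ⟨i⟩, rfl⟩
  rw [op_comp, Functor.map_comp]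
  change (F.obj.map g'.op).hom ((F.obj.map (f i).op).hom s) = 0
  rw [h, map_zero]

/-- A section of `H^m(L)` over `V` killed in `H^m(K)` comes, locally on `V`, from a class in
`H^m(W, L)` killed in `H^m(W, K)`. -/
lemma exists_cover_class {L K : DerivedCategory (Sheaf J AddCommGrpCat.{u})} (φ : L ⟶ K) (m : ℤ)
    {V : C} (s : (CohCx.HD L m).obj.obj (op V))
    (hs : (((DerivedCategory.homologyFunctor _ m).map φ).hom.app (op V)).hom s = 0) :
    ∃ T ∈ J V, ∀ ⦃W : C⦄ (g : W ⟶ V), T.arrows g →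
      ∃ x : CohCx.HDU L m W, cHD L m W x = ((CohCx.HD L m).obj.map g.op).hom s ∧
        x ≫ (shiftFunctor _ m).map φ = 0 := by
  obtain ⟨T, hT, h⟩ := cHD_locally_surjective L m s
  have key : ∀ ⦃W : C⦄ ⦃g : W ⟶ V⦄ (_ : T.arrows g), ∃ R ∈ J W, ∀ ⦃W' : C⦄ (g' : W' ⟶ W),
      R.arrows g' → ∃ x : CohCx.HDU L m W', cHD L m W' x =
        ((CohCx.HD L m).obj.map (g' ≫ g).op).hom s ∧ x ≫ (shiftFunctor _ m).map φ = 0 := by
    intro W g hg
    obtain ⟨x, hx⟩ := h g hg
    have h0 : cHD K m W (x ≫ (shiftFunctor _ m).map φ) = 0 := by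
      rw [cHD_comp, hx]
      have hnat := ConcreteCategory.congr_hom
        (((DerivedCategory.homologyFunctor (Sheaf J AddCommGrpCat.{u}) m).map φ).hom.naturality g.op) s
      refine hnat.trans ?_
      change ((CohCx.HD K m).obj.map g.op).hom
        ((((DerivedCategory.homologyFunctor _ m).map φ).hom.app (op V)).hom s) = 0
      rw [hs, map_zero]
    obtain ⟨R, hR, h'⟩ := cHD_locally_injective K m _ h0
    refine ⟨R, hR, fun W' g' hg' => ⟨CohCx.HDUres L m g' x, ?_, ?_⟩⟩
    · rw [cHD_res, hx, op_comp, Functor.map_comp]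
      rfl
    · have := h' g' hg'
      refine Eq.trans ?_ this
      exact Category.assoc _ _ _
  choose R hR h' using key
  refine ⟨Sieve.bind T.arrows (fun W g hg => R hg), J.bind_covering hT (fun W g hg => hR hg), ?_⟩
  rintro W' _ ⟨W, g', g, hg, hg', rfl⟩
  exact h' hg g' hg'

end Groth.Agent.CohtopB.RlimLocal
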