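import Groth.Agent.CohtopB.ProdDerived285
import Groth.Agent.CohtopA.DerProd
import Groth.Agent.Dcoh.DerHo
import Groth.Agent.Dcoh.RlimMap

/-!
# Total right derived functors preserve derived limits (Stacks 08U1)
-/

set_option autoImplicit false
universe w w' v v' u u' v₁ u₁ v₂ u₂ v₃ u₃

open CategoryTheory Limits DerivedCategory

namespace Groth.Agent.CohtopB.RlimRF285

section

variable {J : Type u₁} [Category.{v₁} J] {C : Type u₂} [Category.{v₂} C] {D : Type u₃}
  [Category.{v₃} D]

/-- Transfer of limit cones along a natural transformation which is an isomorphism at all the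
objects involved. -/
noncomputable def isLimitMapConeOfNatTrans {K : J ⥤ C} (c : Cone K) {G H : C ⥤ D} (β : G ⟶ H)
    (h₁ : IsIso (β.app c.pt)) (h₂ : ∀ j, IsIso (β.app (K.obj j)))
    (hG : IsLimit (G.mapCone c)) : IsLimit (H.mapCone c) := by
  have : IsIso (Functor.whiskerLeft K β) := by
    have : ∀ j, IsIso ((Functor.whiskerLeft K β).app j) := fun j ↦ h₂ j
    exact NatIso.isIso_of_isIso_app _
  refine (IsLimit.postcomposeInvEquiv (asIso (Functor.whiskerLeft K β)) (H.mapCone c)).toFun ?_
  refine IsLimit.ofIsoLimit hG (Cone.ext (asIso (β.app c.pt)) (fun j ↦ ?_))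
  change G.map (c.π.app j) = β.app c.pt ≫ H.map (c.π.app j) ≫
    (inv (Functor.whiskerLeft K β)).app j
  have h3 : (inv (Functor.whiskerLeft K β)).app j = inv (β.app (K.obj j)) := by
    rw [NatIso.isIso_inv_app]
    rfl
  rw [h3, ← Category.assoc, ← β.naturality, Category.assoc, IsIso.hom_inv_id, Category.comp_id]

end

section

variable {A : Type u} [Category.{v} A] [Abelian A] [IsGrothendieckAbelian.{v} A]

variable (A) in
lemma hasKInj : Dcoh.DerHo.HasKInj A := fun K => by
  obtain ⟨I, f, h₁, h₂, -, -⟩ := CohtopA.KInjRes2.exists_kInjective_resolution.{v} K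
  exact ⟨I, f, h₁, h₂⟩

variable [HasDerivedCategory.{w} A] {B : Type u'} [Category.{v'} B] [Abelian B]
  [HasDerivedCategory.{w'} B]
  (F : A ⥤ B) [F.Additive]

variable (J : Type) [HasProductsOfShape J A] [HasProductsOfShape J B]
  [HasExactLimitsOfShape (Discrete J) B] [PreservesLimitsOfShape (Discrete J) F]
  (R : DerivedCategory A ⥤ DerivedCategory B)
  (α : F.mapHomotopyCategory (ComplexShape.up ℤ) ⋙ Qh ⟶ Qh ⋙ R)
  [R.IsRightDerivedFunctor α (HomotopyCategory.quasiIso A (ComplexShape.up ℤ))]

/-- The natural transformation induced by `α` on complexes. -/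
noncomputable def β : F.mapHomologicalComplex (ComplexShape.up ℤ) ⋙ Q ⟶ Q ⋙ R :=
  Functor.whiskerLeft _ (quotientCompQhIso B).inv ≫
  Functor.whiskerRight (F.mapHomotopyCategoryFactors (ComplexShape.up ℤ)).inv Qh ≫
  Functor.whiskerLeft (HomotopyCategory.quotient A (ComplexShape.up ℤ)) α ≫
  Functor.whiskerRight (quotientCompQhIso A).hom R

lemma isIso_β (I : CochainComplex A ℤ) (hI : I.IsKInjective) : IsIso ((β F R α).app I) := by
  have := Dcoh.DerHo.isIso_unit_app' (hasKInj A) R α I hI
  dsimp [β]
  infer_instance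

include α in
/-- A right derived functor of a functor preserving products preserves products. -/
theorem preservesLimit (K : J → DerivedCategory A) : PreservesLimit (Discrete.functor K) R := by
  choose I hI e using fun j ↦ CohtopA.DerProd.exists_kInjective_iso.{w, v} (K j)
  obtain ⟨h⟩ := CohtopA.DerProd.nonempty_isLimit_Q_of_isKInjective
    (limit.isLimit (Discrete.functor I)) (fun ⟨j⟩ ↦ hI j)
  have := ProdDerived285.preservesLimitsOfShape_Q (C := B) (J := J)
  suffices h : PreservesLimit (Discrete.functor I ⋙ (Q : CochainComplex A ℤ ⥤ DerivedCategory A)) R from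
    preservesLimit_of_iso_diagram R (K₁ := Discrete.functor I ⋙ Q)
      (Discrete.natIso fun ⟨j⟩ ↦ (e j).some.symm)
  refine preservesLimit_of_preserves_limit_cone h ?_
  refine isLimitMapConeOfNatTrans (limit.cone (Discrete.functor I)) (β F R α) ?_ ?_
    (isLimitOfPreserves (F.mapHomologicalComplex (ComplexShape.up ℤ) ⋙ Q) (limit.isLimit _))
  · exact isIso_β F R α _ (CohtopA.DerProd.isKInjective_of_isLimit
      (fun _ ↦ isLimitOfPreserves _ (limit.isLimit _)) (fun ⟨j⟩ ↦ hI j))
  · rintro ⟨j⟩
    exact isIso_β F R α _ (hI j)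

end

end Groth.Agent.CohtopB.RlimRF285
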