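import Groth.Agent.CohtopB.ProdSingle
import Groth.Prelude.Def_DCoh2

/-!
# The limit of an acyclic inverse system of sheaves is a derived limit
-/

set_option autoImplicit false

universe u v w

open CategoryTheory CategoryTheory.Limits Opposite DerivedCategory

namespace Groth.Agent.CohtopB.RlimSingle

open SectHomology AcycFamily OpSeqHom ProdSingle

variable {C : Type u} [SmallCategory C] {J : GrothendieckTopology C}
  [HasDerivedCategory.{u} (Sheaf J AddCommGrpCat.{u})]
  (F : ℕ → Sheaf J AddCommGrpCat.{u}) (t : ∀ n, F (n + 1) ⟶ F n)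
  [HasProduct fun n => (singleFunctor (Sheaf J AddCommGrpCat.{u}) 0).obj (F n)]

lemma oneSubShift_comparison :
    (singleFunctor _ 0).map (oneSubShift F t) ≫ comparison F =
      comparison F ≫ oneSubShift (fun n => (singleFunctor (Sheaf J AddCommGrpCat.{u}) 0).obj (F n))
        (fun n => (singleFunctor _ 0).map (t n)) := by
  apply Limits.Pi.hom_ext
  intro n
  rw [Category.assoc, Category.assoc, comparison_π, oneSubShift_π, Preadditive.comp_sub, comparison_π,
    comparison_π_assoc, ← Functor.map_comp, ← Functor.map_comp, ← Functor.map_sub, oneSubShift_π]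

lemma limToPi_comparison :
    (singleFunctor _ 0).map (limToPi F t) ≫ comparison F =
      Pi.lift fun n => (singleFunctor (Sheaf J AddCommGrpCat.{u}) 0).map (limπ F t n) := by
  apply Limits.Pi.hom_ext
  intro n
  rw [Category.assoc, comparison_π, ← Functor.map_comp, limToPi_π, Pi.lift_π]

/-- The limit of a `B`-acyclic inverse system with vanishing `R¹lim` of sections on `B` is a derived limit. -/
theorem isRlimVia_single {B : Set C} (hB : IsCovering J B) (h1 : ∀ n, Acyc B (F n))
    (h2 : ∀ U ∈ B, CohCx.LimOneIsZero (fun n => (F n).obj.obj (op U)) (fun n => ((t n).hom.app (op U)).hom)) :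
    CohCx.IsRlimVia (fun n => (singleFunctor (Sheaf J AddCommGrpCat.{u}) 0).obj (F n))
      (fun n => (singleFunctor _ 0).map (t n)) ((singleFunctor _ 0).obj (limit (CohCx.opSequence F t)))
      (fun n => (singleFunctor _ 0).map (limπ F t n)) := by
  have hS := limSeq_shortExact_of_limOne F t hB h2
  have hiso := isIso_comparison F hB h1
  let e := asIso (comparison F)
  refine ⟨e.inv ≫ hS.singleδ, ?_⟩
  rw [← limToPi_comparison]
  refine Pretriangulated.isomorphic_distinguished _ hS.singleTriangle_distinguished _ ?_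
  refine (Pretriangulated.Triangle.isoMk hS.singleTriangle
    (Pretriangulated.Triangle.mk ((singleFunctor _ 0).map (limToPi F t) ≫ comparison F)
      (oneSubShift (fun n => (singleFunctor (Sheaf J AddCommGrpCat.{u}) 0).obj (F n))
        (fun n => (singleFunctor _ 0).map (t n))) (e.inv ≫ hS.singleδ))
    (Iso.refl _) e e ?_ ?_ ?_).symm
  · exact (Category.id_comp _).symm
  · exact oneSubShift_comparison F t
  · change hS.singleδ ≫ (shiftFunctor _ (1 : ℤ)).map (𝟙 _) = e.hom ≫ e.inv ≫ hS.singleδ
    rw [CategoryTheory.Functor.map_id, Iso.hom_inv_id_assoc]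
    exact Category.comp_id _

/-- `DCoh.IsRlim` from `CohCx.IsRlimVia`. -/
lemma isRlim_of_isRlimVia {T : Type w} [Category.{v} T] [Preadditive T] [HasZeroObject T] [HasShift T ℤ]
    [∀ n : ℤ, (shiftFunctor T n).Additive] [Pretriangulated T]
    {K : ℕ → T} {t : ∀ n, K (n + 1) ⟶ K n} [HasProduct K] {L : T} {a : ∀ n, L ⟶ K n}
    (h : CohCx.IsRlimVia K t L a) : DCoh.IsRlim K t L :=
  ⟨_, h.choose, h.choose_spec⟩

/-- `CohCx.IsRlimVia` from `DCoh.IsRlim`. -/
lemma exists_isRlimVia_of_isRlim {T : Type w} [Category.{v} T] [Preadditive T] [HasZeroObject T] [HasShift T ℤ]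
    [∀ n : ℤ, (shiftFunctor T n).Additive] [Pretriangulated T]
    {K : ℕ → T} {t : ∀ n, K (n + 1) ⟶ K n} [HasProduct K] {L : T}
    (h : DCoh.IsRlim K t L) : ∃ a : ∀ n, L ⟶ K n, CohCx.IsRlimVia K t L a := by
  obtain ⟨a, c, h⟩ := h
  refine ⟨fun n => a ≫ Pi.π K n, c, ?_⟩
  have e : a = Pi.lift fun n => a ≫ Pi.π K n := by
    apply Limits.Pi.hom_ext
    intro n
    rw [Pi.lift_π]
  rwa [e] at h

end Groth.Agent.CohtopB.RlimSingle
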