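import Groth.Prelude.Def_CohCx
import Mathlib.CategoryTheory.Sites.LocallyBijective

/-!
A morphism of abelian sheaves on a small site which is bijective on sections over the members of a class of
objects covering every object is an isomorphism.
-/

set_option autoImplicit false
universe u

open CategoryTheory CategoryTheory.Limits Opposite

namespace Groth.Agent.CohtopB.SheafCover

variable {C : Type u} [SmallCategory C] {J : GrothendieckTopology C}

/-- Bijectivity on the members of a covering class implies isomorphism. -/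
lemma isIso_of_bijective {F G : Sheaf J AddCommGrpCat.{u}} (φ : F ⟶ G) (B : Set C)
    (hB : ∀ U : C, ∃ (ι : Type u) (Y : ι → C) (f : ∀ i, Y i ⟶ U), Sieve.ofArrows Y f ∈ J U ∧ ∀ i, Y i ∈ B)
    (h : ∀ U ∈ B, Function.Bijective (φ.hom.app (op U))) : IsIso φ := by
  have : J.HasSheafCompose (forget AddCommGrpCat.{u}) := inferInstance
  refine (Sheaf.isLocallyBijective_iff_isIso (A := AddCommGrpCat.{u}) φ).1 ?_
  constructor
  · change Presheaf.IsLocallyInjective J φ.hom
    refine ⟨fun {X} x y hxy => ?_⟩
    obtain ⟨ι, Y, f, hf, hY⟩ := hB X.unop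
    refine J.superset_covering ?_ hf
    rintro W g ⟨_, k, _, ⟨i⟩, rfl⟩
    rw [Presheaf.equalizerSieve_apply, op_comp, F.obj.map_comp]
    have hi : F.obj.map (f i).op x = F.obj.map (f i).op y := by
      apply (h _ (hY i)).1
      rw [NatTrans.naturality_apply, NatTrans.naturality_apply, hxy]
    rw [ConcreteCategory.comp_apply, ConcreteCategory.comp_apply]
    exact congrArg _ hi
  · change Presheaf.IsLocallySurjective J φ.hom
    refine ⟨fun {X} s => ?_⟩
    obtain ⟨ι, Y, f, hf, hY⟩ := hB X
    refine J.superset_covering ?_ hf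
    rintro W g ⟨_, k, _, ⟨i⟩, rfl⟩
    obtain ⟨t, ht⟩ := (h _ (hY i)).2 (G.obj.map (f i).op s)
    refine ⟨F.obj.map k.op t, ?_⟩
    rw [NatTrans.naturality_apply, ht, op_comp, G.obj.map_comp, ConcreteCategory.comp_apply]

end Groth.Agent.CohtopB.SheafCover
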