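import Groth.Prelude.Def_CohSite
import Groth.Agent.CohtopA.OverCoh
import Mathlib.CategoryTheory.Sites.Pullback
import Mathlib.CategoryTheory.Sites.CoverPreserving
import Mathlib.CategoryTheory.Limits.Constructions.Over.Connected
import Mathlib.CategoryTheory.Limits.Constructions.LimitsOfProductsAndEqualizers

/-!
# Cohomology of the restriction of a sheaf along a flat, continuous and cocontinuous functor

* `pushGlobalEquiv`: for `w : C ⥤ D` representably flat, continuous and cocontinuous, `T` terminal in `C` with
  `w T` terminal, `H^n(D, F) ≃+ H^n(C, F ∘ w)`; moreover `F ∘ w` is injective for `F` injective (`injective_push`).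
* `huEquiv`: if `C` has pullbacks, `u : C ⥤ D` preserves them and covers, and is cocontinuous then
  `H^n(uU, F) ≃+ H^n(U, F ∘ u)`.
-/

set_option autoImplicit false
universe u

open CategoryTheory CategoryTheory.Limits Opposite CategoryTheory.Abelian

namespace Groth.Agent.CohtopB.SlicePush

open Groth.Agent.CohtopA Groth.Agent.CohtopA.FreeYo Groth.Agent.CohtopA.ExtAdj

section Global

variable {C D : Type u} [SmallCategory C] [SmallCategory D] (J : GrothendieckTopology C)
  (K : GrothendieckTopology D) (w : C ⥤ D) [w.IsContinuous J K]

lemma preservesFiniteLimits_push : PreservesFiniteLimits (CohSite.push K J w) where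
  preservesFiniteLimits S _ _ := by
    have h1 : PreservesLimitsOfShape S (CohSite.push K J w ⋙ sheafToPresheaf J AddCommGrpCat.{u}) :=
      inferInstanceAs (PreservesLimitsOfShape S (sheafToPresheaf K AddCommGrpCat.{u} ⋙
        (Functor.whiskeringLeft _ _ _).obj w.op))
    exact preservesLimitsOfShape_of_reflects_of_preserves _
      (sheafToPresheaf J AddCommGrpCat.{u})

lemma preservesEpi_push [w.IsCocontinuous J K] : (CohSite.push K J w).PreservesEpimorphisms where
  preserves {F G} f hf := by
    rw [← Sheaf.isLocallySurjective_iff_epi'] at hf ⊢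
    exact Presheaf.isLocallySurjective_whisker J K w f.hom

lemma preservesFiniteColimits_push [w.IsCocontinuous J K] : PreservesFiniteColimits (CohSite.push K J w) :=
  have := preservesFiniteLimits_push J K w
  have := preservesEpi_push J K w
  OverCoh.preservesFiniteColimits_of_epi _

omit [w.IsContinuous J K] in
attribute [local instance] reflectsLimits_of_reflectsIsomorphisms in
lemma preservesFiniteLimits_lan [RepresentablyFlat w] :
    PreservesFiniteLimits (w.op.lan : (Cᵒᵖ ⥤ AddCommGrpCat.{u}) ⥤ _) := by
  infer_instance

lemma preservesFiniteLimits_pull [RepresentablyFlat w] :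
    PreservesFiniteLimits (w.sheafPullback AddCommGrpCat.{u} J K) := by
  have := preservesFiniteLimits_lan w
  have h3 : HasSheafify K AddCommGrpCat.{u} := inferInstance
  have h4 : HasSheafify J AddCommGrpCat.{u} := inferInstance
  have h5 : ∀ (F : Cᵒᵖ ⥤ AddCommGrpCat.{u}), w.op.HasLeftKanExtension F := inferInstance
  exact Functor.sheafPullbackConstruction.preservesFiniteLimits (G := w) (A := AddCommGrpCat.{u}) J K

lemma injective_push [RepresentablyFlat w] (I : Sheaf K AddCommGrpCat.{u}) [Injective I] :
    Injective ((CohSite.push K J w).obj I) := by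
  have h := preservesFiniteLimits_pull J K w
  have h2 : (w.sheafPullback AddCommGrpCat.{u} J K).PreservesMonomorphisms := by
    have : PreservesLimitsOfShape WalkingCospan (w.sheafPullback AddCommGrpCat.{u} J K) := h.preservesFiniteLimits _
    exact preservesMonomorphisms_of_preservesLimitsOfShape _
  exact Injective.injective_of_adjoint (w.sheafAdjunctionContinuous AddCommGrpCat.{u} J K) I

variable {T : C} (hT : IsTerminal T) (hwT : IsTerminal (w.obj T))

/-- the canonical map from `ℤ` to the restriction of `ℤ`. -/
noncomputable def genPush : zSh.{u} J ⟶ (CohSite.push K J w).obj (zSh.{u} K) :=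
  (homEquivZ J hT _).symm (genZ K hwT)

lemma genPush_bijective (F : Sheaf K AddCommGrpCat.{u}) :
    Function.Bijective (fun (f : zSh.{u} K ⟶ F) =>
      genPush J K w hT hwT ≫ (CohSite.push K J w).map f) := by
  have h1 : (homEquivZ J hT ((CohSite.push K J w).obj F)) ∘
      (fun (f : zSh.{u} K ⟶ F) => genPush J K w hT hwT ≫ (CohSite.push K J w).map f) =
      homEquivZ K hwT F := by
    funext f
    simp only [Function.comp]
    rw [homEquivZ_comp, homEquivZ_apply]
    have := (homEquivZ J hT ((CohSite.push K J w).obj (zSh.{u} K))).apply_symm_apply (genZ K hwT)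
    exact congrArg (f.hom.app (op (w.obj T))) this
  refine (Function.Bijective.of_comp_iff' (homEquivZ J hT ((CohSite.push K J w).obj F)).bijective _).1 ?_
  rw [h1]
  exact (homEquivZ K hwT F).bijective

/-- `H^n(D, F) ≃+ H^n(C, F ∘ w)`. -/
noncomputable def pushGlobalEquiv [w.IsCocontinuous J K] [RepresentablyFlat w]
    (F : Sheaf K AddCommGrpCat.{u}) (n : ℕ) :
    Sheaf.H F n ≃+ Sheaf.H ((CohSite.push K J w).obj F) n :=
  have := preservesFiniteLimits_push J K w
  have := preservesFiniteColimits_push J K w
  extOfHomEquiv (CohSite.push K J w) (genPush J K w hT hwT) (genPush_bijective J K w hT hwT)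
    (fun I _ n => by
      have := injective_push J K w I
      exact Ext.subsingleton_of_injective _ _ _) F n

end Global

section Slice

variable {C D : Type u} [SmallCategory C] [SmallCategory D] [HasPullbacks C] (u : C ⥤ D)
  [PreservesLimitsOfShape WalkingCospan u] (U : C)

omit [HasPullbacks C] [PreservesLimitsOfShape WalkingCospan u] in
/-- the image of the terminal object -/
noncomputable def isTerminal_post : IsTerminal ((Over.post (X := U) u).obj (Over.mk (𝟙 U))) :=
  IsTerminal.ofIso (Over.mkIdTerminal (X := u.obj U)) (Over.isoMk (Iso.refl _)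
    ((Category.id_comp _).trans (u.map_id U)))

lemma flat_post : RepresentablyFlat (Over.post (X := U) u) := by
  have h1 : HasFiniteLimits (Over U) := hasFiniteLimits_of_hasTerminal_and_pullbacks
  have h2 : PreservesLimitsOfShape WalkingCospan (Over.post (X := U) u) := by
    have h3 : PreservesLimitsOfShape WalkingCospan (Over.post (X := U) u ⋙ Over.forget (u.obj U)) :=
      inferInstanceAs (PreservesLimitsOfShape WalkingCospan (Over.forget U ⋙ u))
    exact preservesLimitsOfShape_of_reflects_of_preserves _ (Over.forget (u.obj U))
  have h4 : PreservesLimitsOfShape (Discrete PEmpty.{1}) (Over.post (X := U) u) := by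
    have : PreservesLimit (Functor.empty.{0} (Over U)) (Over.post (X := U) u) :=
      preservesLimit_of_preserves_limit_cone (Over.mkIdTerminal (X := U))
        ((isLimitMapConeEmptyConeEquiv _ _).symm (isTerminal_post u U))
    exact preservesLimitsOfShape_pempty_of_preservesTerminal _
  have h5 : PreservesFiniteLimits (Over.post (X := U) u) :=
    preservesFiniteLimits_of_preservesTerminal_and_pullbacks _
  exact flat_of_preservesFiniteLimits _

variable (J : GrothendieckTopology C) (K : GrothendieckTopology D) [u.IsContinuous J K]

/-- `H^n(uU, F) ≃+ H^n(U, F ∘ u)`. -/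
noncomputable def huEquiv (hu : CoverPreserving J K u) [u.IsCocontinuous J K]
    (F : Sheaf K AddCommGrpCat.{u}) (n : ℕ) :
    CohSite.HU F n (u.obj U) ≃+ CohSite.HU ((CohSite.push K J u).obj F) n U :=
  have := flat_post u U
  have : (Over.post (X := U) u).IsContinuous (J.over U) (K.over (u.obj U)) :=
    Functor.isContinuous_of_coverPreserving (compatiblePreservingOfFlat _ _) (hu.overPost U)
  (OverCoh.overEquiv K (u.obj U) F n).trans
    ((pushGlobalEquiv (J.over U) (K.over (u.obj U)) (Over.post (X := U) u) (Over.mkIdTerminal (X := U))
      (isTerminal_post u U) (F.over (u.obj U)) n).trans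
    (OverCoh.overEquiv J U ((CohSite.push K J u).obj F) n).symm)

end Slice

end Groth.Agent.CohtopB.SlicePush
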