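import Groth.Agent.CohtopB.TopStalk
import Mathlib.Algebra.Homology.QuasiIso

/-!
# Quasi-isomorphisms of complexes of abelian sheaves can be checked on stalks
-/

set_option autoImplicit false
universe u w
open CategoryTheory TopologicalSpace Opposite CategoryTheory.Limits
open CohTop

namespace Groth.Agent.CohtopB.StalkQuasiIso

open TopPull TopStalk

instance preservesHomology_stalkF {X : TopCat.{u}} (x : X) : (stalkF x).PreservesHomology :=
  inferInstance

/-- Quasi-isomorphisms of complexes of abelian sheaves can be checked on stalks. -/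
theorem quasiIso_of_stalks {X : TopCat.{u}} {ι : Type w} {c : ComplexShape ι}
    {K L : HomologicalComplex (CohTop.Ab X) c} (φ : K ⟶ L)
    (h : ∀ x : X, QuasiIso (((stalkF x).mapHomologicalComplex c).map φ)) : QuasiIso φ := by
  rw [quasiIso_iff]
  intro i
  rw [quasiIsoAt_iff_isIso_homologyMap]
  refine isIso_of_stalks _ (fun x => ?_)
  have h1 : IsIso (HomologicalComplex.homologyMap
      (((stalkF x).mapHomologicalComplex c).map φ) i) := by
    rw [← quasiIsoAt_iff_isIso_homologyMap]
    exact (h x).quasiIsoAt i
  have h2 := ShortComplex.mapHomologyIso_hom_naturality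
    ((HomologicalComplex.shortComplexFunctor (CohTop.Ab X) c i).map φ) (stalkF x)
  have h3 : IsIso (ShortComplex.homologyMap ((stalkF x).mapShortComplex.map
    ((HomologicalComplex.shortComplexFunctor (CohTop.Ab X) c i).map φ))) := h1
  have h4 := @IsIso.comp_isIso _ _ _ _ _ _ _ h3
    (inferInstance : IsIso (ShortComplex.mapHomologyIso _ (stalkF x)).hom)
  have h5 : IsIso ((ShortComplex.mapHomologyIso _ (stalkF x)).hom ≫ (stalkF x).map
    (ShortComplex.homologyMap
      ((HomologicalComplex.shortComplexFunctor (CohTop.Ab X) c i).map φ))) := h2 ▸ h4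
  exact @IsIso.of_isIso_comp_left _ _ _ _ _ (ShortComplex.mapHomologyIso _ (stalkF x)).hom _
    inferInstance h5

end Groth.Agent.CohtopB.StalkQuasiIso
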