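import Groth.Agent.CohtopB.PullColim
import Groth.Agent.CohtopB.SheafShift
import Groth.Agent.CohtopA.RpushSheafify
import Mathlib.Topology.Sheaves.Sheafify

/-!
# Stalks of higher direct images form a shifting family

`isShift_stalk` : `F ↦ (R^n f_* F)_y` is a shifting family with `G F = colim_{V ∋ y} F(f⁻¹V)`.
-/

set_option autoImplicit false
universe u

open CategoryTheory TopologicalSpace Opposite CategoryTheory.Limits Abelian
open Groth.Agent.CohtopA.Sec Groth.Agent.CohtopB.TopPull Groth.Agent.CohtopB.PullSect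
open Groth.Agent.CohtopB.EffComp Groth.Agent.CohtopA Groth.Agent.CohtopB.H0Iso
open Groth.Agent.CohtopB.PullColim Groth.Agent.CohtopB.SheafShift

namespace Groth.Agent.CohtopB.StalkShift

variable {X Y : TopCat.{u}} (f : X ⟶ Y) (y : Y)

/-- The system of opens `f⁻¹V` for `V` an open neighbourhood of `y`. -/
abbrev nhdsQ : (OpenNhds y)ᵒᵖ ⥤ (Opens X)ᵒᵖ := (OpenNhds.inclusion y).op ⋙ (Opens.map f).op

/-- the stalk of the sheafification of `P` -/
theorem nonempty_stalk_sheafify (P : (Opens Y)ᵒᵖ ⥤ AddCommGrpCat.{u}) :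
    Nonempty (TopCat.Presheaf.stalk (C := AddCommGrpCat.{u}) (X := Y) P y ≅
      CohTop.stalk ((presheafToSheaf (Opens.grothendieckTopology Y) AddCommGrpCat.{u}).obj P) y) := by
  have := TopCat.Presheaf.stalkFunctor_map_unit_toSheafify_isIso y AddCommGrpCat.{u} P
  exact ⟨@asIso _ _ _ _ _ this⟩

theorem nonempty_iso (F : CohTop.Ab X) (n : ℕ) :
    Nonempty ((colimQ (nhdsQ f y)).obj ((Sheaf.cohomologyPresheafFunctor
      (Opens.grothendieckTopology X) n).obj F) ≅ CohTop.stalk ((CohTop.Rpush f n).obj F) y) := by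
  obtain ⟨e⟩ := nonempty_stalk_sheafify y ((Opens.map f).op ⋙ Sheaf.cohomologyPresheaf.{u} F n)
  let e' := RpushSheafify.rpushObjIso (Opens.grothendieckTopology X)
    (Opens.grothendieckTopology Y) (Opens.map f) F n
  let e'' : CohTop.stalk ((presheafToSheaf (Opens.grothendieckTopology Y) AddCommGrpCat.{u}).obj
      ((Opens.map f).op ⋙ Sheaf.cohomologyPresheaf.{u} F n)) y ≅
      CohTop.stalk ((CohTop.Rpush f n).obj F) y :=
    (sheafToPresheaf (Opens.grothendieckTopology Y) AddCommGrpCat.{u} ⋙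
      TopCat.Presheaf.stalkFunctor AddCommGrpCat.{u} y).mapIso e'.symm
  exact ⟨e ≪≫ e''⟩

theorem isShift_stalk :
    IsShift (sheafToPresheaf (Opens.grothendieckTopology X) AddCommGrpCat.{u} ⋙
      colimQ (nhdsQ f y)) (fun n F => CohTop.stalk ((CohTop.Rpush f n).obj F) y) :=
  ((isShift_presheaf (Opens.grothendieckTopology X)).comp (colimQ (nhdsQ f y))).of_iso
    (Iso.refl _) (fun n F => nonempty_iso f y F n)

end Groth.Agent.CohtopB.StalkShift
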