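import Groth.Prelude.Def_CohCx
import Groth.Agent.CohtopB.DTrunc
import Groth.Agent.CohtopB.OpSeq

/-!
The tower of truncations `τ_{≥-n} E`: injectivity/surjectivity of the transition maps on `Hom(X[0], -[m])`,
eventually surjective systems have vanishing `R^1 lim`, comparison of an object with the fibre of
"identity minus shift" on the product of its truncations.
-/

set_option autoImplicit false
universe w v u w' v' u'

open CategoryTheory CategoryTheory.Limits CategoryTheory.Pretriangulated DerivedCategory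

namespace Groth.Agent.CohtopB.TruncTower

/-- A system of abelian groups whose transition maps are surjective from some index on has vanishing `R^1 lim`. -/
lemma limOneIsZero_of_eventually_surjective (A : ℕ → Type u) [∀ n, AddCommGroup (A n)]
    (t : ∀ n, A (n + 1) →+ A n) (N : ℕ) (h : ∀ n, N ≤ n → Function.Surjective (t n)) :
    CohCx.LimOneIsZero A t := by
  intro b
  -- construct the tail
  have key : ∃ a : ∀ n, A n, ∀ n, N ≤ n → a n - t n (a (n + 1)) = b n := by
    choose s hs using h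
    -- define c : ∀ k, A (N + k)
    let c : ∀ k : ℕ, A (N + k) := fun k =>
      Nat.rec (motive := fun k => A (N + k)) (0 : A (N + 0))
        (fun k x => s (N + k) (Nat.le_add_right _ _) (x - b (N + k))) k
    have hc : ∀ k, c k - t (N + k) (c (k + 1)) = b (N + k) := by
      intro k
      have : c (k + 1) = s (N + k) (Nat.le_add_right _ _) (c k - b (N + k)) := rfl
      rw [this, hs]
      abel
    refine ⟨fun n => if hn : N ≤ n then cast (congrArg A (Nat.add_sub_cancel' hn)) (c (n - N)) else 0, ?_⟩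
    intro n hn
    obtain ⟨k, rfl⟩ := Nat.exists_eq_add_of_le hn
    have e1 : ∀ (j : ℕ) (hj : N ≤ N + j),
        (cast (congrArg A (Nat.add_sub_cancel' hj)) (c (N + j - N)) : A (N + j)) = c j := by
      intro j hj
      have hj' : N + j - N = j := Nat.add_sub_cancel_left N j
      apply eq_of_heq
      refine (cast_heq _ _).trans ?_
      rw [hj']
    have hk1 : N ≤ N + k + 1 := by omega
    simp only [dif_pos hn, dif_pos hk1]
    have e2 := e1 k hn
    have e3 := e1 (k + 1) hk1
    rw [e2]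
    change c k - t (N + k) (cast _ (c (N + (k + 1) - N))) = _
    rw [e3, hc]
  obtain ⟨a, ha⟩ := key
  -- go down
  have down : ∀ j : ℕ, j ≤ N → ∃ a : ∀ n, A n, ∀ n, N - j ≤ n → a n - t n (a (n + 1)) = b n := by
    intro j
    induction j with
    | zero => intro _; exact ⟨a, by simpa using ha⟩
    | succ j ih =>
      intro hj
      obtain ⟨a', ha'⟩ := ih (by omega)
      refine ⟨Function.update a' (N - (j + 1)) (b (N - (j + 1)) + t _ (a' (N - (j + 1) + 1))), ?_⟩
      intro n hn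
      by_cases hn' : n = N - (j + 1)
      · subst hn'
        rw [Function.update_self, Function.update_of_ne (by omega)]
        abel
      · rw [Function.update_of_ne hn', Function.update_of_ne (by omega)]
        exact ha' n (by omega)
  obtain ⟨a', ha'⟩ := down N le_rfl
  exact ⟨a', funext fun n => ha' n (by omega)⟩

section

variable {T : Type u'} [Category.{v'} T] (K : ℕ → T) (t : ∀ n, K (n + 1) ⟶ K n)

/-- A property of morphisms stable under composition passes to the composite transition maps. -/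
lemma transition_induction (p : ∀ {X Y : T}, (X ⟶ Y) → Prop) (hid : ∀ X : T, p (𝟙 X))
    (hcomp : ∀ {X Y Z : T} (f : X ⟶ Y) (g : Y ⟶ Z), p f → p g → p (f ≫ g))
    (n : ℕ) (h : ∀ k, n ≤ k → p (t k)) (k : ℕ) : p (CohCx.transition K t n k) := by
  induction k with
  | zero => exact hid _
  | succ k ih => exact hcomp _ _ (h (n + k) (Nat.le_add_right _ _)) ih

end

section

variable {A : Type (u + 1)} [Category.{u} A] [Abelian A]

lemma subsingleton_ext_of_iso [HasExt.{w'} A] (X : A) {Y Y' : A} (e : Y ≅ Y') (k : ℕ)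
    [Subsingleton (Abelian.Ext.{w'} X Y' k)] : Subsingleton (Abelian.Ext.{w'} X Y k) := by
  refine ⟨fun a b => ?_⟩
  have : ∀ c : Abelian.Ext.{w'} X Y k, c = 0 := fun c => by
    have h1 : (c.comp (Abelian.Ext.mk₀ e.hom) (add_zero k)).comp (Abelian.Ext.mk₀ e.inv) (add_zero k) = c := by
      simp
    rw [← h1, Subsingleton.elim (c.comp (Abelian.Ext.mk₀ e.hom) (add_zero k)) 0]
    simp
  rw [this a, this b]

variable [HasDerivedCategory.{w} A]

/-- `Hom(X[0], F[m]) = 0` for `F` concentrated in degree `q` with `H^q(F) ≅ H` and `Ext^{m-q}(X, H) = 0`. -/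
lemma hom_eq_zero_aux [HasExt.{w'} A] (X : A) (F : DerivedCategory A) (H : A) (q m : ℤ)
    (h1 : F.IsGE q) (h2 : F.IsLE q) (e : (homologyFunctor A q).obj F ≅ H)
    (h : ∀ k : ℕ, m - q = k → Subsingleton (Abelian.Ext.{w'} X H k))
    (z : (singleFunctor A 0).obj X ⟶ F⟦m⟧) : z = 0 := by
  refine DTrunc.hom_eq_zero_of_concentrated.{w, u, u + 1, w'} X F q m (fun k hk => ?_) z
  have := h k hk
  exact subsingleton_ext_of_iso X e k

/-- Injectivity of `Hom(X[0], τ_{≥-(n+1)}E[m]) ⟶ Hom(X[0], τ_{≥-n}E[m])`. -/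
lemma injective_step [HasExt.{w'} A] (X : A) (E : DerivedCategory A) (n : ℕ) (m : ℤ)
    (h : ∀ k : ℕ, m + (n + 1 : ℕ) = k →
      Subsingleton (Abelian.Ext.{w'} X ((homologyFunctor A (-((n + 1 : ℕ) : ℤ))).obj E) k)) :
    Function.Injective (fun x : (singleFunctor A 0).obj X ⟶ (CohCx.truncTower E (n + 1))⟦m⟧ =>
      x ≫ (CohCx.truncTowerMap E n)⟦m⟧') := by
  obtain ⟨F, f, g, hT, h1, h2, h3⟩ := DTrunc.exists_fibre_truncGE E (-((n + 1 : ℕ) : ℤ)) (-(n : ℤ)) (by omega)
  have h2' : F.IsLE (-((n + 1 : ℕ) : ℤ)) := by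
    have e : (-((n + 1 : ℕ) : ℤ)) = -(n : ℤ) - 1 := by push_cast; ring
    rw [e]; exact h2
  obtain ⟨e⟩ := h3 (-((n + 1 : ℕ) : ℤ)) le_rfl (by push_cast; omega)
  refine TriLES.injective_mor₂ hT _ m fun z => ?_
  exact hom_eq_zero_aux X F _ _ m h1 h2' e (fun k hk => h k (by rw [← hk]; ring)) z

/-- Surjectivity of `Hom(X[0], τ_{≥-(n+1)}E[m]) ⟶ Hom(X[0], τ_{≥-n}E[m])`. -/
lemma surjective_step [HasExt.{w'} A] (X : A) (E : DerivedCategory A) (n : ℕ) (m : ℤ)
    (h : ∀ k : ℕ, m + 1 + (n + 1 : ℕ) = k →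
      Subsingleton (Abelian.Ext.{w'} X ((homologyFunctor A (-((n + 1 : ℕ) : ℤ))).obj E) k)) :
    Function.Surjective (fun x : (singleFunctor A 0).obj X ⟶ (CohCx.truncTower E (n + 1))⟦m⟧ =>
      x ≫ (CohCx.truncTowerMap E n)⟦m⟧') := by
  obtain ⟨F, f, g, hT, h1, h2, h3⟩ := DTrunc.exists_fibre_truncGE E (-((n + 1 : ℕ) : ℤ)) (-(n : ℤ)) (by omega)
  have h2' : F.IsLE (-((n + 1 : ℕ) : ℤ)) := by
    have e : (-((n + 1 : ℕ) : ℤ)) = -(n : ℤ) - 1 := by push_cast; ring
    rw [e]; exact h2
  obtain ⟨e⟩ := h3 (-((n + 1 : ℕ) : ℤ)) le_rfl (by push_cast; omega)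
  refine TriLES.surjective_mor₂ hT _ m (m + 1) rfl fun z => ?_
  exact hom_eq_zero_aux X F _ _ (m + 1) h1 h2' e (fun k hk => h k (by rw [← hk]; ring)) z

/-- Injectivity of the composite transition maps. -/
lemma injective_transition (X : DerivedCategory A) (K : ℕ → DerivedCategory A) (t : ∀ n, K (n + 1) ⟶ K n)
    (m : ℤ) (N : ℕ)
    (h : ∀ n, N ≤ n → Function.Injective (fun x : X ⟶ (K (n + 1))⟦m⟧ => x ≫ (t n)⟦m⟧')) (k : ℕ) :
    Function.Injective (fun x : X ⟶ (K (N + k))⟦m⟧ => x ≫ (CohCx.transition K t N k)⟦m⟧') := by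
  induction k with
  | zero =>
    intro x y hxy
    simpa [CohCx.transition] using hxy
  | succ k ih =>
    intro x y hxy
    have hxy' : x ≫ (t (N + k) ≫ CohCx.transition K t N k)⟦m⟧' =
      y ≫ (t (N + k) ≫ CohCx.transition K t N k)⟦m⟧' := hxy
    rw [Functor.map_comp, ← Category.assoc, ← Category.assoc] at hxy'
    exact h (N + k) (Nat.le_add_right _ _) (ih hxy')

/-- The cohomology of the tower of truncations is eventually that of `E`. -/
lemma isIso_homology_map_toTruncTower (E : DerivedCategory A) (n : ℕ) (m : ℤ) (h : -(n : ℤ) ≤ m) :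
    IsIso ((homologyFunctor A m).map (CohCx.toTruncTower E n)) :=
  DTrunc.isIso_homology_map_truncGEπ E (-(n : ℤ)) m h

lemma toTruncTower_map (E : DerivedCategory A) (n : ℕ) :
    CohCx.toTruncTower E (n + 1) ≫ CohCx.truncTowerMap E n = CohCx.toTruncTower E n :=
  TStructure.t.π_natTransTruncGEOfLE_app _ _ _ E

/-- Comparison of `E` with the fibre `L` of "identity minus shift" on the product of its truncations. -/
lemma exists_fibre_comparison (E : DerivedCategory A) [HasProduct (CohCx.truncTower E)] :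
    ∃ (L : DerivedCategory A) (a : ∀ n, L ⟶ CohCx.truncTower E n) (f : E ⟶ L),
      CohCx.IsRlimVia (CohCx.truncTower E) (CohCx.truncTowerMap E) L a ∧
      (∀ n, f ≫ a n = CohCx.toTruncTower E n) ∧
      (IsIso f → CohCx.IsRlimVia (CohCx.truncTower E) (CohCx.truncTowerMap E) E (CohCx.toTruncTower E)) := by
  let d : ∏ᶜ (CohCx.truncTower E) ⟶ ∏ᶜ (CohCx.truncTower E) :=
    Pi.lift fun n => Pi.π (CohCx.truncTower E) n -
      Pi.π (CohCx.truncTower E) (n + 1) ≫ CohCx.truncTowerMap E n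
  obtain ⟨L, α, c, hT⟩ := distinguished_cocone_triangle₁ d
  have hα : Pi.lift (fun n => α ≫ Pi.π (CohCx.truncTower E) n) = α := by
    apply Pi.hom_ext
    intro n
    simp
  have hd : Pi.lift (CohCx.toTruncTower E) ≫ d = 0 := by
    apply Pi.hom_ext
    intro n
    simp only [Category.assoc, d, Pi.lift_π, Preadditive.comp_sub, zero_comp, Pi.lift_π_assoc]
    rw [toTruncTower_map, sub_self]
  obtain ⟨f, hf⟩ : ∃ f : E ⟶ L, Pi.lift (CohCx.toTruncTower E) = f ≫ α :=
    Triangle.coyoneda_exact₂ _ hT (Pi.lift (CohCx.toTruncTower E)) hd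
  have hf' : ∀ n, f ≫ α ≫ Pi.π (CohCx.truncTower E) n = CohCx.toTruncTower E n := by
    intro n
    rw [← Category.assoc, ← hf, Pi.lift_π]
  refine ⟨L, fun n => α ≫ Pi.π (CohCx.truncTower E) n, f, ⟨c, by rw [hα]; exact hT⟩, hf', ?_⟩
  intro hiso
  refine ⟨c ≫ (inv f)⟦(1 : ℤ)⟧', ?_⟩
  refine isomorphic_distinguished _ hT _ ?_
  refine Triangle.isoMk (Triangle.mk (Pi.lift (CohCx.toTruncTower E)) d (c ≫ (inv f)⟦(1 : ℤ)⟧'))
    (Triangle.mk α d c) (@asIso _ _ E L f hiso) (Iso.refl _) (Iso.refl _) ?_ ?_ ?_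
  · exact (Category.comp_id _).trans hf
  · exact (Category.comp_id _).trans (Category.id_comp _).symm
  · have : (c ≫ (inv f)⟦(1 : ℤ)⟧') ≫ f⟦(1 : ℤ)⟧' = 𝟙 _ ≫ c := by
      rw [Category.assoc, ← Functor.map_comp, IsIso.inv_hom_id, CategoryTheory.Functor.map_id, Category.comp_id,
        Category.id_comp]
    exact this

end

end Groth.Agent.CohtopB.TruncTower
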