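import Groth.Agent.CohtopB.Can
import Groth.Agent.CohtopB.RlimHom
import Groth.Agent.CohtopB.TruncTower
import Mathlib.CategoryTheory.Sites.Grothendieck

/-!
Abstract "test systems": a functor `P : C ⥤ A` from a site to an abelian category behaving like the free abelian
sheaves on the objects of the site (`Hom(P_U, F) = F(U)`).  In this setting we prove:
* the canonical map `Hom(P_U[0], K[n]) ⟶ Hom(P_U, H^n(K))` is locally injective and locally surjective (0BKV);
* injectivity criterion for `H^m` of a derived limit (0D6L);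
* an object is the derived limit of its truncations under local boundedness conditions (0D6M);
* `Hom(P_U[0], K[n]) = Hom(P_U, H^n(K))` if `Ext^p(P_U, H^q(K)) = 0` for `p > 0` on a covering class (0BKZ).
All universes are arbitrary.
-/

set_option autoImplicit false
universe w v u w' v' u'

open CategoryTheory CategoryTheory.Limits CategoryTheory.Pretriangulated DerivedCategory

namespace Groth.Agent.CohtopB

/-- A functor `P : C ⥤ A` from a site to an abelian category which behaves like `U ↦ ℤ_U`. -/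
structure TestSystem {A : Type u'} [Category.{v'} A] [Abelian A] {C : Type u} [Category.{v} C]
    (J : GrothendieckTopology C) (P : C ⥤ A) : Prop where
  /-- A morphism out of `P_U` is zero if it is locally zero. -/
  joint_epi : ∀ {U : C} (T : Sieve U), T ∈ J U → ∀ {F : A} (x : P.obj U ⟶ F),
    (∀ {V : C} (g : V ⟶ U), T g → P.map g ≫ x = 0) → x = 0
  /-- Epimorphisms onto `P_U` have local sections. -/
  lift : ∀ {U : C} {F : A} (φ : F ⟶ P.obj U) [Epi φ], ∃ T ∈ J U, ∀ {V : C} (g : V ⟶ U), T g →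
    ∃ y : P.obj V ⟶ F, y ≫ φ = P.map g
  /-- The `P_U` detect zero objects. -/
  isZero : ∀ (F : A), (∀ (U : C) (x : P.obj U ⟶ F), x = 0) → IsZero F

namespace TestSys

section Gen

variable {C : Type u} [Category.{v} C] {J : GrothendieckTopology C}

/-- The sieve generated by the members `Y ⟶ V` of `T` with `Q Y`. -/
def gen {V : C} (T : Sieve V) (Q : C → Prop) : Sieve V where
  arrows W g := ∃ (Y : C) (k : W ⟶ Y) (f : Y ⟶ V), k ≫ f = g ∧ T f ∧ Q Y
  downward_closed := by
    rintro W W' g ⟨Y, k, f, rfl, hT, hQ⟩ h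
    exact ⟨Y, h ≫ k, f, by simp, hT, hQ⟩

lemma gen_mono {V : C} (T : Sieve V) {Q Q' : C → Prop} (h : ∀ Y, Q Y → Q' Y) : gen T Q ≤ gen T Q' := by
  rintro W g ⟨Y, k, f, h1, h2, h3⟩
  exact ⟨Y, k, f, h1, h2, h Y h3⟩

lemma gen_mem_of_ofArrows {V : C} (T : Sieve V) (Q : C → Prop) {ι : Type*} (Z : ι → C) (f : ∀ i, Z i ⟶ V)
    (hT : ∀ i, T (f i)) (hf : Sieve.ofArrows Z f ∈ J V) (hQ : ∀ i, Q (Z i)) : gen T Q ∈ J V := by
  refine J.superset_covering ?_ hf
  rintro W g ⟨_, k, _, ⟨i⟩, rfl⟩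
  exact ⟨Z i, k, f i, rfl, hT i, hQ i⟩

/-- If every object is covered by objects with `Q`, then every covering sieve is refined by one generated by
objects with `Q`. -/
lemma gen_mem_of_cover (Q : C → Prop) (hQ : ∀ U : C, gen (⊤ : Sieve U) Q ∈ J U) {V : C} (T : Sieve V)
    (hT : T ∈ J V) : gen T Q ∈ J V := by
  refine J.transitive hT _ fun W g hg => ?_
  refine J.superset_covering ?_ (hQ W)
  rintro W' g' ⟨Y, k, f, rfl, -, hY⟩
  exact ⟨Y, k, f ≫ g, by simp, T.downward_closed hg f, hY⟩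

end Gen

variable {A : Type u'} [Category.{v'} A] [Abelian A] {C : Type u} [Category.{v} C]
  {J : GrothendieckTopology C} {P : C ⥤ A} (hP : TestSystem J P)

include hP

lemma eq_zero_of_gen {V : C} (T : Sieve V) (Q : C → Prop) (h : gen T Q ∈ J V) {F : A} (x : P.obj V ⟶ F)
    (hx : ∀ {Y : C} (f : Y ⟶ V), T f → Q Y → P.map f ≫ x = 0) : x = 0 := by
  refine hP.joint_epi _ h x ?_
  rintro W g ⟨Y, k, f, rfl, hT, hQ⟩
  rw [P.map_comp, Category.assoc, hx f hT hQ, comp_zero]

/-- Local lifting along an arbitrary epimorphism. -/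
lemma lift' {U : C} {F G : A} (φ : F ⟶ G) [Epi φ] (x : P.obj U ⟶ G) : ∃ T ∈ J U, ∀ {V : C} (g : V ⟶ U), T g →
    ∃ y : P.obj V ⟶ F, y ≫ φ = P.map g ≫ x := by
  obtain ⟨T, hT, h⟩ := hP.lift (pullback.fst x φ)
  refine ⟨T, hT, fun g hg => ?_⟩
  obtain ⟨y, hy⟩ := h g hg
  exact ⟨y ≫ pullback.snd x φ, by rw [Category.assoc, ← pullback.condition, reassoc_of% hy]⟩

/-- A morphism inducing bijections on `Hom(P_U, -)` for `U` in a covering class is an isomorphism. -/
lemma isIso_of_bijective {F G : A} (φ : F ⟶ G) (Q : C → Prop)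
    (hQ : ∀ U : C, gen (⊤ : Sieve U) Q ∈ J U)
    (h : ∀ U, Q U → Function.Bijective (fun x : P.obj U ⟶ F => x ≫ φ)) : IsIso φ := by
  have hmono : Mono φ := by
    rw [Preadditive.mono_iff_isZero_kernel]
    refine hP.isZero _ fun U x => ?_
    refine eq_zero_of_gen hP ⊤ Q (hQ U) x fun {Y} f _ hY => ?_
    rw [← cancel_mono (kernel.ι φ), zero_comp]
    apply (h Y hY).1
    simp
  have hepi : Epi φ := by
    rw [Preadditive.epi_iff_isZero_cokernel]
    refine hP.isZero _ fun U x => ?_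
    obtain ⟨T, hT, hl⟩ := lift' hP (cokernel.π φ) x
    refine eq_zero_of_gen hP T Q (gen_mem_of_cover Q hQ T hT) x fun {Y} f hf hY => ?_
    obtain ⟨y, hy⟩ := hl f hf
    obtain ⟨z, hz⟩ := (h Y hY).2 y
    dsimp only at hz
    rw [← hy, ← hz, Category.assoc, cokernel.condition, comp_zero]
  exact isIso_of_mono_of_epi φ

section Derived

variable [HasDerivedCategory.{w} A]

/-- The canonical map is locally injective. -/
lemma loc_inj {U : C} {K : DerivedCategory A} {n : ℤ} (x : (singleFunctor A 0).obj (P.obj U) ⟶ K⟦n⟧)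
    (hx : Can.can x = 0) : ∃ T ∈ J U, ∀ {V : C} (g : V ⟶ U), T g →
      (singleFunctor A 0).map (P.map g) ≫ x = 0 := by
  obtain ⟨Y, e, he, h⟩ := Can.exists_epi_comp_eq_zero x hx
  obtain ⟨T, hT, hl⟩ := hP.lift e
  refine ⟨T, hT, fun g hg => ?_⟩
  obtain ⟨y, hy⟩ := hl g hg
  rw [← hy, Functor.map_comp, Category.assoc, h, comp_zero]

/-- The canonical map is locally surjective. -/
lemma loc_surj {U : C} {K : DerivedCategory A} {n : ℤ} (s : P.obj U ⟶ (homologyFunctor A n).obj K) :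
    ∃ T ∈ J U, ∀ {V : C} (g : V ⟶ U), T g →
      ∃ x : (singleFunctor A 0).obj (P.obj V) ⟶ K⟦n⟧, Can.can x = P.map g ≫ s := by
  obtain ⟨Y, e, x, he, h⟩ := Can.exists_epi_lift s
  obtain ⟨T, hT, hl⟩ := hP.lift e
  refine ⟨T, hT, fun g hg => ?_⟩
  obtain ⟨y, hy⟩ := hl g hg
  exact ⟨(singleFunctor A 0).map y ≫ x, by rw [Can.can_precomp, h, ← hy, Category.assoc]⟩

end Derived

end TestSys

end Groth.Agent.CohtopB
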