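import Groth.Agent.CohtopB.TestSys

/-!
Derived limits and truncations for an abstract test system (see `TestSys`): abstract forms of Stacks 0D6L, 0D6M,
0BKZ (the last one in the strong form: the canonical map is bijective).
-/

set_option autoImplicit false
universe w v u w' v' u'

open CategoryTheory CategoryTheory.Limits CategoryTheory.Pretriangulated DerivedCategory

namespace Groth.Agent.CohtopB.TestSys

section Aux

variable {T : Type u'} [Category.{v'} T] [Preadditive T] [HasZeroObject T] [HasShift T ℤ]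
  [∀ n : ℤ, (shiftFunctor T n).Additive] [Pretriangulated T]

/-- The structure maps of a derived limit are compatible with the transition maps. -/
lemma rlimVia_comp {K : ℕ → T} {t : ∀ n, K (n + 1) ⟶ K n} [HasProduct K] {L : T} {a : ∀ n, L ⟶ K n}
    (hL : CohCx.IsRlimVia K t L a) (n : ℕ) : a (n + 1) ≫ t n = a n := by
  obtain ⟨c, hc⟩ := hL
  have h : Pi.lift a ≫ (Pi.lift fun n => Pi.π K n - Pi.π K (n + 1) ≫ t n) = 0 :=
    comp_distTriang_mor_zero₁₂ _ hc
  have h' := congrArg (fun q => q ≫ Pi.π K n) h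
  simp only [Category.assoc, limit.lift_π, Fan.mk_π_app, Preadditive.comp_sub, limit.lift_π_assoc,
    zero_comp] at h'
  exact (sub_eq_zero.1 h').symm

omit [HasZeroObject T] [∀ n : ℤ, (shiftFunctor T n).Additive] [Pretriangulated T] [Preadditive T]
  [HasShift T ℤ] in
lemma comp_transition {K : ℕ → T} {t : ∀ n, K (n + 1) ⟶ K n} {L : T} {a : ∀ n, L ⟶ K n}
    (h : ∀ n, a (n + 1) ≫ t n = a n) (n k : ℕ) : a (n + k) ≫ CohCx.transition K t n k = a n := by
  induction k with
  | zero => exact Category.comp_id _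
  | succ k ih =>
    have : CohCx.transition K t n (k + 1) = t (n + k) ≫ CohCx.transition K t n k := rfl
    rw [this]
    exact ((Category.assoc _ _ _).symm.trans (congrArg (fun q => q ≫ CohCx.transition K t n k)
      (h (n + k)))).trans ih

end Aux

section Ext

variable {A : Type u'} [Category.{v'} A] [Abelian A]

lemma subsingleton_ext_of_iso [HasExt.{w'} A] (X : A) {Y Y' : A} (e : Y ≅ Y') (k : ℕ)
    (h : Subsingleton (Abelian.Ext.{w'} X Y' k)) : Subsingleton (Abelian.Ext.{w'} X Y k) := by
  refine ⟨fun a b => ?_⟩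
  have : ∀ c : Abelian.Ext.{w'} X Y k, c = 0 := fun c => by
    have h1 : (c.comp (Abelian.Ext.mk₀ e.hom) (add_zero k)).comp (Abelian.Ext.mk₀ e.inv) (add_zero k) = c := by
      simp
    rw [← h1, Subsingleton.elim (c.comp (Abelian.Ext.mk₀ e.hom) (add_zero k)) 0]
    simp
  rw [this a, this b]

lemma subsingleton_ext_of_isZero [HasExt.{w'} A] (X : A) {Y : A} (hY : IsZero Y) (k : ℕ) :
    Subsingleton (Abelian.Ext.{w'} X Y k) := by
  refine ⟨fun a b => ?_⟩
  have : ∀ c : Abelian.Ext.{w'} X Y k, c = 0 := fun c => by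
    have h1 : c.comp (Abelian.Ext.mk₀ (𝟙 Y)) (add_zero k) = c := by simp
    rw [← h1, hY.eq_of_src (𝟙 Y) 0, Abelian.Ext.mk₀_zero, Abelian.Ext.comp_zero]
  rw [this a, this b]

variable [HasDerivedCategory.{w} A]

/-- If `M` is in degrees `≥ 0`, every morphism `X ⟶ H^0(M)` comes from `X[0] ⟶ M`. -/
lemma exists_hom_of_isGE {X : A} {M : DerivedCategory A} [M.IsGE 0] (s : X ⟶ (homologyFunctor A 0).obj M) :
    ∃ x : (singleFunctor A 0).obj X ⟶ M, (Can.sIso X).hom ≫ (homologyFunctor A 0).map x = s := by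
  have h0 : TStructure.t.IsGE ((TStructure.t.truncLT 1).obj M) 0 := inferInstance
  have h1 : TStructure.t.IsLE ((TStructure.t.truncLT 1).obj M) 0 :=
    TStructure.t.isLE_truncLT_obj _ _ _ (by lia)
  have hiso := DTrunc.isIso_homology_map_truncLTι M 1 0 (by lia)
  obtain ⟨Y, ⟨e⟩⟩ := exists_iso_singleFunctor_obj_of_isGE_of_isLE ((TStructure.t.truncLT 1).obj M) 0
  let i : (homologyFunctor A 0).obj M ≅ Y :=
    (@asIso _ _ _ _ ((homologyFunctor A 0).map ((TStructure.t.truncLTι 1).app M)) hiso).symm ≪≫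
      (homologyFunctor A 0).mapIso e ≪≫ (Can.sIso Y).symm
  have hi : (Can.sIso Y).hom ≫ (homologyFunctor A 0).map (e.inv ≫ (TStructure.t.truncLTι 1).app M) = i.inv := by
    rw [Functor.map_comp]
    simp [i]
  refine ⟨(singleFunctor A 0).map (s ≫ i.hom) ≫ e.inv ≫ (TStructure.t.truncLTι 1).app M, ?_⟩
  rw [Functor.map_comp, ← Can.sIso_hom_naturality_assoc, hi, Category.assoc, Iso.hom_inv_id,
    Category.comp_id]

/-- The canonical map in degree `n` is bijective for objects in degrees `≥ n`. -/
lemma can_bijective_of_isGE (X : A) (K : DerivedCategory A) (n : ℤ) [K.IsGE n] :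
    Function.Bijective (Can.can : ((singleFunctor A 0).obj X ⟶ K⟦n⟧) → _) := by
  have hge : (K⟦n⟧).IsGE 0 := TStructure.t.isGE_shift K n n 0 (by lia)
  constructor
  · intro x y hxy
    rw [← sub_eq_zero]
    have h : Can.can (x - y) = 0 := by rw [Can.can_sub, hxy, sub_self]
    rw [Can.can_eq_zero_iff] at h
    exact Can.eq_zero_of_isGE _ h
  · intro s
    obtain ⟨x, hx⟩ := exists_hom_of_isGE (M := K⟦n⟧) (s ≫ (Can.hIso K n).inv)
    refine ⟨x, ?_⟩
    rw [Can.can, reassoc_of% hx, Iso.inv_hom_id, Category.comp_id]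

/-- `Hom(X[0], M[m]) = 0` for `M` in degrees `[a, b]` with `Ext^p(X, H^j(M)) = 0` for `p > 0`, `j ≤ b`, if
`m > b`. -/
lemma hom_eq_zero_of_bounded [HasExt.{w'} A] (X : A) (a b m : ℤ) (hm : b < m) :
    ∀ (M : DerivedCategory A), M.IsGE a → M.IsLE b →
      (∀ (p : ℕ) (j : ℤ), Subsingleton (Abelian.Ext.{w'} X ((homologyFunctor A j).obj M) (p + 1))) →
      ∀ z : (singleFunctor A 0).obj X ⟶ M⟦m⟧, z = 0 := by
  by_cases hab : b < a
  · intro M h1 h2 _ z
    have hM : IsZero M := by
      rw [IsZero.iff_id_eq_zero]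
      exact TStructure.t.zero_of_isLE_of_isGE _ b a hab h2 h1
    exact ((shiftFunctor _ m).map_isZero hM).eq_of_tgt _ _
  · obtain ⟨n, hn⟩ := Int.eq_ofNat_of_zero_le (show 0 ≤ b - a by lia)
    clear hab
    induction n generalizing b with
    | zero =>
      have hb : b = a := by simpa [sub_eq_zero] using hn
      subst hb
      intro M h1 h2 hE z
      refine DTrunc.hom_eq_zero_of_concentrated.{w, v', u', w'} X M b m (fun k hk => ?_) z
      obtain ⟨k', rfl⟩ : ∃ k', k = k' + 1 := ⟨k - 1, by omega⟩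
      exact hE k' b
    | succ n ih =>
      intro M h1 h2 hE z
      refine TriLES.eq_zero₂ (TStructure.t.triangleLTGE_distinguished b M) _ m ?_ ?_ z
      · have h3 : TStructure.t.IsGE ((TStructure.t.truncLT b).obj M) a := inferInstance
        have h4 : TStructure.t.IsLE ((TStructure.t.truncLT b).obj M) (b - 1) := inferInstance
        refine ih (b - 1) (by lia) (by push_cast at hn ⊢; lia) _ h3 h4 ?_
        intro p j
        by_cases hj : j < b
        · have := DTrunc.isIso_homology_map_truncLTι M b j hj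
          exact subsingleton_ext_of_iso X
            (asIso ((homologyFunctor A j).map ((TStructure.t.truncLTι b).app M))) (p + 1) (hE p j)
        · exact subsingleton_ext_of_isZero X (isZero_of_isLE _ (b - 1) j (by lia)) (p + 1)
      · have h3 : TStructure.t.IsGE ((TStructure.t.truncGE b).obj M) b := inferInstance
        have h4 : TStructure.t.IsLE ((TStructure.t.truncGE b).obj M) b := inferInstance
        intro z
        refine DTrunc.hom_eq_zero_of_concentrated.{w, v', u', w'} X ((TStructure.t.truncGE b).obj M) b m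
          (fun k hk => ?_) z
        obtain ⟨k', rfl⟩ : ∃ k', k = k' + 1 := ⟨k - 1, by omega⟩
        have := DTrunc.isIso_homology_map_truncGEπ M b b le_rfl
        exact subsingleton_ext_of_iso X
          (asIso ((homologyFunctor A b).map ((TStructure.t.truncGEπ b).app M))).symm (k' + 1) (hE k' b)

/-- The canonical map is bijective for bounded below objects whose cohomology is acyclic for `X`. -/
lemma can_bijective_of_bounded_below [HasExt.{w'} A] (X : A) (a : ℤ) (K : DerivedCategory A) (hK : K.IsGE a)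
    (hE : ∀ (p : ℕ) (j : ℤ), Subsingleton (Abelian.Ext.{w'} X ((homologyFunctor A j).obj K) (p + 1))) (q : ℤ) :
    Function.Bijective (Can.can : ((singleFunctor A 0).obj X ⟶ K⟦q⟧) → _) := by
  have hE' : ∀ (p : ℕ) (j : ℤ), Subsingleton (Abelian.Ext.{w'} X
      ((homologyFunctor A j).obj ((TStructure.t.truncLT q).obj K)) (p + 1)) := by
    intro p j
    by_cases hj : j < q
    · have := DTrunc.isIso_homology_map_truncLTι K q j hj
      exact subsingleton_ext_of_iso X
        (asIso ((homologyFunctor A j).map ((TStructure.t.truncLTι q).app K))) (p + 1) (hE p j)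
    · exact subsingleton_ext_of_isZero X (isZero_of_isLE _ (q - 1) j (by lia)) (p + 1)
  have h1 : TStructure.t.IsGE ((TStructure.t.truncLT q).obj K) a := inferInstance
  have h2 : TStructure.t.IsLE ((TStructure.t.truncLT q).obj K) (q - 1) := inferInstance
  have h3 : ((TStructure.t.truncGE q).obj K).IsGE q := TStructure.t.isGE_truncGE_obj _ _ _ le_rfl
  have hT := TStructure.t.triangleLTGE_distinguished q K
  have hinj := TriLES.injective_mor₂ hT ((singleFunctor A 0).obj X) q
    (hom_eq_zero_of_bounded.{w, w', v', u'} X a (q - 1) q (by lia) _ h1 h2 hE')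
  have hsurj := TriLES.surjective_mor₂ hT ((singleFunctor A 0).obj X) q (q + 1) rfl
    (hom_eq_zero_of_bounded.{w, w', v', u'} X a (q - 1) (q + 1) (by lia) _ h1 h2 hE')
  have hiso := DTrunc.isIso_homology_map_truncGEπ K q q le_rfl
  have hb := can_bijective_of_isGE X ((TStructure.t.truncGE q).obj K) q
  have hnat : ∀ x : (singleFunctor A 0).obj X ⟶ K⟦q⟧,
      Can.can (x ≫ ((TStructure.t.truncGEπ q).app K)⟦q⟧') =
        Can.can x ≫ (homologyFunctor A q).map ((TStructure.t.truncGEπ q).app K) := fun x =>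
    Can.can_postcomp x _
  constructor
  · intro x y hxy
    apply hinj
    apply hb.1
    refine (hnat x).trans (Eq.trans ?_ (hnat y).symm)
    rw [hxy]
  · intro s
    obtain ⟨z, hz⟩ := hb.2 (s ≫ (homologyFunctor A q).map ((TStructure.t.truncGEπ q).app K))
    obtain ⟨x, hx⟩ := hsurj z
    refine ⟨x, ?_⟩
    rw [← cancel_mono ((homologyFunctor A q).map ((TStructure.t.truncGEπ q).app K)), ← hz, ← hx]
    exact (hnat x).symm

end Ext

section Site

variable {A : Type u'} [Category.{v'} A] [Abelian A] {C : Type u} [Category.{v} C]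
  {J : GrothendieckTopology C} {P : C ⥤ A} (hP : TestSystem J P) [HasDerivedCategory.{w} A]

include hP

/-- Stacks 0D6L, abstract form. -/
theorem injective_of_rlim {K : ℕ → DerivedCategory A} {t : ∀ n, K (n + 1) ⟶ K n} [HasProduct K]
    {L : DerivedCategory A} {a : ∀ n, L ⟶ K n} (hL : CohCx.IsRlimVia K t L a) (V : C) (m : ℤ) (N : ℕ)
    (h : ∀ T ∈ J V, gen T (fun Y =>
      CohCx.LimOneIsZero (fun n => (singleFunctor A 0).obj (P.obj Y) ⟶ (K n)⟦m - 1⟧)
        (fun n => Preadditive.rightComp _ ((t n)⟦m - 1⟧')) ∧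
      ∀ k : ℕ, Function.Injective
        (fun x : (singleFunctor A 0).obj (P.obj Y) ⟶ (K (N + k))⟦m⟧ =>
          x ≫ (CohCx.transition K t N k)⟦m⟧')) ∈ J V)
    (s : P.obj V ⟶ (homologyFunctor A m).obj L) (hs : s ≫ (homologyFunctor A m).map (a N) = 0) : s = 0 := by
  let T2 : Sieve V :=
    { arrows := fun W g => ∃ x : (singleFunctor A 0).obj (P.obj W) ⟶ L⟦m⟧,
        Can.can x = P.map g ≫ s ∧ x ≫ (a N)⟦m⟧' = 0
      downward_closed := by
        rintro W W' g ⟨x, hx1, hx2⟩ k
        refine ⟨(singleFunctor A 0).map (P.map k) ≫ x, ?_, ?_⟩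
        · rw [Can.can_precomp, hx1, P.map_comp, Category.assoc]
        · rw [Category.assoc, hx2, comp_zero] }
  have hT2 : T2 ∈ J V := by
    obtain ⟨T1, hT1, h1⟩ := loc_surj hP s
    refine J.transitive hT1 _ fun W g hg => ?_
    obtain ⟨x, hx⟩ := h1 g hg
    have hx0 : Can.can (x ≫ (a N)⟦m⟧') = 0 := by
      rw [Can.can_postcomp, hx, Category.assoc, hs, comp_zero]
    obtain ⟨T3, hT3, h3⟩ := loc_inj hP _ hx0
    refine J.superset_covering (fun W' k hk => ?_) hT3
    refine ⟨(singleFunctor A 0).map (P.map k) ≫ x, ?_, ?_⟩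
    · rw [Can.can_precomp, hx, P.map_comp, Category.assoc]
    · rw [Category.assoc, h3 k hk]
  refine eq_zero_of_gen hP T2 _ (h T2 hT2) s ?_
  rintro Y f ⟨x, hx1, hx2⟩ ⟨hlim, hinj⟩
  have hcomp := rlimVia_comp hL
  have hx : x = 0 := by
    refine RlimHom.eq_zero_of_limOne hL _ m (fun y => ?_) x (fun n => ?_)
    · obtain ⟨z, hz⟩ := hlim y
      exact ⟨z, fun n => congr_fun hz n⟩
    · by_cases hn : N ≤ n
      · obtain ⟨k, rfl⟩ := Nat.exists_eq_add_of_le hn
        apply hinj k
        dsimp only
        rw [zero_comp, Category.assoc, ← Functor.map_comp, comp_transition hcomp, hx2]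
      · obtain ⟨k, rfl⟩ := Nat.exists_eq_add_of_le (show n ≤ N by omega)
        rw [← comp_transition hcomp n k, Functor.map_comp, reassoc_of% hx2, zero_comp]
  rw [← hx1, hx, Can.can_zero]

end Site

section Tower

variable {A : Type (u' + 1)} [Category.{u'} A] [Abelian A] {C : Type u} [Category.{v} C]
  {J : GrothendieckTopology C} {P : C ⥤ A} (hP : TestSystem J P) [HasDerivedCategory.{w} A]

include hP

/-- Stacks 0D6M, abstract form. -/
theorem isRlimVia_truncTower [HasExt.{w'} A] (E : DerivedCategory A) [HasProduct (CohCx.truncTower E)]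
    (B : C → Prop) (hB : ∀ U : C, gen (⊤ : Sieve U) B ∈ J U)
    (h : ∀ V, B V → ∃ p : ℤ → ℤ, ∀ T ∈ J V, gen T (fun Y => ∀ (m : ℤ) (k : ℕ), p m < k →
      Subsingleton (Abelian.Ext.{w'} (P.obj Y) ((homologyFunctor A (m - k)).obj E) k)) ∈ J V) :
    CohCx.IsRlimVia (CohCx.truncTower E) (CohCx.truncTowerMap E) E (CohCx.toTruncTower E) := by
  obtain ⟨L, a, f, hL, hfa, hiso⟩ := TruncTower.exists_fibre_comparison E
  refine hiso ?_
  rw [DerivedCategory.isIso_iff]
  intro m
  refine isIso_of_bijective hP ((homologyFunctor A m).map f) B hB fun V hV => ?_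
  obtain ⟨p, hp⟩ := h V hV
  obtain ⟨N, hN1, hN2⟩ : ∃ N : ℕ, -(N : ℤ) ≤ m ∧ p m < m + N := by
    refine ⟨(p m - m + 1).toNat + (-m).toNat, ?_, ?_⟩ <;> omega
  have hinj : ∀ s : P.obj V ⟶ (homologyFunctor A m).obj L,
      s ≫ (homologyFunctor A m).map (a N) = 0 → s = 0 := by
    refine injective_of_rlim hP hL V m N fun T hT => ?_
    refine J.superset_covering (gen_mono T fun Y hY => ?_) (hp T hT)
    refine ⟨?_, fun k => ?_⟩
    · refine TruncTower.limOneIsZero_of_eventually_surjective _ _ N fun n hn => ?_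
      refine TruncTower.surjective_step (P.obj Y) E n (m - 1) fun k hk => ?_
      have h1 := hY m k (by omega)
      have e : m - (k : ℤ) = -((n + 1 : ℕ) : ℤ) := by omega
      rw [e] at h1
      exact h1
    · refine TruncTower.injective_transition _ (CohCx.truncTower E) (CohCx.truncTowerMap E) m N
        (fun n hn => ?_) k
      refine TruncTower.injective_step (P.obj Y) E n m fun k hk => ?_
      have h1 := hY m k (by omega)
      have e : m - (k : ℤ) = -((n + 1 : ℕ) : ℤ) := by omega
      rw [e] at h1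
      exact h1
  have hiso2 := TruncTower.isIso_homology_map_toTruncTower E N m hN1
  have hcomp : (homologyFunctor A m).map f ≫ (homologyFunctor A m).map (a N) =
      (homologyFunctor A m).map (CohCx.toTruncTower E N) := by
    rw [← Functor.map_comp, hfa]
  constructor
  · intro x y hxy
    dsimp only at hxy
    rw [← cancel_mono ((homologyFunctor A m).map (CohCx.toTruncTower E N)), ← hcomp,
      reassoc_of% hxy]
  · intro y
    refine ⟨y ≫ (homologyFunctor A m).map (a N) ≫
      inv ((homologyFunctor A m).map (CohCx.toTruncTower E N)), ?_⟩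
    rw [← sub_eq_zero]
    apply hinj
    simp only [Preadditive.sub_comp, Category.assoc, hcomp, IsIso.inv_hom_id, Category.comp_id, sub_self]

/-- Stacks 0BKZ, abstract strong form: if the higher `Ext` groups of `P_U` into the cohomology objects of `K`
vanish for `U` in a covering class, then the canonical map is bijective for such `U`. -/
theorem can_bijective [HasExt.{w'} A] (K : DerivedCategory A) [HasProduct (CohCx.truncTower K)]
    (B : C → Prop) (hB : ∀ U : C, gen (⊤ : Sieve U) B ∈ J U)
    (h : ∀ U, B U → ∀ (p : ℕ) (q : ℤ),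
      Subsingleton (Abelian.Ext.{w'} (P.obj U) ((homologyFunctor A q).obj K) (p + 1)))
    (U : C) (hU : B U) (q : ℤ) :
    Function.Bijective (Can.can : ((singleFunctor A 0).obj (P.obj U) ⟶ K⟦q⟧) → _) := by
  have hR : CohCx.IsRlimVia (CohCx.truncTower K) (CohCx.truncTowerMap K) K (CohCx.toTruncTower K) := by
    refine isRlimVia_truncTower hP K B hB fun V hV => ⟨fun _ => 0, fun T hT => ?_⟩
    refine J.superset_covering (gen_mono T fun Y hY m k hk => ?_) (gen_mem_of_cover B hB T hT)
    have hk' : (0 : ℤ) < k := hk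
    obtain ⟨k', rfl⟩ : ∃ k', k = k' + 1 := ⟨k - 1, by omega⟩
    exact h Y hY k' _
  have hn : ∀ (n : ℕ) (j : ℤ), Function.Bijective
      (Can.can : ((singleFunctor A 0).obj (P.obj U) ⟶ (CohCx.truncTower K n)⟦j⟧) → _) := by
    intro n j
    refine can_bijective_of_bounded_below.{w, w', u', u' + 1} (P.obj U) (-(n : ℤ)) _
      (TStructure.t.isGE_truncGE_obj _ _ _ le_rfl) (fun p i => ?_) j
    by_cases hi : -(n : ℤ) ≤ i
    · have := DTrunc.isIso_homology_map_truncGEπ K (-(n : ℤ)) i hi
      exact subsingleton_ext_of_iso _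
        (asIso ((homologyFunctor A i).map ((TStructure.t.truncGEπ (-(n : ℤ))).app K))).symm (p + 1) (h U hU p i)
    · exact subsingleton_ext_of_isZero _ (isZero_of_isGE _ (-(n : ℤ)) i (by lia)) (p + 1)
  constructor
  · intro x y hxy
    rw [← sub_eq_zero]
    have hx0 : Can.can (x - y) = 0 := by rw [Can.can_sub, hxy, sub_self]
    refine RlimHom.eq_zero_of_limOne hR _ q (fun z => ?_) (x - y) fun n => ?_
    · obtain ⟨z', hz'⟩ := TruncTower.limOneIsZero_of_eventually_surjective
        (fun n => (singleFunctor A 0).obj (P.obj U) ⟶ (CohCx.truncTower K n)⟦q - 1⟧)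
        (fun n => Preadditive.rightComp _ ((CohCx.truncTowerMap K n)⟦q - 1⟧')) ((-q).toNat) (fun n hn' => by
          refine TruncTower.surjective_step (P.obj U) K n (q - 1) fun k hk => ?_
          obtain ⟨k', rfl⟩ : ∃ k', k = k' + 1 := ⟨k - 1, by omega⟩
          exact h U hU k' _) z
      exact ⟨z', fun n => congr_fun hz' n⟩
    · apply (hn n q).1
      rw [Can.can_postcomp, hx0, zero_comp, Can.can_zero]
  · intro s
    choose x hx using fun n => (hn n q).2 (s ≫ (homologyFunctor A q).map (CohCx.toTruncTower K n))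
    obtain ⟨y, hy⟩ := RlimHom.exists_lift hR _ q x (fun n => by
      apply (hn n q).1
      rw [Can.can_postcomp, hx, hx, Category.assoc, ← Functor.map_comp, TruncTower.toTruncTower_map])
    refine ⟨y, ?_⟩
    have hiso := TruncTower.isIso_homology_map_toTruncTower K ((-q).toNat) q (by omega)
    rw [← cancel_mono ((homologyFunctor A q).map (CohCx.toTruncTower K ((-q).toNat))), ← hx,
      ← Can.can_postcomp, hy]

end Tower

end Groth.Agent.CohtopB.TestSys
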