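import Groth.Agent.CohtopB.TestSysLim
import Groth.Agent.CohtopB.OpSeqHom

/-!
Cohomology objects of a derived limit as limits, for an abstract test system (abstract form of Stacks 0A09).
-/

set_option autoImplicit false
universe w v u w' v' u'

open CategoryTheory CategoryTheory.Limits CategoryTheory.Pretriangulated DerivedCategory

namespace Groth.Agent.CohtopB.TestSys

open OpSeqHom

variable {A : Type u'} [Category.{v'} A] [Abelian A] {C : Type u} [Category.{v} C]
  {J : GrothendieckTopology C} {P : C ⥤ A} (hP : TestSystem J P) [HasDerivedCategory.{w} A]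

/-- The map `H^q(L) ⟶ lim H^q(K n)` for compatible maps `a n : L ⟶ K n`. -/
noncomputable def homologyToLim {K : ℕ → DerivedCategory A} {t : ∀ n, K (n + 1) ⟶ K n}
    {L : DerivedCategory A} {a : ∀ n, L ⟶ K n} (ha : ∀ n, a (n + 1) ≫ t n = a n) (q : ℤ)
    [HasLimit (CohCx.opSequence (fun n => (homologyFunctor A q).obj (K n))
      (fun n => (homologyFunctor A q).map (t n)))] :
    (homologyFunctor A q).obj L ⟶ limit (CohCx.opSequence (fun n => (homologyFunctor A q).obj (K n))
      (fun n => (homologyFunctor A q).map (t n))) :=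
  limLift _ _ (fun n => (homologyFunctor A q).map (a n))
    (fun n => by rw [← Functor.map_comp, ha])

lemma homologyToLim_π {K : ℕ → DerivedCategory A} {t : ∀ n, K (n + 1) ⟶ K n}
    {L : DerivedCategory A} {a : ∀ n, L ⟶ K n} (ha : ∀ n, a (n + 1) ≫ t n = a n) (q : ℤ)
    [HasLimit (CohCx.opSequence (fun n => (homologyFunctor A q).obj (K n))
      (fun n => (homologyFunctor A q).map (t n)))] (n : ℕ) :
    homologyToLim ha q ≫ limπ _ _ n = (homologyFunctor A q).map (a n) :=
  limLift_π _ _ _ _ n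

include hP

/-- Stacks 0A09, abstract form: if the canonical maps `Hom(P_U[0], K n[i]) ⟶ Hom(P_U, H^i(K n))` are bijective for
`U` in a covering class and `R¹lim` of the `Hom(P_U, H^i(K n))` vanishes, then `H^q(Rlim K n) = lim H^q(K n)`. -/
theorem isIso_homologyToLim {K : ℕ → DerivedCategory A} {t : ∀ n, K (n + 1) ⟶ K n} [HasProduct K]
    {L : DerivedCategory A} {a : ∀ n, L ⟶ K n} (hL : CohCx.IsRlimVia K t L a)
    (B : C → Prop) (hB : ∀ U : C, gen (⊤ : Sieve U) B ∈ J U)
    (h1 : ∀ U, B U → ∀ (n : ℕ) (q : ℤ), Function.Bijective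
      (Can.can : ((singleFunctor A 0).obj (P.obj U) ⟶ (K n)⟦q⟧) → _))
    (h2 : ∀ U, B U → ∀ q : ℤ, CohCx.LimOneIsZero (fun n => P.obj U ⟶ (homologyFunctor A q).obj (K n))
      (fun n => Preadditive.rightComp _ ((homologyFunctor A q).map (t n))))
    (q : ℤ) [HasLimit (CohCx.opSequence (fun n => (homologyFunctor A q).obj (K n))
      (fun n => (homologyFunctor A q).map (t n)))] :
    IsIso (homologyToLim (rlimVia_comp hL) q) := by
  have ha := rlimVia_comp hL
  -- the composite `Hom(P_U[0], L[q]) → Hom(P_U, lim H^q(K n))` is injective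
  have inj : ∀ U, B U → ∀ x : (singleFunctor A 0).obj (P.obj U) ⟶ L⟦q⟧,
      Can.can x ≫ homologyToLim ha q = 0 → x = 0 := by
    intro U hU x hx
    refine RlimHom.eq_zero_of_limOne hL _ q (fun z => ?_) x fun n => ?_
    · obtain ⟨y, hy⟩ := h2 U hU (q - 1) (fun n => Can.can (z n))
      choose y' hy' using fun n => (h1 U hU n (q - 1)).2 (y n)
      refine ⟨y', fun n => (h1 U hU n (q - 1)).1 ?_⟩
      rw [Can.can_sub, Can.can_postcomp, hy', hy']
      exact congrFun hy n
    · apply (h1 U hU n q).1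
      rw [Can.can_postcomp, Can.can_zero, ← homologyToLim_π ha q n, ← Category.assoc, hx, zero_comp]
  have surj : ∀ U, B U → ∀ s, ∃ x : (singleFunctor A 0).obj (P.obj U) ⟶ L⟦q⟧,
      Can.can x ≫ homologyToLim ha q = s := by
    intro U hU s
    choose x hx using fun n => (h1 U hU n q).2 (s ≫ limπ _ _ n)
    obtain ⟨y, hy⟩ := RlimHom.exists_lift hL _ q x (fun n => by
      apply (h1 U hU n q).1
      rw [Can.can_postcomp, hx, hx, Category.assoc, limπ_succ])
    refine ⟨y, lim_hom_ext _ _ fun n => ?_⟩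
    rw [Category.assoc, homologyToLim_π, ← hx, ← hy, Can.can_postcomp]
  refine isIso_of_bijective hP _ B hB fun U hU => ⟨?_, ?_⟩
  · intro x y hxy
    dsimp only at hxy
    rw [← sub_eq_zero]
    have hx0 : (x - y) ≫ homologyToLim ha q = 0 := by rw [Preadditive.sub_comp, hxy, sub_self]
    obtain ⟨T, hT, hl⟩ := loc_surj hP (x - y)
    refine eq_zero_of_gen hP T B (gen_mem_of_cover B hB T hT) (x - y) fun {Y} f hf hY => ?_
    obtain ⟨z, hz⟩ := hl f hf
    have : z = 0 := inj Y hY z (by rw [hz, Category.assoc, hx0, comp_zero])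
    rw [← hz, this, Can.can_zero]
  · intro s
    obtain ⟨x, hx⟩ := surj U hU s
    exact ⟨Can.can x, hx⟩

end Groth.Agent.CohtopB.TestSys
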