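import Groth.Agent.CohtopB.TestSysLim
import Groth.Agent.CohtopB.FreeSheafHom
import Groth.Agent.CurvesA.SiteZU

/-!
The free abelian sheaves on the objects of a site form a test system (see `TestSys`):
* `TestSystem.zu`: `ZU J : C ⥤ Sheaf J AddCommGrpCat.{max w v}` for any site and any universe;
* `TestSystem.free`: the functor `U ↦ CohCx.freeSheaf J U` on a small site.
-/

set_option autoImplicit false
universe t w v u w' v' u'

open CategoryTheory CategoryTheory.Limits Opposite

namespace Groth.Agent.CohtopB.TestSystem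

/-- A sheaf of abelian groups without nonzero sections is zero. -/
lemma isZero_of_sections {C : Type u} [Category.{v} C] {J : GrothendieckTopology C}
    (F : Sheaf J AddCommGrpCat.{t}) (h : ∀ (U : C) (s : F.obj.obj (op U)), s = 0) : IsZero F := by
  have h1 : IsZero F.obj := by
    refine (Functor.isZero_iff _).2 fun U => ?_
    have : Subsingleton (F.obj.obj U) := ⟨fun a b => (h U.unop a).trans (h U.unop b).symm⟩
    exact AddCommGrpCat.isZero_of_subsingleton _
  refine ⟨fun G => ⟨⟨⟨0⟩, fun f => ?_⟩⟩, fun G => ⟨⟨⟨0⟩, fun f => ?_⟩⟩⟩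
  · exact Sheaf.hom_ext (h1.eq_of_src _ _)
  · exact Sheaf.hom_ext (h1.eq_of_tgt _ _)

/-- A section of a sheaf of abelian groups is zero if it is locally zero. -/
lemma section_eq_zero {C : Type u} [Category.{v} C] {J : GrothendieckTopology C}
    [J.HasSheafCompose (forget AddCommGrpCat.{t})]
    (F : Sheaf J AddCommGrpCat.{t}) {U : C} {T : Sieve U} (hT : T ∈ J U)
    (s : F.obj.obj (op U)) (h : ∀ ⦃W : C⦄ (g : W ⟶ U), T.arrows g → F.obj.map g.op s = 0) : s = 0 := by
  have hsep := ((isSheaf_iff_isSheaf_of_type J _).1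
    ((sheafCompose J (forget AddCommGrpCat.{t})).obj F).property).isSeparated
  refine (hsep T hT).ext (t₁ := s) (t₂ := (0 : F.obj.obj (op U))) ?_
  intro W g hg
  change F.obj.map g.op s = (F.obj.map g.op).hom 0
  rw [h g hg, map_zero]

/-- Test systems from an identification of `Hom(P_U, F)` with the sections of `F` over `U`. -/
theorem ofEv {C : Type u} [Category.{v} C] {J : GrothendieckTopology C}
    [HasSheafify J AddCommGrpCat.{t}] [J.HasSheafCompose (forget AddCommGrpCat.{t})]
    [J.WEqualsLocallyBijective AddCommGrpCat.{t}]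
    (P : C ⥤ Sheaf J AddCommGrpCat.{t})
    (ev : ∀ (U : C) (F : Sheaf J AddCommGrpCat.{t}), (P.obj U ⟶ F) →+ F.obj.obj (op U))
    (ev_inj : ∀ U F, Function.Injective (ev U F)) (ev_surj : ∀ U F, Function.Surjective (ev U F))
    (ev_comp : ∀ (U : C) (F G : Sheaf J AddCommGrpCat.{t}) (f : P.obj U ⟶ F) (g : F ⟶ G),
      ev U G (f ≫ g) = g.hom.app (op U) (ev U F f))
    (ev_map : ∀ (U V : C) (h : V ⟶ U) (F : Sheaf J AddCommGrpCat.{t}) (f : P.obj U ⟶ F),
      ev V F (P.map h ≫ f) = F.obj.map h.op (ev U F f)) : TestSystem J P where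
  joint_epi {U} T hT {F} x hx := by
    apply ev_inj
    rw [map_zero]
    refine section_eq_zero F hT _ fun W g hg => ?_
    rw [← ev_map, hx g hg, map_zero]
  lift {U F} φ hφ := by
    have hs : Sheaf.IsLocallySurjective φ :=
      (Sheaf.isLocallySurjective_iff_epi' AddCommGrpCat.{t} φ).2 hφ
    refine ⟨_, hs.imageSieve_mem (ev U _ (𝟙 (P.obj U))), fun {V} g hg => ?_⟩
    obtain ⟨s, hs⟩ := hg
    obtain ⟨y, hy⟩ := ev_surj V F s
    refine ⟨y, ev_inj _ _ ?_⟩
    rw [ev_comp, hy]
    refine hs.trans ?_
    rw [← ev_map, Category.comp_id]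
  isZero F h := by
    refine isZero_of_sections F fun U s => ?_
    obtain ⟨x, rfl⟩ := ev_surj U F s
    rw [h U x, map_zero]

/-- The functor `U ↦ ℤ_U` (any universe). -/
theorem zu {C : Type u} [Category.{v} C] (J : GrothendieckTopology C)
    [HasSheafify J AddCommGrpCat.{max w v}] [J.HasSheafCompose (forget AddCommGrpCat.{max w v})]
    [J.WEqualsLocallyBijective AddCommGrpCat.{max w v}] :
    TestSystem J (CurvesA.SiteZU.ZU.{w} J) := by
  refine ofEv _ (fun U F => CurvesA.SiteZU.ev) (fun U F => CurvesA.SiteZU.ev_injective)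
    (fun U F s => ⟨CurvesA.SiteZU.lift s, CurvesA.SiteZU.ev_lift s⟩)
    (fun U F G f g => CurvesA.SiteZU.ev_comp f g) (fun U V h F f => ?_)
  exact CurvesA.SiteZU.ev_map_comp h f

/-- The functor `U ↦ CohCx.freeSheaf J U` on a small site. -/
noncomputable abbrev freeFunctor {C : Type u} [SmallCategory C] (J : GrothendieckTopology C) :
    C ⥤ Sheaf J AddCommGrpCat.{u} :=
  yoneda ⋙ (Functor.whiskeringRight _ _ _).obj AddCommGrpCat.free.{u} ⋙ presheafToSheaf J AddCommGrpCat.{u}

/-- Evaluation at the generator. -/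
noncomputable def evFree {C : Type u} [SmallCategory C] {J : GrothendieckTopology C} (U : C)
    (F : Sheaf J AddCommGrpCat.{u}) : ((freeFunctor J).obj U ⟶ F) →+ F.obj.obj (op U) :=
  (FreeSheafHom.homEquivSections U F).toAddMonoidHom

lemma evFree_apply {C : Type u} [SmallCategory C] {J : GrothendieckTopology C} {U : C}
    {F : Sheaf J AddCommGrpCat.{u}} (f : CohCx.freeSheaf J U ⟶ F) :
    evFree U F f = f.hom.app (op U) (FreeSheafHom.gen J U) := rfl

lemma evFree_injective {C : Type u} [SmallCategory C] {J : GrothendieckTopology C} (U : C)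
    (F : Sheaf J AddCommGrpCat.{u}) : Function.Injective (evFree U F) :=
  (FreeSheafHom.homEquivSections U F).injective

lemma evFree_surjective {C : Type u} [SmallCategory C] {J : GrothendieckTopology C} (U : C)
    (F : Sheaf J AddCommGrpCat.{u}) : Function.Surjective (evFree U F) :=
  (FreeSheafHom.homEquivSections U F).surjective

lemma evFree_map {C : Type u} [SmallCategory C] {J : GrothendieckTopology C} (U V : C) (h : V ⟶ U)
    (F : Sheaf J AddCommGrpCat.{u}) (f : (freeFunctor J).obj U ⟶ F) :
    evFree V F ((freeFunctor J).map h ≫ f) = F.obj.map h.op (evFree U F f) :=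
  FreeSheafHom.freeSheafMap_comp_app_gen h f

theorem free {C : Type u} [SmallCategory C] (J : GrothendieckTopology C) :
    TestSystem J (freeFunctor J) :=
  ofEv.{u, u, u} (freeFunctor J) evFree evFree_injective evFree_surjective (fun _ _ _ _ _ => rfl) evFree_map

end Groth.Agent.CohtopB.TestSystem
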