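import Groth.Prelude.Def_CohDer
import Mathlib.CategoryTheory.Triangulated.Orthogonal
import Mathlib.CategoryTheory.Triangulated.Generators
import Mathlib.CategoryTheory.Limits.Preserves.Shapes.Products
import Mathlib.CategoryTheory.Preadditive.AdditiveFunctor

/-!
# Compact objects in triangulated categories

* `isCompactObject_iff`: `K` is compact iff every map into a (small) coproduct is a finite sum of
  maps into the summands.
* `compactProp`: the compact objects as an object property: triangulated, closed under retracts.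
* `prop_of_generates`: a triangulated subcategory closed under small coproducts which contains a
  compact generator is everything (telescope construction).
-/

set_option autoImplicit false

universe v u

open CategoryTheory CategoryTheory.Limits CategoryTheory.Pretriangulated

namespace Groth.Agent.CohtopB.TriCompact

section Additive

variable {D : Type u} [Category.{v} D] [Preadditive D]

lemma homSumToHomCoprod_of (K : D) {ι : Type v} [DecidableEq ι] (X : ι → D) [HasCoproduct X]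
    (i : ι) (g : K ⟶ X i) :
    CohDer.homSumToHomCoprod K X (DirectSum.of (fun i => K ⟶ X i) i g) = g ≫ Sigma.ι X i := by
  unfold CohDer.homSumToHomCoprod
  rw [Subsingleton.elim (fun a b => Classical.propDecidable (a = b)) ‹DecidableEq ι›]
  rw [DirectSum.toAddMonoid_of]
  rfl

lemma homSumToHomCoprod_apply (K : D) {ι : Type v} [DecidableEq ι] (X : ι → D) [HasCoproduct X]
    (x : DirectSum ι (fun i => K ⟶ X i)) [∀ (i : ι) (x : K ⟶ X i), Decidable (x ≠ 0)] :
    CohDer.homSumToHomCoprod K X x = ∑ i ∈ DFinsupp.support x, x i ≫ Sigma.ι X i := by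
  conv_lhs => rw [← DirectSum.sum_support_of x]
  rw [map_sum]
  exact Finset.sum_congr rfl (fun i _ => homSumToHomCoprod_of K X i _)

/-- The criterion for compactness: maps into coproducts are finite sums of maps into the summands. -/
theorem isCompactObject_iff [HasCoproducts.{v} D] (K : D) :
    CohDer.IsCompactObject K ↔ ∀ (ι : Type v) (X : ι → D) (f : K ⟶ ∐ X),
      ∃ (s : Finset ι) (g : ∀ i, K ⟶ X i), f = ∑ i ∈ s, g i ≫ Sigma.ι X i := by
  classical
  constructor
  · intro h ι X f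
    obtain ⟨x, rfl⟩ := (h ι X).2 f
    exact ⟨DFinsupp.support x, fun i => x i, homSumToHomCoprod_apply K X x⟩
  · intro h ι X
    constructor
    · rw [injective_iff_map_eq_zero]
      intro x hx
      rw [homSumToHomCoprod_apply] at hx
      ext j
      have h1 := congrArg (fun f => f ≫ Sigma.π X j) hx
      simp only [Preadditive.sum_comp, Category.assoc, zero_comp] at h1
      rw [Finset.sum_eq_single j] at h1
      · simpa using h1
      · intro b _ hb
        rw [Sigma.ι_π_of_ne X hb, comp_zero]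
      · intro hj
        rw [DFinsupp.notMem_support_iff] at hj
        rw [hj, zero_comp]
    · intro f
      obtain ⟨s, g, rfl⟩ := h ι X f
      refine ⟨∑ i ∈ s, DirectSum.of (fun i => K ⟶ X i) i (g i), ?_⟩
      rw [map_sum]
      exact Finset.sum_congr rfl (fun i _ => homSumToHomCoprod_of K X i _)

/-- Reindexing a coproduct over `ℕ`. -/
lemma exists_sum_nat [HasCoproducts.{v} D] {K : D} (hK : CohDer.IsCompactObject K)
    (X : ℕ → D) [HasCoproduct X] (f : K ⟶ ∐ X) :
    ∃ (s : Finset ℕ) (g : ∀ i, K ⟶ X i), f = ∑ i ∈ s, g i ≫ Sigma.ι X i := by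
  classical
  let e : ULift.{v} ℕ ≃ ℕ := Equiv.ulift
  let r : (∐ (X ∘ e)) ≅ ∐ X := Sigma.reindex e X
  obtain ⟨s, g, hg⟩ := (isCompactObject_iff K).1 hK _ _ (f ≫ r.inv)
  refine ⟨s.map e.toEmbedding, fun i => g ⟨i⟩, ?_⟩
  rw [Finset.sum_map]
  have : f = (f ≫ r.inv) ≫ r.hom := by simp
  rw [this, hg, Preadditive.sum_comp]
  refine Finset.sum_congr rfl (fun i _ => ?_)
  rw [Category.assoc]
  congr 1
  exact Sigma.ι_reindex_hom e X i

variable [HasCoproducts.{v} D]

variable (D) in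
/-- The property of being compact. -/
def compactProp : ObjectProperty D := fun K => CohDer.IsCompactObject K

instance : (compactProp D).IsStableUnderRetracts where
  of_retract := by
    intro K L r hL
    rw [compactProp, isCompactObject_iff] at *
    intro ι X f
    obtain ⟨s, g, hg⟩ := hL ι X (r.r ≫ f)
    refine ⟨s, fun i => r.i ≫ g i, ?_⟩
    have : f = r.i ≫ r.r ≫ f := by simp
    rw [this, hg, Preadditive.comp_sum]
    simp

lemma isCompactObject_of_adj {D' : Type*} [Category.{v} D'] [Preadditive D'] [HasCoproducts.{v} D']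
    (F : D ⥤ D') (G : D' ⥤ D) [G.Additive]
    (adj : F ⊣ G) [∀ (ι : Type v), PreservesColimitsOfShape (Discrete ι) G] (K : D)
    (hK : CohDer.IsCompactObject K) : CohDer.IsCompactObject (F.obj K) := by
  rw [isCompactObject_iff] at *
  intro ι X f
  obtain ⟨s, g, hg⟩ := hK ι (fun i => G.obj (X i))
    ((adj.homEquiv _ _) f ≫ (PreservesCoproduct.iso G X).hom)
  refine ⟨s, fun i => (adj.homEquiv _ _).symm (g i), ?_⟩
  have h1 : (adj.homEquiv _ _) f = ∑ i ∈ s, g i ≫ G.map (Sigma.ι X i) := by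
    have : (adj.homEquiv _ _) f = ((adj.homEquiv _ _) f ≫ (PreservesCoproduct.iso G X).hom) ≫
      (PreservesCoproduct.iso G X).inv := by
        rw [Category.assoc, Iso.hom_inv_id, Category.comp_id]
    rw [this, hg, Preadditive.sum_comp]
    refine Finset.sum_congr rfl (fun i _ => ?_)
    rw [Category.assoc]
    congr 1
    simp [PreservesCoproduct.inv_hom]
  have h2 : f = (adj.homEquiv _ _).symm ((adj.homEquiv _ _) f) := by simp
  rw [h2, h1]
  apply (adj.homEquiv _ _).injective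
  rw [Equiv.apply_symm_apply]
  simp only [Adjunction.homEquiv_unit, Functor.map_sum, Preadditive.comp_sum]
  refine Finset.sum_congr rfl (fun i _ => ?_)
  rw [← Adjunction.homEquiv_unit, Adjunction.homEquiv_naturality_right, Equiv.apply_symm_apply]

end Additive

section Triangulated

variable {D : Type u} [Category.{v} D] [Preadditive D] [Limits.HasZeroObject D] [HasShift D ℤ]
    [∀ n : ℤ, (shiftFunctor D n).Additive] [Pretriangulated D] [HasCoproducts.{v} D]

omit [Limits.HasZeroObject D] [Pretriangulated D] in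
lemma isCompactObject_shift {K : D} (hK : CohDer.IsCompactObject K) (n : ℤ) :
    CohDer.IsCompactObject (K⟦n⟧) :=
  isCompactObject_of_adj (shiftFunctor D n) (shiftFunctor D (-n)) (shiftEquiv D n).toAdjunction K hK

instance : (compactProp D).IsStableUnderShift ℤ where
  isStableUnderShiftBy n := ⟨fun _ hK => isCompactObject_shift hK n⟩

instance : (compactProp D).ContainsZero where
  exists_zero := by
    obtain ⟨Z, hZ⟩ := HasZeroObject.zero (C := D)
    refine ⟨Z, hZ, ?_⟩
    rw [compactProp, isCompactObject_iff]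
    intro ι X f
    exact ⟨∅, fun _ => 0, hZ.eq_of_src _ _⟩

instance : (compactProp D).IsClosedUnderIsomorphisms := inferInstance

omit [HasCoproducts.{v} D] [Limits.HasZeroObject D] [HasShift D ℤ]
  [∀ n : ℤ, (shiftFunctor D n).Additive] [Pretriangulated D] in
lemma sum_ι_eq_zero {K : D} {ι : Type*} {X : ι → D} [HasCoproduct X] (s : Finset ι)
    (g : ∀ i, K ⟶ X i) (h : ∑ i ∈ s, g i ≫ Sigma.ι X i = 0) (j : ι) (hj : j ∈ s) : g j = 0 := by
  classical
  have h1 := congrArg (fun f => f ≫ Sigma.π X j) h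
  simp only [Preadditive.sum_comp, Category.assoc, zero_comp] at h1
  rw [Finset.sum_eq_single j] at h1
  · simpa using h1
  · intro b _ hb
    rw [Sigma.ι_π_of_ne X hb, comp_zero]
  · intro hj'
    exact absurd hj hj'

omit [HasCoproducts.{v} D] in
lemma yoneda_exact₁ (T : Triangle D) (hT : T ∈ distTriang D) :
    ∃ (W : D) (u : W ⟶ T.obj₁), u ≫ T.mor₁ = 0 ∧
      ∀ {X : D} (g : T.obj₁ ⟶ X), u ≫ g = 0 → ∃ k : T.obj₂ ⟶ X, g = T.mor₁ ≫ k :=
  ⟨_, T.invRotate.mor₁, comp_distTriang_mor_zero₁₂ _ (inv_rot_of_distTriang _ hT),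
    fun g hg => Triangle.yoneda_exact₂ _ (inv_rot_of_distTriang _ hT) g hg⟩

instance : (compactProp D).IsTriangulatedClosed₂ :=
  .mk' (fun T hT h₁ h₃ => by
    classical
    rw [compactProp, isCompactObject_iff] at *
    intro ι X f
    obtain ⟨s, g, hg⟩ := h₁ ι X (T.mor₁ ≫ f)
    -- extend the components to `T.obj₂`
    obtain ⟨W, u, hu, hu'⟩ := yoneda_exact₁ T hT
    have h0 : ∀ i ∈ s, u ≫ g i = 0 := by
      refine sum_ι_eq_zero s (fun i => u ≫ g i) ?_
      simp only [Category.assoc]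
      rw [← Preadditive.comp_sum, ← hg, reassoc_of% hu, zero_comp]
    have h1 : ∀ i, ∃ k : T.obj₂ ⟶ X i, i ∈ s → g i = T.mor₁ ≫ k := by
      intro i
      by_cases hi : i ∈ s
      · obtain ⟨k, hk⟩ := hu' (g i) (h0 i hi)
        exact ⟨k, fun _ => hk⟩
      · exact ⟨0, fun h => absurd h hi⟩
    choose k hk using h1
    have h2 : T.mor₁ ≫ (f - ∑ i ∈ s, k i ≫ Sigma.ι X i) = 0 := by
      rw [Preadditive.comp_sub, hg, Preadditive.comp_sum, sub_eq_zero]
      refine Finset.sum_congr rfl (fun i hi => ?_)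
      rw [hk i hi, Category.assoc]
    obtain ⟨l, hl⟩ := Triangle.yoneda_exact₂ _ hT _ h2
    obtain ⟨s', g', hg'⟩ := h₃ ι X l
    refine ⟨s ∪ s', fun i => (if i ∈ s then k i else 0) +
      (if i ∈ s' then T.mor₂ ≫ g' i else 0), ?_⟩
    have h3 : f = (∑ i ∈ s, k i ≫ Sigma.ι X i) + ∑ i ∈ s', (T.mor₂ ≫ g' i) ≫ Sigma.ι X i := by
      have : f = (∑ i ∈ s, k i ≫ Sigma.ι X i) + (f - ∑ i ∈ s, k i ≫ Sigma.ι X i) := by abel
      rw [this, hl, hg', Preadditive.comp_sum]
      simp
    rw [h3]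
    simp only [Preadditive.add_comp, Finset.sum_add_distrib]
    congr 1
    · rw [← Finset.sum_subset (Finset.subset_union_left (s₁ := s) (s₂ := s'))]
      · exact Finset.sum_congr rfl (fun i hi => by simp [hi])
      · intro i _ hi
        simp [hi]
    · rw [← Finset.sum_subset (Finset.subset_union_right (s₁ := s) (s₂ := s'))]
      · exact Finset.sum_congr rfl (fun i hi => by simp [hi])
      · intro i _ hi
        simp [hi])

instance : (compactProp D).IsTriangulated where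

/-! ### The telescope -/

/-- The map `1 - shift` on the coproduct of a sequence. -/
noncomputable def telMap (X : ℕ → D) (t : ∀ n, X n ⟶ X (n + 1)) [HasCoproduct X] : ∐ X ⟶ ∐ X :=
  Sigma.desc (fun n => Sigma.ι X n - t n ≫ Sigma.ι X (n + 1))

omit [HasCoproducts.{v} D] [Limits.HasZeroObject D] [HasShift D ℤ]
  [∀ n : ℤ, (shiftFunctor D n).Additive] [Pretriangulated D] in
@[reassoc]
lemma ι_telMap (X : ℕ → D) (t : ∀ n, X n ⟶ X (n + 1)) [HasCoproduct X] (n : ℕ) :
    Sigma.ι X n ≫ telMap X t = Sigma.ι X n - t n ≫ Sigma.ι X (n + 1) := by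
  simp [telMap]

omit [Limits.HasZeroObject D] [HasShift D ℤ]
  [∀ n : ℤ, (shiftFunctor D n).Additive] [Pretriangulated D] in
lemma eq_zero_of_comp_telMap {K : D} (hK : CohDer.IsCompactObject K) (X : ℕ → D)
    (t : ∀ n, X n ⟶ X (n + 1)) [HasCoproduct X] (f : K ⟶ ∐ X) (hf : f ≫ telMap X t = 0) :
    f = 0 := by
  classical
  have h0 : telMap X t ≫ Sigma.π X 0 = Sigma.π X 0 := by
    refine Sigma.hom_ext _ _ (fun i => ?_)
    rw [ι_telMap_assoc, Preadditive.sub_comp, Category.assoc,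
      Sigma.ι_π_of_ne X (show i + 1 ≠ 0 by simp), comp_zero, sub_zero]
  have hs : ∀ j : ℕ, telMap X t ≫ Sigma.π X (j + 1) =
      Sigma.π X (j + 1) - Sigma.π X j ≫ t j := by
    intro j
    refine Sigma.hom_ext _ _ (fun i => ?_)
    rw [ι_telMap_assoc, Preadditive.sub_comp, Preadditive.comp_sub, Category.assoc]
    congr 1
    by_cases hij : i = j
    · subst hij
      rw [Sigma.ι_π_eq_id, Category.comp_id, Sigma.ι_π_eq_id_assoc]
    · rw [Sigma.ι_π_of_ne X (show i + 1 ≠ j + 1 by simpa using hij), comp_zero,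
        Sigma.ι_π_of_ne_assoc X hij, zero_comp]
  have hg : ∀ j : ℕ, f ≫ Sigma.π X j = 0 := by
    intro j
    induction j with
    | zero => rw [← h0, reassoc_of% hf, zero_comp]
    | succ j ih =>
      have h1 : f ≫ (telMap X t ≫ Sigma.π X (j + 1)) = 0 := by rw [reassoc_of% hf, zero_comp]
      rw [hs, Preadditive.comp_sub, reassoc_of% ih, zero_comp, sub_zero] at h1
      exact h1
  obtain ⟨s, g, rfl⟩ := exists_sum_nat hK X f
  refine Finset.sum_eq_zero (fun i hi => ?_)
  have := hg i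
  simp only [Preadditive.sum_comp, Category.assoc] at this
  rw [Finset.sum_eq_single i, Sigma.ι_π_eq_id, Category.comp_id] at this
  · rw [this, zero_comp]
  · intro b _ hb
    rw [Sigma.ι_π_of_ne X hb, comp_zero]
  · intro h
    exact absurd hi h

omit [HasCoproducts.{v} D] [Limits.HasZeroObject D] [Pretriangulated D] in
/-- Left cancellation through a shift. -/
lemma shift_eq_zero {K S T : D} (a : S ⟶ T) (h : ∀ p : K⟦(-1 : ℤ)⟧ ⟶ S, p ≫ a = 0 → p = 0)
    (f : K ⟶ S⟦(1 : ℤ)⟧) (hf : f ≫ a⟦(1 : ℤ)⟧' = 0) : f = 0 := by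
  let e : (K⟦(-1 : ℤ)⟧)⟦(1 : ℤ)⟧ ≅ K := (shiftFunctorCompIsoId D (-1 : ℤ) 1 (by simp)).app K
  obtain ⟨p, hp⟩ := (shiftFunctor D (1 : ℤ)).map_surjective (e.hom ≫ f)
  have h1 : p ≫ a = 0 := by
    apply (shiftFunctor D (1 : ℤ)).map_injective
    rw [Functor.map_comp, hp, Category.assoc, hf, comp_zero, Functor.map_zero]
  rw [h p h1, Functor.map_zero] at hp
  rw [← cancel_epi e.hom, ← hp, comp_zero]

/-- Maps from a compact object into a telescope factor through a finite stage. -/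
lemma exists_fac_telescope {K : D} (hK : CohDer.IsCompactObject K) (X : ℕ → D)
    (t : ∀ n, X n ⟶ X (n + 1)) [HasCoproduct X] {T : D} (q : ∐ X ⟶ T) (r : T ⟶ (∐ X)⟦(1 : ℤ)⟧)
    (hT : Triangle.mk (telMap X t) q r ∈ distTriang D) (h : K ⟶ T) :
    ∃ (N : ℕ) (g : K ⟶ X N), h = g ≫ Sigma.ι X N ≫ q := by
  classical
  have hq : ∀ n, Sigma.ι X n ≫ q = t n ≫ Sigma.ι X (n + 1) ≫ q := by
    intro n
    have h1 : telMap X t ≫ q = 0 := comp_distTriang_mor_zero₁₂ _ hT
    have h2 := ι_telMap_assoc X t n q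
    rw [h1, comp_zero, Preadditive.sub_comp, Category.assoc] at h2
    exact (sub_eq_zero.1 h2.symm)
  have hq' : ∀ k N, k ≤ N → ∃ t' : X k ⟶ X N, Sigma.ι X k ≫ q = t' ≫ Sigma.ι X N ≫ q := by
    intro k N hkN
    induction N, hkN using Nat.le_induction with
    | base => exact ⟨𝟙 _, by simp⟩
    | succ N _ ih =>
      obtain ⟨t', ht'⟩ := ih
      exact ⟨t' ≫ t N, by rw [ht', hq N, Category.assoc]⟩
  have h0 : h ≫ r = 0 := by
    refine shift_eq_zero (telMap X t)
      (fun p hp => eq_zero_of_comp_telMap (isCompactObject_shift hK (-1)) X t p hp) _ ?_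
    have : r ≫ (telMap X t)⟦(1 : ℤ)⟧' = 0 := comp_distTriang_mor_zero₃₁ _ hT
    rw [Category.assoc, this, comp_zero]
  obtain ⟨h', rfl⟩ : ∃ h' : K ⟶ ∐ X, h = h' ≫ q := Triangle.coyoneda_exact₃ _ hT h h0
  obtain ⟨s, g, rfl⟩ := exists_sum_nat hK X h'
  rw [Preadditive.sum_comp]
  clear h0
  induction s using Finset.induction_on with
  | empty => exact ⟨0, 0, by simp⟩
  | insert i s his ih =>
    obtain ⟨N, g', hg'⟩ := ih
    obtain ⟨t₁, ht₁⟩ := hq' i (max i N) (le_max_left _ _)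
    obtain ⟨t₂, ht₂⟩ := hq' N (max i N) (le_max_right _ _)
    refine ⟨max i N, g i ≫ t₁ + g' ≫ t₂, ?_⟩
    rw [Finset.sum_insert his, hg', Preadditive.add_comp, Category.assoc, Category.assoc,
      Category.assoc, ht₁, ht₂]

/-! ### Compact generators -/

/-- Approximations of `X` by objects satisfying `P`. -/
structure Stage (P : ObjectProperty D) (X : D) where
  /-- the object -/
  obj : D
  /-- the map -/
  map : obj ⟶ X
  prop : P obj

variable (P : ObjectProperty D) [P.IsTriangulated] [P.IsClosedUnderIsomorphisms]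

omit [P.IsClosedUnderIsomorphisms] in
lemma Stage.exists_first
    (hP : ∀ (ι : Type v) (X : ι → D), (∀ i, P (X i)) → P (∐ X)) (E : D) (hE : P E) (X : D) :
    ∃ s : Stage P X, ∀ (n : ℤ) (g : E⟦n⟧ ⟶ X), ∃ g' : E⟦n⟧ ⟶ s.obj, g = g' ≫ s.map := by
  let I : Type v := Σ n : ℤ, (E⟦n⟧ ⟶ X)
  let Y : I → D := fun p => E⟦p.1⟧
  exact ⟨⟨∐ Y, Sigma.desc (fun p => p.2), hP _ _ (fun p => P.le_shift p.1 _ hE)⟩,
    fun n g => ⟨Sigma.ι Y ⟨n, g⟩, (Sigma.ι_desc (f := Y) (fun p : I => p.2) ⟨n, g⟩).symm⟩⟩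

lemma Stage.exists_step
    (hP : ∀ (ι : Type v) (X : ι → D), (∀ i, P (X i)) → P (∐ X)) (E : D) (hE : P E) {X : D}
    (s : Stage P X) : ∃ (s' : Stage P X) (t : s.obj ⟶ s'.obj), t ≫ s'.map = s.map ∧
      ∀ (n : ℤ) (g : E⟦n⟧ ⟶ s.obj), g ≫ s.map = 0 → g ≫ t = 0 := by
  obtain ⟨F, a, c, hT⟩ := distinguished_cocone_triangle₁ s.map
  obtain ⟨y, hy⟩ := Stage.exists_first P hP E hE F
  obtain ⟨Z, b, d, hT'⟩ := distinguished_cocone_triangle (y.map ≫ a)
  have h0 : (y.map ≫ a) ≫ s.map = 0 := by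
    have : a ≫ s.map = 0 := comp_distTriang_mor_zero₁₂ _ hT
    rw [Category.assoc, this, comp_zero]
  obtain ⟨m, hm⟩ : ∃ m : Z ⟶ X, s.map = b ≫ m := Triangle.yoneda_exact₂ _ hT' s.map h0
  refine ⟨⟨Z, m, P.ext_of_isTriangulatedClosed₃ _ hT' y.prop s.prop⟩, b, hm.symm, ?_⟩
  intro n g hg
  obtain ⟨g', rfl⟩ : ∃ g' : E⟦n⟧ ⟶ F, g = g' ≫ a := Triangle.coyoneda_exact₂ _ hT g hg
  obtain ⟨g'', rfl⟩ := hy n g'
  have : (y.map ≫ a) ≫ b = 0 := comp_distTriang_mor_zero₁₂ _ hT'
  simp only [Category.assoc] at this ⊢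
  rw [this, comp_zero]

omit [Limits.HasZeroObject D] [Pretriangulated D] [HasCoproducts.{v} D] in
lemma isZero_of_generates {E : D} (hgen : CohDer.Generates (fun _ : Unit => E)) (C : D)
    (h : ∀ (n : ℤ) (f : E⟦n⟧ ⟶ C), f = 0) : IsZero C := by
  refine hgen C (fun _ n f => ?_)
  let e : (C⟦n⟧)⟦-n⟧ ≅ C := (shiftFunctorCompIsoId D n (-n) (by simp)).app C
  have h1 : f⟦-n⟧' = 0 := by
    rw [← cancel_mono e.hom, zero_comp]
    exact h (-n) _
  exact (shiftFunctor D (-n)).map_injective (by rw [h1, Functor.map_zero])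

/-- A localizing subcategory which contains a compact generator is everything. -/
theorem prop_of_generates [HasCoproductsOfShape ℕ D]
    (hP : ∀ (ι : Type v) (X : ι → D), (∀ i, P (X i)) → P (∐ X))
    (E : D) (hE : CohDer.IsCompactObject E) (hPE : P E)
    (hgen : CohDer.Generates (fun _ : Unit => E)) (X : D) : P X := by
  choose nx tr htr htr' using Stage.exists_step P hP E hPE (X := X)
  obtain ⟨s₀, hs₀⟩ := Stage.exists_first P hP E hPE X
  let s : ℕ → Stage P X := fun n => Nat.rec s₀ (fun _ x => nx x) n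
  let t : ∀ n, (s n).obj ⟶ (s (n + 1)).obj := fun n => tr (s n)
  have ht : ∀ n, t n ≫ (s (n + 1)).map = (s n).map := fun n => htr (s n)
  have ht' : ∀ n (m : ℤ) (g : E⟦m⟧ ⟶ (s n).obj), g ≫ (s n).map = 0 → g ≫ t n = 0 :=
    fun n m g hg => htr' (s n) m g hg
  let Y : ℕ → D := fun n => (s n).obj
  obtain ⟨T, q, r, hT⟩ := distinguished_cocone_triangle (telMap Y t)
  have hPY : P (∐ Y) := by
    let e : ULift.{v} ℕ ≃ ℕ := Equiv.ulift
    exact P.prop_of_iso (Sigma.reindex e Y) (hP _ _ (fun i => (s _).prop))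
  have hPT : P T := P.ext_of_isTriangulatedClosed₃ _ hT hPY hPY
  have h0 : telMap Y t ≫ Sigma.desc (fun n => (s n).map) = 0 := by
    refine Sigma.hom_ext _ _ (fun i => ?_)
    rw [ι_telMap_assoc, Preadditive.sub_comp, Category.assoc, Sigma.ι_desc, Sigma.ι_desc, ht,
      sub_self, comp_zero]
  obtain ⟨g, hg⟩ : ∃ g : T ⟶ X, Sigma.desc (fun n => (s n).map) = q ≫ g :=
    Triangle.yoneda_exact₂ _ hT _ h0
  have hg' : ∀ n, (s n).map = Sigma.ι Y n ≫ q ≫ g := by
    intro n
    rw [← hg, Sigma.ι_desc]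
  -- surjectivity
  have hsurj : ∀ (n : ℤ) (f : E⟦n⟧ ⟶ X), ∃ f' : E⟦n⟧ ⟶ T, f = f' ≫ g := by
    intro n f
    obtain ⟨f', rfl⟩ := hs₀ n f
    exact ⟨f' ≫ Sigma.ι Y 0 ≫ q, by rw [Category.assoc, Category.assoc, ← hg' 0]; rfl⟩
  -- injectivity
  have hinj : ∀ (n : ℤ) (h : E⟦n⟧ ⟶ T), h ≫ g = 0 → h = 0 := by
    intro n h hh
    obtain ⟨N, g', rfl⟩ := exists_fac_telescope (isCompactObject_shift hE n) Y t q r hT h
    have h1 : g' ≫ (s N).map = 0 := by
      rw [hg' N]
      simpa using hh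
    have h2 := ht' N n g' h1
    have h3 : Sigma.ι Y N ≫ q = t N ≫ Sigma.ι Y (N + 1) ≫ q := by
      have h1 : telMap Y t ≫ q = 0 := comp_distTriang_mor_zero₁₂ _ hT
      have h2 := ι_telMap_assoc Y t N q
      rw [h1, comp_zero, Preadditive.sub_comp, Category.assoc] at h2
      exact (sub_eq_zero.1 h2.symm)
    rw [h3, reassoc_of% h2, zero_comp]
  obtain ⟨C, c, d, hC⟩ := distinguished_cocone_triangle g
  have hC0 : IsZero C := by
    refine isZero_of_generates hgen C (fun n f => ?_)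
    have h1 : f ≫ d = 0 := by
      refine shift_eq_zero g (fun p hp => ?_) _ ?_
      · let e : E⟦n + -1⟧ ≅ (E⟦n⟧)⟦(-1 : ℤ)⟧ := (shiftFunctorAdd D n (-1)).app E
        have : e.hom ≫ p = 0 := hinj _ _ (by rw [Category.assoc, hp, comp_zero])
        rw [← cancel_epi e.hom, this, comp_zero]
      · have : d ≫ g⟦(1 : ℤ)⟧' = 0 := comp_distTriang_mor_zero₃₁ _ hC
        rw [Category.assoc, this, comp_zero]
    obtain ⟨f', rfl⟩ : ∃ f' : E⟦n⟧ ⟶ X, f = f' ≫ c := Triangle.coyoneda_exact₃ _ hC f h1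
    obtain ⟨f'', rfl⟩ := hsurj n f'
    have : g ≫ c = 0 := comp_distTriang_mor_zero₁₂ _ hC
    rw [Category.assoc, this, comp_zero]
  have : IsIso g := (Triangle.isZero₃_iff_isIso₁ _ hC).1 hC0
  exact P.prop_of_iso (asIso g) hPT

end Triangulated

end Groth.Agent.CohtopB.TriCompact
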